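import Mathlib
import Groth.Prelude.Def_DRing2
import Groth.Agent.H35.DerHom

/-!
# Finiteness of `Hom_{D(A)}(K, L[i])` over a Noetherian ring, part 1 (helper28)

General lemmas: two-out-of-three for finiteness of Hom modules along distinguished triangles,
transfer along isomorphisms and shifts, and the base case `Hom(A[0], (Q E)[n])`.
-/

set_option autoImplicit false
universe u
open CategoryTheory Pretriangulated Limits

namespace Groth.Agent.H28.ExtFinite

attribute [local instance] HasDerivedCategory.standard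

variable {A : Type u} [CommRing A]

/-- finiteness of Hom modules transfers along isomorphisms of the source and target -/
lemma finite_hom_of_iso {X X' Y Y' : Dual.D A} (e : X ≅ X') (e' : Y ≅ Y')
    (h : Module.Finite A (X ⟶ Y)) : Module.Finite A (X' ⟶ Y') := by
  let f : (X ⟶ Y) →ₗ[A] (X' ⟶ Y') :=
    (Linear.leftComp A Y' e.inv) ∘ₗ (Linear.rightComp A X e'.hom)
  refine Module.Finite.of_surjective f (fun φ => ⟨e.hom ≫ φ ≫ e'.inv, ?_⟩)
  change e.inv ≫ (e.hom ≫ φ ≫ e'.inv) ≫ e'.hom = φ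
  simp

/-- finiteness of Hom modules and shifts -/
lemma finite_hom_shift {X Y : Dual.D A} (m : ℤ) (h : Module.Finite A (X ⟶ Y)) :
    Module.Finite A (X⟦m⟧ ⟶ Y⟦m⟧) := by
  refine Module.Finite.of_surjective
    (Functor.mapLinearMap A (shiftFunctor (Dual.D A) m) (X := X) (Y := Y)) ?_
  exact (shiftFunctor (Dual.D A) m).map_surjective

/-- `Hom(X[m], Y)` is finite if `Hom(X, Y[-m])` is -/
lemma finite_hom_shift_left {X Y : Dual.D A} (m m' : ℤ) (hm : m' + m = 0)
    (h : Module.Finite A (X ⟶ Y⟦m'⟧)) : Module.Finite A (X⟦m⟧ ⟶ Y) :=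
  finite_hom_of_iso (Iso.refl _) ((shiftFunctorCompIsoId (Dual.D A) m' m hm).app Y)
    (finite_hom_shift m h)

/-- a subsingleton module is finite -/
lemma finite_of_subsingleton' (M : Type*) [AddCommGroup M] [Module A M] [Subsingleton M] :
    Module.Finite A M := inferInstance

/-- two-out-of-three along distinguished triangles -/
lemma finite_hom_obj₂ [IsNoetherianRing A] (T : Triangle (Dual.D A))
    (hT : T ∈ distTriang (Dual.D A)) (Y : Dual.D A)
    (h₁ : Module.Finite A (T.obj₁ ⟶ Y)) (h₃ : Module.Finite A (T.obj₃ ⟶ Y)) :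
    Module.Finite A (T.obj₂ ⟶ Y) := by
  have n₁ : IsNoetherian A (T.obj₁ ⟶ Y) := isNoetherian_of_isNoetherianRing_of_finite A _
  have n₃ : IsNoetherian A (T.obj₃ ⟶ Y) := isNoetherian_of_isNoetherianRing_of_finite A _
  have : IsNoetherian A (T.obj₂ ⟶ Y) := by
    refine isNoetherian_of_range_eq_ker (Linear.leftComp A Y T.mor₂) (Linear.leftComp A Y T.mor₁) ?_
    ext x
    constructor
    · rintro ⟨y, rfl⟩
      change T.mor₁ ≫ T.mor₂ ≫ y = 0
      rw [← Category.assoc, comp_distTriang_mor_zero₁₂ T hT, zero_comp]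
    · intro hx
      obtain ⟨g, hg⟩ := Triangle.yoneda_exact₂ T hT x hx
      exact ⟨g, hg.symm⟩
  infer_instance

/-- variant: the first object in terms of a shift -/
lemma finite_hom_obj₃ [IsNoetherianRing A] (T : Triangle (Dual.D A))
    (hT : T ∈ distTriang (Dual.D A)) (Y : Dual.D A)
    (h₂ : Module.Finite A (T.obj₂ ⟶ Y)) (h₁ : Module.Finite A (T.obj₁ ⟶ Y⟦(-1 : ℤ)⟧)) :
    Module.Finite A (T.obj₃ ⟶ Y) := by
  have h := finite_hom_obj₂ T.rotate (rot_of_distTriang T hT) Y h₂
    (finite_hom_shift_left (X := T.obj₁) (Y := Y) 1 (-1) (by omega) h₁)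
  exact h

section Base

open Groth.Agent.H35 DerivedCategory

variable (E : DRing.Cx A) (n : ℤ)

/-- the correspondence between `Hom_D(A[0], (Q E)[n])` and `Hom(A, Hⁿ(E))` -/
def Rel (φ : Q.obj ((CochainComplex.singleFunctor (ModuleCat.{u} A) 0).obj (ModuleCat.of A A)) ⟶
      (Q.obj E)⟦n⟧) (ψ : ModuleCat.of A A ⟶ E.homology n) : Prop :=
  ∃ (g : ModuleCat.of A A ⟶ E.X n) (hg : g ≫ E.d n (n + 1) = 0),
    singleHom E n g hg = φ ∧ homologyClass E n g hg = ψ

instance : Projective (ModuleCat.of A A) :=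
  (IsProjective.iff_projective (ModuleCat.of A A)).1 (inferInstance : Module.Projective A A)

lemma rel_exists (φ : Q.obj ((CochainComplex.singleFunctor (ModuleCat.{u} A) 0).obj
    (ModuleCat.of A A)) ⟶ (Q.obj E)⟦n⟧) : ∃ ψ, Rel E n φ ψ := by
  obtain ⟨g, hg, rfl⟩ := singleHom_surjective E n φ
  exact ⟨_, g, hg, rfl, rfl⟩

lemma rel_sub {φ φ' ψ ψ'} (h : Rel E n φ ψ) (h' : Rel E n φ' ψ') :
    Rel E n (φ - φ') (ψ - ψ') := by
  obtain ⟨g, hg, rfl, rfl⟩ := h
  obtain ⟨g', hg', rfl, rfl⟩ := h'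
  have hgg' : (g - g') ≫ E.d n (n + 1) = 0 := by rw [Preadditive.sub_comp, hg, hg', sub_zero]
  exact ⟨g - g', hgg', singleHom_sub E n g g' hg hg' hgg', homologyClass_sub E n g g' hg hg' hgg'⟩

lemma rel_eq_iff {φ φ' ψ ψ'} (h : Rel E n φ ψ) (h' : Rel E n φ' ψ') : φ = φ' ↔ ψ = ψ' := by
  obtain ⟨g, hg, rfl, rfl⟩ := h
  obtain ⟨g', hg', rfl, rfl⟩ := h'
  have hgg' : (g - g') ≫ E.d n (n + 1) = 0 := by rw [Preadditive.sub_comp, hg, hg', sub_zero]
  rw [← sub_eq_zero, ← singleHom_sub E n g g' hg hg' hgg', singleHom_eq_zero_iff,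
    ← homologyClass_eq_zero_iff E n _ hgg', homologyClass_sub E n g g' hg hg' hgg', sub_eq_zero]

lemma rel_smul (a : A) {φ ψ} (h : Rel E n φ ψ) : Rel E n (a • φ) (a • ψ) := by
  obtain ⟨g, hg, rfl, rfl⟩ := h
  let u : ModuleCat.of A A ⟶ ModuleCat.of A A := a • 𝟙 _
  have hug : (u ≫ g) ≫ E.d n (n + 1) = 0 := by rw [Category.assoc, hg, Limits.comp_zero]
  refine ⟨u ≫ g, hug, ?_, ?_⟩
  · rw [singleHom_precomp E n u g hg hug]
    have : Q.map ((CochainComplex.singleFunctor (ModuleCat.{u} A) 0).map u) = a • 𝟙 _ := by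
      rw [Functor.map_smul, Functor.map_smul, CategoryTheory.Functor.map_id,
        CategoryTheory.Functor.map_id]
    rw [this, Linear.smul_comp, Category.id_comp]
  · rw [homologyClass_precomp E n u g hg hug, Linear.smul_comp, Category.id_comp]

/-- the linear injection `Hom_D(A[0], (Q E)[n]) → Hom(A, Hⁿ(E))` -/
noncomputable def relMap : (Q.obj ((CochainComplex.singleFunctor (ModuleCat.{u} A) 0).obj
    (ModuleCat.of A A)) ⟶ (Q.obj E)⟦n⟧) →ₗ[A] (ModuleCat.of A A ⟶ E.homology n) where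
  toFun φ := (rel_exists E n φ).choose
  map_add' φ φ' := by
    have h := (rel_exists E n (φ + φ')).choose_spec
    have h1 := (rel_exists E n φ).choose_spec
    have h2 := (rel_exists E n φ').choose_spec
    have h3 := rel_sub E n h h2
    rw [add_sub_cancel_right] at h3
    have h4 := (rel_eq_iff E n h3 h1).1 rfl
    exact sub_eq_iff_eq_add.1 h4
  map_smul' a φ := by
    have h := (rel_exists E n (a • φ)).choose_spec
    have h1 := rel_smul E n a (rel_exists E n φ).choose_spec
    exact (rel_eq_iff E n h h1).1 rfl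

lemma relMap_injective : Function.Injective (relMap E n) := by
  intro φ φ' h
  exact (rel_eq_iff E n (rel_exists E n φ).choose_spec (rel_exists E n φ').choose_spec).2 h

/-- base case: `Hom(A[0], (Q E)[n])` is finite when `Hⁿ(E)` is -/
lemma finite_hom_single_self [IsNoetherianRing A] (h : Module.Finite A (E.homology n)) :
    Module.Finite A (Dual.inD A A ⟶ (DRing.toD E)⟦n⟧) := by
  let e1 : (ModuleCat.of A A ⟶ E.homology n) ≃ₗ[A] (A →ₗ[A] E.homology n) :=
    ModuleCat.homLinearEquiv (S := A)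
  let e2 : (A →ₗ[A] E.homology n) ≃ₗ[A] E.homology n := LinearMap.ringLmapEquivSelf A A _
  have hfin : Module.Finite A (ModuleCat.of A A ⟶ E.homology n) :=
    Module.Finite.equiv (e1.trans e2).symm
  have : IsNoetherian A (ModuleCat.of A A ⟶ E.homology n) :=
    isNoetherian_of_isNoetherianRing_of_finite A _
  exact Module.Finite.of_injective (relMap E n) (relMap_injective E n)

end Base

end Groth.Agent.H28.ExtFinite
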