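import Mathlib
import Groth.Agent.H28.ExtFinite
import Groth.Agent.H35.InjBounded
import Groth.Agent.H45.Derived.BoundedInduction

/-!
# Finiteness of `Hom_{D(A)}(K, L[i])` over a Noetherian ring, part 2 (helper28)
-/

set_option autoImplicit false
universe u
open CategoryTheory Pretriangulated Limits DerivedCategory

namespace Groth.Agent.H28.ExtFinite

attribute [local instance] HasDerivedCategory.standard

variable {A : Type u} [CommRing A]

/-- vanishing of Hom by the t-structure -/
lemma subsingleton_hom_of_isLE_of_isGE (X Y : Dual.D A) (n₀ n₁ : ℤ) (h : n₀ < n₁)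
    [X.IsLE n₀] [Y.IsGE n₁] : Subsingleton (X ⟶ Y) :=
  ⟨fun x y => by rw [TStructure.t.zero x n₀ n₁ h, TStructure.t.zero y n₀ n₁ h]⟩

lemma finite_of_subsingleton_hom {X Y : Dual.D A} (h : Subsingleton (X ⟶ Y)) :
    Module.Finite A (X ⟶ Y) := inferInstance

lemma isGE_shift' (L : Dual.D A) (a j : ℤ) [L.IsGE a] : (L⟦j⟧).IsGE (a - j) :=
  TStructure.t.isGE_shift L a j (a - j) (by omega)

section Modules

variable [IsNoetherianRing A] (L : Dual.D A) (hL : ∀ q : ℤ, Module.Finite A (Dual.HD A L q))

include hL in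
lemma finite_hom_self (j : ℤ) : Module.Finite A (Dual.inD A A ⟶ L⟦j⟧) := by
  let E := Q.objPreimage L
  let e : Q.obj E ≅ L := Q.objObjPreimageIso L
  let i1 : (DerivedCategory.homologyFunctor (ModuleCat.{u} A) j).obj L ≅ E.homology j :=
    (DerivedCategory.homologyFunctor (ModuleCat.{u} A) j).mapIso e.symm ≪≫
      (DerivedCategory.homologyFunctorFactors (ModuleCat.{u} A) j).app E
  have := hL j
  have hfin : Module.Finite A (E.homology j) := Module.Finite.equiv i1.toLinearEquiv
  exact finite_hom_of_iso (Iso.refl _) ((shiftFunctor (Dual.D A) j).mapIso e)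
    (finite_hom_single_self E j hfin)

/-- the module-level motive -/
def Mot (j : ℤ) (N : Type u) [AddCommGroup N] [Module A N] : Prop :=
  Module.Finite A (Dual.inD A N ⟶ L⟦j⟧)

lemma mot_of_linearEquiv (j : ℤ) {N N' : Type u} [AddCommGroup N] [Module A N] [AddCommGroup N']
    [Module A N'] (e : N ≃ₗ[A] N') (h : Mot L j N) : Mot L j N' :=
  finite_hom_of_iso ((DerivedCategory.singleFunctor (ModuleCat.{u} A) 0).mapIso e.toModuleIso)
    (Iso.refl _) h

/-- the short complex attached to an exact sequence of modules -/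
lemma mot_of_exact (N₁ N₂ N₃ : Type u) [AddCommGroup N₁] [Module A N₁] [AddCommGroup N₂]
    [Module A N₂] [AddCommGroup N₃] [Module A N₃] (f : N₁ →ₗ[A] N₂) (g : N₂ →ₗ[A] N₃)
    (hf : Function.Injective f) (hg : Function.Surjective g) (hfg : Function.Exact f g) :
    ∃ T : Triangle (Dual.D A), T ∈ distTriang (Dual.D A) ∧ T.obj₁ = Dual.inD A N₁ ∧
      T.obj₂ = Dual.inD A N₂ ∧ T.obj₃ = Dual.inD A N₃ := by
  let S : ShortComplex (ModuleCat.{u} A) :=
    ShortComplex.mk (ModuleCat.ofHom f) (ModuleCat.ofHom g) (by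
      ext x
      exact hfg.apply_apply_eq_zero x)
  have hS : S.ShortExact :=
    { exact := (ShortComplex.ShortExact.moduleCat_exact_iff_function_exact S).2 hfg
      mono_f := (ModuleCat.mono_iff_injective _).2 hf
      epi_g := (ModuleCat.epi_iff_surjective _).2 hg }
  exact ⟨hS.singleTriangle, hS.singleTriangle_distinguished, rfl, rfl, rfl⟩

include hL in
/-- `Ext^j(N, L)` is finite for finite modules `N`, by induction on `j`. -/
theorem mot_of_finite (a : ℤ) [L.IsGE a] (j : ℤ) :
    ∀ (N : Type u) [AddCommGroup N] [Module A N] [Module.Finite A N], Mot L j N := by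
  by_cases hj : j < a
  · intro N _ _ _
    have : (L⟦j⟧).IsGE (a - j) := isGE_shift' L a j
    exact finite_of_subsingleton_hom (subsingleton_hom_of_isLE_of_isGE _ _ 0 (a - j) (by omega))
  · push Not at hj
    induction j, hj using Int.le_induction with
    | base =>
      intro N _ _ hN
      refine IsNoetherianRing.induction_on_isQuotientEquivQuotientPrime A hN
        (motive := fun N _ _ _ => Mot L a N) ?_ ?_ ?_
      · intro N _ _ _ _
        have hz : IsZero (Dual.inD A N) :=
          (DerivedCategory.singleFunctor (ModuleCat.{u} A) 0).map_isZero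
            (ModuleCat.isZero_of_subsingleton _)
        exact finite_of_subsingleton_hom ⟨fun x y => hz.eq_of_src x y⟩
      · intro N _ _ _ p e
        refine mot_of_linearEquiv L a e.symm ?_
        obtain ⟨T, hT, h1, h2, h3⟩ := mot_of_exact (N₁ := p.asIdeal) (N₂ := A)
          (N₃ := A ⧸ p.asIdeal) (Submodule.subtype _) (Submodule.mkQ _)
          (Submodule.subtype_injective _) (Submodule.mkQ_surjective _)
          (LinearMap.exact_subtype_mkQ _)
        have h := finite_hom_obj₃ T hT (L⟦a⟧) (h2 ▸ finite_hom_self L hL a) (by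
          rw [h1]
          have : ((L⟦a⟧)⟦(-1 : ℤ)⟧).IsGE (a - a - (-1)) :=
            @isGE_shift' A _ (L⟦a⟧) (a - a) (-1) (isGE_shift' L a a)
          exact finite_of_subsingleton_hom
            (subsingleton_hom_of_isLE_of_isGE _ _ 0 (a - a - (-1)) (by omega)))
        rw [h3] at h
        exact h
      · intro N₁ _ _ _ N₂ _ _ _ N₃ _ _ _ f g hf hg hfg h1 h3
        obtain ⟨T, hT, e1, e2, e3⟩ := mot_of_exact N₁ N₂ N₃ f g hf hg hfg
        have h := finite_hom_obj₂ T hT (L⟦a⟧) (e1 ▸ h1) (e3 ▸ h3)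
        rw [e2] at h
        exact h
    | succ j hj ih =>
      intro N _ _ hN
      refine IsNoetherianRing.induction_on_isQuotientEquivQuotientPrime A hN
        (motive := fun N _ _ _ => Mot L (j + 1) N) ?_ ?_ ?_
      · intro N _ _ _ _
        have hz : IsZero (Dual.inD A N) :=
          (DerivedCategory.singleFunctor (ModuleCat.{u} A) 0).map_isZero
            (ModuleCat.isZero_of_subsingleton _)
        exact finite_of_subsingleton_hom ⟨fun x y => hz.eq_of_src x y⟩
      · intro N _ _ _ p e
        refine mot_of_linearEquiv L (j + 1) e.symm ?_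
        obtain ⟨T, hT, h1, h2, h3⟩ := mot_of_exact (N₁ := p.asIdeal) (N₂ := A)
          (N₃ := A ⧸ p.asIdeal) (Submodule.subtype _) (Submodule.mkQ _)
          (Submodule.subtype_injective _) (Submodule.mkQ_surjective _)
          (LinearMap.exact_subtype_mkQ _)
        have h := finite_hom_obj₃ T hT (L⟦j + 1⟧) (h2 ▸ finite_hom_self L hL (j + 1)) (by
          rw [h1]
          exact finite_hom_of_iso (Iso.refl _)
            ((shiftFunctorAdd' (Dual.D A) (j + 1) (-1) j (by omega)).app L)
            (ih p.asIdeal))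
        rw [h3] at h
        exact h
      · intro N₁ _ _ _ N₂ _ _ _ N₃ _ _ _ f g hf hg hfg h1 h3
        obtain ⟨T, hT, e1, e2, e3⟩ := mot_of_exact N₁ N₂ N₃ f g hf hg hfg
        have h := finite_hom_obj₂ T hT (L⟦j + 1⟧) (e1 ▸ h1) (e3 ▸ h3)
        rw [e2] at h
        exact h

end Modules

section Bounded

variable [IsNoetherianRing A] (L : Dual.D A)

/-- the property of having finite Hom modules into all shifts of `L` -/
def FinHom : ObjectProperty (Dual.D A) := fun X => ∀ i : ℤ, Module.Finite A (X ⟶ L⟦i⟧)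

instance : (FinHom L).IsClosedUnderIsomorphisms where
  of_iso e h := fun i => finite_hom_of_iso e (Iso.refl _) (h i)

/-- finite modules -/
def FinMod : ObjectProperty (ModuleCat.{u} A) := fun M => Module.Finite A M

instance : (FinMod (A := A)).IsClosedUnderIsomorphisms where
  of_iso e h := by
    have : Module.Finite A _ := h
    exact Module.Finite.equiv e.toLinearEquiv

variable (hL : ∀ q : ℤ, Module.Finite A (Dual.HD A L q))

include hL in
theorem finHom_of_bounded (a : ℤ) [L.IsGE a] (Z : Dual.D A) (c d : ℤ) [Z.IsGE c] [Z.IsLE d]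
    (hZ : ∀ q : ℤ, Module.Finite A (Dual.HD A Z q)) : FinHom L Z := by
  refine Groth.Agent.H45.bounded_induction' (FinHom L) (FinMod (A := A)) ?_ ?_ ?_ ?_ Z c d
    inferInstance inferInstance hZ
  · intro Z hZ i
    exact finite_of_subsingleton_hom ⟨fun x y => hZ.eq_of_src x y⟩
  · intro T hT h1 h3 i
    exact finite_hom_obj₂ T hT (L⟦i⟧) (h1 i) (h3 i)
  · intro M n hM i
    have hM' : Module.Finite A M := hM
    let e := ((DerivedCategory.singleFunctors (ModuleCat.{u} A)).shiftIso (-n) n 0 (by omega)).app M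
    refine finite_hom_of_iso e (Iso.refl _) ?_
    refine finite_hom_shift_left (-n) n (by omega) ?_
    exact finite_hom_of_iso (Iso.refl _) ((shiftFunctorAdd' (Dual.D A) i n (i + n) rfl).app L)
      (mot_of_finite L hL a (i + n) M)
  · intro M hM
    have : Subsingleton M := ModuleCat.subsingleton_of_isZero hM
    exact (inferInstance : Module.Finite A M)

end Bounded

section InjAmp

open Groth.Agent.H35

/-- maps from `D^{≥ m}` into a complex of injectives concentrated in degrees `≤ b' < m` vanish -/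
lemma subsingleton_hom_of_injAmp (J : DRing.Cx A) (a' b' : ℤ)
    (hJ : DRing.VanishesOutside J a' b') (hinj : ∀ i : ℤ, Module.Injective A (J.X i))
    (X : Dual.D A) (m : ℤ) [X.IsGE m] (h : b' < m) : Subsingleton (X ⟶ Q.obj J) := by
  obtain ⟨X', hX', ⟨e⟩⟩ := X.exists_iso_Q_obj_of_isGE m
  have : J.IsKInjective :=
    isKInjective_of_vanishesBelow A J a' (fun j hj => hJ j (Or.inl hj)) hinj
  have key : ∀ φ : X ⟶ Q.obj J, φ = 0 := by
    intro φ
    obtain ⟨f, hf⟩ := Q_map_surjective_of_isKInjective X' J (e.inv ≫ φ)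
    have hf0 : f = 0 := by
      ext p : 1
      by_cases hp : p ≤ b'
      · exact (X'.isZero_of_isStrictlyGE m p (by omega)).eq_of_src _ _
      · exact (hJ p (Or.inr (by omega))).eq_of_tgt _ _
    rw [hf0, Functor.map_zero] at hf
    exact (cancel_epi e.inv).1 (hf.symm.trans comp_zero.symm)
  exact ⟨fun x y => by rw [key x, key y]⟩

lemma subsingleton_hom_shift_of_injAmp (J : DRing.Cx A) (a' b' : ℤ)
    (hJ : DRing.VanishesOutside J a' b') (hinj : ∀ i : ℤ, Module.Injective A (J.X i))
    (X : Dual.D A) (m i : ℤ) [X.IsGE m] (h : b' - i < m) :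
    Subsingleton (X ⟶ (Q.obj J)⟦i⟧) := by
  have h1 : Subsingleton (X ⟶ Q.obj (J⟦i⟧)) := by
    refine subsingleton_hom_of_injAmp (J⟦i⟧) (a' - i) (b' - i) ?_ ?_ X m h
    · intro p hp
      exact hJ (p + i) (by omega)
    · intro p
      exact hinj (p + i)
  let e : (Q.obj J)⟦i⟧ ≅ Q.obj (J⟦i⟧) := ((Q.commShiftIso i).app J).symm
  refine ⟨fun x y => ?_⟩
  have := h1.elim (x ≫ e.hom) (y ≫ e.hom)
  exact (cancel_mono e.hom).1 this

end InjAmp

section Main

variable [IsNoetherianRing A]

lemma isLE_truncGE (Z : Dual.D A) (n d : ℤ) [Z.IsLE d] :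
    ((TStructure.t.truncGE n).obj Z).IsLE d := by
  rw [isLE_iff]
  intro q hq
  by_cases hqn : n ≤ q
  · have := Groth.Agent.H45.isIso_homologyMap_truncGEπ Z n q hqn
    exact IsZero.of_iso (isZero_of_isLE Z d q hq)
      (asIso ((homologyFunctor (ModuleCat.{u} A) q).map ((TStructure.t.truncGEπ n).app Z))).symm
  · exact isZero_of_isGE _ n q (by omega)

/-- S1746 -/
theorem finite_hom_of_injAmp (K L : Dual.D A) (hK : ∀ q : ℤ, Module.Finite A (Dual.HD A K q))
    (hL : ∀ q : ℤ, Module.Finite A (Dual.HD A L q)) (a' b' : ℤ)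
    (hLi : DRing.HasInjAmplitudeIn A a' b' L) (i : ℤ) : Module.Finite A (K ⟶ L⟦i⟧) := by
  obtain ⟨J, hJ, hinj, ⟨eJ⟩⟩ := hLi
  have hJs : J.IsStrictlyGE a' := by
    rw [CochainComplex.isStrictlyGE_iff]
    exact fun j hj => hJ j (Or.inl hj)
  have hLGE : L.IsGE a' := TStructure.t.isGE_of_iso eJ a'
  let m : ℤ := b' - i + 1
  let n : ℤ := a' - i
  have hLi : (L⟦i⟧).IsGE n := isGE_shift' L a' i
  -- upper truncation
  have hT₁ := TStructure.t.triangleLTGE_distinguished m K
  have h3 : Module.Finite A ((TStructure.t.truncGE m).obj K ⟶ L⟦i⟧) := by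
    have hs : Subsingleton ((TStructure.t.truncGE m).obj K ⟶ (Q.obj J)⟦i⟧) :=
      subsingleton_hom_shift_of_injAmp J a' b' hJ hinj _ m i (by omega)
    have : Module.Finite A ((TStructure.t.truncGE m).obj K ⟶ (Q.obj J)⟦i⟧) :=
      finite_of_subsingleton_hom hs
    exact finite_hom_of_iso (Iso.refl _) ((shiftFunctor (Dual.D A) i).mapIso eJ) this
  refine finite_hom_obj₂ _ hT₁ (L⟦i⟧) ?_ h3
  -- lower truncation
  let K₁ := (TStructure.t.truncLT m).obj K
  change Module.Finite A (K₁ ⟶ L⟦i⟧)
  have hK₁ : ∀ q : ℤ, Module.Finite A (Dual.HD A K₁ q) := by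
    intro q
    by_cases hq : q < m
    · have := Groth.Agent.H45.isIso_homologyMap_truncLTι K m q hq
      have : Module.Finite A ((homologyFunctor (ModuleCat.{u} A) q).obj
        ((𝟭 (Dual.D A)).obj K)) := hK q
      exact Module.Finite.equiv
        (asIso ((homologyFunctor (ModuleCat.{u} A) q).map
          ((TStructure.t.truncLTι m).app K))).toLinearEquiv.symm
    · have hz : IsZero ((homologyFunctor (ModuleCat.{u} A) q).obj K₁) :=
        isZero_of_isLE K₁ (m - 1) q (by omega)
      have : Subsingleton (Dual.HD A K₁ q) := ModuleCat.subsingleton_of_isZero hz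
      infer_instance
  have hT₂ := TStructure.t.triangleLTGE_distinguished n K₁
  have h1 : Module.Finite A ((TStructure.t.truncLT n).obj K₁ ⟶ L⟦i⟧) :=
    finite_of_subsingleton_hom (subsingleton_hom_of_isLE_of_isGE _ _ (n - 1) n (by omega))
  refine finite_hom_obj₂ _ hT₂ (L⟦i⟧) h1 ?_
  let K₂ := (TStructure.t.truncGE n).obj K₁
  change Module.Finite A (K₂ ⟶ L⟦i⟧)
  have hK₂LE : K₂.IsLE (m - 1) := isLE_truncGE K₁ n (m - 1)
  have hK₂ : ∀ q : ℤ, Module.Finite A (Dual.HD A K₂ q) := by
    intro q
    by_cases hq : n ≤ q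
    · have := Groth.Agent.H45.isIso_homologyMap_truncGEπ K₁ n q hq
      have : Module.Finite A ((homologyFunctor (ModuleCat.{u} A) q).obj
        ((𝟭 (Dual.D A)).obj K₁)) := hK₁ q
      exact Module.Finite.equiv
        (asIso ((homologyFunctor (ModuleCat.{u} A) q).map
          ((TStructure.t.truncGEπ n).app K₁))).toLinearEquiv
    · have hz : IsZero ((homologyFunctor (ModuleCat.{u} A) q).obj K₂) :=
        isZero_of_isGE K₂ n q (by omega)
      have : Subsingleton (Dual.HD A K₂ q) := ModuleCat.subsingleton_of_isZero hz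
      infer_instance
  exact finHom_of_bounded L hL a' K₂ n (m - 1) hK₂ i

end Main

end Groth.Agent.H28.ExtFinite
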