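import Mathlib
import Groth.Prelude.Def_DRing2
import Groth.Agent.H28.ExtFinite2

/-!
# Biduality for finite modules with respect to a bounded complex of injectives (helper28)

For a complex `I` of `A`-modules and a module `M`, `Ec I M` is the complex `Hom_A(M, I^•)`.
Evaluation gives `η : M → Hom_{D(A)}(Q (Ec I M), Q I)`.  If `I` is a bounded complex of
injectives with `A → End(Q I)` bijective and `Hom(Q I, Q I[n]) = 0` for `n ≠ 0`, then for every
finite module `M`, `η` is bijective and `Hom((Q (Ec I M))[n], Q I) = 0` for `n ≠ 0`.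
-/

set_option autoImplicit false
universe u
open CategoryTheory Pretriangulated Limits DerivedCategory Opposite

namespace Groth.Agent.H28.Bidual

attribute [local instance] HasDerivedCategory.standard

variable {A : Type u} [CommRing A] (I : DRing.Cx A)

/-- `Hom_A(M, -)` as an endofunctor of `A`-modules -/
noncomputable abbrev homF (M : ModuleCat.{u} A) : ModuleCat.{u} A ⥤ ModuleCat.{u} A :=
  (linearCoyoneda A (ModuleCat.{u} A)).obj (op M)

/-- the complex `Hom_A(M, I^•)` -/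
noncomputable abbrev Ec (M : ModuleCat.{u} A) : DRing.Cx A :=
  ((homF M).mapHomologicalComplex (ComplexShape.up ℤ)).obj I

/-- contravariant functoriality of `Ec` -/
noncomputable def EcMap {M N : ModuleCat.{u} A} (f : M ⟶ N) : Ec I N ⟶ Ec I M :=
  (NatTrans.mapHomologicalComplex ((linearCoyoneda A (ModuleCat.{u} A)).map f.op)
    (ComplexShape.up ℤ)).app I

lemma EcMap_f_apply {M N : ModuleCat.{u} A} (f : M ⟶ N) (p : ℤ) (φ : N ⟶ I.X p) :
    ((EcMap I f).f p).hom φ = f ≫ φ := rfl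

lemma Ec_d_apply (M : ModuleCat.{u} A) (p q : ℤ) (φ : M ⟶ I.X p) :
    ((Ec I M).d p q).hom φ = φ ≫ I.d p q := rfl

/-- evaluation at `m` as a chain map `Hom_A(M, I) ⟶ I` -/
noncomputable def ev (M : ModuleCat.{u} A) (m : M) : Ec I M ⟶ I where
  f p := ModuleCat.ofHom
    { toFun := fun φ => (show M ⟶ I.X p from φ).hom m
      map_add' := fun _ _ => rfl
      map_smul' := fun _ _ => rfl }
  comm' p q _ := by
    ext φ
    rfl

lemma ev_f_apply (M : ModuleCat.{u} A) (m : M) (p : ℤ) (φ : M ⟶ I.X p) :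
    ((ev I M m).f p).hom φ = φ.hom m := rfl

lemma ev_add (M : ModuleCat.{u} A) (m m' : M) : ev I M (m + m') = ev I M m + ev I M m' := by
  ext p φ
  exact map_add (show M ⟶ I.X p from φ).hom m m'

lemma ev_smul (M : ModuleCat.{u} A) (a : A) (m : M) : ev I M (a • m) = a • ev I M m := by
  ext p φ
  exact map_smul (show M ⟶ I.X p from φ).hom a m

lemma EcMap_ev {M N : ModuleCat.{u} A} (f : M ⟶ N) (m : M) :
    EcMap I f ≫ ev I M m = ev I N (f.hom m) := by
  ext p φ
  rfl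

/-- the evaluation map `M → Hom_{D(A)}(Q (Ec I M), Q I)` -/
noncomputable def eta (M : ModuleCat.{u} A) : M →ₗ[A] (Q.obj (Ec I M) ⟶ Q.obj I) where
  toFun m := Q.map (ev I M m)
  map_add' m m' := by rw [ev_add, Functor.map_add]
  map_smul' a m := by rw [ev_smul, Functor.map_smul]; rfl

lemma eta_apply (M : ModuleCat.{u} A) (m : M) : eta I M m = Q.map (ev I M m) := rfl

lemma eta_natural {M N : ModuleCat.{u} A} (f : M ⟶ N) (m : M) :
    Q.map (EcMap I f) ≫ eta I M m = eta I N (f.hom m) := by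
  rw [eta_apply, eta_apply, ← Functor.map_comp, EcMap_ev]



section SES

variable (S : ShortComplex (ModuleCat.{u} A)) (hS : S.ShortExact)

/-- the short complex `Ec X₃ ⟶ Ec X₂ ⟶ Ec X₁` -/
noncomputable def EcSC : ShortComplex (DRing.Cx A) :=
  ShortComplex.mk (EcMap I S.g) (EcMap I S.f) (by
    ext p φ
    have h : ∀ ψ : S.X₃ ⟶ I.X p, S.f ≫ S.g ≫ ψ = 0 := fun ψ => by
      rw [← Category.assoc, S.zero, zero_comp]
    exact h φ)

include hS in
lemma EcSC_shortExact (hinj : ∀ p : ℤ, Module.Injective A (I.X p)) : (EcSC I S).ShortExact := by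
  have := hS.mono_f
  have := hS.epi_g
  refine HomologicalComplex.shortExact_of_degreewise_shortExact _ (fun p => ?_)
  have hinjp : Injective (I.X p) := (Groth.Agent.H35.injective_iff_injective_object' A (I.X p)).1 (hinj p)
  refine ShortComplex.ShortExact.mk' ?_ ?_ ?_
  · rw [ShortComplex.moduleCat_exact_iff]
    intro φ hφ
    change (S.X₂ ⟶ I.X p) at φ
    have h0 : S.f ≫ φ = 0 := hφ
    exact ⟨hS.gIsCokernel.desc (CokernelCofork.ofπ φ h0),
      hS.gIsCokernel.fac (CokernelCofork.ofπ φ h0) WalkingParallelPair.one⟩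
  · rw [ModuleCat.mono_iff_injective]
    intro φ ψ h
    change (S.X₃ ⟶ I.X p) at φ ψ
    have h' : S.g ≫ φ = S.g ≫ ψ := h
    exact (cancel_epi S.g).1 h'
  · rw [ModuleCat.epi_iff_surjective]
    intro φ
    change (S.X₁ ⟶ I.X p) at φ
    exact ⟨Injective.factorThru φ S.f, Injective.comp_factorThru φ S.f⟩

end SES



section Tri

variable (W : Dual.D A)

lemma sub_of_iso {X Y : Dual.D A} (e : X ≅ Y) (h : Subsingleton (X ⟶ W)) :
    Subsingleton (Y ⟶ W) :=
  ⟨fun x y => (cancel_epi e.hom).1 (h.elim (e.hom ≫ x) (e.hom ≫ y))⟩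

/-- exactness of `Hom(-, W)` at the first vertex -/
lemma exists_fac_obj₁ (T : Triangle (Dual.D A)) (hT : T ∈ distTriang (Dual.D A))
    (h₃ : Subsingleton (T.obj₃⟦(-1 : ℤ)⟧ ⟶ W)) (g : T.obj₁ ⟶ W) :
    ∃ h : T.obj₂ ⟶ W, g = T.mor₁ ≫ h := by
  have hT' := inv_rot_of_distTriang T hT
  exact Triangle.yoneda_exact₂ T.invRotate hT' g (h₃.elim _ _)

lemma sub_obj₁ (T : Triangle (Dual.D A)) (hT : T ∈ distTriang (Dual.D A))
    (h₂ : Subsingleton (T.obj₂ ⟶ W)) (h₃ : Subsingleton (T.obj₃⟦(-1 : ℤ)⟧ ⟶ W)) :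
    Subsingleton (T.obj₁ ⟶ W) := by
  refine ⟨fun x y => ?_⟩
  obtain ⟨hx, rfl⟩ := exists_fac_obj₁ W T hT h₃ x
  obtain ⟨hy, rfl⟩ := exists_fac_obj₁ W T hT h₃ y
  rw [h₂.elim hx hy]

lemma sub_obj₂ (T : Triangle (Dual.D A)) (hT : T ∈ distTriang (Dual.D A))
    (h₁ : Subsingleton (T.obj₁ ⟶ W)) (h₃ : Subsingleton (T.obj₃ ⟶ W)) :
    Subsingleton (T.obj₂ ⟶ W) := by
  refine ⟨fun x y => ?_⟩
  obtain ⟨hx, rfl⟩ := Triangle.yoneda_exact₂ T hT x (h₁.elim _ _)
  obtain ⟨hy, rfl⟩ := Triangle.yoneda_exact₂ T hT y (h₁.elim _ _)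
  rw [h₃.elim hx hy]

/-- shifted version of `sub_obj₁` -/
lemma sub_obj₁_shift (T : Triangle (Dual.D A)) (hT : T ∈ distTriang (Dual.D A)) (m m' : ℤ)
    (hm : m + (-1) = m')
    (h₂ : Subsingleton (T.obj₂⟦m⟧ ⟶ W)) (h₃ : Subsingleton (T.obj₃⟦m'⟧ ⟶ W)) :
    Subsingleton (T.obj₁⟦m⟧ ⟶ W) := by
  have hT' := Triangle.shift_distinguished T hT m
  refine sub_obj₁ W _ hT' h₂ ?_
  exact sub_of_iso W ((shiftFunctorAdd' (Dual.D A) m (-1) m' hm).app T.obj₃) h₃

/-- shifted version of `sub_obj₂` -/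
lemma sub_obj₂_shift (T : Triangle (Dual.D A)) (hT : T ∈ distTriang (Dual.D A)) (m : ℤ)
    (h₁ : Subsingleton (T.obj₁⟦m⟧ ⟶ W)) (h₃ : Subsingleton (T.obj₃⟦m⟧ ⟶ W)) :
    Subsingleton (T.obj₂⟦m⟧ ⟶ W) :=
  sub_obj₂ W _ (Triangle.shift_distinguished T hT m) h₁ h₃

end Tri



/-- `Hom((Q (Ec I N))[m], Q I) = 0` -/
def V (m : ℤ) (N : ModuleCat.{u} A) : Prop :=
  Subsingleton ((Q.obj (Ec I N))⟦m⟧ ⟶ Q.obj I)

/-- the biduality property for the module `N` -/
def P (N : ModuleCat.{u} A) : Prop :=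
  (∀ m : ℤ, m ≠ 0 → V I m N) ∧ Function.Bijective (eta I N)

section Zero

lemma isZero_Q_Ec (N : ModuleCat.{u} A) [Subsingleton N] : IsZero (Q.obj (Ec I N)) := by
  rw [IsZero.iff_id_eq_zero, ← CategoryTheory.Functor.map_id]
  have : 𝟙 (Ec I N) = 0 := by
    ext p φ
    have h : ∀ ψ : N ⟶ I.X p, ψ = 0 := fun ψ => by
      ext x
      rw [Subsingleton.elim x 0, map_zero]
      rfl
    exact h φ
  rw [this, Functor.map_zero]

lemma P_of_subsingleton (N : ModuleCat.{u} A) [Subsingleton N] : P I N := by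
  have hz := isZero_Q_Ec I N
  refine ⟨fun m _ => ?_, ?_, ?_⟩
  · have hz' : IsZero ((Q.obj (Ec I N))⟦m⟧) := (shiftFunctor (Dual.D A) m).map_isZero hz
    exact ⟨fun x y => hz'.eq_of_src x y⟩
  · intro x y _
    exact Subsingleton.elim x y
  · intro y
    exact ⟨0, hz.eq_of_src _ _⟩

end Zero

section Base

/-- evaluation at `1` is an isomorphism `Hom_A(A, I) ≅ I` -/
lemma isIso_ev_one : IsIso (ev I (ModuleCat.of A A) (1 : A)) := by
  have : ∀ p, IsIso ((ev I (ModuleCat.of A A) (1 : A)).f p) := fun p => by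
    rw [ConcreteCategory.isIso_iff_bijective]
    constructor
    · intro φ ψ h
      have h' : ∀ φ ψ : ModuleCat.of A A ⟶ I.X p, φ.hom (1 : A) = ψ.hom (1 : A) → φ = ψ := by
        intro φ ψ h
        ext
        exact h
      exact h' φ ψ h
    · intro x
      exact ⟨ModuleCat.ofHom (LinearMap.toSpanSingleton A _ x), by
        change (LinearMap.toSpanSingleton A _ x) (1 : A) = x
        rw [LinearMap.toSpanSingleton_apply, one_smul]⟩
  exact HomologicalComplex.Hom.isIso_of_components _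

lemma P_self (htoEnd : Function.Bijective (fun x : A => x • 𝟙 (Q.obj I)))
    (hext : ∀ n : ℤ, n ≠ 0 → Subsingleton ((Q.obj I)⟦n⟧ ⟶ Q.obj I)) :
    P I (ModuleCat.of A A) := by
  have := isIso_ev_one I
  let θ := ev I (ModuleCat.of A A) (1 : A)
  have hθ : IsIso (Q.map θ) := inferInstance
  refine ⟨fun m hm => ?_, ?_⟩
  · have h := hext m hm
    refine ⟨fun x y => ?_⟩
    let e : (Q.obj (Ec I (ModuleCat.of A A)))⟦m⟧ ≅ (Q.obj I)⟦m⟧ :=
      (shiftFunctor (Dual.D A) m).mapIso (asIso (Q.map θ))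
    exact (cancel_epi e.inv).1 (h.elim (e.inv ≫ x) (e.inv ≫ y))
  · have h1 : ∀ a : A, eta I (ModuleCat.of A A) a = Q.map θ ≫ (a • 𝟙 (Q.obj I)) := by
      intro a
      rw [eta_apply, Linear.comp_smul, Category.comp_id, ← Functor.map_smul]
      congr 1
      rw [← ev_smul]
      congr 1
      exact (mul_one a).symm
    have h2 : ⇑(eta I (ModuleCat.of A A)) =
        (fun f => Q.map θ ≫ f) ∘ (fun x : A => x • 𝟙 (Q.obj I)) := by
      funext a
      exact h1 a
    rw [h2]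
    refine Function.Bijective.comp ?_ htoEnd
    constructor
    · intro f g h
      exact (cancel_epi (Q.map θ)).1 h
    · intro f
      exact ⟨inv (Q.map θ) ≫ f, by simp⟩

end Base


section Steps

variable (S : ShortComplex (ModuleCat.{u} A)) (hS : S.ShortExact)
  (hinj : ∀ p : ℤ, Module.Injective A (I.X p))

/-- the distinguished triangle `Q Ec X₃ ⟶ Q Ec X₂ ⟶ Q Ec X₁ ⟶` -/
noncomputable def tri : Triangle (Dual.D A) := triangleOfSES (EcSC_shortExact I S hS hinj)

lemma tri_dist : tri I S hS hinj ∈ distTriang (Dual.D A) :=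
  triangleOfSES_distinguished _

/-- the connecting morphism -/
noncomputable def δ : Q.obj (Ec I S.X₁) ⟶ (Q.obj (Ec I S.X₃))⟦(1 : ℤ)⟧ := (tri I S hS hinj).mor₃

variable (W : Dual.D A)

include hS hinj in
lemma exact₂ (y : Q.obj (Ec I S.X₂) ⟶ W) (hy : Q.map (EcMap I S.g) ≫ y = 0) :
    ∃ z : Q.obj (Ec I S.X₁) ⟶ W, y = Q.map (EcMap I S.f) ≫ z :=
  Triangle.yoneda_exact₂ (tri I S hS hinj) (tri_dist I S hS hinj) y hy

lemma exact₃ (z : Q.obj (Ec I S.X₁) ⟶ W) (hz : Q.map (EcMap I S.f) ≫ z = 0) :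
    ∃ g : (Q.obj (Ec I S.X₃))⟦(1 : ℤ)⟧ ⟶ W, z = δ I S hS hinj ≫ g :=
  Triangle.yoneda_exact₃ (tri I S hS hinj) (tri_dist I S hS hinj) z hz

lemma mor₂_δ : Q.map (EcMap I S.f) ≫ δ I S hS hinj = 0 :=
  comp_distTriang_mor_zero₂₃ _ (tri_dist I S hS hinj)

include hS hinj in
lemma exact₁ (h₁ : Subsingleton ((Q.obj (Ec I S.X₁))⟦(-1 : ℤ)⟧ ⟶ W))
    (y : Q.obj (Ec I S.X₃) ⟶ W) :
    ∃ z : Q.obj (Ec I S.X₂) ⟶ W, y = Q.map (EcMap I S.g) ≫ z :=
  exists_fac_obj₁ W (tri I S hS hinj) (tri_dist I S hS hinj) h₁ y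

lemma exact_rot (h₂ : Subsingleton ((Q.obj (Ec I S.X₂))⟦(1 : ℤ)⟧ ⟶ W))
    (g : (Q.obj (Ec I S.X₃))⟦(1 : ℤ)⟧ ⟶ W) (hg : δ I S hS hinj ≫ g = 0) : g = 0 := by
  obtain ⟨h, hh⟩ := Triangle.yoneda_exact₃ _ (rot_of_distTriang _ (tri_dist I S hS hinj)) g hg
  have : h = 0 := h₂.elim h 0
  rw [hh, this]
  exact comp_zero

include hS hinj in
lemma V_X₂ (m : ℤ) (h₁ : V I m S.X₁) (h₃ : V I m S.X₃) : V I m S.X₂ :=
  sub_obj₂_shift (Q.obj I) (tri I S hS hinj) (tri_dist I S hS hinj) m h₃ h₁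

include hS hinj in
/-- step A: `V m X₂ → V (m-1) X₁ → V m X₃` -/
lemma V_X₃ (m m' : ℤ) (hm : m + (-1) = m') (h₂ : V I m S.X₂) (h₁ : V I m' S.X₁) : V I m S.X₃ :=
  sub_obj₁_shift (Q.obj I) (tri I S hS hinj) (tri_dist I S hS hinj) m m' hm h₂ h₁

include hS in
lemma exists_of_g_eq_zero (x : S.X₂) (hx : S.g.hom x = 0) : ∃ y : S.X₁, S.f.hom y = x :=
  (ShortComplex.moduleCat_exact_iff S).1 hS.exact x hx

include hS in
lemma g_surjective : Function.Surjective S.g.hom := by
  have := hS.epi_g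
  exact (ModuleCat.epi_iff_surjective S.g).1 inferInstance

include hS in
lemma f_injective : Function.Injective S.f.hom := by
  have := hS.mono_f
  exact (ModuleCat.mono_iff_injective S.f).1 inferInstance

include hS hinj in
/-- `η` surjective on `X₃` -/
lemma eta_surjective_X₃ (h₁ : V I (-1) S.X₁) (h₂ : Function.Surjective (eta I S.X₂)) :
    Function.Surjective (eta I S.X₃) := by
  intro y
  obtain ⟨z, hz⟩ := exact₁ I S hS hinj (Q.obj I) h₁ y
  obtain ⟨x, rfl⟩ := h₂ z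
  refine ⟨S.g.hom x, ?_⟩
  rw [hz]
  exact (eta_natural I S.g x).symm

include hS hinj in
/-- `η` injective on `X₃` -/
lemma eta_injective_X₃ (h₁ : Function.Surjective (eta I S.X₁))
    (h₂ : Function.Injective (eta I S.X₂)) : Function.Injective (eta I S.X₃) := by
  rw [injective_iff_map_eq_zero]
  intro x₃ hx₃
  obtain ⟨x, rfl⟩ := g_surjective S hS x₃
  have h1 : Q.map (EcMap I S.g) ≫ eta I S.X₂ x = 0 := by
    rw [eta_natural I S.g x, hx₃]
  obtain ⟨z, hz⟩ := exact₂ I S hS hinj (Q.obj I) _ h1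
  obtain ⟨k, rfl⟩ := h₁ z
  have h2 : eta I S.X₂ x = eta I S.X₂ (S.f.hom k) := by
    rw [hz]
    exact eta_natural I S.f k
  rw [h₂ h2]
  exact congr($(S.zero) k)

include hS in
/-- the map `Hom(Q Ec X₁, Q I) → Hom(Q Ec X₂, Q I)` is injective -/
lemma eq_zero_of_mor₂_comp (h₁ : Function.Surjective (eta I S.X₁))
    (h₂ : Function.Injective (eta I S.X₂)) (z : Q.obj (Ec I S.X₁) ⟶ Q.obj I)
    (hz : Q.map (EcMap I S.f) ≫ z = 0) : z = 0 := by
  obtain ⟨k, rfl⟩ := h₁ z
  have h1 : eta I S.X₂ (S.f.hom k) = 0 := by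
    rw [← eta_natural I S.f k, hz]
  have h2 : S.f.hom k = 0 := h₂ (h1.trans (map_zero _).symm)
  have h3 : k = 0 := f_injective S hS (h2.trans (map_zero _).symm)
  rw [h3, map_zero]

include hS hinj in
/-- `V 1 X₃` -/
lemma V_one_X₃ (h₁ : Function.Surjective (eta I S.X₁))
    (h₂ : Function.Injective (eta I S.X₂)) (hV : V I 1 S.X₂) : V I 1 S.X₃ := by
  have key : ∀ g : (Q.obj (Ec I S.X₃))⟦(1 : ℤ)⟧ ⟶ Q.obj I, g = 0 := by
    intro g
    have h1 : δ I S hS hinj ≫ g = 0 := by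
      apply eq_zero_of_mor₂_comp I S hS h₁ h₂
      rw [← Category.assoc, mor₂_δ, zero_comp]
    exact exact_rot I S hS hinj (Q.obj I) hV g h1
  exact ⟨fun x y => by rw [key x, key y]⟩

include hS hinj in
/-- extension closure of `P` -/
lemma P_X₂ (h₁ : P I S.X₁) (h₃ : P I S.X₃) : P I S.X₂ := by
  refine ⟨fun m hm => V_X₂ I S hS hinj m (h₁.1 m hm) (h₃.1 m hm), ?_, ?_⟩
  · rw [injective_iff_map_eq_zero]
    intro x hx
    have h1 : eta I S.X₃ (S.g.hom x) = 0 := by
      rw [← eta_natural I S.g x, hx, comp_zero]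
    have h2 : S.g.hom x = 0 := h₃.2.1 (h1.trans (map_zero _).symm)
    obtain ⟨k, rfl⟩ := exists_of_g_eq_zero S hS x h2
    have h3 : Q.map (EcMap I S.f) ≫ eta I S.X₁ k = 0 := by
      rw [eta_natural I S.f k, hx]
    obtain ⟨g, hg⟩ := exact₃ I S hS hinj (Q.obj I) _ h3
    have h4 : eta I S.X₁ k = 0 := by
      rw [hg, (h₃.1 1 one_ne_zero).elim g 0, comp_zero]
    have h5 : k = 0 := h₁.2.1 (h4.trans (map_zero _).symm)
    rw [h5, map_zero]
  · intro y
    obtain ⟨x₃, hx₃⟩ := h₃.2.2 (Q.map (EcMap I S.g) ≫ y)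
    obtain ⟨x₂, rfl⟩ := g_surjective S hS x₃
    have h1 : Q.map (EcMap I S.g) ≫ (y - eta I S.X₂ x₂) = 0 := by
      rw [Preadditive.comp_sub, ← hx₃, sub_eq_zero]
      exact (eta_natural I S.g x₂).symm
    obtain ⟨z, hz⟩ := exact₂ I S hS hinj (Q.obj I) _ h1
    obtain ⟨k, rfl⟩ := h₁.2.2 z
    refine ⟨x₂ + S.f.hom k, ?_⟩
    rw [map_add, ← eta_natural I S.f k, ← hz]
    abel

end Steps


section Free

variable (hinj : ∀ p : ℤ, Module.Injective A (I.X p))

/-- the short exact sequence `0 → A → A^{k+1} → A^k → 0` -/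
noncomputable def freeSC (k : ℕ) : ShortComplex (ModuleCat.{u} A) :=
  ShortComplex.mk
    (ModuleCat.ofHom (LinearMap.single A (fun _ : Fin (k + 1) => A) 0) :
      ModuleCat.of A A ⟶ ModuleCat.of A (Fin (k + 1) → A))
    (ModuleCat.ofHom (LinearMap.pi (fun i : Fin k => LinearMap.proj i.succ)) :
      ModuleCat.of A (Fin (k + 1) → A) ⟶ ModuleCat.of A (Fin k → A))
    (by
      ext i
      change (Pi.single (0 : Fin (k + 1)) (1 : A) : Fin (k + 1) → A) i.succ = 0
      exact Pi.single_eq_of_ne (Fin.succ_ne_zero i) _)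

lemma freeSC_shortExact (k : ℕ) : (freeSC (A := A) k).ShortExact := by
  refine ShortComplex.ShortExact.mk' ?_ ?_ ?_
  · rw [ShortComplex.moduleCat_exact_iff]
    intro x hx
    refine ⟨(show Fin (k + 1) → A from x) 0, ?_⟩
    funext i
    refine Fin.cases ?_ (fun j => ?_) i
    · exact Pi.single_eq_same (M := fun _ : Fin (k + 1) => A) 0
        ((show Fin (k + 1) → A from x) 0)
    · have h1 : (show Fin (k + 1) → A from x) j.succ = 0 := congr_fun hx j
      change (Pi.single (0 : Fin (k + 1)) ((show Fin (k + 1) → A from x) 0) :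
        Fin (k + 1) → A) j.succ = _
      rw [Pi.single_eq_of_ne (Fin.succ_ne_zero j)]
      exact h1.symm
  · rw [ModuleCat.mono_iff_injective]
    intro x y hxy
    have h1 : (Pi.single (0 : Fin (k + 1)) (x : A) : Fin (k + 1) → A) =
        Pi.single (0 : Fin (k + 1)) (y : A) := hxy
    exact Pi.single_injective (M := fun _ : Fin (k + 1) => A) 0 h1
  · rw [ModuleCat.epi_iff_surjective]
    intro v
    exact ⟨Fin.cons (0 : A) (show Fin k → A from v), by
      funext i
      change (Fin.cons (0 : A) (show Fin k → A from v) : Fin (k + 1) → A) i.succ = v i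
      rw [Fin.cons_succ]⟩

include hinj in
lemma P_free (h : P I (ModuleCat.of A A)) : ∀ k : ℕ, P I (ModuleCat.of A (Fin k → A)) := by
  intro k
  induction k with
  | zero => exact P_of_subsingleton I _
  | succ k ih => exact P_X₂ I (freeSC k) (freeSC_shortExact k) hinj h ih

end Free


section Bound

variable (a b : ℤ) (hI : DRing.VanishesOutside I a b)
  (hinj : ∀ p : ℤ, Module.Injective A (I.X p))

include hI in
lemma isStrictlyGE_Ec (N : ModuleCat.{u} A) : (Ec I N).IsStrictlyGE a := by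
  rw [CochainComplex.isStrictlyGE_iff]
  intro i hi
  exact (homF N).map_isZero (hI i (Or.inl hi))

include hI hinj in
/-- `V m N` for `m < a - b` -/
lemma V_of_lt (N : ModuleCat.{u} A) (m : ℤ) (hm : m < a - b) : V I m N := by
  have h1 := isStrictlyGE_Ec I a b hI N
  have h2 : (Q.obj (Ec I N)).IsGE a := inferInstance
  have h3 : ((Q.obj (Ec I N))⟦m⟧).IsGE (a - m) := ExtFinite.isGE_shift' _ a m
  exact ExtFinite.subsingleton_hom_of_injAmp I a b hI hinj _ (a - m) (by omega)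

end Bound

section Pres

variable [IsNoetherianRing A]

/-- a finite presentation `0 → K → A^k → N → 0` with `K` finite -/
lemma exists_pres (N : ModuleCat.{u} A) [Module.Finite A N] :
    ∃ (k : ℕ) (K : ModuleCat.{u} A) (f : K ⟶ ModuleCat.of A (Fin k → A))
      (g : ModuleCat.of A (Fin k → A) ⟶ N) (w : f ≫ g = 0),
      Module.Finite A K ∧ (ShortComplex.mk f g w).ShortExact := by
  obtain ⟨k, π, hπ⟩ := Module.Finite.exists_fin' A N
  refine ⟨k, ModuleCat.of A (LinearMap.ker π), ModuleCat.ofHom (LinearMap.ker π).subtype,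
    ModuleCat.ofHom π, ?_, ?_, ?_⟩
  · ext x
    exact x.2
  · infer_instance
  · refine ShortComplex.ShortExact.mk' ?_ ?_ ?_
    · rw [ShortComplex.moduleCat_exact_iff]
      intro x hx
      exact ⟨⟨x, hx⟩, rfl⟩
    · rw [ModuleCat.mono_iff_injective]
      exact Subtype.val_injective
    · rw [ModuleCat.epi_iff_surjective]
      exact hπ

end Pres


section Main

variable [IsNoetherianRing A] (a b : ℤ) (hI : DRing.VanishesOutside I a b)
  (hinj : ∀ p : ℤ, Module.Injective A (I.X p))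
  (htoEnd : Function.Bijective (fun x : A => x • 𝟙 (Q.obj I)))
  (hext : ∀ n : ℤ, n ≠ 0 → Subsingleton ((Q.obj I)⟦n⟧ ⟶ Q.obj I))

include hI hinj htoEnd hext in
/-- biduality for finite modules -/
theorem P_of_finite : ∀ (N : ModuleCat.{u} A) [Module.Finite A N], P I N := by
  have hA : P I (ModuleCat.of A A) := P_self I htoEnd hext
  have hF : ∀ k : ℕ, P I (ModuleCat.of A (Fin k → A)) := P_free I hinj hA
  -- negative shifts
  have Hplus : ∀ (j : ℕ) (m : ℤ), m ≤ -1 → m < a - b + j →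
      ∀ (N : ModuleCat.{u} A) [Module.Finite A N], V I m N := by
    intro j
    induction j with
    | zero =>
      intro m _ hm N _
      exact V_of_lt I a b hI hinj N m (by simpa using hm)
    | succ j ih =>
      intro m hm1 hm N _
      obtain ⟨k, K, f, g, w, hK, hS⟩ := exists_pres N
      exact V_X₃ I (ShortComplex.mk f g w) hS hinj m (m - 1) (by ring)
        ((hF k).1 m (by omega)) (ih (m - 1) (by omega) (by push_cast at hm; omega) K)
  have Hneg : ∀ (m : ℤ), m ≤ -1 → ∀ (N : ModuleCat.{u} A) [Module.Finite A N], V I m N := by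
    intro m hm N _
    exact Hplus (m - (a - b) + 1).toNat m hm (by omega) N
  have Hsurj : ∀ (N : ModuleCat.{u} A) [Module.Finite A N], Function.Surjective (eta I N) := by
    intro N _
    obtain ⟨k, K, f, g, w, hK, hS⟩ := exists_pres N
    exact eta_surjective_X₃ I (ShortComplex.mk f g w) hS hinj (Hneg (-1) le_rfl K) (hF k).2.2
  have Hinj : ∀ (N : ModuleCat.{u} A) [Module.Finite A N], Function.Injective (eta I N) := by
    intro N _
    obtain ⟨k, K, f, g, w, hK, hS⟩ := exists_pres N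
    exact eta_injective_X₃ I (ShortComplex.mk f g w) hS hinj (Hsurj K) (hF k).2.1
  have Hpos : ∀ (j : ℕ) (N : ModuleCat.{u} A) [Module.Finite A N], V I (j + 1) N := by
    intro j
    induction j with
    | zero =>
      intro N _
      obtain ⟨k, K, f, g, w, hK, hS⟩ := exists_pres N
      have := V_one_X₃ I (ShortComplex.mk f g w) hS hinj (Hsurj K) (hF k).2.1
        ((hF k).1 1 one_ne_zero)
      simpa using this
    | succ j ih =>
      intro N _
      obtain ⟨k, K, f, g, w, hK, hS⟩ := exists_pres N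
      exact V_X₃ I (ShortComplex.mk f g w) hS hinj _ _ (by push_cast; ring)
        ((hF k).1 _ (by omega)) (ih K)
  intro N _
  refine ⟨fun m hm => ?_, Hinj N, Hsurj N⟩
  by_cases h : m ≤ -1
  · exact Hneg m h N
  · have := Hpos (m - 1).toNat N
    have h2 : (((m - 1).toNat : ℤ) + 1) = m := by omega
    rwa [h2] at this

end Main


end Groth.Agent.H28.Bidual
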