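import Mathlib
import Groth.Prelude.Def_DDual2
import Groth.Agent.H28.ExtFinite2

/-!
# Restriction of scalars on derived categories: linearity and adjunction transport (helper28)

* `finite_HD_of_finite_hom` : `Hom_{D(B)}(B[0], X[i])` finite ⇒ `H^i(X)` finite.
* `restrictD_map_smul` : `restrictD φ` is semilinear along `φ`.
* `restrictD_inD_iso` : `restrictD (B[0]) ≅ (B as A-module)[0]`.
* `finite_hom_rightAdjoint` : transport of finiteness along an adjunction `restrictD ⊣ R`.
-/

set_option autoImplicit false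
universe u
open CategoryTheory Pretriangulated Limits DerivedCategory

namespace Groth.Agent.H28.RestrAdj

attribute [local instance] HasDerivedCategory.standard

section Single

variable {B : Type u} [CommRing B]

lemma relMap_surjective (E : DRing.Cx B) (n : ℤ) :
    Function.Surjective (ExtFinite.relMap E n) := by
  intro ψ
  obtain ⟨g, hg, rfl⟩ := Groth.Agent.H35.homologyClass_surjective E n ψ
  refine ⟨Groth.Agent.H35.singleHom E n g hg, ?_⟩
  exact (ExtFinite.rel_eq_iff E n (ExtFinite.rel_exists E n _).choose_spec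
    ⟨g, hg, rfl, rfl⟩).1 rfl

/-- `Hⁿ(E)` is finite if `Hom(B[0], (Q E)[n])` is -/
lemma finite_homology_of_finite_hom (E : DRing.Cx B) (n : ℤ)
    (h : Module.Finite B (Dual.inD B B ⟶ (DRing.toD E)⟦n⟧)) :
    Module.Finite B (E.homology n) := by
  let e1 : (ModuleCat.of B B ⟶ E.homology n) ≃ₗ[B] (B →ₗ[B] E.homology n) :=
    ModuleCat.homLinearEquiv (S := B)
  let e2 : (B →ₗ[B] E.homology n) ≃ₗ[B] E.homology n := LinearMap.ringLmapEquivSelf B B _
  have h0 : Module.Finite B (Q.obj ((CochainComplex.singleFunctor (ModuleCat.{u} B) 0).obj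
      (ModuleCat.of B B)) ⟶ (Q.obj E)⟦n⟧) := h
  have h1 : Module.Finite B (ModuleCat.of B B ⟶ E.homology n) :=
    Module.Finite.of_surjective (ExtFinite.relMap E n) (relMap_surjective E n)
  exact Module.Finite.equiv (e1.trans e2)

/-- `Hⁱ(X)` is finite if `Hom(B[0], X[i])` is -/
lemma finite_HD_of_finite_hom (X : Dual.D B) (i : ℤ)
    (h : Module.Finite B (Dual.inD B B ⟶ X⟦i⟧)) : Module.Finite B (Dual.HD B X i) := by
  let E := Q.objPreimage X
  let e : Q.obj E ≅ X := Q.objObjPreimageIso X
  let i1 : (DerivedCategory.homologyFunctor (ModuleCat.{u} B) i).obj X ≅ E.homology i :=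
    (DerivedCategory.homologyFunctor (ModuleCat.{u} B) i).mapIso e.symm ≪≫
      (DerivedCategory.homologyFunctorFactors (ModuleCat.{u} B) i).app E
  have h2 : Module.Finite B (Dual.inD B B ⟶ (DRing.toD E)⟦i⟧) :=
    ExtFinite.finite_hom_of_iso (Iso.refl _) ((shiftFunctor (Dual.D B) i).mapIso e.symm) h
  have h3 := finite_homology_of_finite_hom E i h2
  exact Module.Finite.equiv i1.toLinearEquiv.symm

/-- `Hom(X, Y[m'])` is finite if `Hom(X[m], Y)` is (`m + m' = 0`) -/
lemma finite_hom_shift_right {X Y : Dual.D B} (m m' : ℤ) (hm : m + m' = 0)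
    (h : Module.Finite B (X⟦m⟧ ⟶ Y)) : Module.Finite B (X ⟶ Y⟦m'⟧) :=
  ExtFinite.finite_hom_of_iso ((shiftFunctorCompIsoId (Dual.D B) m m' hm).app X) (Iso.refl _)
    (ExtFinite.finite_hom_shift m' h)

end Single

section Restr

variable {A B : Type u} [CommRing A] [CommRing B] (φ : A →+* B)

/-- `restrictScalars` on complexes sends `φ a • 𝟙` to `a • 𝟙` -/
lemma mapHC_smul_id (E : DRing.Cx B) (a : A) :
    ((ModuleCat.restrictScalars.{u} φ).mapHomologicalComplex (ComplexShape.up ℤ)).map
      (φ a • 𝟙 E) = a • 𝟙 _ := by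
  ext i x
  rfl

/-- `restrictD φ` sends `φ a • 𝟙` to `a • 𝟙` -/
lemma restrictD_map_smul_id (T : Dual.D B) (a : A) :
    (DRing.restrictD φ).map (φ a • 𝟙 T) = a • 𝟙 _ := by
  let E := Q.objPreimage T
  let e : Q.obj E ≅ T := Q.objObjPreimageIso T
  have h1 : φ a • 𝟙 T = e.inv ≫ Q.map (φ a • 𝟙 E) ≫ e.hom := by
    rw [Functor.map_smul, CategoryTheory.Functor.map_id, Linear.smul_comp, Linear.comp_smul,
      Category.id_comp, e.inv_hom_id]
  have h2 := (ModuleCat.restrictScalars.{u} φ).mapDerivedCategoryFactors_hom_naturality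
    (φ a • 𝟙 E)
  rw [mapHC_smul_id] at h2
  have h5 : Q.map (a • 𝟙 (((ModuleCat.restrictScalars.{u} φ).mapHomologicalComplex
      (ComplexShape.up ℤ)).obj E)) = a • 𝟙 _ := by
    rw [Functor.map_smul, CategoryTheory.Functor.map_id]
  rw [h5, Linear.comp_smul] at h2
  erw [Category.comp_id] at h2
  have h3 : (DRing.restrictD φ).map (Q.map (φ a • 𝟙 E)) = a • 𝟙 _ := by
    have h4 : (DRing.restrictD φ).map (Q.map (φ a • 𝟙 E)) =
        ((DRing.restrictD φ).map (Q.map (φ a • 𝟙 E)) ≫
          (ModuleCat.restrictScalars.{u} φ).mapDerivedCategoryFactors.hom.app E) ≫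
          (ModuleCat.restrictScalars.{u} φ).mapDerivedCategoryFactors.inv.app E := by
      rw [Category.assoc, Iso.hom_inv_id_app]
      exact (Category.comp_id _).symm
    rw [h4, h2, Linear.smul_comp, Iso.hom_inv_id_app]
    rfl
  rw [h1, Functor.map_comp, Functor.map_comp, h3, Linear.smul_comp, Linear.comp_smul,
    Category.id_comp, ← Functor.map_comp, e.inv_hom_id, CategoryTheory.Functor.map_id]

/-- `restrictD φ` is semilinear along `φ` -/
lemma restrictD_map_smul {T T' : Dual.D B} (f : T ⟶ T') (a : A) :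
    (DRing.restrictD φ).map (φ a • f) = a • (DRing.restrictD φ).map f := by
  have : φ a • f = (φ a • 𝟙 T) ≫ f := by rw [Linear.smul_comp, Category.id_comp]
  rw [this, Functor.map_comp, restrictD_map_smul_id, Linear.smul_comp, Category.id_comp]

end Restr

section Adj

variable {A B : Type u} [CommRing A] [CommRing B] [Algebra A B]

/-- `B` as an `A`-module via restriction of scalars is `ModuleCat.of A B` -/
noncomputable def restrictOfIso :
    (ModuleCat.restrictScalars.{u} (algebraMap A B)).obj (ModuleCat.of B B) ≅ ModuleCat.of A B :=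
  LinearEquiv.toModuleIso
    (show ((ModuleCat.restrictScalars.{u} (algebraMap A B)).obj (ModuleCat.of B B)) ≃ₗ[A] B from
    { toFun := fun x => x
      invFun := fun x => x
      map_add' := fun _ _ => rfl
      map_smul' := fun a x => (Algebra.smul_def a (show B from x)).symm
      left_inv := fun _ => rfl
      right_inv := fun _ => rfl })

/-- `restrictD (B[0]) ≅ (B as A-module)[0]` -/
noncomputable def restrictD_inD_iso :
    (DRing.restrictD (algebraMap A B)).obj (Dual.inD B B) ≅ Dual.inD A B :=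
  ((ModuleCat.restrictScalars.{u} (algebraMap A B)).mapDerivedCategorySingleFunctor 0).app _ ≪≫
    (DerivedCategory.singleFunctor (ModuleCat.{u} A) 0).mapIso restrictOfIso

/-- transport of finiteness along an adjunction `restrictD ⊣ R` -/
theorem finite_hom_adj (R : Dual.D A ⥤ Dual.D B) (adj : DRing.restrictD (algebraMap A B) ⊣ R)
    (T : Dual.D B) (K : Dual.D A)
    (h : Module.Finite A ((DRing.restrictD (algebraMap A B)).obj T ⟶ K)) :
    Module.Finite B (T ⟶ R.obj K) := by
  let mA : Module A (T ⟶ R.obj K) := Module.compHom _ (algebraMap A B)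
  have tower : IsScalarTower A B (T ⟶ R.obj K) := ⟨fun a b f => by
    change (a • b) • f = algebraMap A B a • (b • f)
    rw [Algebra.smul_def, mul_smul]⟩
  let ψ : (T ⟶ R.obj K) →ₗ[A] ((DRing.restrictD (algebraMap A B)).obj T ⟶ K) :=
    { toFun := fun f => (DRing.restrictD (algebraMap A B)).map f ≫ adj.counit.app K
      map_add' := fun f g => by rw [Functor.map_add, Preadditive.add_comp]
      map_smul' := fun a f => by
        change (DRing.restrictD (algebraMap A B)).map (algebraMap A B a • f) ≫ adj.counit.app K = _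
        rw [restrictD_map_smul, Linear.smul_comp]
        rfl }
  have hψ : Function.Bijective ψ := by
    have := (adj.homEquiv T K).symm.bijective
    have h2 : ⇑ψ = ⇑(adj.homEquiv T K).symm := by
      funext f
      exact (adj.homEquiv_counit ..).symm
    rw [h2]
    exact this
  have hA : Module.Finite A (T ⟶ R.obj K) :=
    Module.Finite.equiv (LinearEquiv.ofBijective ψ hψ).symm
  exact Module.Finite.of_restrictScalars_finite A B (T ⟶ R.obj K)

/-- cohomology of `R K` is finite for `R` right adjoint to restriction along a finite map -/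
theorem finite_HD_rightAdjoint [IsNoetherianRing A] [Module.Finite A B]
    (R : Dual.D A ⥤ Dual.D B) (adj : DRing.restrictD (algebraMap A B) ⊣ R)
    (K : Dual.D A) (a : ℤ) [K.IsGE a] (hK : ∀ i : ℤ, Module.Finite A (Dual.HD A K i)) (i : ℤ) :
    Module.Finite B (Dual.HD B (R.obj K) i) := by
  have h1 : Module.Finite A (Dual.inD A B ⟶ K⟦i⟧) := ExtFinite.mot_of_finite K hK a i B
  have h2 : Module.Finite A ((Dual.inD A B)⟦-i⟧ ⟶ K) :=
    ExtFinite.finite_hom_shift_left (-i) i (by omega) h1
  let iso : (DRing.restrictD (algebraMap A B)).obj ((Dual.inD B B)⟦-i⟧) ≅ (Dual.inD A B)⟦-i⟧ :=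
    ((DRing.restrictD (algebraMap A B)).commShiftIso (-i)).app _ ≪≫
      (shiftFunctor (Dual.D A) (-i)).mapIso restrictD_inD_iso
  have h3 : Module.Finite A
      ((DRing.restrictD (algebraMap A B)).obj ((Dual.inD B B)⟦-i⟧) ⟶ K) :=
    ExtFinite.finite_hom_of_iso iso.symm (Iso.refl _) h2
  have h4 : Module.Finite B ((Dual.inD B B)⟦-i⟧ ⟶ R.obj K) := finite_hom_adj R adj _ K h3
  have h5 : Module.Finite B (Dual.inD B B ⟶ (R.obj K)⟦i⟧) :=
    finite_hom_shift_right (-i) i (by omega) h4
  exact finite_HD_of_finite_hom _ i h5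

/-- bounded below from vanishing of cohomology modules -/
lemma isGE_of_subsingleton (K : Dual.D A) (a : ℤ)
    (hKa : ∀ i : ℤ, i < a → Subsingleton (Dual.HD A K i)) : K.IsGE a := by
  rw [DerivedCategory.isGE_iff]
  intro i hi
  have := hKa i hi
  exact ModuleCat.isZero_of_subsingleton _

end Adj

end Groth.Agent.H28.RestrAdj
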