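import Mathlib
import Groth.Prelude.Def_DDual2
import Groth.Agent.H33.DerAdjU
import Groth.Agent.H33.KInjAdj
import Groth.Agent.H33.KInj.Main
import Groth.Agent.H28.Bidual
import Groth.Agent.H28.RestrAdj

/-!
# The explicit model `Q(Hom_A(B, I))` of a right adjoint to restriction of scalars (helper28)

For `A → B` and a right adjoint `R` of `restrictD : D(B) ⥤ D(A)`, and a K-injective complex `I`
of `A`-modules, `R (Q I)` is computed by coextension of scalars; consequently
`Hom(R(QI)[m], R(QI))` and `B → End(R(QI))` are controlled by the biduality data of `B`.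
-/

set_option autoImplicit false
universe u
open CategoryTheory Pretriangulated Limits DerivedCategory Opposite

namespace Groth.Agent.H28.CoextModel

attribute [local instance] HasDerivedCategory.standard

variable {A B : Type u} [CommRing A] [CommRing B] [Algebra A B]

/-- restriction of scalars -/
noncomputable abbrev Lr : ModuleCat.{u} B ⥤ ModuleCat.{u} A :=
  ModuleCat.restrictScalars.{u} (algebraMap A B)

/-- coextension of scalars -/
noncomputable abbrev Rc : ModuleCat.{u} A ⥤ ModuleCat.{u} B :=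
  ModuleCat.coextendScalars.{u} (algebraMap A B)

/-- the adjunction -/
noncomputable abbrev adj0 : Lr (A := A) (B := B) ⊣ Rc :=
  ModuleCat.restrictCoextendScalarsAdj.{u} (algebraMap A B)

instance : (Rc (A := A) (B := B)).Additive :=
  (adj0 (A := A) (B := B)).right_adjoint_additive

/-- elements of `Lr (Rc M)` as functions -/
noncomputable def toFn (M : ModuleCat.{u} A) (g : (Lr (A := A) (B := B)).obj (Rc.obj M)) : B → M :=
  fun s => (ModuleCat.CoextendScalars.equiv (algebraMap A B) M g) s

lemma toFn_add (M : ModuleCat.{u} A) (g : (Lr (A := A) (B := B)).obj (Rc.obj M)) (s t : B) :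
    toFn M g (s + t) = toFn M g s + toFn M g t :=
  map_add (ModuleCat.CoextendScalars.equiv (algebraMap A B) M g) s t

lemma toFn_smul (M : ModuleCat.{u} A) (g : (Lr (A := A) (B := B)).obj (Rc.obj M)) (a : A) (s : B) :
    toFn M g (a • s) = a • toFn M g s := by
  rw [Algebra.smul_def]
  exact (ModuleCat.CoextendScalars.equiv (algebraMap A B) M g).map_smul a
    (show ((ModuleCat.restrictScalars (algebraMap A B)).obj (ModuleCat.of B B)) from s)

/-- the termwise comparison `Hom_A(B, M)|_A → Hom_A(B, M)` -/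
noncomputable def kappaHom (M : ModuleCat.{u} A) :
    (Lr (A := A) (B := B)).obj (Rc.obj M) ⟶ (Bidual.homF (ModuleCat.of A B)).obj M :=
  ModuleCat.ofHom (X := (Lr (A := A) (B := B)).obj (Rc.obj M))
    { toFun := fun g => (ModuleCat.ofHom
        { toFun := toFn M g
          map_add' := toFn_add M g
          map_smul' := toFn_smul M g } : ModuleCat.of A B ⟶ M)
      map_add' := fun g g' => by
        ext s
        rfl
      map_smul' := fun a g => by
        ext s
        change toFn M (a • g) s = a • toFn M g s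
        rw [← toFn_smul, Algebra.smul_def, mul_comm]
        rfl }

lemma kappaHom_apply (M : ModuleCat.{u} A) (g : (Lr (A := A) (B := B)).obj (Rc.obj M)) (s : B) :
    (show ModuleCat.of A B ⟶ M from (kappaHom M).hom g).hom s = toFn M g s := rfl

lemma toFn_injective (M : ModuleCat.{u} A) : Function.Injective (toFn (A := A) (B := B) M) := by
  intro g g' h
  apply ModuleCat.CoextendScalars.ext
  ext s
  exact congr_fun h s

lemma isIso_kappaHom (M : ModuleCat.{u} A) : IsIso (kappaHom (A := A) (B := B) M) := by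
  rw [ConcreteCategory.isIso_iff_bijective]
  constructor
  · intro g g' h
    apply toFn_injective M
    funext s
    have := congr((show ModuleCat.of A B ⟶ M from $h).hom s)
    exact this
  · intro φ
    let φ' : ModuleCat.of A B ⟶ M := φ
    let g₀ : ((ModuleCat.restrictScalars (algebraMap A B)).obj (ModuleCat.of B B)) →ₗ[A] M :=
      { toFun := fun s => φ'.hom s
        map_add' := fun s t => map_add φ'.hom s t
        map_smul' := fun a s => by
          have : φ'.hom (a • (show B from s)) = a • φ'.hom (show B from s) := map_smul φ'.hom a _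
          rw [Algebra.smul_def] at this
          exact this }
    refine ⟨(ModuleCat.CoextendScalars.equiv (algebraMap A B) M).symm g₀, ?_⟩
    have h : ∀ ψ ψ' : ModuleCat.of A B ⟶ M, (∀ s : B, ψ.hom s = ψ'.hom s) → ψ = ψ' := by
      intro ψ ψ' h
      ext s
      exact h s
    exact h _ φ' (fun s => rfl)

variable (I : DRing.Cx A)

/-- `Hom_A(B, I)` as a complex of `B`-modules -/
noncomputable abbrev RcC : DRing.Cx B :=
  ((Rc (A := A) (B := B)).mapHomologicalComplex (ComplexShape.up ℤ)).obj I

/-- the comparison of complexes `Hom_A(B, I)|_A ≅ Ec I B` -/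
noncomputable def iota :
    ((Lr (A := A) (B := B)).mapHomologicalComplex (ComplexShape.up ℤ)).obj (RcC I) ≅
      Bidual.Ec I (ModuleCat.of A B) :=
  HomologicalComplex.Hom.isoOfComponents
    (fun p => @asIso _ _ _ _ (kappaHom (A := A) (B := B) (I.X p)) (isIso_kappaHom _))
    (by
      intro p q _
      ext g
      rfl)

/-- the key computation: `b` acting followed by the counit is evaluation at `b` -/
lemma smul_comp_counit (b : B) :
    ((Lr (A := A) (B := B)).mapHomologicalComplex (ComplexShape.up ℤ)).map (b • 𝟙 (RcC I)) ≫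
      Groth.Agent.H33.DerAdjU.counitC (adj0 (A := A) (B := B)) (ComplexShape.up ℤ) I =
    (iota I).hom ≫ Bidual.ev I (ModuleCat.of A B) b := by
  ext p g
  have key : ∀ g' : (Rc (A := A) (B := B)).obj (I.X p),
      toFn (I.X p) (show (Lr (A := A) (B := B)).obj (Rc.obj (I.X p)) from b • g') 1 =
        toFn (I.X p) (show (Lr (A := A) (B := B)).obj (Rc.obj (I.X p)) from g') b := by
    intro g'
    change toFn (I.X p) (show (Lr (A := A) (B := B)).obj (Rc.obj (I.X p)) from g') (1 * b) = _
    rw [one_mul]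
  exact key g

open Groth.Agent.H33.DerAdjU

lemma hKinjA (K : CochainComplex (ModuleCat.{u} A) ℤ) :
    ∃ (J : CochainComplex (ModuleCat.{u} A) ℤ) (f : K ⟶ J), J.IsKInjective ∧ QuasiIso f := by
  obtain ⟨J, f, hJ, hf, -, -⟩ := Groth.Agent.H33.KInj.exists_kInjective_resolution K
  exact ⟨J, f, hJ, hf⟩

instance : ((Rc (A := A) (B := B)).mapHomotopyCategory (ComplexShape.up ℤ) ⋙
    DerivedCategory.Qh).HasRightDerivedFunctor
    (HomotopyCategory.quasiIso (ModuleCat.{u} A) (ComplexShape.up ℤ)) :=
  Groth.Agent.H5.KInjDeriv.hasRightDerivedFunctor hKinjA _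

/-- the derived functor of coextension -/
noncomputable abbrev RRc : Dual.D A ⥤ Dual.D B := RR (Rc (A := A) (B := B))

/-- the derived adjunction `restrictD ⊣ R coext` -/
noncomputable def adj' : DRing.restrictD (algebraMap A B) ⊣ RRc (A := A) (B := B) :=
  derivedAdj (adj0 (A := A) (B := B)) hKinjA

/-- the quotient functor to the homotopy category -/
noncomputable abbrev Kq (A : Type u) [CommRing A] :=
  HomotopyCategory.quotient (ModuleCat.{u} A) (ComplexShape.up ℤ)

variable (I : DRing.Cx A) [I.IsKInjective]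

/-- `W = Qh (Kq I)` -/
noncomputable abbrev Wh : Dual.D A := Qh.obj ((Kq A).obj I)

/-- `Z = R coext (W)` -/
noncomputable abbrev Zh : Dual.D B := (RRc (A := A) (B := B)).obj (Wh I)

/-- `Y = Qh (Kq (Hom_A(B, I)))` -/
noncomputable abbrev Yh : Dual.D B := Qh.obj ((Kq B).obj (RcC (B := B) I))

/-- the unit `Y ⟶ Z` -/
noncomputable def uh : Yh (B := B) I ⟶ Zh I := (RRunit (Rc (A := A) (B := B))).app ((Kq A).obj I)

instance : IsIso (uh (B := B) I) :=
  Groth.Agent.H5.KInjDeriv.isIso_totalRightDerivedUnit_app hKinjA _ I inferInstance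

/-- the restriction of `Y` -/
noncomputable def fhIso : (DRing.restrictD (algebraMap A B)).obj (Yh (B := B) I) ≅
    Qh.obj ((Kq A).obj (((Lr (A := A) (B := B)).mapHomologicalComplex (ComplexShape.up ℤ)).obj
      (RcC (B := B) I))) :=
  (Lr (A := A) (B := B)).mapDerivedCategoryFactorsh.app ((Kq B).obj (RcC (B := B) I))

omit [I.IsKInjective] in
lemma counit_fac :
    (DRing.restrictD (algebraMap A B)).map (uh (B := B) I) ≫ (adj' (A := A) (B := B)).counit.app (Wh I) =
      (fhIso (B := B) I).hom ≫ Qh.map ((Kq A).map (counitC (adj0 (A := A) (B := B)) (ComplexShape.up ℤ) I)) := by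
  have h := derivedAdj_counit_fac (adj0 (A := A) (B := B)) hKinjA ((Kq A).obj I)
  rw [homotopyAdj_counit_app] at h
  exact h


omit [I.IsKInjective] in
lemma smul_id_Yh (b : B) :
    b • 𝟙 (Yh (B := B) I) = Qh.map ((Kq B).map (b • 𝟙 (RcC (B := B) I))) := by
  rw [Functor.map_smul, Functor.map_smul, CategoryTheory.Functor.map_id,
    CategoryTheory.Functor.map_id]

omit [I.IsKInjective] in
lemma restr_map_Qh (β : RcC (B := B) I ⟶ RcC (B := B) I) :
    (DRing.restrictD (algebraMap A B)).map (Qh.map ((Kq B).map β)) ≫ (fhIso (B := B) I).hom =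
      (fhIso (B := B) I).hom ≫ Qh.map ((Kq A).map
        (((Lr (A := A) (B := B)).mapHomologicalComplex (ComplexShape.up ℤ)).map β)) :=
  (Lr (A := A) (B := B)).mapDerivedCategoryFactorsh.hom.naturality ((Kq B).map β)

/-- the key formula -/
lemma psi_smul (b : B) :
    (fhIso (B := B) I).inv ≫ (DRing.restrictD (algebraMap A B)).map (uh (B := B) I) ≫
      (DRing.restrictD (algebraMap A B)).map (b • 𝟙 (Zh (B := B) I)) ≫
        (adj' (A := A) (B := B)).counit.app (Wh I) =
    Qh.map ((Kq A).map ((iota (B := B) I).hom ≫ Bidual.ev I (ModuleCat.of A B) b)) := by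
  have h1 : (DRing.restrictD (algebraMap A B)).map (uh (B := B) I) ≫
      (DRing.restrictD (algebraMap A B)).map (b • 𝟙 (Zh (B := B) I)) =
      (DRing.restrictD (algebraMap A B)).map (b • 𝟙 (Yh (B := B) I)) ≫
        (DRing.restrictD (algebraMap A B)).map (uh (B := B) I) := by
    rw [← Functor.map_comp, ← Functor.map_comp, Linear.comp_smul, Linear.smul_comp,
      Category.comp_id, Category.id_comp]
  rw [reassoc_of% h1, counit_fac, smul_id_Yh, reassoc_of% (restr_map_Qh I), Iso.inv_hom_id_assoc,
    ← Functor.map_comp, ← Functor.map_comp, smul_comp_counit]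


section Generic

variable {R : Type u} [CommRing R]

lemma subsingleton_hom_of_iso {X X' Y Y' : Dual.D R} (e : X ≅ X') (e' : Y ≅ Y')
    (h : Subsingleton (X ⟶ Y)) : Subsingleton (X' ⟶ Y') :=
  ⟨fun x y => by
    have := h.elim (e.hom ≫ x ≫ e'.inv) (e.hom ≫ y ≫ e'.inv)
    simpa using this⟩

lemma conj_bijective {X X' Y Y' : Dual.D R} (e : X ≅ X') (e' : Y ≅ Y') :
    Function.Bijective (fun f : X ⟶ Y => e.inv ≫ f ≫ e'.hom) := by
  constructor
  · intro f g h
    simpa using h
  · intro g
    exact ⟨e.hom ≫ g ≫ e'.inv, by simp⟩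

lemma toEnd_bijective_of_iso {X Y : Dual.D R} (e : X ≅ Y)
    (h : Function.Bijective (fun b : R => b • 𝟙 X)) :
    Function.Bijective (fun b : R => b • 𝟙 Y) := by
  have h1 : (fun b : R => b • 𝟙 Y) = (fun f : X ⟶ X => e.inv ≫ f ≫ e.hom) ∘
      (fun b : R => b • 𝟙 X) := by
    funext b
    simp [Linear.comp_smul, Linear.smul_comp]
  rw [h1]
  exact (conj_bijective e e).comp h

end Generic

variable (I : DRing.Cx A) [I.IsKInjective]

/-- the comparison `Qh (Kq X) ≅ Q X` -/
noncomputable abbrev qc (R : Type u) [CommRing R] (X : DRing.Cx R) :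
    Qh.obj ((Kq R).obj X) ≅ Q.obj X :=
  (DerivedCategory.quotientCompQhIso (ModuleCat.{u} R)).app X

/-- `restrictD Z ≅ Q (Ec I B)` -/
noncomputable def restrZhIso : (DRing.restrictD (algebraMap A B)).obj (Zh (B := B) I) ≅
    Q.obj (Bidual.Ec I (ModuleCat.of A B)) :=
  (DRing.restrictD (algebraMap A B)).mapIso (asIso (uh (B := B) I)).symm ≪≫ fhIso (B := B) I ≪≫
    qc A _ ≪≫ Q.mapIso (iota (B := B) I)

theorem subsingleton_Zh (m : ℤ)
    (h : Subsingleton ((Q.obj (Bidual.Ec I (ModuleCat.of A B)))⟦m⟧ ⟶ Q.obj I)) :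
    Subsingleton ((Zh (B := B) I)⟦m⟧ ⟶ Zh (B := B) I) := by
  let e1 : (DRing.restrictD (algebraMap A B)).obj ((Zh (B := B) I)⟦m⟧) ≅
      (Q.obj (Bidual.Ec I (ModuleCat.of A B)))⟦m⟧ :=
    ((DRing.restrictD (algebraMap A B)).commShiftIso m).app _ ≪≫
      (shiftFunctor (Dual.D A) m).mapIso (restrZhIso (B := B) I)
  have h2 : Subsingleton ((DRing.restrictD (algebraMap A B)).obj ((Zh (B := B) I)⟦m⟧) ⟶ Wh I) :=
    subsingleton_hom_of_iso e1.symm (qc A I).symm h
  exact ((adj' (A := A) (B := B)).homEquiv _ _).symm.subsingleton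

theorem toEnd_bijective_Zh (h : Function.Bijective (Bidual.eta I (ModuleCat.of A B))) :
    Function.Bijective (fun b : B => b • 𝟙 (Zh (B := B) I)) := by
  let Ψ : (Zh (B := B) I ⟶ Zh (B := B) I) → (Qh.obj ((Kq A).obj
      (((Lr (A := A) (B := B)).mapHomologicalComplex (ComplexShape.up ℤ)).obj
      (RcC (B := B) I))) ⟶ Wh I) := fun g =>
    (fhIso (B := B) I).inv ≫ (DRing.restrictD (algebraMap A B)).map (uh (B := B) I) ≫
      (DRing.restrictD (algebraMap A B)).map g ≫ (adj' (A := A) (B := B)).counit.app (Wh I)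
  have hΨ : Function.Bijective Ψ := by
    have h1 : Ψ = (fun f => ((fhIso (B := B) I).inv ≫
        (DRing.restrictD (algebraMap A B)).map (uh (B := B) I)) ≫ f) ∘
        ((adj' (A := A) (B := B)).homEquiv (Zh (B := B) I) (Wh I)).symm := by
      funext g
      simp only [Ψ, Function.comp, Adjunction.homEquiv_counit, Category.assoc]
    rw [h1]
    refine Function.Bijective.comp ?_ (Equiv.bijective _)
    have : IsIso ((fhIso (B := B) I).inv ≫
        (DRing.restrictD (algebraMap A B)).map (uh (B := B) I)) := inferInstance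
    constructor
    · intro f g hfg
      exact (cancel_epi _).1 hfg
    · intro f
      exact ⟨inv ((fhIso (B := B) I).inv ≫
        (DRing.restrictD (algebraMap A B)).map (uh (B := B) I)) ≫ f, by simp⟩
  let Φ : (Q.obj (Bidual.Ec I (ModuleCat.of A B)) ⟶ Q.obj I) → (Qh.obj ((Kq A).obj
      (((Lr (A := A) (B := B)).mapHomologicalComplex (ComplexShape.up ℤ)).obj
      (RcC (B := B) I))) ⟶ Wh I) := fun f =>
    (qc A _ ≪≫ Q.mapIso (iota (B := B) I)).hom ≫ f ≫ (qc A I).inv
  have hΦ : Function.Bijective Φ :=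
    conj_bijective (qc A _ ≪≫ Q.mapIso (iota (B := B) I)).symm (qc A I).symm
  have key : Ψ ∘ (fun b : B => b • 𝟙 (Zh (B := B) I)) = Φ ∘ Bidual.eta I (ModuleCat.of A B) := by
    funext b
    change Ψ (b • 𝟙 _) = Φ (Bidual.eta I _ b)
    simp only [Ψ, Φ]
    rw [psi_smul, Bidual.eta_apply, Functor.map_comp, Functor.map_comp]
    have n1 := (DerivedCategory.quotientCompQhIso (ModuleCat.{u} A)).hom.naturality
      (Bidual.ev I (ModuleCat.of A B) b)
    have n2 := (DerivedCategory.quotientCompQhIso (ModuleCat.{u} A)).hom.naturality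
      (iota (B := B) I).hom
    simp only [Functor.comp_map] at n1 n2
    simp only [Iso.trans_hom, Functor.mapIso_hom, Iso.app_hom, Iso.app_inv, Category.assoc]
    rw [← reassoc_of% n2, ← reassoc_of% n1, Iso.hom_inv_id_app]
    erw [Category.comp_id]
  exact (Function.Bijective.of_comp_iff' hΨ _).1 (by rw [key]; exact hΦ.comp h)


section General

variable (R : Dual.D A ⥤ Dual.D B) (adj : DRing.restrictD (algebraMap A B) ⊣ R)

/-- `R (Q I) ≅ Z` -/
noncomputable def RIso : R.obj (Q.obj I) ≅ Zh (B := B) I :=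
  (adj.rightAdjointUniq (adj' (A := A) (B := B))).app (Q.obj I) ≪≫
    (RRc (A := A) (B := B)).mapIso (qc A I).symm

include adj in
theorem subsingleton_R (m : ℤ)
    (h : Subsingleton ((Q.obj (Bidual.Ec I (ModuleCat.of A B)))⟦m⟧ ⟶ Q.obj I)) :
    Subsingleton ((R.obj (Q.obj I))⟦m⟧ ⟶ R.obj (Q.obj I)) :=
  subsingleton_hom_of_iso ((shiftFunctor (Dual.D B) m).mapIso (RIso I R adj).symm)
    (RIso I R adj).symm (subsingleton_Zh I m h)

include adj in
theorem toEnd_bijective_R (h : Function.Bijective (Bidual.eta I (ModuleCat.of A B))) :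
    Function.Bijective (fun b : B => b • 𝟙 (R.obj (Q.obj I))) :=
  toEnd_bijective_of_iso (RIso I R adj).symm (toEnd_bijective_Zh I h)

end General

end Groth.Agent.H28.CoextModel
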