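import Mathlib
import Groth.Agent.H28.CoextModel
import Groth.Agent.H35.InjAmp

/-!
# Dualizing complexes and finite ring maps (helper28)

`R(ω)` is dualizing over `B` for `A → B` finite, `ω` dualizing over `A`, `R` right adjoint of
restriction of scalars.
-/

set_option autoImplicit false
universe u
open CategoryTheory Pretriangulated Limits DerivedCategory Opposite

namespace Groth.Agent.H28.DualFinite

attribute [local instance] HasDerivedCategory.standard

section Shift

variable {R : Type u} [CommRing R]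

/-- `Hom(X[n], Y) = 0` from `Hom(X, Y[m]) = 0`, `n + m = 0` -/
lemma subsingleton_shift_left {X Y : Dual.D R} (n m : ℤ) (h : n + m = 0)
    (hs : Subsingleton (X ⟶ Y⟦m⟧)) : Subsingleton (X⟦n⟧ ⟶ Y) := by
  refine ⟨fun f g => ?_⟩
  let e : X ≅ X⟦n⟧⟦m⟧ := ((shiftFunctorCompIsoId (Dual.D R) n m h).app X).symm
  have h1 := hs.elim (e.hom ≫ f⟦m⟧') (e.hom ≫ g⟦m⟧')
  exact (shiftFunctor (Dual.D R) m).map_injective ((cancel_epi e.hom).1 h1)

/-- `Hom(X, Y[m]) = 0` from `Hom(X[n], Y) = 0`, `n + m = 0` -/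
lemma subsingleton_shift_right {X Y : Dual.D R} (n m : ℤ) (h : n + m = 0)
    (hs : Subsingleton (X⟦n⟧ ⟶ Y)) : Subsingleton (X ⟶ Y⟦m⟧) := by
  refine ⟨fun f g => ?_⟩
  let e : Y⟦m⟧⟦n⟧ ≅ Y := (shiftFunctorCompIsoId (Dual.D R) m n (by omega)).app Y
  have h1 := hs.elim (f⟦n⟧' ≫ e.hom) (g⟦n⟧' ≫ e.hom)
  exact (shiftFunctor (Dual.D R) n).map_injective ((cancel_mono e.hom).1 h1)

end Shift

variable {A B : Type u} [CommRing A] [CommRing B] [Algebra A B]

/-- `Hom_{D(B)}(M[0], (R K)[i]) = 0` from `Hom_{D(A)}(M|_A[0], K[i]) = 0` -/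
lemma subsingleton_hom_rightAdjoint (R : Dual.D A ⥤ Dual.D B)
    (adj : DRing.restrictD (algebraMap A B) ⊣ R) (K : Dual.D A) (M : ModuleCat.{u} B) (i : ℤ)
    (h : Subsingleton ((DerivedCategory.singleFunctor (ModuleCat.{u} A) 0).obj
      ((ModuleCat.restrictScalars (algebraMap A B)).obj M) ⟶ K⟦i⟧)) :
    Subsingleton ((DerivedCategory.singleFunctor (ModuleCat.{u} B) 0).obj M ⟶ (R.obj K)⟦i⟧) := by
  apply subsingleton_shift_right (-i) i (by omega)
  have h1 := subsingleton_shift_left (-i) i (by omega) h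
  let e : (DRing.restrictD (algebraMap A B)).obj
      (((DerivedCategory.singleFunctor (ModuleCat.{u} B) 0).obj M)⟦-i⟧) ≅
      ((DerivedCategory.singleFunctor (ModuleCat.{u} A) 0).obj
        ((ModuleCat.restrictScalars (algebraMap A B)).obj M))⟦-i⟧ :=
    ((DRing.restrictD (algebraMap A B)).commShiftIso (-i)).app _ ≪≫
      (shiftFunctor (Dual.D A) (-i)).mapIso
        (((ModuleCat.restrictScalars.{u} (algebraMap A B)).mapDerivedCategorySingleFunctor 0).app M)
  have h2 := CoextModel.subsingleton_hom_of_iso e.symm (Iso.refl K) h1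
  exact (adj.homEquiv _ _).symm.subsingleton

/-- S1772 -/
theorem isDualizing_rightAdjoint [IsNoetherianRing A] [IsNoetherianRing B] [Module.Finite A B]
    (R : Dual.D A ⥤ Dual.D B) (adj : DRing.restrictD (algebraMap A B) ⊣ R) (ω : Dual.D A)
    (hω : Dual.IsDualizing A ω) : Dual.IsDualizing B (R.obj ω) := by
  obtain ⟨a, b, hab⟩ := hω.finite_injective_dimension
  have hamp : DRing.HasInjAmplitudeIn A a b ω :=
    Groth.Agent.H35.hasInjAmplitudeIn_of_ext_vanishing ω a b (fun J i hi => hab (A ⧸ J) i hi)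
  obtain ⟨I, hI, hinj, ⟨e⟩⟩ := hamp
  have hKI : I.IsKInjective :=
    Groth.Agent.H35.isKInjective_of_vanishesBelow A I a (fun j hj => hI j (Or.inl hj)) hinj
  have hIs : I.IsStrictlyGE a := by
    rw [CochainComplex.isStrictlyGE_iff]
    exact fun j hj => hI j (Or.inl hj)
  have hωGE : ω.IsGE a := TStructure.t.isGE_of_iso e a
  have htoEnd : Function.Bijective (fun x : A => x • 𝟙 (Q.obj I)) :=
    CoextModel.toEnd_bijective_of_iso e.symm hω.toEnd_bijective
  have hext : ∀ n : ℤ, n ≠ 0 → Subsingleton ((Q.obj I)⟦n⟧ ⟶ Q.obj I) := by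
    intro n hn
    have h1 := hω.ext_self_subsingleton (-n) (by omega)
    have h2 := subsingleton_shift_left n (-n) (by omega) h1
    exact CoextModel.subsingleton_hom_of_iso ((shiftFunctor (Dual.D A) n).mapIso e.symm) e.symm h2
  have hP : Bidual.P I (ModuleCat.of A B) :=
    Bidual.P_of_finite I a b hI hinj htoEnd hext (ModuleCat.of A B)
  let eR : R.obj (Q.obj I) ≅ R.obj ω := R.mapIso e
  refine ⟨inferInstance, ⟨a, b, fun M _ _ i hi => ?_⟩, ?_, ?_, ?_⟩
  · exact subsingleton_hom_rightAdjoint R adj ω (ModuleCat.of B M) i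
      (hab ((ModuleCat.restrictScalars (algebraMap A B)).obj (ModuleCat.of B M)) i hi)
  · intro i
    exact RestrAdj.finite_HD_rightAdjoint R adj ω a hω.finite_cohomology i
  · exact CoextModel.toEnd_bijective_of_iso eR (CoextModel.toEnd_bijective_R I R adj hP.2)
  · intro i hi
    have h1 := CoextModel.subsingleton_R I R adj (-i) (hP.1 (-i) (by omega))
    have h2 := subsingleton_shift_right (-i) i (by omega) h1
    exact CoextModel.subsingleton_hom_of_iso eR ((shiftFunctor (Dual.D B) i).mapIso eR) h2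

end Groth.Agent.H28.DualFinite
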