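import Mathlib
import Groth.Agent.H28.DualFinite

/-!
# Objects of `D(k)`, `k` a field, with `k → End(X)` bijective are shifts of `k` (helper28)
-/

set_option autoImplicit false
universe u
open CategoryTheory Pretriangulated Limits DerivedCategory Opposite

namespace Groth.Agent.H28.DualField

attribute [local instance] HasDerivedCategory.standard

variable {k : Type u} [Field k]

/-- maps from `D^{≥ n+1}` to a module in degree `n` vanish over a field -/
lemma subsingleton_hom_single (V : ModuleCat.{u} k) (n m : ℤ) (h : n < m) (X : Dual.D k)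
    [X.IsGE m] : Subsingleton (X ⟶ (DerivedCategory.singleFunctor (ModuleCat.{u} k) n).obj V) := by
  let J : DRing.Cx k := (CochainComplex.singleFunctor (ModuleCat.{u} k) n).obj V
  have hJ : DRing.VanishesOutside J n n := by
    intro i hi
    exact HomologicalComplex.isZero_single_obj_X _ _ _ _ (by omega)
  have hinj : ∀ i : ℤ, Module.Injective k (J.X i) := fun i =>
    Module.injective_of_isSemisimpleRing k _
  exact ExtFinite.subsingleton_hom_of_injAmp J n n hJ hinj X m h

/-- the key lemma over a field -/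
theorem exists_iso_single (X : Dual.D k) (a b : ℤ) [X.IsGE a] [X.IsLE b]
    (htoEnd : Function.Bijective (fun c : k => c • 𝟙 X)) :
    ∃ n : ℤ, Nonempty (X ≅ (DerivedCategory.singleFunctor (ModuleCat.{u} k) n).obj
      (ModuleCat.of k k)) := by
  -- X is nonzero
  have hX : ¬ IsZero X := by
    intro hz
    have h1 : (fun c : k => c • 𝟙 X) 1 = (fun c : k => c • 𝟙 X) 0 := hz.eq_of_src _ _
    exact one_ne_zero (htoEnd.1 h1)
  -- the greatest n with X ∈ D^{≥ n}
  obtain ⟨n, hn, hmax⟩ := Int.exists_greatest_of_bdd (P := fun z => X.IsGE z)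
    ⟨b, fun z hz => by
      by_contra hlt
      push Not at hlt
      have : X.IsGE z := hz
      exact hX (TStructure.t.isZero X b z hlt)⟩ ⟨a, inferInstance⟩
  have hn' : X.IsGE n := hn
  have hn1 : ¬ X.IsGE (n + 1) := fun h => by
    have := hmax (n + 1) h
    omega
  -- the lowest truncation
  let Y := (TStructure.t.truncLE n).obj X
  have hY0 : ¬ IsZero Y := fun h =>
    hn1 ((TStructure.t.isGE_iff_isZero_truncLE_obj n (n + 1) rfl X).2 h)
  have hYle : Y.IsLE n := inferInstance
  have hYge : Y.IsGE n := inferInstance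
  obtain ⟨V, ⟨e⟩⟩ := exists_iso_singleFunctor_obj_of_isGE_of_isLE Y n
  let T := (TStructure.t.triangleLEGE n (n + 1) rfl).obj X
  have hT : T ∈ distTriang (Dual.D k) := TStructure.t.triangleLEGE_distinguished n (n + 1) rfl X
  -- the retraction
  have h₃ : Subsingleton (T.obj₃⟦(-1 : ℤ)⟧ ⟶ Y) := by
    have h1 : (T.obj₃).IsGE (n + 1) := by
      change ((TStructure.t.truncGE (n + 1)).obj X).IsGE (n + 1)
      infer_instance
    have h2 : (T.obj₃⟦(-1 : ℤ)⟧).IsGE (n + 2) :=
      TStructure.t.isGE_shift T.obj₃ (n + 1) (-1) (n + 2) (by omega)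
    have h3 := subsingleton_hom_single V n (n + 2) (by omega) (T.obj₃⟦(-1 : ℤ)⟧)
    exact CoextModel.subsingleton_hom_of_iso (Iso.refl _) e.symm h3
  let ι : Y ⟶ X := T.mor₁
  obtain ⟨r, hr⟩ : ∃ r : X ⟶ Y, 𝟙 Y = ι ≫ r := Bidual.exists_fac_obj₁ Y T hT h₃ (𝟙 Y)
  -- `k` is a retract of `V`
  have hV : Nontrivial V := by
    by_contra hV
    rw [not_nontrivial_iff_subsingleton] at hV
    have h1 : IsZero V := ModuleCat.isZero_of_subsingleton V
    exact hY0 (IsZero.of_iso
      ((DerivedCategory.singleFunctor (ModuleCat.{u} k) n).map_isZero h1) e)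
  obtain ⟨v, hv⟩ := exists_ne (0 : V)
  let ιV : k →ₗ[k] V := LinearMap.toSpanSingleton k V v
  have hιV : LinearMap.ker ιV = ⊥ := by
    rw [LinearMap.ker_eq_bot]
    intro x y hxy
    have h1 : x • v = y • v := by simpa [ιV, LinearMap.toSpanSingleton_apply] using hxy
    exact smul_left_injective k hv h1
  obtain ⟨πV, hπV⟩ := ιV.exists_leftInverse_of_injective hιV
  let F := DerivedCategory.singleFunctor (ModuleCat.{u} k) n
  let s' : F.obj (ModuleCat.of k k) ⟶ X := F.map (ModuleCat.ofHom ιV) ≫ e.inv ≫ ι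
  let r' : X ⟶ F.obj (ModuleCat.of k k) := r ≫ e.hom ≫ F.map (ModuleCat.ofHom πV)
  have hsr : s' ≫ r' = 𝟙 _ := by
    have h1 : ι ≫ r = 𝟙 Y := hr.symm
    have h2 : (ModuleCat.ofHom ιV : ModuleCat.of k k ⟶ V) ≫ ModuleCat.ofHom πV = 𝟙 _ := by
      rw [← ModuleCat.ofHom_comp, hπV]
      rfl
    simp only [s', r', Category.assoc]
    rw [reassoc_of% h1, Iso.inv_hom_id_assoc, ← Functor.map_comp, h2,
      CategoryTheory.Functor.map_id]
  -- the idempotent
  obtain ⟨c, hc⟩ := htoEnd.2 (r' ≫ s')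
  have hc' : c • 𝟙 X = r' ≫ s' := hc
  have hidem : (r' ≫ s') ≫ (r' ≫ s') = r' ≫ s' := by
    rw [Category.assoc, reassoc_of% hsr]
  have hcc : c * c = c := by
    apply htoEnd.1
    change (c * c) • 𝟙 X = c • 𝟙 X
    rw [mul_smul, hc']
    have : c • (r' ≫ s') = (c • 𝟙 X) ≫ (r' ≫ s') := by
      rw [Linear.smul_comp, Category.id_comp]
    rw [this, hc', hidem]
  have hne : r' ≫ s' ≠ 0 := by
    intro h0
    have h1 : 𝟙 (F.obj (ModuleCat.of k k)) = 0 := by
      calc 𝟙 (F.obj (ModuleCat.of k k)) = (s' ≫ r') ≫ (s' ≫ r') := by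
            rw [hsr, Category.comp_id]
        _ = s' ≫ (r' ≫ s') ≫ r' := by simp only [Category.assoc]
        _ = 0 := by rw [h0, zero_comp, comp_zero]
    have h2 : F.map (𝟙 (ModuleCat.of k k)) = F.map 0 := by
      rw [CategoryTheory.Functor.map_id, Functor.map_zero]
      exact h1
    have h3 : 𝟙 (ModuleCat.of k k) = 0 := F.map_injective h2
    have h4 := congr($(h3).hom (1 : k))
    exact one_ne_zero h4
  have hc0 : c ≠ 0 := by
    intro h
    apply hne
    rw [← hc', h, zero_smul]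
  have hc1 : c = 1 := mul_right_cancel₀ hc0 (hcc.trans (one_mul c).symm)
  refine ⟨n, ⟨⟨r', s', ?_, hsr⟩⟩⟩
  rw [← hc', hc1, one_smul]

end Groth.Agent.H28.DualField
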