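import Mathlib

/-!
# Nakayama-type lemmas over all maximal ideals: surjectivity and split injectivity can be tested on
the fibres `R ⧸ m`
-/

set_option autoImplicit false

universe u v

open TensorProduct

namespace Groth.Agent.H28.PCohFibreAlg

variable {R : Type u} [CommRing R]

lemma one_tmul_eq_zero_iff (I : Ideal R) {M : Type v} [AddCommGroup M] [Module R M] (z : M) :
    ((1 : R ⧸ I) ⊗ₜ[R] z = 0) ↔ z ∈ I • (⊤ : Submodule R M) := by
  rw [← (TensorProduct.quotTensorEquivQuotSMul M I).map_eq_zero_iff,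
    TensorProduct.quotTensorEquivQuotSMul_mk_one_tmul, Submodule.Quotient.mk_eq_zero]

/-- global Nakayama -/
lemma eq_top_of_forall_maximal_sup_smul_eq_top {M : Type v} [AddCommGroup M] [Module R M]
    [Module.Finite R M] (N : Submodule R M)
    (h : ∀ m : Ideal R, m.IsMaximal → N ⊔ m • (⊤ : Submodule R M) = ⊤) : N = ⊤ := by
  by_contra hN
  have hann : Module.annihilator R (M ⧸ N) ≠ ⊤ := by
    intro htop
    apply hN
    rw [eq_top_iff]
    intro x _
    have h1 : (1 : R) ∈ Module.annihilator R (M ⧸ N) := by rw [htop]; trivial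
    have h2 := Module.mem_annihilator.mp h1 (Submodule.Quotient.mk x)
    rw [one_smul, Submodule.Quotient.mk_eq_zero] at h2
    exact h2
  obtain ⟨m, hm, hle⟩ := Ideal.exists_le_maximal _ hann
  have htop : (⊤ : Submodule R (M ⧸ N)) ≤ m • (⊤ : Submodule R (M ⧸ N)) := by
    intro q _
    obtain ⟨x, rfl⟩ := Submodule.Quotient.mk_surjective N q
    have hx : x ∈ N ⊔ m • (⊤ : Submodule R M) := by rw [h m hm]; trivial
    obtain ⟨n, hn, y, hy, rfl⟩ := Submodule.mem_sup.mp hx
    have h1 : (Submodule.Quotient.mk (n + y) : M ⧸ N) = N.mkQ y := by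
      rw [Submodule.Quotient.mk_add, (Submodule.Quotient.mk_eq_zero N).mpr hn, zero_add]
      rfl
    rw [h1]
    have h2 : N.mkQ y ∈ (m • (⊤ : Submodule R M)).map N.mkQ := Submodule.mem_map_of_mem hy
    rw [Submodule.map_smul''] at h2
    exact Submodule.smul_mono le_rfl le_top h2
  obtain ⟨r, hr1, hr2⟩ := Submodule.exists_sub_one_mem_and_smul_eq_zero_of_fg_of_le_smul m
    (⊤ : Submodule R (M ⧸ N)) Module.Finite.fg_top htop
  have hr : r ∈ m := hle (Module.mem_annihilator.mpr fun q => hr2 q trivial)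
  have h1 : (1 : R) ∈ m := by
    have := m.sub_mem hr hr1
    simpa using this
  exact hm.ne_top ((Ideal.eq_top_iff_one m).mpr h1)

/-- surjectivity can be tested on the fibres at maximal ideals -/
lemma surjective_of_forall_maximal_lTensor_surjective {N N' : Type v} [AddCommGroup N]
    [Module R N] [AddCommGroup N'] [Module R N'] [Module.Finite R N'] (l : N →ₗ[R] N')
    (h : ∀ m : Ideal R, m.IsMaximal → Function.Surjective (l.lTensor (R ⧸ m))) :
    Function.Surjective l := by
  rw [← LinearMap.range_eq_top]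
  apply eq_top_of_forall_maximal_sup_smul_eq_top
  intro m hm
  rw [eq_top_iff]
  intro y _
  obtain ⟨x, hx⟩ := h m hm ((1 : R ⧸ m) ⊗ₜ[R] y)
  obtain ⟨x', rfl⟩ := TensorProduct.mk_surjective R N (R ⧸ m) Ideal.Quotient.mk_surjective x
  have h1 : (1 : R ⧸ m) ⊗ₜ[R] (y - l x') = 0 := by
    rw [TensorProduct.tmul_sub, ← hx]
    simp
  rw [one_tmul_eq_zero_iff] at h1
  have : y = l x' + (y - l x') := by abel
  rw [this]
  exact Submodule.add_mem_sup ⟨x', rfl⟩ h1

/-- split injectivity can be tested on the fibres at maximal ideals -/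
lemma exists_retraction_of_forall_maximal_lTensor_injective {N N' : Type v} [AddCommGroup N]
    [Module R N] [AddCommGroup N'] [Module R N'] [Module.Finite R N] [Module.Projective R N']
    (l : N →ₗ[R] N')
    (h : ∀ m : Ideal R, m.IsMaximal → Function.Injective (l.lTensor (R ⧸ m))) :
    ∃ l' : N' →ₗ[R] N, l' ∘ₗ l = LinearMap.id := by
  -- the ideal of elements `r` such that `r • id` factors through `l`
  let J : Ideal R :=
    { carrier := {r | ∃ s : N' →ₗ[R] N, s ∘ₗ l = r • LinearMap.id}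
      add_mem' := by
        rintro a b ⟨s, hs⟩ ⟨t, ht⟩
        exact ⟨s + t, by rw [LinearMap.add_comp, hs, ht, add_smul]⟩
      zero_mem' := ⟨0, by simp⟩
      smul_mem' := by
        rintro c a ⟨s, hs⟩
        exact ⟨c • s, by rw [LinearMap.smul_comp, hs, smul_smul, smul_eq_mul]⟩ }
  suffices hJ : J = ⊤ by
    have h1 : (1 : R) ∈ J := by rw [hJ]; trivial
    obtain ⟨s, hs⟩ := h1
    exact ⟨s, by rw [hs, one_smul]⟩
  by_contra hJ
  obtain ⟨m, hm, hle⟩ := Ideal.exists_le_maximal J hJ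
  suffices ∃ r, r ∈ J ∧ r - 1 ∈ m by
    obtain ⟨r, hrJ, hr1⟩ := this
    have : (1 : R) ∈ m := by simpa using m.sub_mem (hle hrJ) hr1
    exact hm.ne_top ((Ideal.eq_top_iff_one m).mpr this)
  letI : Field (R ⧸ m) := Ideal.Quotient.field m
  -- retraction on the fibre
  have hker : LinearMap.ker (l.baseChange (R ⧸ m)) = ⊥ := by
    rw [LinearMap.ker_eq_bot]
    exact h m hm
  obtain ⟨sbar, hsbar⟩ := (l.baseChange (R ⧸ m)).exists_leftInverse_of_injective hker
  -- lift it
  obtain ⟨s, hs⟩ := Module.projective_lifting_property (TensorProduct.mk R (R ⧸ m) N 1)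
    ((sbar.restrictScalars R) ∘ₗ (TensorProduct.mk R (R ⧸ m) N' 1))
    (TensorProduct.mk_surjective R N (R ⧸ m) Ideal.Quotient.mk_surjective)
  set φ : Module.End R N := s ∘ₗ l with hφ
  have hψ : LinearMap.range (1 - φ : Module.End R N) ≤ m • ⊤ := by
    rintro _ ⟨n, rfl⟩
    rw [← one_tmul_eq_zero_iff]
    have h1 : (1 : R ⧸ m) ⊗ₜ[R] (s (l n)) = sbar ((1 : R ⧸ m) ⊗ₜ[R] l n) :=
      LinearMap.congr_fun hs (l n)
    have h2 : sbar ((1 : R ⧸ m) ⊗ₜ[R] l n) = (1 : R ⧸ m) ⊗ₜ[R] n :=
      LinearMap.congr_fun hsbar ((1 : R ⧸ m) ⊗ₜ[R] n)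
    have h3 : (1 - φ : Module.End R N) n = n - s (l n) := rfl
    rw [h3, TensorProduct.tmul_sub, h1, h2, sub_self]
  obtain ⟨p, hpm, -, hpc, hp0⟩ :=
    LinearMap.exists_monic_and_natDegree_eq_and_coeff_mem_pow_and_aeval_eq_zero R (1 - φ) m hψ
  -- substitute `X ↦ 1 - X`
  set P : Polynomial R := p.comp (1 - Polynomial.X) with hP
  have hP0 : Polynomial.aeval φ P = 0 := by
    rw [hP, Polynomial.aeval_comp]
    have : Polynomial.aeval φ (1 - Polynomial.X : Polynomial R) = 1 - φ := by simp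
    rw [this, hp0]
  have hPc : P.coeff 0 = p.eval 1 := by
    rw [Polynomial.coeff_zero_eq_eval_zero, hP, Polynomial.eval_comp]
    simp
  have hdiv : P.divX * Polynomial.X + Polynomial.C (p.eval 1) = P := by
    rw [← hPc]
    exact Polynomial.divX_mul_X_add P
  have h3 : Polynomial.aeval φ P.divX * φ + (p.eval 1) • (1 : Module.End R N) = 0 := by
    rw [← hP0]
    conv_rhs => rw [← hdiv]
    simp [Algebra.algebraMap_eq_smul_one]
  refine ⟨p.eval 1, ⟨(-Polynomial.aeval φ P.divX) ∘ₗ s, ?_⟩, ?_⟩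
  · have h4 : (-Polynomial.aeval φ P.divX) ∘ₗ s ∘ₗ l = -(Polynomial.aeval φ P.divX * φ) := by
      rw [hφ]
      ext x
      simp
    rw [LinearMap.comp_assoc, h4, neg_eq_iff_add_eq_zero]
    exact h3
  · have hsum : p.eval 1 = ∑ i ∈ Finset.range (p.natDegree + 1), p.coeff i := by
      rw [Polynomial.eval_eq_sum_range]
      simp
    rw [hsum, Finset.sum_range_succ, hpm.coeff_natDegree, add_sub_cancel_right]
    refine Ideal.sum_mem _ fun i hi => ?_
    have hi' : i < p.natDegree := Finset.mem_range.mp hi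
    exact Ideal.pow_le_self (by omega) (hpc i)

end Groth.Agent.H28.PCohFibreAlg
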