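import Groth.Agent.H28.PCohLocal
import Groth.Agent.H28.PCohFibreAlg

/-!
# The fibre criterion for perfect complexes, for a family of ring maps detecting surjectivity and
split injectivity (e.g. the quotients by all maximal ideals)
-/

set_option autoImplicit false

universe u

open CategoryTheory CategoryTheory.Limits

open scoped ZeroObject

namespace Groth.Agent.H28.PCohFibre

open Groth.Agent.H28 Groth.Agent.H28.PCohCore Groth.Agent.H28.PCohDer Groth.Agent.H28.PCohSum
  Groth.Agent.H28.PCohDev Groth.Agent.H28.PCohSES Groth.Agent.H28.PCohTri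
  Groth.Agent.H28.PCohRing DerivedCategory Groth.Agent.H35 Groth.Agent.H35.LT Groth.Agent.H35.KF
  Groth.Agent.H28.PCohLocal

attribute [local instance] HasDerivedCategory.standard

section Family

variable {R : Type u} [CommRing R] {ι : Type*} {B : ι → Type u} [∀ i, CommRing (B i)]
  (φ : ∀ i, R →+* B i)
  (HS : ∀ {N N' : ModuleCat.{u} R} [Module.Finite R N'] (g : N ⟶ N'),
    (∀ i, Function.Surjective ((ModuleCat.extendScalars.{u, u, u} (φ i)).map g).hom) →
      Function.Surjective g.hom)
  (HR : ∀ {N N' : ModuleCat.{u} R} [Module.Finite R N] [Module.Finite R N'] [Module.Free R N']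
    (g : N ⟶ N'),
    (∀ i, Function.Injective ((ModuleCat.extendScalars.{u, u, u} (φ i)).map g).hom) →
      ∃ r : N' ⟶ N, g ≫ r = 𝟙 N)

include HS in
/-- Nakayama in the top degree of a complex -/
lemma exactAt_top (E : CochainComplex (ModuleCat.{u} R) ℤ) (t : ℤ)
    (hz : IsZero (E.X (t + 1))) (hfin : Module.Finite R (E.X t))
    (h : ∀ i, ((extCx (φ i)).obj E).ExactAt t) : E.ExactAt t := by
  rw [HomologicalComplex.exactAt_iff' _ (t - 1) t (t + 1) (by simp) (by simp)]
  have hg : (E.sc' (t - 1) t (t + 1)).g = 0 := hz.eq_of_tgt _ _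
  rw [ShortComplex.exact_iff_epi _ hg]
  refine (ModuleCat.epi_iff_surjective _).mpr (HS (N' := E.X t) (E.d (t - 1) t) fun i => ?_)
  have h1 := h i
  rw [HomologicalComplex.exactAt_iff' _ (t - 1) t (t + 1) (by simp) (by simp)] at h1
  have hg' : (((extCx (φ i)).obj E).sc' (t - 1) t (t + 1)).g = 0 :=
    ((ModuleCat.extendScalars.{u, u, u} (φ i)).map_isZero hz).eq_of_tgt _ _
  rw [ShortComplex.exact_iff_epi _ hg'] at h1
  have h' : Epi ((ModuleCat.extendScalars.{u, u, u} (φ i)).map (E.d (t - 1) t)) := h1
  exact (ModuleCat.epi_iff_surjective _).mp h'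

variable [∀ i, DRing.HasLBaseChange (φ i)]

include HS in
/-- Nakayama's lemma for pseudo-coherent complexes -/
theorem isZero_homology_of_isZero_homology_fibres (Y : Dual.D R)
    (hpc : ∀ j : ℤ, IsNPC (finFree R) j Y) (b : ℤ)
    (h0 : ∀ (i : ι) (n : ℤ), b < n → IsZero ((DerivedCategory.homologyFunctor
      (ModuleCat.{u} (B i)) n).obj ((DRing.LBaseChange (φ i)).obj Y))) :
    ∀ n : ℤ, b < n → IsZero ((DerivedCategory.homologyFunctor (ModuleCat.{u} R) n).obj Y) := by
  obtain ⟨E₀, ⟨⟨c, hc⟩, -⟩, ⟨e₀⟩⟩ := id (hpc 0)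
  have hc' : ∀ i : ℤ, c < i → IsZero ((DerivedCategory.homologyFunctor (ModuleCat.{u} R) i).obj Y) :=
    fun i hi => IsZero.of_iso (isZero_homology_of_isZero_X E₀ i (hc i hi))
      ((DerivedCategory.homologyFunctor _ i).mapIso e₀.symm ≪≫ homologyQIso E₀ i)
  have key : ∀ (n : ℕ) (i : ℤ), c - n < i → b < i →
      IsZero ((DerivedCategory.homologyFunctor (ModuleCat.{u} R) i).obj Y) := by
    intro n
    induction n with
    | zero =>
      intro i hi _
      exact hc' i (by simpa using hi)
    | succ n ih =>
      intro t ht hbt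
      by_cases htn : c - n < t
      · exact ih t htn hbt
      · have hac : ∀ j : ℤ, t + 1 ≤ j →
            IsZero ((DerivedCategory.homologyFunctor (ModuleCat.{u} R) j).obj Y) := fun j hj =>
          ih j (by push_cast at ht; omega) (by omega)
        obtain ⟨E, hE, hz, ⟨e⟩⟩ := PCohTower.exists_strictPCAll_iso (hql_finFree R) (finFree_prod R)
          (hqs_finFree R) (t + 1) Y hpc hac
        have hEK : IsKFlat E := isKFlat_of_finFree E t (fun i hi => hz i (by omega))
          (fun i => finFree_le_finProj R _ (hE.2 i))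
        have h1 : ∀ i, ((extCx (φ i)).obj E).ExactAt t := by
          intro i
          rw [HomologicalComplex.exactAt_iff_isZero_homology]
          exact IsZero.of_iso (h0 i t hbt)
            ((homologyLBaseChangeIso (φ i) E hEK t).symm ≪≫
              (DerivedCategory.homologyFunctor _ t).mapIso
                ((DRing.LBaseChange (φ i)).mapIso e))
        have h2 : E.ExactAt t :=
          exactAt_top φ HS E t (hz (t + 1) le_rfl) (hE.2 t).1 h1
        rw [HomologicalComplex.exactAt_iff_isZero_homology] at h2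
        exact IsZero.of_iso h2
          ((DerivedCategory.homologyFunctor _ t).mapIso e.symm ≪≫ homologyQIso E t)
  intro i hi
  exact key (c - i + 1).toNat i (by omega) hi

include HS HR in
/-- the fibre criterion: a pseudo-coherent complex all of whose derived fibres are acyclic outside
`[a, b]` is represented by a complex of finite projective modules vanishing outside `[a, b]` -/
theorem exists_finProj_rep_of_fibres_vanishing (K : Dual.D R)
    (hpc : ∀ j : ℤ, IsNPC (finFree R) j K) (a b : ℤ)
    (h : ∀ (i : ι) (n : ℤ), (n < a ∨ b < n) → IsZero ((DerivedCategory.homologyFunctor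
      (ModuleCat.{u} (B i)) n).obj ((DRing.LBaseChange (φ i)).obj K))) :
    ∃ G : DRing.Cx R, DRing.VanishesOutside G a b ∧
      DRing.TermwiseFiniteProjective G ∧ Nonempty (DRing.toD G ≅ K) := by
  -- Step 1: a finite free representative vanishing above `b`
  have hac : ∀ j : ℤ, b + 1 ≤ j →
      IsZero ((DerivedCategory.homologyFunctor (ModuleCat.{u} R) j).obj K) := fun j hj =>
    isZero_homology_of_isZero_homology_fibres φ HS K hpc b
      (fun i n hn => h i n (Or.inr hn)) j (by omega)
  obtain ⟨E, hE, hz, ⟨e⟩⟩ := PCohTower.exists_strictPCAll_iso (hql_finFree R) (finFree_prod R)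
    (hqs_finFree R) (b + 1) K hpc hac
  have hEK : IsKFlat E := isKFlat_of_finFree E b (fun i hi => hz i (by omega))
    (fun i => finFree_le_finProj R _ (hE.2 i))
  -- Step 2: exactness of the fibres below `a`
  have hFE : ∀ (i : ι) (n : ℤ), n < a → ((extCx (φ i)).obj E).ExactAt n := by
    intro i n hn
    rw [HomologicalComplex.exactAt_iff_isZero_homology]
    exact IsZero.of_iso (h i n (Or.inl hn)) ((homologyLBaseChangeIso (φ i) E hEK n).symm ≪≫
      (DerivedCategory.homologyFunctor _ n).mapIso ((DRing.LBaseChange (φ i)).mapIso e))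
  -- Step 3: the retraction
  haveI : Module.Finite R (E.X (a - 1)) := (hE.2 (a - 1)).1
  haveI : Module.Finite R (E.opcycles (a - 1)) :=
    Module.Finite.of_surjective (E.pOpcycles (a - 1)).hom
      ((ModuleCat.epi_iff_surjective _).mp inferInstance)
  haveI : Module.Finite R (E.X a) := (hE.2 a).1
  haveI : Module.Free R (E.X a) := (hE.2 a).2
  obtain ⟨r, hr⟩ := HR (E.fromOpcycles (a - 1) a) (fun i =>
    injective_extendScalars_fromOpcycles (φ i) E (a - 2) (a - 1) a (by omega) (by omega)
      (hFE i (a - 1) (by omega)))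
  have hNproj : Module.Projective R (E.opcycles (a - 1)) :=
    Module.Projective.of_split (E.fromOpcycles (a - 1) a).hom r.hom
      (LinearMap.ext fun x => congrArg (fun f => f.hom x) hr)
  -- Step 4: the canonical truncation at `a - 1`
  have hGfin : ∀ i : ℤ, finProj R ((E.truncGE (a - 1)).X i) := by
    intro i
    by_cases h1 : i < a - 1
    · exact (finProj R).prop_of_isZero ((E.truncGE (a - 1)).isZero_of_isStrictlyGE (a - 1) i h1)
    · by_cases h3 : i = a - 1
      · subst h3
        exact (finProj R).prop_of_iso (E.truncGEXIsoOpcycles (a - 1)).symm ⟨inferInstance, hNproj⟩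
      · exact (finProj R).prop_of_iso (E.truncGEXIso (a - 1) i (by omega)).symm
          (finFree_le_finProj R _ (hE.2 i))
  have hGz : DRing.VanishesOutside (E.truncGE (a - 1)) (a - 1) (max b (a - 1)) := by
    intro i hi
    rcases hi with hi | hi
    · exact (E.truncGE (a - 1)).isZero_of_isStrictlyGE (a - 1) i hi
    · have h1 : b < i := lt_of_le_of_lt (le_max_left _ _) hi
      have h2 : a - 1 < i := lt_of_le_of_lt (le_max_right _ _) hi
      exact IsZero.of_iso (hz i (by omega)) (E.truncGEXIso (a - 1) i h2)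
  have hGK : IsKFlat (E.truncGE (a - 1)) := isKFlat_of_finFree _ (max b (a - 1))
    (fun i hi => hGz i (Or.inr hi)) hGfin
  -- Step 5: the triangle
  have hT := mapTriangle_mappingCone_distinguished (E.πTruncGE (a - 1))
  set T := Q.mapTriangle.obj (CochainComplex.mappingCone.triangle (E.πTruncGE (a - 1))) with hTdef
  have hmor : T.mor₁ = Q.map (E.πTruncGE (a - 1)) := rfl
  -- Step 6: the cone is pseudo-coherent
  have hZpc : ∀ j : ℤ, IsNPC (finFree R) j T.obj₃ := fun j =>
    isNPC_obj₃ _ (hql_finFree R) (finFree_prod R) (hqs_finFree R) T hT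
      (IsNPC.of_iso _ (hpc (j + 1)) e.symm)
      (PCohPerf.isNPC_of_finProj_rep R _ (max b (a - 1)) (fun i hi => hGz i (Or.inr hi)) hGfin j)
  -- Step 7: the cone is acyclic in degrees `≥ a - 1`
  have hqi : ∀ i : ℤ, a - 1 ≤ i →
      IsIso ((DerivedCategory.homologyFunctor (ModuleCat.{u} R) i).map T.mor₁) := by
    intro i hi
    have h1 : QuasiIsoAt (E.πTruncGE (a - 1)) i := E.quasiIsoAt_πTruncGE (a - 1) i hi
    rw [hmor]
    exact (isIso_homologyMap_iff _ i).mp ((quasiIsoAt_iff_isIso_homologyMap _ i).mp h1)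
  have hZac : ∀ i : ℤ, a - 1 ≤ i →
      IsZero ((DerivedCategory.homologyFunctor (ModuleCat.{u} R) i).obj T.obj₃) := by
    intro i hi
    have := hqi i hi
    have := hqi (i + 1) (by omega)
    exact (isZero_homology_obj₃_iff T hT i (i + 1) rfl).mpr ⟨inferInstance, inferInstance⟩
  -- Step 8: the derived fibres of the cone are acyclic
  have hLZ : ∀ (j : ι) (i : ℤ), IsZero ((DerivedCategory.homologyFunctor
      (ModuleCat.{u} (B j)) i).obj ((DRing.LBaseChange (φ j)).obj T.obj₃)) := by
    intro j i
    obtain ⟨T', hT', ⟨e₁⟩, ⟨e₂⟩, ⟨e₃⟩⟩ := LDerivTri.exists_distTriang (hyp R)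
      (ModuleCat.extendScalars.{u, u, u} (φ j)) (kfAcyclic_extendScalars (φ j)) _ hT
    by_cases hi : a - 1 ≤ i
    · exact isZero_homology_LBaseChange_of_acyclic (φ j) _ (a - 1) hZac i hi
    · refine IsZero.of_iso ?_ ((DerivedCategory.homologyFunctor _ i).mapIso e₃.symm)
      refine (isZero_homology_obj₃_iff T' hT' i (i + 1) rfl).mpr ⟨?_, ?_⟩
      · have hzX : IsZero (((extCx (φ j)).obj (E.truncGE (a - 1))).X i) :=
          (ModuleCat.extendScalars.{u, u, u} (φ j)).map_isZero (hGz i (Or.inl (by omega)))
        have hz2 : IsZero ((DerivedCategory.homologyFunctor _ i).obj T'.obj₂) :=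
          IsZero.of_iso (isZero_homology_of_isZero_X _ i hzX)
            ((DerivedCategory.homologyFunctor _ i).mapIso e₂ ≪≫
              homologyLBaseChangeIso (φ j) (E.truncGE (a - 1)) hGK i)
        exact hz2.epi _
      · have hz1 : IsZero ((DerivedCategory.homologyFunctor _ (i + 1)).obj T'.obj₁) :=
          IsZero.of_iso (h j (i + 1) (Or.inl (by omega)))
            ((DerivedCategory.homologyFunctor _ (i + 1)).mapIso
              (e₁ ≪≫ (DRing.LBaseChange (φ j)).mapIso e))
        exact hz1.mono _
  -- Step 9: the cone vanishes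
  have hZ0 : IsZero T.obj₃ :=
    isZero_of_forall_isZero_homology _ (fun i =>
      isZero_homology_of_isZero_homology_fibres φ HS T.obj₃ hZpc (i - 1)
        (fun j n _ => hLZ j n) i (by omega))
  have hiso : IsIso T.mor₁ := (T.isZero₃_iff_isIso₁ hT).mp hZ0
  -- Step 10: `E` is acyclic in degrees `< a`
  have hGE : E.IsGE a := by
    rw [CochainComplex.isGE_iff]
    intro n hn
    by_cases hn' : n = a - 1
    · subst hn'
      rw [HomologicalComplex.exactAt_iff_isZero_homology]
      have hmono : Mono (E.fromOpcycles (a - 1) a) := mono_of_mono_fac hr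
      exact KernelFork.IsLimit.isZero_of_mono (E.homologyIsKernel (a - 1) a (by simp))
    · rw [HomologicalComplex.exactAt_iff_isZero_homology]
      have hzn : IsZero ((DerivedCategory.homologyFunctor (ModuleCat.{u} R) n).obj T.obj₂) :=
        IsZero.of_iso (isZero_homology_of_isZero_X _ n (hGz n (Or.inl (by omega))))
          (homologyQIso _ n)
      exact IsZero.of_iso hzn ((homologyQIso E n).symm ≪≫
        (DerivedCategory.homologyFunctor _ n).mapIso (@asIso _ _ _ _ T.mor₁ hiso))
  -- Step 11: the canonical truncation at `a`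
  have hq : QuasiIso (E.πTruncGE a) := inferInstance
  have hQiso : IsIso (Q.map (E.πTruncGE a)) :=
    (DerivedCategory.isIso_Q_map_iff_quasiIso (φ := E.πTruncGE a)).2 hq
  -- the opcycles in degree `a` are a retract of `E^a`
  have hgp : E.fromOpcycles (a - 1) a ≫ E.pOpcycles a = 0 := by
    rw [← cancel_epi (E.pOpcycles (a - 1)), E.p_fromOpcycles_assoc, E.d_pOpcycles, comp_zero]
  have hde : E.d (a - 1) a ≫ (𝟙 (E.X a) - r ≫ E.fromOpcycles (a - 1) a) = 0 := by
    rw [← E.p_fromOpcycles (a - 1) a, Category.assoc, Preadditive.comp_sub, Category.comp_id,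
      ← Category.assoc (E.fromOpcycles (a - 1) a), hr, Category.id_comp, sub_self, comp_zero]
  let σ : E.opcycles a ⟶ E.X a :=
    E.descOpcycles (𝟙 (E.X a) - r ≫ E.fromOpcycles (a - 1) a) (a - 1) (by simp) hde
  have hσ : σ ≫ E.pOpcycles a = 𝟙 _ := by
    rw [← cancel_epi (E.pOpcycles a), E.p_descOpcycles_assoc, Preadditive.sub_comp,
      Category.id_comp, Category.assoc, hgp, comp_zero, sub_zero, Category.comp_id]
  have hCproj : Module.Projective R (E.opcycles a) := by
    have : Module.Projective R (E.X a) := Module.Projective.of_free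
    exact Module.Projective.of_split σ.hom (E.pOpcycles a).hom
      (LinearMap.ext fun x => congrArg (fun f => f.hom x) hσ)
  have : Module.Finite R (E.opcycles a) :=
    Module.Finite.of_surjective (E.pOpcycles a).hom
      ((ModuleCat.epi_iff_surjective _).mp inferInstance)
  refine ⟨E.truncGE a, ?_, ?_, ⟨(asIso (Q.map (E.πTruncGE a))).symm ≪≫ e⟩⟩
  · intro i hi
    by_cases h1 : i < a
    · exact (E.truncGE a).isZero_of_isStrictlyGE a i h1
    · have h2 : b < i := by omega
      by_cases h3 : i = a
      · subst h3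
        refine IsZero.of_iso ?_ (E.truncGEXIsoOpcycles i)
        have hepi : Epi (E.pOpcycles i) := inferInstance
        exact @IsZero.of_epi _ _ _ _ _ (E.pOpcycles i) hepi (hz i (by omega))
      · exact IsZero.of_iso (hz i (by omega)) (E.truncGEXIso a i (by omega))
  · intro i
    by_cases h1 : i < a
    · exact (finProj R).prop_of_isZero ((E.truncGE a).isZero_of_isStrictlyGE a i h1)
    · by_cases h3 : i = a
      · subst h3
        exact (finProj R).prop_of_iso (E.truncGEXIsoOpcycles i).symm ⟨inferInstance, hCproj⟩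
      · exact (finProj R).prop_of_iso (E.truncGEXIso a i (by omega)).symm
          (finFree_le_finProj R _ (hE.2 i))

end Family

section Maximal

variable {R : Type u} [CommRing R]

variable (R) in
/-- the canonical algebra structure on a quotient -/
abbrev quotAlg (m : Ideal R) : Algebra R (R ⧸ m) := inferInstance

lemma quotAlg_eq (m : Ideal R) : (Ideal.Quotient.mk m).toAlgebra = quotAlg R m :=
  Algebra.algebra_ext _ _ (fun _ => rfl)

lemma surjective_lTensor_transport (m : Ideal R) (alg : Algebra R (R ⧸ m))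
    (h : alg = quotAlg R m) {N N' : Type u} [AddCommGroup N] [Module R N] [AddCommGroup N']
    [Module R N'] (l : N →ₗ[R] N') :
    (letI := alg; Function.Surjective (l.lTensor (R ⧸ m))) →
      Function.Surjective (l.lTensor (R ⧸ m)) := by
  subst h
  exact id

lemma injective_lTensor_transport (m : Ideal R) (alg : Algebra R (R ⧸ m))
    (h : alg = quotAlg R m) {N N' : Type u} [AddCommGroup N] [Module R N] [AddCommGroup N']
    [Module R N'] (l : N →ₗ[R] N') :
    (letI := alg; Function.Injective (l.lTensor (R ⧸ m))) →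
      Function.Injective (l.lTensor (R ⧸ m)) := by
  subst h
  exact id

/-- the family of quotients by the maximal ideals -/
abbrev maxQuot (m : {m : Ideal R // m.IsMaximal}) : R →+* R ⧸ m.1 := Ideal.Quotient.mk m.1

lemma HS_maxQuot {N N' : ModuleCat.{u} R} [Module.Finite R N'] (g : N ⟶ N')
    (h : ∀ m : {m : Ideal R // m.IsMaximal}, Function.Surjective
      ((ModuleCat.extendScalars.{u, u, u} (maxQuot m)).map g).hom) :
    Function.Surjective g.hom :=
  PCohFibreAlg.surjective_of_forall_maximal_lTensor_surjective g.hom (fun m hm =>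
    surjective_lTensor_transport m (Ideal.Quotient.mk m).toAlgebra (quotAlg_eq m) g.hom
      (h ⟨m, hm⟩))

lemma HR_maxQuot {N N' : ModuleCat.{u} R} [Module.Finite R N] [Module.Finite R N']
    [Module.Free R N'] (g : N ⟶ N')
    (h : ∀ m : {m : Ideal R // m.IsMaximal}, Function.Injective
      ((ModuleCat.extendScalars.{u, u, u} (maxQuot m)).map g).hom) :
    ∃ r : N' ⟶ N, g ≫ r = 𝟙 N := by
  have : Module.Projective R N' := Module.Projective.of_free
  obtain ⟨l', hl'⟩ := PCohFibreAlg.exists_retraction_of_forall_maximal_lTensor_injective g.hom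
    (fun m hm => injective_lTensor_transport m (Ideal.Quotient.mk m).toAlgebra (quotAlg_eq m)
      g.hom (h ⟨m, hm⟩))
  exact ⟨ModuleCat.ofHom l', ModuleCat.hom_ext hl'⟩

/-- the fibre criterion over all maximal ideals -/
theorem exists_finProj_rep_of_maximal_fibres_vanishing
    [∀ m : Ideal R, DRing.HasLBaseChange (Ideal.Quotient.mk m)] (K : Dual.D R)
    (hpc : ∀ j : ℤ, IsNPC (finFree R) j K) (a b : ℤ)
    (h : ∀ (m : Ideal R), m.IsMaximal → ∀ n : ℤ, (n < a ∨ b < n) →
      IsZero ((DerivedCategory.homologyFunctor (ModuleCat.{u} (R ⧸ m)) n).obj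
        ((DRing.LBaseChange (Ideal.Quotient.mk m)).obj K))) :
    ∃ G : DRing.Cx R, DRing.VanishesOutside G a b ∧
      DRing.TermwiseFiniteProjective G ∧ Nonempty (DRing.toD G ≅ K) :=
  exists_finProj_rep_of_fibres_vanishing (ι := {m : Ideal R // m.IsMaximal})
    (B := fun m => R ⧸ m.1) maxQuot HS_maxQuot HR_maxQuot K hpc a b
    (fun m n hn => h m.1 m.2 n hn)

end Maximal

end Groth.Agent.H28.PCohFibre
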