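import Groth.Agent.H28.PCohTri
import Groth.Prelude.Def_DRing2

/-!
# Pseudo-coherence in `D(A)`: bridge between `DRing.IsPseudoCoherent` and the abstract theory
-/

set_option autoImplicit false

universe u

open CategoryTheory CategoryTheory.Limits

open scoped ZeroObject

namespace Groth.Agent.H28.PCohRing

open Groth.Agent.H28 Groth.Agent.H28.PCohCore Groth.Agent.H28.PCohDer Groth.Agent.H28.PCohSum
  Groth.Agent.H28.PCohDev Groth.Agent.H28.PCohSES Groth.Agent.H28.PCohTri DerivedCategory

attribute [local instance] HasDerivedCategory.standard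

variable (A : Type u) [CommRing A]

/-- finite free modules -/
def finFree : ObjectProperty (ModuleCat.{u} A) := fun M => Module.Finite A M ∧ Module.Free A M

/-- finite projective modules -/
def finProj : ObjectProperty (ModuleCat.{u} A) := fun M => Module.Finite A M ∧ Module.Projective A M

instance : (finFree A).IsClosedUnderIsomorphisms where
  of_iso e h := by
    have := h.1; have := h.2
    exact ⟨Module.Finite.equiv e.toLinearEquiv, Module.Free.of_equiv e.toLinearEquiv⟩

instance : (finProj A).IsClosedUnderIsomorphisms where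
  of_iso e h := by
    have := h.1; have := h.2
    exact ⟨Module.Finite.equiv e.toLinearEquiv, Module.Projective.of_equiv e.toLinearEquiv⟩

instance : (finFree A).ContainsZero where
  exists_zero := ⟨ModuleCat.of A PUnit, ModuleCat.isZero_of_subsingleton _,
    ⟨inferInstance, inferInstance⟩⟩

instance : (finProj A).ContainsZero where
  exists_zero := ⟨ModuleCat.of A PUnit, ModuleCat.isZero_of_subsingleton _,
    ⟨inferInstance, inferInstance⟩⟩

lemma finFree_le_finProj (M : ModuleCat.{u} A) (h : finFree A M) : finProj A M :=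
  have := h.2
  ⟨h.1, inferInstance⟩

lemma projective_of_finProj (M : ModuleCat.{u} A) (h : finProj A M) : Projective M := by
  have := h.2
  exact (IsProjective.iff_projective (R := A) M).mp inferInstance

lemma projective_of_finFree (M : ModuleCat.{u} A) (h : finFree A M) : Projective M :=
  projective_of_finProj A M (finFree_le_finProj A M h)

lemma finFree_prod (X Y : ModuleCat.{u} A) (hX : finFree A X) (hY : finFree A Y) :
    finFree A (X ⨯ Y) := by
  have := hX.1; have := hX.2; have := hY.1; have := hY.2
  refine (finFree A).prop_of_iso ((ModuleCat.biprodIsoProd X Y).symm ≪≫ biprod.isoProd X Y) ?_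
  exact ⟨inferInstanceAs (Module.Finite A (X × Y)), inferInstanceAs (Module.Free A (X × Y))⟩

lemma finProj_prod (X Y : ModuleCat.{u} A) (hX : finProj A X) (hY : finProj A Y) :
    finProj A (X ⨯ Y) := by
  have := hX.1; have := hX.2; have := hY.1; have := hY.2
  refine (finProj A).prop_of_iso ((ModuleCat.biprodIsoProd X Y).symm ≪≫ biprod.isoProd X Y) ?_
  exact ⟨inferInstanceAs (Module.Finite A (X × Y)),
    inferInstanceAs (Module.Projective A (X × Y))⟩

lemma hql_finFree : PCoh.IsQuasiLiftable (finFree A) :=
  isQuasiLiftable_of_projective _ (projective_of_finFree A)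

lemma hqs_finFree : PCoh.IsQuasiStableUnderKernels (finFree A) :=
  isQuasiStable_of_projective _ (projective_of_finFree A)

lemma hql_finProj : PCoh.IsQuasiLiftable (finProj A) :=
  isQuasiLiftable_of_projective _ (projective_of_finProj A)

lemma hqs_finProj : PCoh.IsQuasiStableUnderKernels (finProj A) :=
  isQuasiStable_of_projective _ (projective_of_finProj A)

/-- `DRing.IsPseudoCoherent` is the approximation form of `m`-pseudo-coherence relative to finite
free modules -/
lemma isPseudoCoherent_iff_approx (m : ℤ) (K : Dual.D A) :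
    DRing.IsPseudoCoherent A m K ↔ IsNPCApprox (finFree A) m K :=
  Iff.rfl

/-- the bridge -/
theorem isPseudoCoherent_iff_isNPC (m : ℤ) (K : Dual.D A) :
    DRing.IsPseudoCoherent A m K ↔ IsNPC (finFree A) m K :=
  (isNPC_iff_approx (finFree A) (hql_finFree A) (finFree_prod A) (hqs_finFree A) m K).symm

/-- a finite projective module placed in degree `0` is pseudo-coherent relative to finite free
modules -/
lemma isNPC_single_of_finProj (M : ModuleCat.{u} A) (hM : finProj A M) (k : ℤ) :
    IsNPC (finFree A) k ((DerivedCategory.singleFunctor (ModuleCat.{u} A) 0).obj M) := by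
  have := hM.1
  have hMproj := projective_of_finProj A M hM
  obtain ⟨n, f, hf⟩ := Module.Finite.exists_fin' A M
  let X : ModuleCat.{u} A := ModuleCat.of A (Fin n → A)
  have hX : finFree A X := ⟨inferInstanceAs (Module.Finite A (Fin n → A)),
    inferInstanceAs (Module.Free A (Fin n → A))⟩
  let g : X ⟶ M := ModuleCat.ofHom f
  have hg : Epi g := (ModuleCat.epi_iff_surjective g).mpr hf
  let S : ShortComplex (ModuleCat.{u} A) := ShortComplex.mk (kernel.ι g) g (kernel.condition g)
  have hS : S.ShortExact :=
    { exact := ShortComplex.exact_of_f_is_kernel _ (kernelIsKernel g)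
      mono_f := by dsimp [S]; infer_instance
      epi_g := hg }
  have : Projective S.X₃ := hMproj
  let σ := hS.splittingOfProjective
  let e : X ≅ kernel g ⊞ M := σ.isoBinaryBiproduct
  let e' : X ≅ M ⊞ kernel g := e ≪≫ biprod.braiding _ _
  have h1 : IsNPC (finFree A) k ((DerivedCategory.singleFunctor (ModuleCat.{u} A) 0).obj X) :=
    PCohCoh.isNPC_single_of_mem (finFree A) k X hX
  have h2 := IsNPC.of_iso (finFree A) h1
    ((DerivedCategory.singleFunctor (ModuleCat.{u} A) 0).mapIso e' ≪≫
      mapBiprodIso (DerivedCategory.singleFunctor (ModuleCat.{u} A) 0) M (kernel g) _ _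
        (Iso.refl _) (Iso.refl _))
  exact isNPC_left_of_biprod (finFree A) (hql_finFree A) (finFree_prod A) (hqs_finFree A) _ _ h2

/-- `m`-pseudo-coherence relative to finite projective modules is the same as relative to finite
free modules -/
lemma isNPC_finProj_iff (m : ℤ) (K : Dual.D A) :
    IsNPC (finProj A) m K ↔ IsNPC (finFree A) m K := by
  constructor
  · rintro ⟨E, ⟨⟨b, hb⟩, hP₁⟩, ⟨e⟩⟩
    exact IsNPC.of_iso _
      (isNPC_of_terms (finFree A) (hql_finFree A) (finFree_prod A) (hqs_finFree A) m E b hb
        (fun i hi => isNPC_single_of_finProj A (E.X i) (hP₁ i hi) (m - i))) e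
  · rintro ⟨E, ⟨hb, hP⟩, he⟩
    exact ⟨E, ⟨hb, fun i hi => finFree_le_finProj A _ (hP i hi)⟩, he⟩

/-- pseudo-coherent objects are represented by bounded above complexes of finite free modules -/
lemma isPseudoCoherent'_iff (K : Dual.D A) :
    DRing.IsPseudoCoherent' A K ↔ ∀ m : ℤ, IsNPC (finFree A) m K := by
  constructor
  · rintro ⟨E, b, hb, hE, he⟩ m
    exact ⟨E, ⟨⟨b, hb⟩, fun i _ => hE i⟩, he⟩
  · intro hK
    obtain ⟨E₀, ⟨⟨b, hb⟩, -⟩, ⟨e⟩⟩ := hK 0
    have hac : ∀ i : ℤ, b + 1 ≤ i →
        IsZero ((DerivedCategory.homologyFunctor (ModuleCat.{u} A) i).obj K) := by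
      intro i hi
      refine IsZero.of_iso ?_ ((DerivedCategory.homologyFunctor _ i).mapIso e.symm ≪≫
        homologyQIso E₀ i)
      exact isZero_homology_of_isZero_X E₀ i (hb i (by omega))
    obtain ⟨E, hE, hz, hiso⟩ := PCohTower.exists_strictPCAll_iso (hql_finFree A) (finFree_prod A)
      (hqs_finFree A) (b + 1) K hK hac
    exact ⟨E, b, fun i hi => hz i (by omega), hE.2, hiso⟩

end Groth.Agent.H28.PCohRing
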