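import Groth.Agent.H28.PCohDer3
import Mathlib.Algebra.Homology.HomologicalComplexBiprod

/-!
# Pseudo-coherence of direct summands
-/

set_option autoImplicit false

universe w v u

open CategoryTheory CategoryTheory.Limits CochainComplex HomComplex

open scoped ZeroObject

namespace Groth.Agent.H28.PCohSum

open Groth.Agent.H28 Groth.Agent.H28.PCohCore Groth.Agent.H28.PCohDer DerivedCategory

section Additive

variable {A B : Type*} [Category A] [Category B] [Preadditive A] [Preadditive B]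
  (G : A ⥤ B) [G.Additive]

/-- an additive functor maps biproducts to biproducts -/
noncomputable def mapBiprodIso (X Y : A) [HasBinaryBiproduct X Y] (X' Y' : B)
    [HasBinaryBiproduct X' Y'] (eX : G.obj X ≅ X') (eY : G.obj Y ≅ Y') :
    G.obj (X ⊞ Y) ≅ X' ⊞ Y' where
  hom := biprod.lift (G.map biprod.fst ≫ eX.hom) (G.map biprod.snd ≫ eY.hom)
  inv := biprod.desc (eX.inv ≫ G.map biprod.inl) (eY.inv ≫ G.map biprod.inr)
  hom_inv_id := by
    rw [biprod.lift_desc]
    simp only [Category.assoc, Iso.hom_inv_id_assoc]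
    rw [← G.map_comp, ← G.map_comp, ← G.map_add, biprod.total, G.map_id]
  inv_hom_id := by
    apply biprod.hom_ext <;> apply biprod.hom_ext' <;>
      simp [← G.map_comp_assoc]

lemma epi_map_biprodMap {X X' Y Y' : A} [HasBinaryBiproduct X Y] [HasBinaryBiproduct X' Y']
    (f : X ⟶ X') (g : Y ⟶ Y') (hf : Epi (G.map f)) (hg : Epi (G.map g)) :
    Epi (G.map (biprod.map f g)) := by
  apply Preadditive.epi_of_cancel_zero
  intro Z h hh
  have e1 : f ≫ biprod.inl = biprod.inl ≫ biprod.map f g := (biprod.inl_map f g).symm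
  have e2 : g ≫ biprod.inr = biprod.inr ≫ biprod.map f g := (biprod.inr_map f g).symm
  have h1 : G.map biprod.inl ≫ h = 0 := by
    rw [← cancel_epi (G.map f), comp_zero, ← G.map_comp_assoc, e1, G.map_comp,
      Category.assoc, hh, comp_zero]
  have h2 : G.map biprod.inr ≫ h = 0 := by
    rw [← cancel_epi (G.map g), comp_zero, ← G.map_comp_assoc, e2, G.map_comp,
      Category.assoc, hh, comp_zero]
  rw [← Category.id_comp h, ← G.map_id, ← biprod.total, G.map_add, G.map_comp, G.map_comp,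
    Preadditive.add_comp, Category.assoc, Category.assoc, h1, h2, comp_zero, comp_zero, add_zero]

lemma mono_map_biprodMap {X X' Y Y' : A} [HasBinaryBiproduct X Y] [HasBinaryBiproduct X' Y']
    (f : X ⟶ X') (g : Y ⟶ Y') (hf : Mono (G.map f)) (hg : Mono (G.map g)) :
    Mono (G.map (biprod.map f g)) := by
  apply Preadditive.mono_of_cancel_zero
  intro Z h hh
  have e1 : biprod.fst ≫ f = biprod.map f g ≫ biprod.fst := (biprod.map_fst f g).symm
  have e2 : biprod.snd ≫ g = biprod.map f g ≫ biprod.snd := (biprod.map_snd f g).symm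
  have h1 : h ≫ G.map biprod.fst = 0 := by
    rw [← cancel_mono (G.map f), zero_comp, Category.assoc, ← G.map_comp, e1,
      G.map_comp, reassoc_of% hh, zero_comp]
  have h2 : h ≫ G.map biprod.snd = 0 := by
    rw [← cancel_mono (G.map g), zero_comp, Category.assoc, ← G.map_comp, e2,
      G.map_comp, reassoc_of% hh, zero_comp]
  rw [← Category.comp_id h, ← G.map_id, ← biprod.total, G.map_add, G.map_comp, G.map_comp,
    Preadditive.comp_add, reassoc_of% h1, reassoc_of% h2, zero_comp, zero_comp, add_zero]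

end Additive

variable {C : Type u} [Category.{v} C] [Abelian C]

lemma isZero_biprod_of_isZero {X Y : C} (hX : IsZero X) (hY : IsZero Y) : IsZero (X ⊞ Y) := by
  rw [IsZero.iff_id_eq_zero]
  apply biprod.hom_ext
  · exact hX.eq_of_tgt _ _
  · exact hY.eq_of_tgt _ _

section

variable (P : ObjectProperty C) [P.IsClosedUnderIsomorphisms] [P.ContainsZero]
  (hql : PCoh.IsQuasiLiftable P) (hsum : ∀ X Y : C, P X → P Y → P (X ⨯ Y))
  (hqs : PCoh.IsQuasiStableUnderKernels P)

include hql hsum hqs in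
lemma finiteType_cone_left [HasDerivedCategory.{w} C] {n k m : ℤ} (hk : n ≤ k)
    {F₁ F₂ : CochainComplex C ℤ} (hF : IsNPC P n (Q.obj (F₁ ⊞ F₂)))
    {E₁ E₂ : CochainComplex C ℤ} (w₁ : E₁ ⟶ F₁) (w₂ : E₂ ⟶ F₂)
    (hb₁ : ∀ i : ℤ, m ≤ i → IsZero (E₁.X i)) (hP₁ : ∀ i : ℤ, P (E₁.X i))
    (hiso₁ : ∀ i : ℤ, k + 1 < i → IsIso (HomologicalComplex.homologyMap w₁ i))
    (hepi₁ : Epi (HomologicalComplex.homologyMap w₁ (k + 1)))
    (hb₂ : ∀ i : ℤ, m ≤ i → IsZero (E₂.X i)) (hP₂ : ∀ i : ℤ, P (E₂.X i))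
    (hiso₂ : ∀ i : ℤ, k + 1 < i → IsIso (HomologicalComplex.homologyMap w₂ i))
    (hepi₂ : Epi (HomologicalComplex.homologyMap w₂ (k + 1))) :
    PCoh.IsOfFiniteType P ((mappingCone w₁).homology k) := by
  have hE : PCoh.IsStrictPC P n (E₁ ⊞ E₂) := by
    refine ⟨⟨m, fun i hi => ?_⟩, fun i _ => ?_⟩
    · exact IsZero.of_iso (isZero_biprod_of_isZero (hb₁ i hi.le) (hb₂ i hi.le))
        (HomologicalComplex.biprodXIso E₁ E₂ i)
    · exact P.prop_of_iso (HomologicalComplex.biprodXIso E₁ E₂ i).symm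
        (StrictPerf.prop_biprod P hsum (hP₁ i) (hP₂ i))
  have hiso : ∀ i : ℤ, k + 1 < i →
      IsIso (HomologicalComplex.homologyMap (biprod.map w₁ w₂) i) := by
    intro i hi
    have := hiso₁ i hi
    have := hiso₂ i hi
    have := mono_map_biprodMap (HomologicalComplex.homologyFunctor C (ComplexShape.up ℤ) i)
      w₁ w₂ (show Mono (HomologicalComplex.homologyMap w₁ i) from inferInstance)
      (show Mono (HomologicalComplex.homologyMap w₂ i) from inferInstance)
    have := epi_map_biprodMap (HomologicalComplex.homologyFunctor C (ComplexShape.up ℤ) i)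
      w₁ w₂ (show Epi (HomologicalComplex.homologyMap w₁ i) from inferInstance)
      (show Epi (HomologicalComplex.homologyMap w₂ i) from inferInstance)
    exact isIso_of_mono_of_epi
      ((HomologicalComplex.homologyFunctor C (ComplexShape.up ℤ) i).map (biprod.map w₁ w₂))
  have hepi : Epi (HomologicalComplex.homologyMap (biprod.map w₁ w₂) (k + 1)) :=
    epi_map_biprodMap (HomologicalComplex.homologyFunctor C (ComplexShape.up ℤ) (k + 1))
      w₁ w₂ hepi₁ hepi₂
  have hft := finiteType_homology_cone_of_isNPC P hql hsum hqs hk hE hF (biprod.map w₁ w₂)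
    hiso hepi
  let ιc := mappingCone.map w₁ (biprod.map w₁ w₂) biprod.inl biprod.inl (by simp)
  let πc := mappingCone.map (biprod.map w₁ w₂) w₁ biprod.fst biprod.fst (by simp)
  have hιπ : ιc ≫ πc = 𝟙 _ := by
    dsimp only [ιc, πc]
    rw [← mappingCone.map_comp]
    simp only [biprod.inl_fst]
    exact mappingCone.map_id w₁
  have : Epi (HomologicalComplex.homologyMap πc k) := by
    have h : HomologicalComplex.homologyMap ιc k ≫ HomologicalComplex.homologyMap πc k = 𝟙 _ := by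
      rw [← HomologicalComplex.homologyMap_comp, hιπ, HomologicalComplex.homologyMap_id]
    exact epi_of_epi_fac h
  exact isOfFiniteType_of_epi P (HomologicalComplex.homologyMap πc k) hft

include hql hsum hqs in
lemma approxB_summands [HasDerivedCategory.{w} C] {n m : ℤ} (hnm : n ≤ m)
    (F₁ F₂ : CochainComplex C ℤ) (hF : IsNPC P n (Q.obj (F₁ ⊞ F₂)))
    (hz₁ : ∀ i : ℤ, m ≤ i → IsZero (F₁.homology i))
    (hz₂ : ∀ i : ℤ, m ≤ i → IsZero (F₂.homology i)) :
    ApproxB P F₁ n m ∧ ApproxB P F₂ n m := by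
  have hF' : IsNPC P n (Q.obj (F₂ ⊞ F₁)) :=
    IsNPC.of_iso P hF (Q.mapIso (biprod.braiding F₁ F₂))
  have key : ∀ k : ℤ, k ≤ m → n ≤ k → ApproxB P F₁ k m ∧ ApproxB P F₂ k m := by
    intro k hk
    induction k, hk using Int.leInductionDown with
    | base =>
      intro _
      exact ⟨approxB_of_isZero_homology P F₁ _ _ hz₁, approxB_of_isZero_homology P F₂ _ _ hz₂⟩
    | pred k hk ih =>
      intro hnk
      obtain ⟨h₁, h₂⟩ := ih (by omega)
      rw [show k = k - 1 + 1 by omega] at h₁ h₂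
      obtain ⟨E₁, w₁, hb₁, hP₁, -, hiso₁, hepi₁⟩ := id h₁
      obtain ⟨E₂, w₂, hb₂, hP₂, -, hiso₂, hepi₂⟩ := id h₂
      constructor
      · refine approxB_step P hql (by omega) h₁ ?_
        intro F' w hb hP hiso hepi
        exact finiteType_cone_left P hql hsum hqs hnk hF w w₂ hb hP hiso hepi hb₂ hP₂ hiso₂ hepi₂
      · refine approxB_step P hql (by omega) h₂ ?_
        intro F' w hb hP hiso hepi
        exact finiteType_cone_left P hql hsum hqs hnk hF' w w₁ hb hP hiso hepi hb₁ hP₁ hiso₁ hepi₁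
  exact key n hnm le_rfl

include hql hsum hqs in
lemma isNPC_obj₂ [HasDerivedCategory.{w} C] {n : ℤ}
    (T : Pretriangulated.Triangle (DerivedCategory C))
    (hT : T ∈ Pretriangulated.distinguishedTriangles)
    (h₁ : IsNPC P n T.obj₁) (h₃ : IsNPC P n T.obj₃) : IsNPC P n T.obj₂ :=
  isNPC_obj₃ P hql hsum hqs T.invRotate (Pretriangulated.inv_rot_of_distTriang T hT)
    (IsNPC.shift P h₃ (-1) (n + 1) (by omega)) h₁

include hql hsum hqs in
lemma isNPC_left_of_biprod [HasDerivedCategory.{w} C] {n : ℤ} (F' F'' : DerivedCategory C)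
    [HasBinaryBiproduct F' F''] (hF : IsNPC P n (F' ⊞ F'')) : IsNPC P n F' := by
  let F₁ := Q.objPreimage F'
  let φ₁ : Q.obj F₁ ≅ F' := Q.objObjPreimageIso F'
  let F₂ := Q.objPreimage F''
  let φ₂ : Q.obj F₂ ≅ F'' := Q.objObjPreimageIso F''
  let e : Q.obj (F₁ ⊞ F₂) ≅ F' ⊞ F'' := mapBiprodIso Q F₁ F₂ F' F'' φ₁ φ₂
  have hF₁₂ : IsNPC P n (Q.obj (F₁ ⊞ F₂)) := IsNPC.of_iso P hF e.symm
  obtain ⟨E, hE, ⟨eE⟩⟩ := hF
  obtain ⟨b, hb⟩ := hE.1
  have hz : ∀ i : ℤ, b < i → IsZero ((F₁ ⊞ F₂).homology i) := fun i hi =>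
    IsZero.of_iso (isZero_homology_of_isZero_X E i (hb i hi))
      (homologyIsoOfQIso (e ≪≫ eE.symm) i)
  have hz₁ : ∀ i : ℤ, max (b + 1) n ≤ i → IsZero (F₁.homology i) := by
    intro i hi
    rw [IsZero.iff_id_eq_zero, ← HomologicalComplex.homologyMap_id,
      ← biprod.inl_fst (X := F₁) (Y := F₂), HomologicalComplex.homologyMap_comp,
      (hz i (by omega)).eq_of_tgt (HomologicalComplex.homologyMap biprod.inl i) 0, zero_comp]
  have hz₂ : ∀ i : ℤ, max (b + 1) n ≤ i → IsZero (F₂.homology i) := by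
    intro i hi
    rw [IsZero.iff_id_eq_zero, ← HomologicalComplex.homologyMap_id,
      ← biprod.inr_snd (X := F₁) (Y := F₂), HomologicalComplex.homologyMap_comp,
      (hz i (by omega)).eq_of_tgt (HomologicalComplex.homologyMap biprod.inr i) 0, zero_comp]
  obtain ⟨⟨E₁, w₁, hb₁, hP₁, -, hiso₁, hepi₁⟩, -⟩ :=
    approxB_summands P hql hsum hqs (le_max_right (b + 1) n) F₁ F₂ hF₁₂ hz₁ hz₂
  obtain ⟨E', u', hE', hu'⟩ := exists_strictPC_of_nQuasiIso P n E₁ F₁
    ⟨⟨_, fun i hi => hb₁ i hi.le⟩, fun i _ => hP₁ i⟩ w₁ hiso₁ hepi₁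
  have := isIso_Q_map_of_quasiIso u' hu'
  exact ⟨E', hE', ⟨asIso (Q.map u') ≪≫ φ₁⟩⟩

end

end Groth.Agent.H28.PCohSum
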