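import Groth.Agent.H28.PCohRing
import Mathlib.Algebra.Module.FinitePresentation
import Mathlib.Algebra.Category.ModuleCat.Kernels

/-!
# Pseudo-coherent modules: finite generation, finite presentation, the Noetherian case
-/

set_option autoImplicit false

universe u

open CategoryTheory CategoryTheory.Limits

open scoped ZeroObject

namespace Groth.Agent.H28.PCohRing

open Groth.Agent.H28 Groth.Agent.H28.PCohCore Groth.Agent.H28.PCohDer Groth.Agent.H28.PCohSum
  Groth.Agent.H28.PCohDev Groth.Agent.H28.PCohSES Groth.Agent.H28.PCohTri DerivedCategory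

attribute [local instance] HasDerivedCategory.standard

variable (A : Type u) [CommRing A]

lemma isOfFiniteType_finFree_iff (M : ModuleCat.{u} A) :
    PCoh.IsOfFiniteType (finFree A) M ↔ Module.Finite A M := by
  constructor
  · rintro ⟨E, π, hE, hπ⟩
    have := hE.1
    exact Module.Finite.of_surjective π.hom ((ModuleCat.epi_iff_surjective π).mp hπ)
  · intro h
    obtain ⟨n, f, hf⟩ := Module.Finite.exists_fin' A M
    exact ⟨ModuleCat.of A (Fin n → A), ModuleCat.ofHom f,
      ⟨inferInstanceAs (Module.Finite A (Fin n → A)), inferInstanceAs (Module.Free A (Fin n → A))⟩,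
      (ModuleCat.epi_iff_surjective _).mpr hf⟩

/-- `M[0]` is `0`-pseudo-coherent iff `M` is finitely generated -/
lemma isNPC_zero_single_iff (M : ModuleCat.{u} A) :
    IsNPC (finFree A) 0 ((DerivedCategory.singleFunctor (ModuleCat.{u} A) 0).obj M) ↔
      Module.Finite A M := by
  rw [← isOfFiniteType_finFree_iff]
  exact ⟨isOfFiniteType_of_isNPC_single _ (hqs_finFree A) M,
    PCohCoh.isNPC_single_of_finiteType _ (hql_finFree A) M⟩

/-- `M[0]` is `(-1)`-pseudo-coherent iff `M` is finitely presented -/
lemma isNPC_negOne_single_iff (M : ModuleCat.{u} A) :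
    IsNPC (finFree A) (-1) ((DerivedCategory.singleFunctor (ModuleCat.{u} A) 0).obj M) ↔
      Module.FinitePresentation A M := by
  have hql := hql_finFree A
  have hqs := hqs_finFree A
  have hsum := finFree_prod A
  have key : ∀ (n : ℕ) (f : (Fin n → A) →ₗ[A] M), Function.Surjective f →
      (IsNPC (finFree A) (-1) ((DerivedCategory.singleFunctor (ModuleCat.{u} A) 0).obj M) ↔
        (LinearMap.ker f).FG) := by
    intro n f hf
    let X : ModuleCat.{u} A := ModuleCat.of A (Fin n → A)
    have hX : finFree A X := ⟨inferInstanceAs (Module.Finite A (Fin n → A)),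
      inferInstanceAs (Module.Free A (Fin n → A))⟩
    let g : X ⟶ M := ModuleCat.ofHom f
    have hg : Epi g := (ModuleCat.epi_iff_surjective g).mpr hf
    let S : ShortComplex (ModuleCat.{u} A) := ShortComplex.mk (kernel.ι g) g (kernel.condition g)
    have hS : S.ShortExact :=
      { exact := ShortComplex.exact_of_f_is_kernel _ (kernelIsKernel g)
        mono_f := by dsimp [S]; infer_instance
        epi_g := hg }
    have hker : Module.Finite A (kernel g : ModuleCat.{u} A) ↔ (LinearMap.ker f).FG := by
      rw [← Module.Finite.iff_fg]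
      exact ⟨fun h => Module.Finite.equiv (ModuleCat.kernelIsoKer g).toLinearEquiv,
        fun h => Module.Finite.equiv (ModuleCat.kernelIsoKer g).symm.toLinearEquiv⟩
    rw [← hker, ← isNPC_zero_single_iff]
    constructor
    · intro h
      exact isNPC_obj₁ _ hql hsum hqs hS.singleTriangle hS.singleTriangle_distinguished
        (PCohCoh.isNPC_single_of_mem _ 0 X hX) h
    · intro h
      exact isNPC_obj₃ _ hql hsum hqs hS.singleTriangle hS.singleTriangle_distinguished
        h (PCohCoh.isNPC_single_of_mem _ (-1) X hX)
  constructor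
  · intro h
    have h0 : Module.Finite A M := (isNPC_zero_single_iff A M).mp
      (PCohFun.isNPC_of_le _ (by omega) h)
    obtain ⟨n, f, hf⟩ := Module.Finite.exists_fin' A M
    exact (Module.FinitePresentation.fg_ker_iff f hf).mp ((key n f hf).mp h)
  · intro h
    obtain ⟨n, f, hf⟩ := Module.Finite.exists_fin' A M
    exact (key n f hf).mpr (Module.FinitePresentation.fg_ker f hf)

section Noetherian

variable [IsNoetherianRing A]

lemma hcoh_finFree_of_noetherian (X E : ModuleCat.{u} A) (u : E ⟶ X) (_ : finFree A X)
    (hE : finFree A E) : PCoh.IsOfFiniteType (finFree A) (kernel u) := by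
  rw [isOfFiniteType_finFree_iff]
  have := hE.1
  have : IsNoetherian A E := isNoetherian_of_isNoetherianRing_of_finite A E
  have : Module.Finite A (LinearMap.ker u.hom) := inferInstance
  exact Module.Finite.equiv (ModuleCat.kernelIsoKer u).symm.toLinearEquiv

lemma isCoh_iff_finite_of_noetherian (X : ModuleCat.{u} A) :
    PCohCoh.IsCoh (finFree A) X ↔ Module.Finite A X := by
  constructor
  · intro h
    exact (isOfFiniteType_finFree_iff A X).mp h.1
  · intro h
    refine ⟨(isOfFiniteType_finFree_iff A X).mpr h, fun E u hE => ?_⟩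
    rw [isOfFiniteType_finFree_iff]
    have := hE.1
    have : IsNoetherian A E := isNoetherian_of_isNoetherianRing_of_finite A E
    have : Module.Finite A (LinearMap.ker u.hom) := inferInstance
    exact Module.Finite.equiv (ModuleCat.kernelIsoKer u).symm.toLinearEquiv

/-- the Noetherian criterion -/
theorem isNPC_iff_of_noetherian (m : ℤ) (K : Dual.D A) :
    IsNPC (finFree A) m K ↔
      (∃ b : ℤ, ∀ i : ℤ, b < i →
        IsZero ((DerivedCategory.homologyFunctor (ModuleCat.{u} A) i).obj K)) ∧
      ∀ i : ℤ, m ≤ i →
        Module.Finite A ((DerivedCategory.homologyFunctor (ModuleCat.{u} A) i).obj K) := by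
  constructor
  · intro h
    have h' := PCohCoh.coh_homology_of_isNPC (finFree A) (hcoh_finFree_of_noetherian A)
      (hql_finFree A) (finFree_prod A) m K h
    obtain ⟨E, ⟨⟨b, hb⟩, -⟩, ⟨e⟩⟩ := h
    refine ⟨⟨b, fun i hi => ?_⟩, fun i hi => ?_⟩
    · exact IsZero.of_iso (isZero_homology_of_isZero_X E i (hb i hi))
        ((DerivedCategory.homologyFunctor _ i).mapIso e.symm ≪≫ homologyQIso E i)
    · rcases hi.eq_or_lt with rfl | hi'
      · exact (isOfFiniteType_finFree_iff A _).mp h'.1
      · exact (isCoh_iff_finite_of_noetherian A _).mp (h'.2 i hi')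
  · rintro ⟨⟨b, hb⟩, hfin⟩
    exact PCohCoh.isNPC_of_coh_homology (finFree A) (hcoh_finFree_of_noetherian A)
      (hql_finFree A) (finFree_prod A) m K b hb
      ((isOfFiniteType_finFree_iff A _).mpr (hfin m le_rfl))
      (fun i hi => (isCoh_iff_finite_of_noetherian A _).mpr (hfin i hi.le))

/-- over a Noetherian ring, finitely generated modules are pseudo-coherent -/
lemma isPC_single_of_finite_of_noetherian (M : ModuleCat.{u} A) (hM : Module.Finite A M) (m : ℤ) :
    IsNPC (finFree A) m ((DerivedCategory.singleFunctor (ModuleCat.{u} A) 0).obj M) := by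
  have := PCohCoh.isPC_single_of_isCoh (finFree A) (hcoh_finFree_of_noetherian A) (hql_finFree A)
    (finFree_prod A) (1 - m).toNat M ((isCoh_iff_finite_of_noetherian A M).mpr hM)
  exact PCohFun.isNPC_of_le _ (by omega) this

end Noetherian

end Groth.Agent.H28.PCohRing
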