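import Groth.Agent.H28.PCohDescent
import Groth.Agent.H28.PCohRing2
import Groth.Prelude.Def_DDual2

/-!
# Pseudo-coherence and restriction of scalars
-/

set_option autoImplicit false

universe u

open CategoryTheory CategoryTheory.Limits

open scoped ZeroObject

namespace Groth.Agent.H28.PCohRestrict

open Groth.Agent.H28 Groth.Agent.H28.PCohCore Groth.Agent.H28.PCohDer Groth.Agent.H28.PCohSum
  Groth.Agent.H28.PCohDev Groth.Agent.H28.PCohSES Groth.Agent.H28.PCohTri
  Groth.Agent.H28.PCohRing Groth.Agent.H28.PCohDescent DerivedCategory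

attribute [local instance] HasDerivedCategory.standard

section Biprod

variable {C : Type*} [Category C] [Abelian C] [HasDerivedCategory C]
  (P : ObjectProperty C) [P.IsClosedUnderIsomorphisms] [P.ContainsZero]
  (hql : PCoh.IsQuasiLiftable P) (hsum : ∀ X Y : C, P X → P Y → P (X ⨯ Y))
  (hqs : PCoh.IsQuasiStableUnderKernels P)

include hql hsum hqs in
lemma isNPC_biprod {n : ℤ} (X Y : DerivedCategory C) (hX : IsNPC P n X) (hY : IsNPC P n Y) :
    IsNPC P n (X ⊞ Y) :=
  isNPC_obj₂ P hql hsum hqs _ (Pretriangulated.binaryBiproductTriangle_distinguished X Y) hX hY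

end Biprod

section FinFree

variable {B : Type u} [CommRing B] {T : Type*} [Category T] [Preadditive T]
  [HasBinaryBiproducts T] (G : ModuleCat.{u} B ⥤ T) [G.Additive] (R : T → Prop)
  (hiso : ∀ X Y : T, (X ≅ Y) → R X → R Y) (h0 : ∀ X : T, IsZero X → R X)
  (hsum : ∀ X Y : T, R X → R Y → R (X ⊞ Y)) (hB : R (G.obj (ModuleCat.of B B)))

include hiso h0 hsum hB in
/-- a property of objects, stable under isomorphisms and finite direct sums, which holds for the
image of `B` under an additive functor holds for the image of any finite free module -/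
lemma prop_of_pi (ι : Type u) [Finite ι] : R (G.obj (ModuleCat.of B (ι → B))) := by
  induction ι using Finite.induction_empty_option with
  | of_equiv e h =>
    exact hiso _ _ (G.mapIso (LinearEquiv.funCongrLeft B B e.symm).toModuleIso) h
  | h_empty =>
    exact h0 _ (G.map_isZero (ModuleCat.isZero_of_subsingleton _))
  | h_option h =>
    rename_i α _
    have e1 : ModuleCat.of B (Option α → B) ≅ ModuleCat.of B B ⊞ ModuleCat.of B (α → B) :=
      (LinearEquiv.piOptionEquivProd B (M := fun _ => B)).toModuleIso ≪≫
        (ModuleCat.biprodIsoProd (ModuleCat.of B B) (ModuleCat.of B (α → B))).symm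
    exact hiso _ _ (G.mapIso e1 ≪≫ mapBiprodIso G _ _ _ _ (Iso.refl _) (Iso.refl _)).symm
      (hsum _ _ hB h)

include hiso h0 hsum hB in
lemma prop_of_finFree (E : ModuleCat.{u} B) (hE : finFree B E) : R (G.obj E) := by
  have := hE.1
  have := hE.2
  let ι := Module.Free.ChooseBasisIndex B E
  have : Finite ι := inferInstance
  have e : E ≅ ModuleCat.of B (ι → B) :=
    ((Module.Free.chooseBasis B E).equivFun).toModuleIso
  exact hiso _ _ (G.mapIso e.symm) (prop_of_pi G R hiso h0 hsum hB ι)

end FinFree

section Restrict

variable {A B : Type u} [CommRing A] [CommRing B] (φ : A →+* B)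

lemma isZero_of_isZero_restrict (M : ModuleCat.{u} B)
    (h : IsZero ((ModuleCat.restrictScalars φ).obj M)) : IsZero M := by
  have : Subsingleton ((ModuleCat.restrictScalars φ).obj M) := ModuleCat.subsingleton_of_isZero h
  have : Subsingleton M := this
  exact ModuleCat.isZero_of_subsingleton _

lemma finite_of_finite_restrict (M : ModuleCat.{u} B)
    (h : Module.Finite A ((ModuleCat.restrictScalars φ).obj M)) : Module.Finite B M := by
  obtain ⟨S, hS⟩ := h
  let S' : Finset M := S
  refine ⟨⟨S', ?_⟩⟩
  rw [eq_top_iff]
  intro x _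
  have key : ∀ y : (ModuleCat.restrictScalars φ).obj M,
      y ∈ Submodule.span A (S : Set ((ModuleCat.restrictScalars φ).obj M)) →
      (show M from y) ∈ Submodule.span B (S' : Set M) := by
    intro y hy
    induction hy using Submodule.span_induction with
    | mem y hy => exact Submodule.subset_span hy
    | zero => exact Submodule.zero_mem _
    | add y z _ _ hy hz => exact Submodule.add_mem _ hy hz
    | smul a y _ hy => exact Submodule.smul_mem _ (φ a) hy
  exact key x (by rw [hS]; trivial)

lemma isOfFiniteType_of_restrict (M : ModuleCat.{u} B)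
    (h : PCoh.IsOfFiniteType (finFree A) ((ModuleCat.restrictScalars φ).obj M)) :
    PCoh.IsOfFiniteType (finFree B) M := by
  rw [isOfFiniteType_finFree_iff] at h ⊢
  exact finite_of_finite_restrict φ M h

variable (hB : ∀ a : ℤ, IsNPC (finFree A) a ((DerivedCategory.singleFunctor (ModuleCat.{u} A) 0).obj
  ((ModuleCat.restrictScalars φ).obj (ModuleCat.of B B))))

include hB in
lemma isNPC_single_restrict_of_finFree (E : ModuleCat.{u} B) (hE : finFree B E) (a : ℤ) :
    IsNPC (finFree A) a ((DerivedCategory.singleFunctor (ModuleCat.{u} A) 0).obj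
      ((ModuleCat.restrictScalars φ).obj E)) :=
  prop_of_finFree (ModuleCat.restrictScalars φ ⋙ DerivedCategory.singleFunctor (ModuleCat.{u} A) 0)
    (fun X => IsNPC (finFree A) a X) (fun X Y e h => IsNPC.of_iso _ h e)
    (fun X hX => isNPC_of_isZero _ a X hX)
    (fun X Y hX hY => isNPC_biprod _ (hql_finFree A) (finFree_prod A) (hqs_finFree A) X Y hX hY)
    (hB a) E hE

include hB in
/-- if `B` is pseudo-coherent as an `A`-module, `m`-pseudo-coherence over `B` can be tested after
restriction of scalars to `A` -/
theorem isNPC_restrict_iff (m : ℤ) (K : Dual.D B) :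
    IsNPC (finFree B) m K ↔ IsNPC (finFree A) m ((DRing.restrictD φ).obj K) := by
  constructor
  · exact isNPC_mapDerived (ModuleCat.restrictScalars φ) (finFree B) (hql_finFree B)
      (finFree_prod B) (hqs_finFree B) (finFree A) (hql_finFree A) (finFree_prod A) (hqs_finFree A)
      (isNPC_single_restrict_of_finFree φ hB) m K
  · exact isNPC_of_isNPC_mapDerived (ModuleCat.restrictScalars φ) (finFree B) (hql_finFree B)
      (finFree_prod B) (hqs_finFree B) (finFree A) (hql_finFree A) (finFree_prod A) (hqs_finFree A)
      (isNPC_single_restrict_of_finFree φ hB) (isZero_of_isZero_restrict φ)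
      (isOfFiniteType_of_restrict φ) m K

end Restrict

section Algebra

variable (A B : Type u) [CommRing A] [CommRing B] [Algebra A B]

/-- `B` as an `A`-module through the algebra structure is the restriction of scalars of `B` -/
noncomputable def algebraRestrictIso : ModuleCat.of A B ≅
    (ModuleCat.restrictScalars (algebraMap A B)).obj (ModuleCat.of B B) := by
  let inst₂ : Module A B := Module.compHom B (algebraMap A B)
  let f : @LinearMap A A _ _ (RingHom.id A) B B _ _ Algebra.toModule inst₂ :=
    @LinearMap.mk A A _ _ (RingHom.id A) B B _ _ Algebra.toModule inst₂ ⟨fun b => b, fun _ _ => rfl⟩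
      (fun a b => Algebra.smul_def a b)
  let g : @LinearMap A A _ _ (RingHom.id A) B B _ _ inst₂ Algebra.toModule :=
    @LinearMap.mk A A _ _ (RingHom.id A) B B _ _ inst₂ Algebra.toModule ⟨fun b => b, fun _ _ => rfl⟩
      (fun a b => (Algebra.smul_def a b).symm)
  exact ⟨@ModuleCat.ofHom A _ B B _ Algebra.toModule _ inst₂ f,
    @ModuleCat.ofHom A _ B B _ inst₂ _ Algebra.toModule g, rfl, rfl⟩

/-- restriction of scalars along an algebra map for which `B` is a pseudo-coherent `A`-module -/
theorem isNPC_restrict_algebraMap_iff (hB : DRing.IsPseudoCoherentModule' A B) (m : ℤ)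
    (K : Dual.D B) :
    IsNPC (finFree B) m K ↔ IsNPC (finFree A) m ((DRing.restrictD (algebraMap A B)).obj K) :=
  isNPC_restrict_iff (algebraMap A B) (fun a => IsNPC.of_iso _
    ((isPseudoCoherent'_iff A _).mp hB a)
    ((DerivedCategory.singleFunctor (ModuleCat.{u} A) 0).mapIso (algebraRestrictIso A B))) m K

end Algebra

end Groth.Agent.H28.PCohRestrict
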