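import Mathlib
import Groth.Prelude.Def_Wider

/-!
# `A[0]` as a dualizing complex (helper28)

`A[0]` is a dualizing complex for the Noetherian ring `A` iff `A` has finite injective dimension
over itself.
-/

set_option autoImplicit false
universe u
open CategoryTheory CategoryTheory.Abelian

namespace Groth.Agent.H28.DualSelf

attribute [local instance] HasDerivedCategory.standard

variable (A : Type u) [CommRing A]

/-- Negative Ext's between modules vanish in `D(A)`. -/
theorem subsingleton_hom_shift_of_neg (M N : Type u) [AddCommGroup M] [Module A M]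
    [AddCommGroup N] [Module A N] (n : ℤ)
    (hn : n < 0) : Subsingleton (Dual.inD A N ⟶ (Dual.inD A M)⟦n⟧) := by
  refine ⟨fun x y => ?_⟩
  have : (DerivedCategory.TStructure.t).IsGE ((Dual.inD A M)⟦n⟧) (-n) :=
    (DerivedCategory.TStructure.t).isGE_shift (Dual.inD A M) 0 n (-n) (by omega)
  rw [(DerivedCategory.TStructure.t).zero x 0 (-n) (by omega),
    (DerivedCategory.TStructure.t).zero y 0 (-n) (by omega)]

/-- nonnegative shifted homs are Ext groups -/
theorem subsingleton_hom_shift_iff_ext (M N : ModuleCat.{u} A) (k : ℕ) :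
    Subsingleton ((DerivedCategory.singleFunctor (ModuleCat.{u} A) 0).obj N ⟶
      ((DerivedCategory.singleFunctor (ModuleCat.{u} A) 0).obj M)⟦(k : ℤ)⟧) ↔
      Subsingleton (Ext N M k) :=
  (Equiv.subsingleton_congr Ext.homEquiv).symm

/-- cohomology of a finite module in degree zero is finite -/
theorem finite_HD_inD (M : Type u) [AddCommGroup M] [Module A M] [Module.Finite A M] (i : ℤ) :
    Module.Finite A (Dual.HD A (Dual.inD A M) i) := by
  by_cases hi : i = 0
  · subst hi
    let e := (DerivedCategory.singleFunctorCompHomologyFunctorIso (ModuleCat.{u} A) 0).app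
      (ModuleCat.of A M)
    have hM : Module.Finite A ((𝟭 (ModuleCat.{u} A)).obj (ModuleCat.of A M)) :=
      (inferInstance : Module.Finite A M)
    exact Module.Finite.equiv e.toLinearEquiv.symm
  · have hz : Limits.IsZero ((DerivedCategory.homologyFunctor (ModuleCat.{u} A) i).obj
        (Dual.inD A M)) := by
      rcases lt_or_gt_of_ne hi with h | h
      · exact DerivedCategory.isZero_of_isGE _ 0 i h
      · exact DerivedCategory.isZero_of_isLE _ 0 i h
    have : Subsingleton (Dual.HD A (Dual.inD A M) i) := ModuleCat.subsingleton_of_isZero hz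
    infer_instance

/-- `A → End(A[0])` is bijective -/
theorem toEnd_bijective :
    Function.Bijective (fun a : A => a • (𝟙 (Dual.inD A A))) := by
  let F := DerivedCategory.singleFunctor (ModuleCat.{u} A) 0
  let X := ModuleCat.of A A
  have hF : Function.Bijective (F.map : (X ⟶ X) → (F.obj X ⟶ F.obj X)) :=
    ⟨F.map_injective, F.map_surjective⟩
  have h0 : Function.Bijective (fun a : A => a • (𝟙 X)) := by
    constructor
    · intro a b hab
      have h1 := congrArg (fun f : X ⟶ X => f.hom (1 : A)) hab
      simpa using h1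
    · intro f
      refine ⟨f.hom (1 : A), ?_⟩
      ext
      simp
  have hcomp : (fun a : A => a • (𝟙 (Dual.inD A A))) = F.map ∘ (fun a : A => a • (𝟙 X)) := by
    funext a
    change a • (𝟙 (F.obj X)) = F.map (a • 𝟙 X)
    rw [Functor.map_smul, F.map_id]
  rw [hcomp]
  exact hF.comp h0

/-- no self-maps of nonzero degree -/
theorem ext_self_subsingleton (i : ℤ) (hi : i ≠ 0) :
    Subsingleton (Dual.inD A A ⟶ (Dual.inD A A)⟦i⟧) := by
  rcases lt_or_gt_of_ne hi with h | h
  · exact subsingleton_hom_shift_of_neg A A A i h
  · obtain ⟨k, rfl⟩ : ∃ k : ℕ, i = ((k + 1 : ℕ) : ℤ) := ⟨(i - 1).toNat, by omega⟩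
    rw [show Dual.inD A A = (DerivedCategory.singleFunctor (ModuleCat.{u} A) 0).obj
      (ModuleCat.of A A) from rfl, subsingleton_hom_shift_iff_ext]
    have : Projective (ModuleCat.of A A) :=
      (IsProjective.iff_projective (ModuleCat.of A A)).1 (inferInstance : Module.Projective A A)
    exact HasProjectiveDimensionLT.subsingleton (ModuleCat.of A A) 1 (k + 1) (by omega) _

/-- finite injective dimension of `A` over itself makes `A[0]` dualizing -/
theorem isDualizing_self [IsNoetherianRing A] (n : ℕ)
    (h : HasInjectiveDimensionLT (ModuleCat.of A A) n) : Dual.IsDualizing A (Dual.inD A A) where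
  isNoetherianRing := inferInstance
  finite_injective_dimension := by
    refine ⟨0, (n : ℤ) - 1, fun M _ _ i hi => ?_⟩
    rcases hi with hi | hi
    · exact subsingleton_hom_shift_of_neg A A M i hi
    · obtain ⟨k, rfl⟩ : ∃ k : ℕ, i = (k : ℤ) := ⟨i.toNat, by omega⟩
      rw [show Dual.inD A A = (DerivedCategory.singleFunctor (ModuleCat.{u} A) 0).obj
        (ModuleCat.of A A) from rfl, show Dual.inD A M =
        (DerivedCategory.singleFunctor (ModuleCat.{u} A) 0).obj (ModuleCat.of A M) from rfl,
        subsingleton_hom_shift_iff_ext]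
      exact HasInjectiveDimensionLT.subsingleton (ModuleCat.of A A) n k (by omega) _
  finite_cohomology := fun i => finite_HD_inD A A i
  toEnd_bijective := toEnd_bijective A
  ext_self_subsingleton := ext_self_subsingleton A

/-- conversely -/
theorem exists_hasInjectiveDimensionLT (h : Dual.IsDualizing A (Dual.inD A A)) :
    ∃ n : ℕ, HasInjectiveDimensionLT (ModuleCat.of A A) n := by
  obtain ⟨a, b, hab⟩ := h.finite_injective_dimension
  refine ⟨(b + 1).toNat, ?_⟩
  rw [hasInjectiveDimensionLT_iff]
  intro i hi Y e
  have h1 : Subsingleton (Dual.inD A Y ⟶ (Dual.inD A A)⟦(i : ℤ)⟧) :=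
    hab Y (i : ℤ) (Or.inr (by omega))
  have h2 : Subsingleton (Ext Y (ModuleCat.of A A) i) :=
    (subsingleton_hom_shift_iff_ext A (ModuleCat.of A A) Y i).1 h1
  exact h2.elim _ _

end Groth.Agent.H28.DualSelf
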