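import Groth.Agent.H28.LDerivTri
import Groth.Agent.H28.PCohRing2
import Groth.Agent.H35.LBaseChangeLib
import Groth.Agent.H35.ProjAmpGen

/-!
# `m`-pseudo-coherence is preserved by derived base change
-/

set_option autoImplicit false

universe u

open CategoryTheory CategoryTheory.Limits

open scoped ZeroObject

namespace Groth.Agent.H28.PCohLBC

open Groth.Agent.H28 Groth.Agent.H28.PCohCore Groth.Agent.H28.PCohDer Groth.Agent.H28.PCohSum
  Groth.Agent.H28.PCohDev Groth.Agent.H28.PCohSES Groth.Agent.H28.PCohTri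
  Groth.Agent.H28.PCohRing DerivedCategory Groth.Agent.H35 Groth.Agent.H35.LT Groth.Agent.H35.KF

attribute [local instance] HasDerivedCategory.standard

variable {A B : Type u} [CommRing A] [CommRing B] (φ : A →+* B)

/-- an object of `D(A)` acyclic in degrees `≥ m` has derived base change which is
`m`-pseudo-coherent -/
lemma isNPC_LBaseChange_of_acyclic [DRing.HasLBaseChange φ] (R : Dual.D A) (m : ℤ)
    (hR : ∀ i : ℤ, m ≤ i → IsZero ((DerivedCategory.homologyFunctor (ModuleCat.{u} A) i).obj R)) :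
    IsNPC (finFree B) m ((DRing.LBaseChange φ).obj R) := by
  have : R.IsLE (m - 1) := by
    rw [DerivedCategory.isLE_iff]
    intro i hi
    exact hR i (by omega)
  obtain ⟨P, hP, hPd, ⟨e⟩⟩ := exists_iso_Q_obj_projective R (m - 1)
  have hPz : ∀ i : ℤ, m - 1 < i → IsZero (P.X i) := fun i hi =>
    P.isZero_of_isStrictlyLE (m - 1) i hi
  have hPK : IsKFlat P := isKFlat_of_bounded_flat P (m - 1) hPz (fun i => by
    have : Module.Projective A (P.X i) :=
      (IsProjective.iff_projective (R := A) (P.X i)).mpr (hP i)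
    infer_instance)
  have hz : ∀ i : ℤ, m - 1 < i → IsZero (((extCx φ).obj P).X i) := fun i hi =>
    (ModuleCat.extendScalars.{u, u, u} φ).map_isZero (hPz i hi)
  exact ⟨(extCx φ).obj P, ⟨⟨m - 1, hz⟩, fun i hi => (finFree B).prop_of_isZero (hz i (by omega))⟩,
    ⟨(LBaseChangeIso φ P hPK).symm ≪≫ (DRing.LBaseChange φ).mapIso e⟩⟩

/-- the image in `D(B)` of a bounded complex of finite free `A`-modules is pseudo-coherent -/
lemma isNPC_LBaseChange_of_bounded [DRing.HasLBaseChange φ]
    (E : CochainComplex (ModuleCat.{u} A) ℤ) (b : ℤ) (hb : ∀ i : ℤ, b < i → IsZero (E.X i))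
    (hE : ∀ i : ℤ, finFree A (E.X i)) (m : ℤ) :
    IsNPC (finFree B) m ((DRing.LBaseChange φ).obj (Q.obj E)) := by
  have hEK : IsKFlat E := isKFlat_of_bounded_flat E b hb (fun i => by
    have := (hE i).2
    infer_instance)
  refine ⟨(extCx φ).obj E, ⟨⟨b, fun i hi =>
    (ModuleCat.extendScalars.{u, u, u} φ).map_isZero (hb i hi)⟩, fun i _ => ?_⟩,
    ⟨(LBaseChangeIso φ E hEK).symm⟩⟩
  have := (hE i).1
  have := (hE i).2
  exact ⟨finite_extendScalars φ (E.X i), free_extendScalars φ (E.X i)⟩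

/-- derived base change preserves `m`-pseudo-coherence -/
theorem isNPC_LBaseChange [DRing.HasLBaseChange φ] (K : Dual.D A) (m : ℤ)
    (hK : IsNPC (finFree A) m K) : IsNPC (finFree B) m ((DRing.LBaseChange φ).obj K) := by
  obtain ⟨E, a, b, α, hE, hP, hiso, hepi⟩ :=
    approx_of_isNPC (finFree A) (hql_finFree A) (finFree_prod A) (hqs_finFree A) hK
  obtain ⟨R, g, δ, hT⟩ := Pretriangulated.distinguished_cocone_triangle α
  have hR : ∀ i : ℤ, m ≤ i →
      IsZero ((DerivedCategory.homologyFunctor (ModuleCat.{u} A) i).obj R) := by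
    intro i hi
    refine (isZero_homology_obj₃_iff _ hT i (i + 1) rfl).mpr ?_
    have h1 : IsIso ((DerivedCategory.homologyFunctor _ (i + 1)).map α) := hiso (i + 1) (by omega)
    have h2 : Epi ((DerivedCategory.homologyFunctor _ i).map α) := by
      rcases hi.eq_or_lt with rfl | hi'
      · exact hepi
      · have := hiso i hi'
        infer_instance
    have h3 : Mono ((DerivedCategory.homologyFunctor _ (i + 1)).map α) := inferInstance
    exact ⟨h2, h3⟩
  obtain ⟨T', hT', ⟨e₁⟩, ⟨e₂⟩, ⟨e₃⟩⟩ := LDerivTri.exists_distTriang (hyp A)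
    (ModuleCat.extendScalars.{u, u, u} φ) (kfAcyclic_extendScalars φ) _ hT
  have h₁ : IsNPC (finFree B) m T'.obj₁ :=
    IsNPC.of_iso _ (isNPC_LBaseChange_of_bounded φ E b (fun i hi => hE i (Or.inr hi)) hP m) e₁.symm
  have h₃ : IsNPC (finFree B) m T'.obj₃ :=
    IsNPC.of_iso _ (isNPC_LBaseChange_of_acyclic φ R m hR) e₃.symm
  exact IsNPC.of_iso _ (isNPC_obj₂ _ (hql_finFree B) (finFree_prod B) (hqs_finFree B) T' hT' h₁ h₃)
    e₂

end Groth.Agent.H28.PCohLBC
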