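import Groth.Agent.H28.PCohTri
import Mathlib.Algebra.Homology.DerivedCategory.ExactFunctor

/-!
# Descent of pseudo-coherence
-/

set_option autoImplicit false

universe w w' v v' u u'

open CategoryTheory CategoryTheory.Limits

open scoped ZeroObject

namespace Groth.Agent.H28.PCohDescent

open Groth.Agent.H28 Groth.Agent.H28.PCohCore Groth.Agent.H28.PCohDer Groth.Agent.H28.PCohSum
  Groth.Agent.H28.PCohDev Groth.Agent.H28.PCohSES Groth.Agent.H28.PCohTri DerivedCategory

section Abstract

variable {C : Type u} [Category.{v} C] [Abelian C] [HasDerivedCategory.{w} C]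
  (P : ObjectProperty C) [P.IsClosedUnderIsomorphisms] [P.ContainsZero]
  (hql : PCoh.IsQuasiLiftable P) (hsum : ∀ X Y : C, P X → P Y → P (X ⨯ Y))
  (hqs : PCoh.IsQuasiStableUnderKernels P)

include hqs in
omit [P.IsClosedUnderIsomorphisms] [P.ContainsZero] in
/-- the top cohomology of an `n`-pseudo-coherent object acyclic in degrees `> n` is of finite
type -/
lemma isOfFiniteType_homology_of_isNPC (n : ℤ) (X : DerivedCategory C)
    (hac : ∀ i : ℤ, n < i → IsZero ((DerivedCategory.homologyFunctor C i).obj X))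
    (h : IsNPC P n X) :
    PCoh.IsOfFiniteType P ((DerivedCategory.homologyFunctor C n).obj X) := by
  obtain ⟨E, hE, ⟨e⟩⟩ := h
  have hiso : ∀ i : ℤ, E.homology i ≅ (DerivedCategory.homologyFunctor C i).obj X := fun i =>
    (homologyQIso E i).symm ≪≫ (DerivedCategory.homologyFunctor C i).mapIso e
  refine isOfFiniteType_of_iso P (hiso n) ?_
  apply isOfFiniteType_homology P hqs n E hE
  intro i hi
  rw [HomologicalComplex.exactAt_iff_isZero_homology]
  exact IsZero.of_iso (hac i hi) (hiso i)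

include hql hsum hqs in
/-- abstract descent: a predicate `Qp m X` with the formal properties of "`X` becomes
`m`-pseudo-coherent after applying a conservative exact functor" implies
`m`-pseudo-coherence -/
theorem isNPC_of_descent (Qp : ℤ → DerivedCategory C → Prop)
    (h1 : ∀ (m k : ℤ) (X : DerivedCategory C), m ≤ k → Qp m X → Qp k X)
    (h2 : ∀ (m : ℤ) (T : Pretriangulated.Triangle (DerivedCategory C)),
      T ∈ Pretriangulated.distinguishedTriangles → Qp (m + 1) T.obj₁ → Qp m T.obj₂ → Qp m T.obj₃)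
    (h3 : ∀ (k : ℤ) (E : CochainComplex C ℤ) (a b : ℤ),
      (∀ i : ℤ, i < a ∨ b < i → IsZero (E.X i)) → (∀ i : ℤ, P (E.X i)) → Qp k (Q.obj E))
    (h4 : ∀ (n : ℤ) (X : DerivedCategory C),
      (∀ i : ℤ, n < i → IsZero ((DerivedCategory.homologyFunctor C i).obj X)) → Qp n X →
      PCoh.IsOfFiniteType P ((DerivedCategory.homologyFunctor C n).obj X)) :
    ∀ (j : ℕ) (m n : ℤ) (X : DerivedCategory C), n < m + j →
      (∀ i : ℤ, n < i → IsZero ((DerivedCategory.homologyFunctor C i).obj X)) → Qp m X →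
      IsNPC P m X := by
  intro j
  induction j with
  | zero =>
    intro m n X hn hac _
    exact isNPC_of_acyclic P m X (fun i hi => hac i (by simp at hn; omega))
  | succ j ih =>
    intro m n X hn hac hQ
    by_cases hn' : n < m + j
    · exact ih m n X hn' hac hQ
    · have hnm : m ≤ n := by push_cast at hn; omega
      have hft := h4 n X hac (h1 m n X hnm hQ)
      have hXn : IsNPC P n X := PCohCoh.isNPC_of_finiteType_homology P hql n X hac hft
      obtain ⟨E, a, b, α, hE, hP, hiso, hepi⟩ := approx_of_isNPC P hql hsum hqs hXn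
      obtain ⟨R, g, δ, hT⟩ := Pretriangulated.distinguished_cocone_triangle α
      have hR : ∀ i : ℤ, n - 1 < i →
          IsZero ((DerivedCategory.homologyFunctor C i).obj R) := by
        intro i hi
        refine (isZero_homology_obj₃_iff _ hT i (i + 1) rfl).mpr ?_
        have h1' : IsIso ((DerivedCategory.homologyFunctor C (i + 1)).map α) :=
          hiso (i + 1) (by omega)
        have h2' : Epi ((DerivedCategory.homologyFunctor C i).map α) := by
          rcases (show n ≤ i by omega).eq_or_lt with rfl | hi'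
          · exact hepi
          · have := hiso i hi'
            infer_instance
        have h3' : Mono ((DerivedCategory.homologyFunctor C (i + 1)).map α) := inferInstance
        exact ⟨h2', h3'⟩
      have hQR : Qp m R := h2 m _ hT (h3 (m + 1) E a b hE hP) hQ
      have hRm : IsNPC P m R := ih m (n - 1) R (by push_cast at hn; omega) hR hQR
      have hQE : IsNPC P m (Q.obj E) :=
        ⟨E, ⟨⟨b, fun i hi => hE i (Or.inr hi)⟩, fun i _ => hP i⟩, ⟨Iso.refl _⟩⟩
      exact isNPC_obj₂ P hql hsum hqs _ hT hQE hRm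

end Abstract

section ExactFunctor

variable {C₁ : Type u} [Category.{v} C₁] [Abelian C₁] [HasDerivedCategory.{w} C₁]
  {C₂ : Type u'} [Category.{v'} C₂] [Abelian C₂] [HasDerivedCategory.{w'} C₂]
  (F : C₁ ⥤ C₂) [F.Additive] [PreservesFiniteLimits F] [PreservesFiniteColimits F]

/-- an exact functor commutes with the homology of complexes -/
noncomputable def mapHomologyIso' (K : CochainComplex C₁ ℤ) (i : ℤ) :
    ((F.mapHomologicalComplex (ComplexShape.up ℤ)).obj K).homology i ≅ F.obj (K.homology i) :=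
  (K.sc i).mapHomologyIso F

/-- the cohomology of the image of an object under the functor induced by an exact functor on
derived categories -/
noncomputable def homologyMapDerivedIso (X : DerivedCategory C₁) (i : ℤ) :
    (DerivedCategory.homologyFunctor C₂ i).obj (F.mapDerivedCategory.obj X) ≅
      F.obj ((DerivedCategory.homologyFunctor C₁ i).obj X) :=
  (DerivedCategory.homologyFunctor C₂ i).mapIso
      (F.mapDerivedCategory.mapIso (Q.objObjPreimageIso X).symm) ≪≫
    (DerivedCategory.homologyFunctor C₂ i).mapIso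
      (F.mapDerivedCategoryFactors.app (Q.objPreimage X)) ≪≫
    homologyQIso _ i ≪≫ mapHomologyIso' F (Q.objPreimage X) i ≪≫
    F.mapIso ((homologyQIso (Q.objPreimage X) i).symm ≪≫
      (DerivedCategory.homologyFunctor C₁ i).mapIso (Q.objObjPreimageIso X))

end ExactFunctor

section ExactFunctorPC

variable {C₁ : Type u} [Category.{v} C₁] [Abelian C₁] [HasDerivedCategory.{w} C₁]
  {C₂ : Type u'} [Category.{v'} C₂] [Abelian C₂] [HasDerivedCategory.{w'} C₂]
  (F : C₁ ⥤ C₂) [F.Additive] [PreservesFiniteLimits F] [PreservesFiniteColimits F]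
  (P₁ : ObjectProperty C₁) [P₁.IsClosedUnderIsomorphisms] [P₁.ContainsZero]
  (hql₁ : PCoh.IsQuasiLiftable P₁) (hsum₁ : ∀ X Y : C₁, P₁ X → P₁ Y → P₁ (X ⨯ Y))
  (hqs₁ : PCoh.IsQuasiStableUnderKernels P₁)
  (P₂ : ObjectProperty C₂) [P₂.IsClosedUnderIsomorphisms] [P₂.ContainsZero]
  (hql₂ : PCoh.IsQuasiLiftable P₂) (hsum₂ : ∀ X Y : C₂, P₂ X → P₂ Y → P₂ (X ⨯ Y))
  (hqs₂ : PCoh.IsQuasiStableUnderKernels P₂)
  (hFp : ∀ E : C₁, P₁ E → ∀ a : ℤ,
    IsNPC P₂ a ((DerivedCategory.singleFunctor C₂ 0).obj (F.obj E)))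

include hFp in
omit [P₁.IsClosedUnderIsomorphisms] [P₁.ContainsZero] [P₂.IsClosedUnderIsomorphisms]
  [P₂.ContainsZero] in
lemma isNPC_mapDerived_single (E : C₁) (hE : P₁ E) (a : ℤ) :
    IsNPC P₂ a (F.mapDerivedCategory.obj ((DerivedCategory.singleFunctor C₁ 0).obj E)) :=
  IsNPC.of_iso P₂ (hFp E hE a) ((F.mapDerivedCategorySingleFunctor 0).app E).symm

omit [HasDerivedCategory.{w} C₁] [HasDerivedCategory.{w'} C₂] in
lemma isZero_homology_mapDerived [HasDerivedCategory.{w} C₁] [HasDerivedCategory.{w'} C₂]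
    (X : DerivedCategory C₁) (i : ℤ)
    (h : IsZero ((DerivedCategory.homologyFunctor C₁ i).obj X)) :
    IsZero ((DerivedCategory.homologyFunctor C₂ i).obj (F.mapDerivedCategory.obj X)) :=
  IsZero.of_iso (F.map_isZero h) (homologyMapDerivedIso F X i)

include hql₁ hsum₁ hqs₁ hql₂ hsum₂ hqs₂ hFp in
/-- an exact functor sending `C₀` to pseudo-coherent objects preserves `m`-pseudo-coherence -/
theorem isNPC_mapDerived (m : ℤ) (X : DerivedCategory C₁) (h : IsNPC P₁ m X) :
    IsNPC P₂ m (F.mapDerivedCategory.obj X) := by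
  obtain ⟨E, ⟨⟨n, hn⟩, hP⟩, ⟨e⟩⟩ := id h
  have hac : ∀ i : ℤ, n < i → IsZero ((DerivedCategory.homologyFunctor C₁ i).obj X) := fun i hi =>
    IsZero.of_iso (isZero_homology_of_isZero_X E i (hn i hi))
      ((DerivedCategory.homologyFunctor C₁ i).mapIso e.symm ≪≫ homologyQIso E i)
  have := PCohFun.isNPC_map F.mapDerivedCategory P₁ hql₁ hsum₁ hqs₁ P₂ hql₂ hsum₂ hqs₂ (m - n) 0
    (fun E hE => isNPC_mapDerived_single F P₁ P₂ hFp E hE (m - n))
    (fun Y hY i hi => isZero_homology_mapDerived F Y i (hY i hi)) m n X h hac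
  exact PCohFun.isNPC_of_le P₂ (by omega) this

include hql₁ hsum₁ hqs₁ hql₂ hsum₂ hqs₂ hFp in
/-- descent of `m`-pseudo-coherence along a conservative exact functor which detects finite
type -/
theorem isNPC_of_isNPC_mapDerived (hF0 : ∀ M : C₁, IsZero (F.obj M) → IsZero M)
    (hFt : ∀ M : C₁, PCoh.IsOfFiniteType P₂ (F.obj M) → PCoh.IsOfFiniteType P₁ M)
    (m : ℤ) (X : DerivedCategory C₁) (h : IsNPC P₂ m (F.mapDerivedCategory.obj X)) :
    IsNPC P₁ m X := by
  obtain ⟨E, ⟨⟨b, hb⟩, -⟩, ⟨e⟩⟩ := id h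
  have hac : ∀ i : ℤ, b < i → IsZero ((DerivedCategory.homologyFunctor C₁ i).obj X) := by
    intro i hi
    apply hF0
    refine IsZero.of_iso ?_ (homologyMapDerivedIso F X i).symm
    exact IsZero.of_iso (isZero_homology_of_isZero_X E i (hb i hi))
      ((DerivedCategory.homologyFunctor C₂ i).mapIso e.symm ≪≫ homologyQIso E i)
  refine isNPC_of_descent P₁ hql₁ hsum₁ hqs₁
    (fun k Y => IsNPC P₂ k (F.mapDerivedCategory.obj Y)) ?_ ?_ ?_ ?_ (b - m + 1).toNat m b X
    (by omega) hac h
  · intro k k' Y hk hY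
    exact PCohFun.isNPC_of_le P₂ hk hY
  · intro k T hT h₁ h₂
    exact isNPC_obj₃ P₂ hql₂ hsum₂ hqs₂ (F.mapDerivedCategory.mapTriangle.obj T)
      (F.mapDerivedCategory.map_distinguished T hT) h₁ h₂
  · intro k E' a' b' hE' hP'
    have := PCohFun.isNPC_map_of_bounded F.mapDerivedCategory P₁ P₂ hql₂ hsum₂ hqs₂ (k - b')
      (fun E hE => isNPC_mapDerived_single F P₁ P₂ hFp E hE (k - b')) a' b' E'
      (fun i hi => hE' i (Or.inr hi)) (fun i hi => hE' i (Or.inl hi)) hP'
    rwa [show b' + (k - b') = k by omega] at this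
  · intro n Y hY hQ
    apply hFt
    refine isOfFiniteType_of_iso P₂ (homologyMapDerivedIso F Y n) ?_
    exact isOfFiniteType_homology_of_isNPC P₂ hqs₂ n _
      (fun i hi => isZero_homology_mapDerived F Y i (hY i hi)) hQ

end ExactFunctorPC

end Groth.Agent.H28.PCohDescent
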