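import Groth.Agent.H28.PCohRestrict
import Groth.Agent.H35.LBaseChangeLib

/-!
# Pseudo-coherence and flat base change; faithfully flat descent
-/

set_option autoImplicit false

universe w w' v v' u u'

open CategoryTheory CategoryTheory.Limits

open scoped ZeroObject

namespace Groth.Agent.H28.PCohFlat

open Groth.Agent.H28 Groth.Agent.H28.PCohCore Groth.Agent.H28.PCohDer Groth.Agent.H28.PCohSum
  Groth.Agent.H28.PCohDev Groth.Agent.H28.PCohSES Groth.Agent.H28.PCohTri
  Groth.Agent.H28.PCohRing Groth.Agent.H28.PCohDescent DerivedCategory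

section Family

variable {C₁ : Type u} [Category.{v} C₁] [Abelian C₁] [HasDerivedCategory.{w} C₁]
  {ι : Type*} [Finite ι]
  {C₂ : ι → Type u'} [∀ i, Category.{v'} (C₂ i)] [∀ i, Abelian (C₂ i)]
  [∀ i, HasDerivedCategory.{w'} (C₂ i)]
  (F : ∀ i, C₁ ⥤ C₂ i) [∀ i, (F i).Additive] [∀ i, PreservesFiniteLimits (F i)]
  [∀ i, PreservesFiniteColimits (F i)]
  (P₁ : ObjectProperty C₁) [P₁.IsClosedUnderIsomorphisms] [P₁.ContainsZero]
  (hql₁ : PCoh.IsQuasiLiftable P₁) (hsum₁ : ∀ X Y : C₁, P₁ X → P₁ Y → P₁ (X ⨯ Y))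
  (hqs₁ : PCoh.IsQuasiStableUnderKernels P₁)
  (P₂ : ∀ i, ObjectProperty (C₂ i)) [∀ i, (P₂ i).IsClosedUnderIsomorphisms]
  [∀ i, (P₂ i).ContainsZero]
  (hql₂ : ∀ i, PCoh.IsQuasiLiftable (P₂ i))
  (hsum₂ : ∀ i, ∀ X Y : C₂ i, P₂ i X → P₂ i Y → P₂ i (X ⨯ Y))
  (hqs₂ : ∀ i, PCoh.IsQuasiStableUnderKernels (P₂ i))
  (hFp : ∀ i, ∀ E : C₁, P₁ E → ∀ a : ℤ,
    IsNPC (P₂ i) a ((DerivedCategory.singleFunctor (C₂ i) 0).obj ((F i).obj E)))

include hql₁ hsum₁ hqs₁ hql₂ hsum₂ hqs₂ hFp in
/-- descent of `m`-pseudo-coherence along a finite jointly conservative family of exact functors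
which jointly detect finite type -/
theorem isNPC_of_isNPC_mapDerived_family
    (hF0 : ∀ M : C₁, (∀ i, IsZero ((F i).obj M)) → IsZero M)
    (hFt : ∀ M : C₁, (∀ i, PCoh.IsOfFiniteType (P₂ i) ((F i).obj M)) →
      PCoh.IsOfFiniteType P₁ M)
    (m : ℤ) (X : DerivedCategory C₁)
    (h : ∀ i, IsNPC (P₂ i) m ((F i).mapDerivedCategory.obj X)) :
    IsNPC P₁ m X := by
  have hb : ∀ i, ∃ b : ℤ, ∀ j : ℤ, b < j →
      IsZero ((DerivedCategory.homologyFunctor (C₂ i) j).obj ((F i).mapDerivedCategory.obj X)) := by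
    intro i
    obtain ⟨E, ⟨⟨b, hb⟩, -⟩, ⟨e⟩⟩ := id (h i)
    exact ⟨b, fun j hj => IsZero.of_iso (isZero_homology_of_isZero_X E j (hb j hj))
      ((DerivedCategory.homologyFunctor (C₂ i) j).mapIso e.symm ≪≫ homologyQIso E j)⟩
  choose b hb using hb
  obtain ⟨b', hb'⟩ := (Set.finite_range b).bddAbove
  have hac : ∀ j : ℤ, b' < j → IsZero ((DerivedCategory.homologyFunctor C₁ j).obj X) := by
    intro j hj
    apply hF0
    intro i
    refine IsZero.of_iso ?_ (homologyMapDerivedIso (F i) X j).symm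
    exact hb i j (lt_of_le_of_lt (hb' ⟨i, rfl⟩) hj)
  refine isNPC_of_descent P₁ hql₁ hsum₁ hqs₁
    (fun k Y => ∀ i, IsNPC (P₂ i) k ((F i).mapDerivedCategory.obj Y)) ?_ ?_ ?_ ?_
    (b' - m + 1).toNat m b' X (by omega) hac h
  · intro k k' Y hk hY i
    exact PCohFun.isNPC_of_le (P₂ i) hk (hY i)
  · intro k T hT h₁ h₂ i
    exact isNPC_obj₃ (P₂ i) (hql₂ i) (hsum₂ i) (hqs₂ i) ((F i).mapDerivedCategory.mapTriangle.obj T)
      ((F i).mapDerivedCategory.map_distinguished T hT) (h₁ i) (h₂ i)
  · intro k E' a' b' hE' hP' i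
    have := PCohFun.isNPC_map_of_bounded (F i).mapDerivedCategory P₁ (P₂ i) (hql₂ i) (hsum₂ i)
      (hqs₂ i) (k - b')
      (fun E hE => isNPC_mapDerived_single (F i) P₁ (P₂ i) (hFp i) E hE (k - b')) a' b' E'
      (fun i hi => hE' i (Or.inr hi)) (fun i hi => hE' i (Or.inl hi)) hP'
    rwa [show b' + (k - b') = k by omega] at this
  · intro n Y hY hQ
    apply hFt
    intro i
    refine isOfFiniteType_of_iso (P₂ i) (homologyMapDerivedIso (F i) Y n) ?_
    exact isOfFiniteType_homology_of_isNPC (P₂ i) (hqs₂ i) n _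
      (fun j hj => isZero_homology_mapDerived (F i) Y j (hY j hj)) (hQ i)

end Family

section Ring

attribute [local instance] HasDerivedCategory.standard

variable {A : Type u} [CommRing A]

lemma finFree_extendScalars {B : Type u} [CommRing B] (φ : A →+* B) (E : ModuleCat.{u} A)
    (hE : finFree A E) : finFree B ((ModuleCat.extendScalars.{u, u, u} φ).obj E) := by
  have := hE.1
  have := hE.2
  exact ⟨Groth.Agent.H35.LT.finite_extendScalars φ E, Groth.Agent.H35.LT.free_extendScalars φ E⟩

lemma isZero_of_isZero_extendScalars {B : Type u} [CommRing B] (φ : A →+* B)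
    (hφ : φ.FaithfullyFlat) (M : ModuleCat.{u} A)
    (h : IsZero ((ModuleCat.extendScalars.{u, u, u} φ).obj M)) : IsZero M := by
  have h' : Subsingleton ((ModuleCat.extendScalars.{u, u, u} φ).obj M) :=
    ModuleCat.subsingleton_of_isZero h
  algebraize [φ]
  have : Module.FaithfullyFlat A B := RingHom.faithfullyFlat_algebraMap_iff.mp hφ
  have h'' : Subsingleton (TensorProduct A B M) := h'
  have := Module.FaithfullyFlat.lTensor_reflects_triviality A B M
  exact ModuleCat.isZero_of_subsingleton _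

lemma finite_of_finite_extendScalars {B : Type u} [CommRing B] (φ : A →+* B)
    (hφ : φ.FaithfullyFlat) (M : ModuleCat.{u} A)
    (h : Module.Finite B ((ModuleCat.extendScalars.{u, u, u} φ).obj M)) : Module.Finite A M := by
  algebraize [φ]
  have : Module.FaithfullyFlat A B := RingHom.faithfullyFlat_algebraMap_iff.mp hφ
  have h'' : Module.Finite B (TensorProduct A B M) := h
  exact Module.Finite.of_finite_tensorProduct_of_faithfullyFlat B

variable {ι : Type*} [Finite ι] {B : ι → Type u} [∀ i, CommRing (B i)] (φ : ∀ i, A →+* B i)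

/-- descent of `m`-pseudo-coherence along a finite family of flat ring maps which jointly detect
zero modules and finite modules; the complex is base changed termwise -/
theorem isNPC_of_isNPC_extendScalars_family (hφ : ∀ i, (φ i).Flat)
    (hF0 : ∀ M : ModuleCat.{u} A,
      (∀ i, IsZero ((ModuleCat.extendScalars.{u, u, u} (φ i)).obj M)) → IsZero M)
    (hFt : ∀ M : ModuleCat.{u} A,
      (∀ i, Module.Finite (B i) ((ModuleCat.extendScalars.{u, u, u} (φ i)).obj M)) →
        Module.Finite A M)
    (m : ℤ) (K : CochainComplex (ModuleCat.{u} A) ℤ)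
    (h : ∀ i, IsNPC (finFree (B i)) m (Q.obj
      (((ModuleCat.extendScalars.{u, u, u} (φ i)).mapHomologicalComplex (ComplexShape.up ℤ)).obj K))) :
    IsNPC (finFree A) m (Q.obj K) := by
  haveI : ∀ i, PreservesFiniteLimits (ModuleCat.extendScalars.{u, u, u} (φ i)) := fun i =>
    ModuleCat.preservesFiniteLimits_extendScalars_of_flat (hφ i)
  refine isNPC_of_isNPC_mapDerived_family (fun i => ModuleCat.extendScalars.{u, u, u} (φ i))
    (finFree A) (hql_finFree A) (finFree_prod A) (hqs_finFree A)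
    (fun i => finFree (B i)) (fun i => hql_finFree (B i)) (fun i => finFree_prod (B i))
    (fun i => hqs_finFree (B i)) ?_ hF0 ?_ m (Q.obj K) ?_
  · intro i E hE a
    exact PCohCoh.isNPC_single_of_mem (finFree (B i)) a _ (finFree_extendScalars (φ i) E hE)
  · intro M hM
    rw [isOfFiniteType_finFree_iff]
    exact hFt M (fun i => (isOfFiniteType_finFree_iff (B i) _).mp (hM i))
  · intro i
    exact IsNPC.of_iso _ (h i)
      ((ModuleCat.extendScalars.{u, u, u} (φ i)).mapDerivedCategoryFactors.app K).symm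

end Ring

section Away

attribute [local instance] HasDerivedCategory.standard

variable {R : Type u} [CommRing R]

lemma away_of_eq {x y : R} (h : x = y) {S : Type*} [CommSemiring S] [Algebra R S]
    (hS : IsLocalization.Away x S) : IsLocalization.Away y S := h ▸ hS

variable {ι : Type*} (g : ι → R) (hg : Ideal.span (Set.range g) = ⊤)
  {B : ι → Type u} [∀ i, CommRing (B i)] (φ : ∀ i, R →+* B i)
  (hloc : ∀ i, @IsLocalization.Away R _ (g i) (B i) _ (φ i).toAlgebra)

include hloc in
lemma flat_of_away (i : ι) : (φ i).Flat := by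
  letI : Algebra R (B i) := (φ i).toAlgebra
  haveI : IsLocalization.Away (g i) (B i) := hloc i
  exact IsLocalization.flat (B i) (Submonoid.powers (g i))

include hg hloc in
lemma isZero_of_isZero_extendScalars_away (M : ModuleCat.{u} R)
    (h : ∀ i, IsZero ((ModuleCat.extendScalars.{u, u, u} (φ i)).obj M)) : IsZero M := by
  letI : ∀ i, Algebra R (B i) := fun i => (φ i).toAlgebra
  haveI : ∀ i, IsLocalization.Away (g i) (B i) := hloc
  have h' : ∀ i, Subsingleton (TensorProduct R (B i) M) := fun i =>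
    ModuleCat.subsingleton_of_isZero (h i)
  have h0 : ∀ x : M, x = 0 := by
    intro x
    have : x ∈ (⊥ : Submodule R M) := by
      refine Submodule.mem_of_span_eq_top_of_smul_pow_mem ⊥ (Set.range g) hg x ?_
      rintro ⟨_, i, rfl⟩
      have hx : TensorProduct.mk R (B i) M 1 x = 0 := Subsingleton.elim _ _
      obtain ⟨⟨_, n, rfl⟩, hn⟩ :=
        (IsLocalizedModule.eq_zero_iff (Submonoid.powers (g i)) (TensorProduct.mk R (B i) M 1)).mp hx
      exact ⟨n, hn⟩
    simpa using this
  haveI : Subsingleton M := ⟨fun x y => (h0 x).trans (h0 y).symm⟩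
  exact ModuleCat.isZero_of_subsingleton _

include hg hloc in
lemma finite_of_finite_extendScalars_away (M : ModuleCat.{u} R)
    (h : ∀ i, Module.Finite (B i) ((ModuleCat.extendScalars.{u, u, u} (φ i)).obj M)) :
    Module.Finite R M := by
  letI : ∀ i, Algebra R (B i) := fun i => (φ i).toAlgebra
  have h' : ∀ i, Module.Finite (B i) (TensorProduct R (B i) M) := h
  choose i hi using (fun r : Set.range g => Set.mem_range.mp r.2)
  exact Module.Finite.of_localizationSpan' (Set.range g) hg
    (Mₚ := fun r => TensorProduct R (B (i r)) M) (Rₚ := fun r => B (i r))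
    (h₁ := fun r => away_of_eq (hi r) (hloc (i r)))
    (fun r => TensorProduct.mk R (B (i r)) M 1)
    (h₂ := fun r => @IsLocalization.tensorProduct_isLocalizedModule R _ (Submonoid.powers r.1)
      (B (i r)) _ _ (away_of_eq (hi r) (hloc (i r))) M _ _)
    (fun r => h' (i r))

include hg hloc in
/-- `m`-pseudo-coherence descends along a finite family of localizations `R → R_{g i}` with the
`g i` generating the unit ideal -/
theorem isNPC_of_isNPC_extendScalars_away [Finite ι] (m : ℤ)
    (K : CochainComplex (ModuleCat.{u} R) ℤ)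
    (h : ∀ i, IsNPC (finFree (B i)) m (Q.obj
      (((ModuleCat.extendScalars.{u, u, u} (φ i)).mapHomologicalComplex (ComplexShape.up ℤ)).obj K))) :
    IsNPC (finFree R) m (Q.obj K) :=
  isNPC_of_isNPC_extendScalars_family φ (flat_of_away g φ hloc)
    (isZero_of_isZero_extendScalars_away g hg φ hloc)
    (finite_of_finite_extendScalars_away g hg φ hloc) m K h

end Away

end Groth.Agent.H28.PCohFlat
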