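import Groth.Agent.H28.PCohRestrict
import Mathlib.Algebra.Polynomial.Div
import Mathlib.Algebra.Homology.ShortComplex.ModuleCat

/-!
# `R` is a pseudo-coherent `R[X]`-module (through `X ↦ 0`)
-/

set_option autoImplicit false

universe u

open CategoryTheory CategoryTheory.Limits Polynomial

open scoped ZeroObject

namespace Groth.Agent.H28.PCohPoly

open Groth.Agent.H28 Groth.Agent.H28.PCohCore Groth.Agent.H28.PCohDer Groth.Agent.H28.PCohSum
  Groth.Agent.H28.PCohDev Groth.Agent.H28.PCohSES Groth.Agent.H28.PCohTri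
  Groth.Agent.H28.PCohRing DerivedCategory

attribute [local instance] HasDerivedCategory.standard

variable (R : Type u) [CommRing R]

/-- `R` as an `R[X]`-module through evaluation at `0` -/
noncomputable abbrev M₀ : ModuleCat.{u} R[X] :=
  (ModuleCat.restrictScalars (Polynomial.evalRingHom (0 : R))).obj (ModuleCat.of R R)

/-- multiplication by `X` -/
noncomputable def mulX : ModuleCat.of R[X] R[X] ⟶ ModuleCat.of R[X] R[X] :=
  ModuleCat.ofHom (LinearMap.mulLeft R[X] (X : R[X]))

/-- evaluation at `0` as an `R[X]`-linear map -/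
noncomputable def ev₀ : ModuleCat.of R[X] R[X] ⟶ M₀ R := by
  let inst₂ : Module R[X] R := Module.compHom R (Polynomial.evalRingHom (0 : R))
  let f : @LinearMap R[X] R[X] _ _ (RingHom.id R[X]) R[X] R _ _ _ inst₂ :=
    @LinearMap.mk R[X] R[X] _ _ (RingHom.id R[X]) R[X] R _ _ _ inst₂
      ⟨fun p => p.eval 0, fun p q => Polynomial.eval_add⟩
      (fun q p => by
        change (q * p).eval 0 = q.eval 0 * p.eval 0
        exact Polynomial.eval_mul)
  exact @ModuleCat.ofHom R[X] _ R[X] R _ _ _ inst₂ f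

lemma ev₀_apply (p : R[X]) : (ev₀ R).hom p = p.eval 0 := rfl

lemma mulX_apply (p : R[X]) : (mulX R).hom p = X * p := rfl

lemma mulX_ev₀ : mulX R ≫ ev₀ R = 0 := by
  refine ModuleCat.hom_ext (LinearMap.ext fun p => ?_)
  change ((X : R[X]) * p).eval 0 = 0
  simp

/-- the short exact sequence `0 ⟶ R[X] ⟶ R[X] ⟶ R ⟶ 0` -/
noncomputable def sc : ShortComplex (ModuleCat.{u} R[X]) :=
  ShortComplex.mk (mulX R) (ev₀ R) (mulX_ev₀ R)

lemma sc_shortExact : (sc R).ShortExact := by
  have hmono : Mono (sc R).f := by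
    rw [ModuleCat.mono_iff_injective]
    intro p q hpq
    exact (Polynomial.isRegular_X (R := R)).left hpq
  have hepi : Epi (sc R).g := by
    rw [ModuleCat.epi_iff_surjective]
    intro r
    exact ⟨Polynomial.C (show R from r), Polynomial.eval_C (a := (show R from r)) (x := 0)⟩
  refine ShortComplex.ShortExact.mk ?_
  rw [ShortComplex.moduleCat_exact_iff]
  intro p hp
  have hp' : p.eval 0 = 0 := hp
  rw [← Polynomial.coeff_zero_eq_eval_zero, ← Polynomial.X_dvd_iff] at hp'
  obtain ⟨q, rfl⟩ := hp'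
  exact ⟨q, rfl⟩

/-- `R`, as an `R[X]`-module through `X ↦ 0`, is pseudo-coherent -/
lemma isNPC_single_M₀ (a : ℤ) :
    IsNPC (finFree R[X]) a ((DerivedCategory.singleFunctor (ModuleCat.{u} R[X]) 0).obj (M₀ R)) := by
  have hX : finFree R[X] (ModuleCat.of R[X] R[X]) :=
    ⟨inferInstanceAs (Module.Finite R[X] R[X]), inferInstanceAs (Module.Free R[X] R[X])⟩
  have hS := sc_shortExact R
  exact isNPC_obj₃ _ (hql_finFree R[X]) (finFree_prod R[X]) (hqs_finFree R[X]) hS.singleTriangle
    hS.singleTriangle_distinguished (PCohCoh.isNPC_single_of_mem _ (a + 1) _ hX)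
    (PCohCoh.isNPC_single_of_mem _ a _ hX)

end Groth.Agent.H28.PCohPoly
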