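import Groth.Agent.H28.PCohDev

/-!
# Dévissage for pseudo-coherence by the terms of a complex
-/

set_option autoImplicit false

universe w v u

open CategoryTheory CategoryTheory.Limits CochainComplex HomComplex

open scoped ZeroObject

namespace Groth.Agent.H28.PCohDev

open Groth.Agent.H28 Groth.Agent.H28.PCohCore Groth.Agent.H28.PCohDer Groth.Agent.H28.PCohSum
  DerivedCategory

variable {C : Type u} [Category.{v} C] [Abelian C]

/-- the data of a "stupid truncation" `σ≥k F` with its inclusion into `F` -/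
structure IsStupidTrunc (F G : CochainComplex C ℤ) (ι : G ⟶ F) (k : ℤ) : Prop where
  isZero : ∀ i : ℤ, i < k → IsZero (G.X i)
  isIso : ∀ i : ℤ, k ≤ i → IsIso (ι.f i)

section Step

variable {F G : CochainComplex C ℤ} (ι : G ⟶ F) (k' : ℤ) {k : ℤ} (hk : k' + 1 = k)
  (h : IsStupidTrunc F G ι k)

/-- the attaching map `F^{k-1}[-k] ⟶ σ≥k F` -/
noncomputable def stepZeta : F.X k' ⟶ G.X k :=
  have := h.isIso k le_rfl
  F.d k' k ≫ inv (ι.f k)

lemma stepZeta_comp : stepZeta ι k' h ≫ ι.f k = F.d k' k := by
  have := h.isIso k le_rfl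
  simp [stepZeta]

lemma stepZeta_d : stepZeta ι k' h ≫ G.d k (k + 1) = 0 := by
  have := h.isIso (k + 1) (by omega)
  rw [← cancel_mono (ι.f (k + 1)), Category.assoc, ← ι.comm, ← Category.assoc, stepZeta_comp ι k' h,
    HomologicalComplex.d_comp_d, zero_comp]

/-- the attaching chain map -/
noncomputable def stepMap : (CochainComplex.singleFunctor C k).obj (F.X k') ⟶ G :=
  attachMap (n2 := k + 1) rfl (stepZeta ι k' h) (stepZeta_d ι k' h)

include hk in
lemma δ_stepCochain :
    δ (-1) 0 (Cochain.fromSingleMk (𝟙 (F.X k')) (show k + (-1) = k' by omega)) =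
      Cochain.ofHom (stepMap ι k' h ≫ ι) := by
  rw [Cochain.δ_fromSingleMk _ _ 0 k (add_zero k), Cochain.ofHom_comp, stepMap,
    ofHom_attachMap, ← Cochain.fromSingleMk_postcomp, stepZeta_comp ι k' h, Category.id_comp]

/-- the next stupid truncation -/
noncomputable def stepι : mappingCone (stepMap ι k' h) ⟶ F :=
  mappingCone.desc (stepMap ι k' h) _ ι (δ_stepCochain ι k' hk h)

include hk in
lemma isStupidTrunc_step : IsStupidTrunc F (mappingCone (stepMap ι k' h)) (stepι ι k' hk h) k' := by
  have hAz : ∀ i : ℤ, i ≠ k → IsZero (((CochainComplex.singleFunctor C k).obj (F.X k')).X i) :=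
    fun i hi => HomologicalComplex.isZero_single_obj_X (.up ℤ) k (F.X k') i hi
  constructor
  · intro i hi
    exact StrictPerf.isZero_mappingCone _ i (hAz _ (by omega)) (h.isZero i (by omega))
  · intro i hi
    rcases hi.eq_or_lt with rfl | hi'
    · -- degree `k'`
      have hz : (mappingCone.snd (stepMap ι k' h)).v k' k' (add_zero _) = 0 :=
        (h.isZero k' (by omega)).eq_of_tgt _ _
      have hid := mappingCone.id_X (stepMap ι k' h) k' k hk
      rw [hz, zero_comp, add_zero] at hid
      have h1 : IsIso ((mappingCone.fst (stepMap ι k' h)).1.v k' k hk) :=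
        ⟨(mappingCone.inl (stepMap ι k' h)).v k k' (by omega), hid,
          mappingCone.inl_v_fst_v _ _ _ _⟩
      have h2 : (stepι ι k' hk h).f k' = (mappingCone.fst (stepMap ι k' h)).1.v k' k hk ≫
          (HomologicalComplex.singleObjXSelf (.up ℤ) k (F.X k')).hom := by
        rw [stepι, mappingCone.desc_f _ _ _ _ k' k hk, hz, zero_comp, add_zero,
          Cochain.fromSingleMk_v, Category.comp_id]
      rw [h2]
      infer_instance
    · -- degrees `≥ k`
      have hz : (mappingCone.fst (stepMap ι k' h)).1.v i (i + 1) rfl = 0 :=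
        (hAz (i + 1) (by omega)).eq_of_tgt _ _
      have hid := mappingCone.id_X (stepMap ι k' h) i (i + 1) rfl
      rw [hz, zero_comp, zero_add] at hid
      have h1 : IsIso ((mappingCone.snd (stepMap ι k' h)).v i i (add_zero _)) :=
        ⟨(mappingCone.inr (stepMap ι k' h)).f i, hid, mappingCone.inr_f_snd_v _ _⟩
      have h2 : (stepι ι k' hk h).f i = (mappingCone.snd (stepMap ι k' h)).v i i (add_zero _) ≫
          ι.f i := by
        rw [stepι, mappingCone.desc_f _ _ _ _ i (i + 1) rfl, hz, zero_comp, zero_add]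
      have := h.isIso i (by omega)
      rw [h2]
      infer_instance

end Step

section

variable [HasDerivedCategory.{w} C] (P : ObjectProperty C) [P.IsClosedUnderIsomorphisms]
  [P.ContainsZero] (hql : PCoh.IsQuasiLiftable P) (hsum : ∀ X Y : C, P X → P Y → P (X ⨯ Y))
  (hqs : PCoh.IsQuasiStableUnderKernels P)

lemma mapTriangle_mappingCone_distinguished {K L : CochainComplex C ℤ} (φ : K ⟶ L) :
    Q.mapTriangle.obj (CochainComplex.mappingCone.triangle φ) ∈
      Pretriangulated.distinguishedTriangles := by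
  rw [DerivedCategory.mem_distTriang_iff]
  exact ⟨_, _, φ, ⟨Iso.refl _⟩⟩

include hql hsum hqs in
lemma exists_stupidTrunc_isNPC (n : ℤ) (F : CochainComplex C ℤ) (b : ℤ)
    (hb : ∀ i : ℤ, b < i → IsZero (F.X i))
    (hfp : ∀ i : ℤ, n ≤ i → IsNPC P (n - i) ((DerivedCategory.singleFunctor C 0).obj (F.X i))) :
    ∀ k : ℤ, k ≤ max (b + 1) n → n ≤ k →
      ∃ (G : CochainComplex C ℤ) (ι : G ⟶ F), IsStupidTrunc F G ι k ∧ IsNPC P n (Q.obj G) := by
  intro k hk
  induction k, hk using Int.leInductionDown with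
  | base =>
    intro _
    have h0 : IsZero (0 : CochainComplex C ℤ) := isZero_zero _
    have h0X : ∀ i : ℤ, IsZero ((0 : CochainComplex C ℤ).X i) := fun i =>
      (HomologicalComplex.eval C (ComplexShape.up ℤ) i).map_isZero h0
    refine ⟨0, 0, ⟨fun i _ => h0X i, fun i hi => ?_⟩, isNPC_of_isZero P n _ (Q.map_isZero h0)⟩
    exact ⟨⟨0, (h0X i).eq_of_src _ _, (hb i (by omega)).eq_of_src _ _⟩⟩
  | pred k hk ih =>
    intro hnk
    obtain ⟨G, ι, hG, hGn⟩ := ih (by omega)
    have hk' : k - 1 + 1 = k := by omega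
    refine ⟨_, stepι ι (k - 1) hk' hG, isStupidTrunc_step ι (k - 1) hk' hG, ?_⟩
    have h₁ : IsNPC P (n + 1) ((DerivedCategory.singleFunctor C k).obj (F.X (k - 1))) :=
      IsNPC.of_iso P (IsNPC.shift P (hfp (k - 1) hnk) (-k) (n + 1) (by omega))
        (((DerivedCategory.singleFunctors C).shiftIso (-k) k 0 (by omega)).app (F.X (k - 1)))
    exact isNPC_obj₃ P hql hsum hqs _
      (mapTriangle_mappingCone_distinguished (stepMap ι (k - 1) hG)) h₁ hGn

include hql hsum hqs in
/-- dévissage by the terms of a bounded above complex -/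
theorem isNPC_of_terms (n : ℤ) (F : CochainComplex C ℤ) (b : ℤ)
    (hb : ∀ i : ℤ, b < i → IsZero (F.X i))
    (hfp : ∀ i : ℤ, n ≤ i → IsNPC P (n - i) ((DerivedCategory.singleFunctor C 0).obj (F.X i))) :
    IsNPC P n (Q.obj F) := by
  obtain ⟨G, ι, hG, hGn⟩ := exists_stupidTrunc_isNPC P hql hsum hqs n F b hb hfp n
    (le_max_right _ _) le_rfl
  have hqi : ∀ i : ℤ, n < i → IsIso (HomologicalComplex.homologyMap ι i) := by
    intro i hi
    have h1 := hG.isIso (i - 1) (by omega)
    have h2 := hG.isIso i (by omega)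
    have h3 := hG.isIso (i + 1) (by omega)
    have : QuasiIsoAt ι i := quasiIsoAt_of_isIso_f ι (i - 1) i (i + 1) (by omega) rfl
      inferInstance h2 inferInstance
    exact (quasiIsoAt_iff_isIso_homologyMap ι i).mp this
  have hepi : Epi (HomologicalComplex.homologyMap ι n) := by
    rw [HomologicalComplex.epi_homologyMap_iff_up_to_refinements _ (n - 1) n (n + 1) (by simp)
      (by simp)]
    intro T y hy
    have h2 := hG.isIso n le_rfl
    have h3 := hG.isIso (n + 1) (by omega)
    refine ⟨T, 𝟙 T, inferInstance, y ≫ inv (ι.f n), ?_, 0, ?_⟩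
    · rw [← cancel_mono (ι.f (n + 1)), Category.assoc, Category.assoc, ← ι.comm,
        IsIso.inv_hom_id_assoc, hy, zero_comp]
    · simp
  have hR : ∀ i : ℤ, n ≤ i → IsZero ((mappingCone ι).homology i) := by
    intro i hi
    rw [isZero_homology_mappingCone_iff ι i (i + 1) rfl]
    have := hqi (i + 1) (by omega)
    constructor
    · rcases hi.eq_or_lt with rfl | hi'
      · exact hepi
      · have := hqi i hi'
        infer_instance
    · infer_instance
  have hRn : IsNPC P n (Q.obj (mappingCone ι)) :=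
    isNPC_of_acyclic P n _ (fun i hi => IsZero.of_iso (hR i hi) (homologyQIso _ i))
  exact isNPC_obj₂ P hql hsum hqs _ (mapTriangle_mappingCone_distinguished ι) hGn hRn

end

end Groth.Agent.H28.PCohDev
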