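import Groth.Agent.H28.PCohDev
import Mathlib.Algebra.Homology.DerivedCategory.SingleTriangle

/-!
# Pseudo-coherence and short exact sequences; exact sequences of pseudo-coherent objects
-/

set_option autoImplicit false

universe w v u

open CategoryTheory CategoryTheory.Limits

open scoped ZeroObject

namespace Groth.Agent.H28.PCohSES

open Groth.Agent.H28 Groth.Agent.H28.PCohCore Groth.Agent.H28.PCohDer Groth.Agent.H28.PCohSum
  Groth.Agent.H28.PCohDev DerivedCategory

variable {C : Type u} [Category.{v} C] [Abelian C]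

section Cycles

variable (K : CochainComplex C ℕ)

/-- the short complex `Zⁱ ⟶ Kⁱ ⟶ Zⁱ⁺¹` -/
noncomputable def cyclesSC (i : ℕ) : ShortComplex C :=
  ShortComplex.mk (K.iCycles i) (K.toCycles i (i + 1)) (by
    rw [← cancel_mono (K.iCycles (i + 1)), Category.assoc, HomologicalComplex.toCycles_i,
      HomologicalComplex.iCycles_d, zero_comp])

lemma epi_toCycles (i : ℕ) (h : K.ExactAt (i + 1)) : Epi (K.toCycles i (i + 1)) := by
  rw [epi_iff_surjective_up_to_refinements]
  intro A x
  rw [HomologicalComplex.exactAt_iff_exact_up_to_refinements K i (i + 1) (i + 2)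
    (by simp) (by simp)] at h
  obtain ⟨A', π, hπ, x₁, hx₁⟩ := h (x ≫ K.iCycles (i + 1)) (by simp)
  refine ⟨A', π, hπ, x₁, ?_⟩
  rw [← cancel_mono (K.iCycles (i + 1)), Category.assoc, Category.assoc,
    HomologicalComplex.toCycles_i]
  exact hx₁

lemma cyclesSC_shortExact (i : ℕ) (h : K.ExactAt (i + 1)) : (cyclesSC K i).ShortExact := by
  have : Mono (cyclesSC K i).f := by dsimp [cyclesSC]; infer_instance
  have : Epi (cyclesSC K i).g := epi_toCycles K i h
  refine ShortComplex.ShortExact.mk ?_
  rw [ShortComplex.exact_iff_exact_up_to_refinements]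
  intro A x₂ hx₂
  have key : ∀ (y : A ⟶ K.X i), y ≫ K.toCycles i (i + 1) = 0 →
      ∃ (A' : C) (π : A' ⟶ A) (_ : Epi π) (x₁ : A' ⟶ K.cycles i), π ≫ y = x₁ ≫ K.iCycles i := by
    intro y hy
    have hy' : y ≫ K.d i (i + 1) = 0 := by
      rw [← HomologicalComplex.toCycles_i, reassoc_of% hy, zero_comp]
    exact ⟨A, 𝟙 A, inferInstance, K.liftCycles y (i + 1) (by simp) hy', by simp⟩
  exact key x₂ hx₂

lemma mono_d_zero (h : K.ExactAt 0) : Mono (K.d 0 1) := by
  rw [Preadditive.mono_iff_cancel_zero]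
  intro A x hx
  rw [HomologicalComplex.exactAt_iff_exact_up_to_refinements K 0 0 1 (by simp) (by simp)] at h
  obtain ⟨A', π, hπ, x₁, hx₁⟩ := h x hx
  rw [K.shape 0 0 (by simp), comp_zero] at hx₁
  rw [← cancel_epi π, hx₁, comp_zero]

lemma isIso_toCycles_zero (h0 : K.ExactAt 0) (h1 : K.ExactAt 1) : IsIso (K.toCycles 0 1) := by
  have := mono_d_zero K h0
  have : Mono (K.toCycles 0 1) := by
    have : Mono (K.toCycles 0 1 ≫ K.iCycles 1) := by
      rw [HomologicalComplex.toCycles_i]; infer_instance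
    exact mono_of_mono _ (K.iCycles 1)
  have := epi_toCycles K 0 h1
  exact isIso_of_mono_of_epi _

end Cycles

variable [HasDerivedCategory.{w} C]

variable (P : ObjectProperty C) [P.IsClosedUnderIsomorphisms] [P.ContainsZero]
  (hql : PCoh.IsQuasiLiftable P) (hsum : ∀ X Y : C, P X → P Y → P (X ⨯ Y))
  (hqs : PCoh.IsQuasiStableUnderKernels P)

include hql hsum hqs in
/-- in a distinguished triangle, if `obj₂` is `n`-pseudo-coherent and `obj₃` is
`(n-1)`-pseudo-coherent then `obj₁` is `n`-pseudo-coherent -/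
lemma isNPC_obj₁ {n : ℤ} (T : Pretriangulated.Triangle (DerivedCategory C))
    (hT : T ∈ Pretriangulated.distinguishedTriangles)
    (h₂ : IsNPC P n T.obj₂) (h₃ : IsNPC P (n - 1) T.obj₃) : IsNPC P n T.obj₁ :=
  isNPC_obj₂ P hql hsum hqs T.invRotate (Pretriangulated.inv_rot_of_distTriang T hT)
    (IsNPC.shift P h₃ (-1) n (by omega)) h₂

include hql hsum hqs in
/-- the kernel in a short exact sequence whose other terms are pseudo-coherent is
pseudo-coherent -/
lemma isPC_single_X₁ (S : ShortComplex C) (hS : S.ShortExact)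
    (h₂ : ∀ k : ℤ, IsNPC P k ((DerivedCategory.singleFunctor C 0).obj S.X₂))
    (h₃ : ∀ k : ℤ, IsNPC P k ((DerivedCategory.singleFunctor C 0).obj S.X₃)) (k : ℤ) :
    IsNPC P k ((DerivedCategory.singleFunctor C 0).obj S.X₁) :=
  isNPC_obj₁ P hql hsum hqs hS.singleTriangle hS.singleTriangle_distinguished (h₂ k) (h₃ (k - 1))

include hql hsum hqs in
/-- the cycles of a bounded exact complex with pseudo-coherent terms in positive degrees are
pseudo-coherent -/
lemma isPC_single_cycles (K : CochainComplex C ℕ) (hK : ∀ i : ℕ, K.ExactAt i) (n : ℕ)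
    (hb : ∀ i : ℕ, n < i → IsZero (K.X i))
    (hP : ∀ i : ℕ, 1 ≤ i → ∀ k : ℤ, IsNPC P k ((DerivedCategory.singleFunctor C 0).obj (K.X i))) :
    ∀ (j i : ℕ), n + 1 ≤ i + j → 1 ≤ i →
      ∀ k : ℤ, IsNPC P k ((DerivedCategory.singleFunctor C 0).obj (K.cycles i)) := by
  intro j
  induction j with
  | zero =>
    intro i hi _ k
    have hz : IsZero (K.cycles i) := by
      rw [IsZero.iff_id_eq_zero, ← cancel_mono (K.iCycles i), zero_comp]
      exact (hb i (by omega)).eq_of_tgt _ _
    exact isNPC_of_isZero P k _ ((DerivedCategory.singleFunctor C 0).map_isZero hz)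
  | succ j ih =>
    intro i hi hi1 k
    exact isPC_single_X₁ P hql hsum hqs (cyclesSC K i) (cyclesSC_shortExact K i (hK (i + 1)))
      (hP i hi1) (ih (i + 1) (by omega) (by omega)) k

include hql hsum hqs in
/-- the first term of a bounded exact complex with pseudo-coherent terms in positive degrees is
pseudo-coherent -/
lemma isPC_single_X_zero (K : CochainComplex C ℕ) (hK : ∀ i : ℕ, K.ExactAt i) (n : ℕ)
    (hb : ∀ i : ℕ, n < i → IsZero (K.X i))
    (hP : ∀ i : ℕ, 1 ≤ i → ∀ k : ℤ, IsNPC P k ((DerivedCategory.singleFunctor C 0).obj (K.X i)))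
    (k : ℤ) : IsNPC P k ((DerivedCategory.singleFunctor C 0).obj (K.X 0)) := by
  have := isIso_toCycles_zero K (hK 0) (hK 1)
  exact IsNPC.of_iso P (isPC_single_cycles P hql hsum hqs K hK n hb hP n 1 (by omega) le_rfl k)
    ((DerivedCategory.singleFunctor C 0).mapIso (asIso (K.toCycles 0 1))).symm

include hqs in
omit [P.IsClosedUnderIsomorphisms] [P.ContainsZero] in
/-- an object which is `0`-pseudo-coherent in degree `0` is of finite type -/
lemma isOfFiniteType_of_isNPC_single (X : C)
    (h : IsNPC P 0 ((DerivedCategory.singleFunctor C 0).obj X)) : PCoh.IsOfFiniteType P X := by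
  obtain ⟨E, hE, ⟨e⟩⟩ := h
  have hiso : ∀ i : ℤ, E.homology i ≅
      (DerivedCategory.homologyFunctor C i).obj ((DerivedCategory.singleFunctor C 0).obj X) :=
    fun i => (homologyQIso E i).symm ≪≫ (DerivedCategory.homologyFunctor C i).mapIso e
  refine isOfFiniteType_of_iso P (hiso 0 ≪≫ (singleFunctorCompHomologyFunctorIso C 0).app X) ?_
  apply isOfFiniteType_homology P hqs 0 E hE
  intro i hi
  rw [HomologicalComplex.exactAt_iff_isZero_homology]
  exact IsZero.of_iso (DerivedCategory.isZero_of_isLE _ 0 i hi) (hiso i)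

omit [HasDerivedCategory.{w} C] [P.IsClosedUnderIsomorphisms] [P.ContainsZero] in
include hql in
/-- quasi-liftability passes to a larger class all of whose objects are of finite type -/
lemma isQuasiLiftable_of_finiteType (P₁ : ObjectProperty C) (hle : ∀ X : C, P X → P₁ X)
    (hft : ∀ X : C, P₁ X → PCoh.IsOfFiniteType P X) : PCoh.IsQuasiLiftable P₁ := by
  intro E F u hu hF
  obtain ⟨L, π, hL, hπ⟩ := hft F hF
  have : Epi (pullback.snd u π) := inferInstance
  obtain ⟨F', v', hF', hv'⟩ := hql (pullback u π) L (pullback.snd u π) inferInstance hL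
  refine ⟨F', v' ≫ pullback.fst u π, hle F' hF', ?_⟩
  rw [Category.assoc, pullback.condition, ← Category.assoc]
  exact epi_comp _ _

end Groth.Agent.H28.PCohSES
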