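import Groth.Agent.H28.PCohSES

/-!
# The coherent case: `C₀`-coherent objects and pseudo-coherence
-/

set_option autoImplicit false

universe w v u

open CategoryTheory CategoryTheory.Limits

open scoped ZeroObject

namespace Groth.Agent.H28.PCohCoh

open Groth.Agent.H28 Groth.Agent.H28.PCohCore Groth.Agent.H28.PCohDer Groth.Agent.H28.PCohSum
  Groth.Agent.H28.PCohDev Groth.Agent.H28.PCohSES DerivedCategory

variable {C : Type u} [Category.{v} C] [Abelian C] (P : ObjectProperty C)

/-- `C₀`-coherent objects: of finite type, and every morphism from an object of `C₀` has a kernel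
of finite type -/
def IsCoh (X : C) : Prop :=
  PCoh.IsOfFiniteType P X ∧ ∀ (E : C) (u : E ⟶ X), P E → PCoh.IsOfFiniteType P (kernel u)

lemma IsCoh.of_iso {X Y : C} (e : X ≅ Y) (h : IsCoh P X) : IsCoh P Y :=
  ⟨isOfFiniteType_of_iso P e h.1, fun E u hE =>
    isOfFiniteType_of_iso P (kernelCompMono u e.inv) (h.2 E (u ≫ e.inv) hE)⟩

lemma isCoh_of_mono {Z X : C} (ι : Z ⟶ X) [Mono ι] (hX : IsCoh P X)
    (hZ : PCoh.IsOfFiniteType P Z) : IsCoh P Z :=
  ⟨hZ, fun E u hE => isOfFiniteType_of_iso P (kernelCompMono u ι) (hX.2 E (u ≫ ι) hE)⟩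

variable (hcoh : ∀ (X E : C) (u : E ⟶ X), P X → P E → PCoh.IsOfFiniteType P (kernel u))

include hcoh in
lemma isCoh_of_mem (X : C) (hX : P X) : IsCoh P X :=
  ⟨⟨X, 𝟙 X, hX, inferInstance⟩, fun E u hE => hcoh X E u hX hE⟩

include hcoh in
/-- coherence of the objects of `C₀` implies quasi-stability under kernels -/
lemma isQuasiStable_of_coh : PCoh.IsQuasiStableUnderKernels P := by
  intro K hK _ hP
  have := isIso_toCycles_zero K (hK 0) (hK 1)
  have e1 := (kernelIsKernel (K.d 1 2)).conePointUniqueUpToIso (K.cyclesIsKernel 1 2 (by simp))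
  have e : kernel (K.d 1 2) ≅ K.X 0 := e1 ≪≫ (asIso (K.toCycles 0 1)).symm
  exact isOfFiniteType_of_iso P e (hcoh _ _ (K.d 1 2) (hP 2 (by omega)) (hP 1 le_rfl))

variable [P.IsClosedUnderIsomorphisms]
  (hql : PCoh.IsQuasiLiftable P) (hsum : ∀ X Y : C, P X → P Y → P (X ⨯ Y))

include hql hsum in
/-- the cokernel of a morphism from an object of `C₀` to a coherent object is coherent -/
lemma isCoh_of_exact (S : ShortComplex C) (hS : S.Exact) [Epi S.g] (h₁ : P S.X₁)
    (h₂ : IsCoh P S.X₂) : IsCoh P S.X₃ := by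
  refine ⟨isOfFiniteType_of_epi P S.g h₂.1, ?_⟩
  intro L u hL
  obtain ⟨M, p, hM, hp⟩ := h₂.1
  have : Epi (p ≫ S.g) := epi_comp _ _
  obtain ⟨L', t, hL', ht⟩ := hql (pullback u (p ≫ S.g)) L (pullback.fst u (p ≫ S.g))
    inferInstance hL
  let q : L' ⟶ L := t ≫ pullback.fst _ _
  let v : L' ⟶ S.X₂ := t ≫ pullback.snd _ _ ≫ p
  have hqv : q ≫ u = v ≫ S.g := by simp [q, v, pullback.condition]
  let φ : L' ⊞ S.X₁ ⟶ S.X₂ := biprod.desc v (-S.f)
  have hφ : φ = biprod.fst ≫ v - biprod.snd ≫ S.f := by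
    ext <;> simp [φ]
  have hLE : P (L' ⊞ S.X₁) := P.prop_of_iso (biprod.isoProd L' S.X₁).symm (hsum _ _ hL' h₁)
  obtain ⟨N, r, hN, hr⟩ := h₂.2 (L' ⊞ S.X₁) φ hLE
  have hk : (kernel.ι φ ≫ biprod.fst ≫ q) ≫ u = 0 := by
    have h1 : kernel.ι φ ≫ (biprod.fst ≫ v - biprod.snd ≫ S.f) = 0 := by
      rw [← hφ]; exact kernel.condition φ
    have h2 : kernel.ι φ ≫ biprod.fst ≫ v = kernel.ι φ ≫ biprod.snd ≫ S.f := by
      rw [Preadditive.comp_sub, sub_eq_zero] at h1
      exact h1
    rw [Category.assoc, Category.assoc, hqv, reassoc_of% h2, S.zero, comp_zero, comp_zero]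
  let k' : kernel φ ⟶ kernel u := kernel.lift u _ hk
  have hk' : Epi k' := by
    rw [epi_iff_surjective_up_to_refinements]
    intro A y
    have hq : Epi q := ht
    obtain ⟨A₁, π₁, hπ₁, z, hz⟩ := surjective_up_to_refinements_of_epi q (y ≫ kernel.ι u)
    have hzv : (z ≫ v) ≫ S.g = 0 := by
      rw [Category.assoc, ← hqv, ← reassoc_of% hz, kernel.condition, comp_zero, comp_zero]
    obtain ⟨A₂, π₂, hπ₂, w, hw⟩ := hS.exact_up_to_refinements (z ≫ v) hzv
    have hlift : biprod.lift (π₂ ≫ z) w ≫ φ = 0 := by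
      rw [hφ, Preadditive.comp_sub, biprod.lift_fst_assoc, biprod.lift_snd_assoc, Category.assoc,
        hw, sub_self]
    refine ⟨A₂, π₂ ≫ π₁, epi_comp _ _, kernel.lift φ _ hlift, ?_⟩
    rw [← cancel_mono (kernel.ι u)]
    simp only [k', Category.assoc, kernel.lift_ι, kernel.lift_ι_assoc, biprod.lift_fst_assoc, hz]
  exact isOfFiniteType_of_epi P k' ⟨N, r, hN, hr⟩

include hcoh in
omit [P.IsClosedUnderIsomorphisms] in
lemma isCoh_cycles (E : CochainComplex C ℤ) (i : ℤ) (h1 : P (E.X i)) (h2 : P (E.X (i + 1))) :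
    IsCoh P (E.cycles i) := by
  refine isCoh_of_mono P (E.iCycles i) (isCoh_of_mem P hcoh _ h1) ?_
  have e1 := (kernelIsKernel (E.d i (i + 1))).conePointUniqueUpToIso
    (E.cyclesIsKernel i (i + 1) (by simp))
  exact isOfFiniteType_of_iso P e1 (hcoh _ _ (E.d i (i + 1)) h2 h1)

include hcoh hql hsum in
lemma isCoh_homology (E : CochainComplex C ℤ) (i : ℤ) (h0 : P (E.X (i - 1))) (h1 : P (E.X i))
    (h2 : P (E.X (i + 1))) : IsCoh P (E.homology i) := by
  let S : ShortComplex C := ShortComplex.mk (E.toCycles (i - 1) i) (E.homologyπ i)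
    (E.toCycles_comp_homologyπ (i - 1) i)
  have hS : S.Exact := S.exact_of_g_is_cokernel (E.homologyIsCokernel (i - 1) i (by simp))
  have : Epi S.g := by dsimp [S]; infer_instance
  exact isCoh_of_exact P hql hsum S hS h0 (isCoh_cycles P hcoh E i h1 h2)

include hcoh in
omit [P.IsClosedUnderIsomorphisms] in
lemma isOfFiniteType_homology_of_coh (E : CochainComplex C ℤ) (i : ℤ) (h1 : P (E.X i))
    (h2 : P (E.X (i + 1))) : PCoh.IsOfFiniteType P (E.homology i) :=
  isOfFiniteType_of_epi P (E.homologyπ i) (isCoh_cycles P hcoh E i h1 h2).1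

section Derived

variable [HasDerivedCategory.{w} C] [P.ContainsZero]

include hql in
/-- an object acyclic in degrees `> n` with `Hⁿ` of finite type is `n`-pseudo-coherent -/
lemma isNPC_of_finiteType_homology (n : ℤ) (F : DerivedCategory C)
    (hac : ∀ i : ℤ, n < i → IsZero ((DerivedCategory.homologyFunctor C i).obj F))
    (hft : PCoh.IsOfFiniteType P ((DerivedCategory.homologyFunctor C n).obj F)) :
    IsNPC P n F := by
  let F₁ := DerivedCategory.Q.objPreimage F
  let φ : DerivedCategory.Q.obj F₁ ≅ F := DerivedCategory.Q.objObjPreimageIso F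
  have hiso : ∀ i : ℤ, F₁.homology i ≅ (DerivedCategory.homologyFunctor C i).obj F := fun i =>
    (homologyQIso F₁ i).symm ≪≫ (DerivedCategory.homologyFunctor C i).mapIso φ
  obtain ⟨E', u', hE', hu'⟩ := exists_strictPC_of_finiteType_homology P hql n F₁
    (fun i hi => IsZero.of_iso (hac i hi) (hiso i))
    (isOfFiniteType_of_iso P (hiso n).symm hft)
  have := isIso_Q_map_of_quasiIso u' hu'
  exact ⟨E', hE', ⟨asIso (DerivedCategory.Q.map u') ≪≫ φ⟩⟩

include hql in
lemma isNPC_single_of_finiteType (X : C) (hX : PCoh.IsOfFiniteType P X) :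
    IsNPC P 0 ((DerivedCategory.singleFunctor C 0).obj X) :=
  isNPC_of_finiteType_homology P hql 0 _
    (fun i hi => DerivedCategory.isZero_of_isLE _ 0 i hi)
    (isOfFiniteType_of_iso P ((singleFunctorCompHomologyFunctorIso C 0).app X).symm hX)

omit hql hsum in
lemma isNPC_single_of_mem (k : ℤ) (M : C) (hM : P M) :
    IsNPC P k ((DerivedCategory.singleFunctor C 0).obj M) := by
  refine ⟨(CochainComplex.singleFunctor C 0).obj M, ⟨⟨0, fun i hi => ?_⟩, fun i _ => ?_⟩,
    ⟨Iso.refl _⟩⟩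
  · exact HomologicalComplex.isZero_single_obj_X (.up ℤ) 0 M i (by omega)
  · by_cases hi : i = 0
    · subst hi
      exact P.prop_of_iso (HomologicalComplex.singleObjXSelf (.up ℤ) 0 M).symm hM
    · exact P.prop_of_isZero (HomologicalComplex.isZero_single_obj_X (.up ℤ) 0 M i hi)

include hcoh hql hsum in
/-- coherent objects are pseudo-coherent -/
lemma isPC_single_of_isCoh : ∀ (j : ℕ) (X : C), IsCoh P X →
    IsNPC P (1 - (j : ℤ)) ((DerivedCategory.singleFunctor C 0).obj X) := by
  have hqs := isQuasiStable_of_coh P hcoh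
  intro j
  induction j with
  | zero =>
    intro X _
    exact isNPC_of_acyclic P _ _ (fun i hi => DerivedCategory.isZero_of_isLE _ 0 i (by
      simp at hi; omega))
  | succ j ih =>
    intro X hX
    obtain ⟨M, p, hM, hp⟩ := hX.1
    let S : ShortComplex C := ShortComplex.mk (kernel.ι p) p (kernel.condition p)
    have hS : S.ShortExact :=
      { exact := ShortComplex.exact_of_f_is_kernel _ (kernelIsKernel p)
        mono_f := by dsimp [S]; infer_instance
        epi_g := hp }
    have hK : IsCoh P (kernel p) :=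
      isCoh_of_mono P (kernel.ι p) (isCoh_of_mem P hcoh M hM) (hX.2 M p hM)
    have h₁ := ih (kernel p) hK
    have heq : (1 : ℤ) - (j : ℤ) = (1 - ((j + 1 : ℕ) : ℤ)) + 1 := by push_cast; ring
    rw [heq] at h₁
    exact isNPC_obj₃ P hql hsum hqs hS.singleTriangle hS.singleTriangle_distinguished h₁
      (isNPC_single_of_mem P _ M hM)

include hcoh hql hsum in
/-- the coherent criterion, sufficiency -/
theorem isNPC_of_coh_homology (n : ℤ) (F : DerivedCategory C) (b : ℤ)
    (hb : ∀ i : ℤ, b < i → IsZero ((DerivedCategory.homologyFunctor C i).obj F))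
    (hn : PCoh.IsOfFiniteType P ((DerivedCategory.homologyFunctor C n).obj F))
    (hi : ∀ i : ℤ, n < i → IsCoh P ((DerivedCategory.homologyFunctor C i).obj F)) :
    IsNPC P n F := by
  have hqs := isQuasiStable_of_coh P hcoh
  refine isNPC_of_homology P hql hsum hqs n (b - n + 1).toNat F ?_ ?_
  · intro i hi'
    exact hb i (by omega)
  · intro i hi'
    rcases hi'.eq_or_lt with rfl | hlt
    · rw [sub_self]
      exact isNPC_single_of_finiteType P hql _ hn
    · have := isPC_single_of_isCoh P hcoh hql hsum (i - n + 1).toNat _ (hi i hlt)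
      rwa [show (1 : ℤ) - ((i - n + 1).toNat : ℤ) = n - i by omega] at this

include hcoh hql hsum in
omit [P.ContainsZero] in
/-- the coherent criterion, necessity -/
theorem coh_homology_of_isNPC (n : ℤ) (F : DerivedCategory C) (hF : IsNPC P n F) :
    PCoh.IsOfFiniteType P ((DerivedCategory.homologyFunctor C n).obj F) ∧
      ∀ i : ℤ, n < i → IsCoh P ((DerivedCategory.homologyFunctor C i).obj F) := by
  obtain ⟨E, ⟨-, hP⟩, ⟨e⟩⟩ := hF
  have hiso : ∀ i : ℤ, E.homology i ≅ (DerivedCategory.homologyFunctor C i).obj F := fun i =>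
    (homologyQIso E i).symm ≪≫ (DerivedCategory.homologyFunctor C i).mapIso e
  refine ⟨isOfFiniteType_of_iso P (hiso n)
    (isOfFiniteType_homology_of_coh P hcoh E n (hP n le_rfl) (hP _ (by omega))), ?_⟩
  intro i hi
  exact IsCoh.of_iso P (hiso i)
    (isCoh_homology P hcoh hql hsum E i (hP _ (by omega)) (hP _ (by omega)) (hP _ (by omega)))

end Derived

end Groth.Agent.H28.PCohCoh
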