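import Groth.Agent.H28.PCohSum
import Mathlib.Algebra.Homology.DerivedCategory.TStructure
import Mathlib.Algebra.Homology.DerivedCategory.FullyFaithful

/-!
# Dévissage for pseudo-coherence
-/

set_option autoImplicit false

universe w v u

open CategoryTheory CategoryTheory.Limits CochainComplex HomComplex

open scoped ZeroObject

namespace Groth.Agent.H28.PCohDev

open Groth.Agent.H28 Groth.Agent.H28.PCohCore Groth.Agent.H28.PCohDer Groth.Agent.H28.PCohSum
  DerivedCategory

variable {C : Type u} [Category.{v} C] [Abelian C] [HasDerivedCategory.{w} C]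

section Triangle

open Pretriangulated

variable (T : Triangle (DerivedCategory C)) (hT : T ∈ distTriang _)

include hT

lemma isIso_map_mor₁ (i : ℤ) (h₁ : IsZero ((homologyFunctor C (i - 1)).obj T.obj₃))
    (h₂ : IsZero ((homologyFunctor C i).obj T.obj₃)) :
    IsIso ((homologyFunctor C i).map T.mor₁) := by
  have : Mono ((homologyFunctor C i).map T.mor₁) := by
    rw [HomologySequence.mono_homologyMap_mor₁_iff T hT (i - 1) i (by omega)]
    exact h₁.eq_of_src _ _
  have : Epi ((homologyFunctor C i).map T.mor₁) := by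
    rw [HomologySequence.epi_homologyMap_mor₁_iff T hT i]
    exact h₂.eq_of_tgt _ _
  exact isIso_of_mono_of_epi _

lemma isIso_map_mor₂ (i : ℤ) (h₁ : IsZero ((homologyFunctor C i).obj T.obj₁))
    (h₂ : IsZero ((homologyFunctor C (i + 1)).obj T.obj₁)) :
    IsIso ((homologyFunctor C i).map T.mor₂) := by
  have : Mono ((homologyFunctor C i).map T.mor₂) := by
    rw [HomologySequence.mono_homologyMap_mor₂_iff T hT i]
    exact h₁.eq_of_src _ _
  have : Epi ((homologyFunctor C i).map T.mor₂) := by
    rw [HomologySequence.epi_homologyMap_mor₂_iff T hT i (i + 1) rfl]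
    exact h₂.eq_of_tgt _ _
  exact isIso_of_mono_of_epi _

end Triangle

section

variable (P : ObjectProperty C) [P.IsClosedUnderIsomorphisms] [P.ContainsZero]

/-- zero objects are `n`-pseudo-coherent -/
lemma isNPC_of_isZero (n : ℤ) (X : DerivedCategory C) (hX : IsZero X) : IsNPC P n X := by
  have h0 : IsZero (0 : CochainComplex C ℤ) := isZero_zero _
  have h0X : ∀ i : ℤ, IsZero ((0 : CochainComplex C ℤ).X i) := fun i =>
    (HomologicalComplex.eval C (ComplexShape.up ℤ) i).map_isZero h0
  exact ⟨0, ⟨⟨0, fun i _ => h0X i⟩, fun i _ => P.prop_of_isZero (h0X i)⟩,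
    ⟨(Q.map_isZero h0).iso hX⟩⟩

/-- objects acyclic in degrees `≥ n` are `n`-pseudo-coherent -/
lemma isNPC_of_acyclic (n : ℤ) (X : DerivedCategory C)
    (hX : ∀ i : ℤ, n ≤ i → IsZero ((homologyFunctor C i).obj X)) : IsNPC P n X := by
  have : X.IsLE (n - 1) := by
    rw [DerivedCategory.isLE_iff]
    intro i hi
    exact hX i (by omega)
  obtain ⟨K, hK, ⟨e⟩⟩ := exists_iso_Q_obj_of_isLE X (n - 1)
  exact ⟨K, ⟨⟨n - 1, fun i hi => K.isZero_of_isStrictlyLE (n - 1) i hi⟩,
    fun i hi => P.prop_of_isZero (K.isZero_of_isStrictlyLE (n - 1) i (by omega))⟩, ⟨e.symm⟩⟩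

variable (hql : PCoh.IsQuasiLiftable P) (hsum : ∀ X Y : C, P X → P Y → P (X ⨯ Y))
  (hqs : PCoh.IsQuasiStableUnderKernels P)

include hql hsum hqs in
/-- dévissage by cohomology objects -/
lemma isNPC_of_homology (n : ℤ) : ∀ (j : ℕ) (X : DerivedCategory C),
    (∀ i : ℤ, n - 1 + j < i → IsZero ((homologyFunctor C i).obj X)) →
    (∀ i : ℤ, n ≤ i →
      IsNPC P (n - i) ((DerivedCategory.singleFunctor C 0).obj ((homologyFunctor C i).obj X))) →
    IsNPC P n X := by
  intro j
  induction j with
  | zero =>
    intro X hX _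
    exact isNPC_of_acyclic P n X (fun i hi => hX i (by simp; omega))
  | succ j ih =>
    intro X hX hfp
    obtain ⟨A, B, hA, hB, f, g, h, hT⟩ :=
      TStructure.t.exists_triangle X (n + j - 1) (n + j) (by omega)
    have hA' : ∀ i : ℤ, n + j - 1 < i → IsZero ((homologyFunctor C i).obj A) :=
      (DerivedCategory.isLE_iff A (n + j - 1)).mp ⟨hA⟩
    have hB' : ∀ i : ℤ, i < n + j → IsZero ((homologyFunctor C i).obj B) :=
      (DerivedCategory.isGE_iff B (n + j)).mp ⟨hB⟩
    have hAiso : ∀ i : ℤ, i < n + j → IsIso ((homologyFunctor C i).map f) := fun i hi =>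
      isIso_map_mor₁ (Pretriangulated.Triangle.mk f g h) hT i (hB' _ (by omega)) (hB' _ hi)
    have hBiso : ∀ i : ℤ, n + j ≤ i → IsIso ((homologyFunctor C i).map g) := fun i hi =>
      isIso_map_mor₂ (Pretriangulated.Triangle.mk f g h) hT i (hA' _ (by omega))
        (hA' _ (by omega))
    -- `A` is `n`-pseudo-coherent by induction
    have hAn : IsNPC P n A := by
      apply ih A
      · intro i hi
        exact hA' i (by omega)
      · intro i hi
        by_cases hi' : i < n + j
        · have := hAiso i hi'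
          exact IsNPC.of_iso P (hfp i hi)
            ((DerivedCategory.singleFunctor C 0).mapIso (asIso ((homologyFunctor C i).map f))).symm
        · exact isNPC_of_isZero P _ _ (((DerivedCategory.singleFunctor C 0).map_isZero (hA' i (by omega))))
    -- `B` is concentrated in degree `n + j`
    have hBn : IsNPC P n B := by
      have : B.IsGE (n + j) := ⟨hB⟩
      have : B.IsLE (n + j) := by
        rw [DerivedCategory.isLE_iff]
        intro i hi
        have := hBiso i (by omega)
        exact IsZero.of_iso (hX i (by push_cast; omega))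
          (asIso ((homologyFunctor C i).map g)).symm
      obtain ⟨Y, ⟨e⟩⟩ := exists_iso_singleFunctor_obj_of_isGE_of_isLE B (n + j)
      have := hBiso (n + j) le_rfl
      have eY : (homologyFunctor C (n + j)).obj X ≅ Y :=
        asIso ((homologyFunctor C (n + j)).map g) ≪≫ (homologyFunctor C (n + j)).mapIso e ≪≫
          (singleFunctorCompHomologyFunctorIso C (n + j)).app Y
      have h1 : IsNPC P (n - (n + j)) ((DerivedCategory.singleFunctor C 0).obj Y) :=
        IsNPC.of_iso P (hfp (n + j) (by omega)) ((DerivedCategory.singleFunctor C 0).mapIso eY)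
      have h2 := IsNPC.shift P h1 (-(n + j)) n (by omega)
      exact IsNPC.of_iso P h2
        (((DerivedCategory.singleFunctors C).shiftIso (-(n + j : ℤ)) (n + j) 0 (by omega)).app Y ≪≫ e.symm)
    exact isNPC_obj₂ P hql hsum hqs (Pretriangulated.Triangle.mk f g h) hT hAn hBn

end

end Groth.Agent.H28.PCohDev
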