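import Groth.Agent.H28.PCohDer2

/-!
# Pseudo-coherence in the derived category, III: improving `i`-quasi-isomorphisms
-/

set_option autoImplicit false

universe w v u

open CategoryTheory CategoryTheory.Limits CochainComplex HomComplex

open scoped ZeroObject

namespace Groth.Agent.H28.PCohDer

open Groth.Agent.H28 Groth.Agent.H28.PCohCore DerivedCategory

variable {C : Type u} [Category.{v} C] [Abelian C]

section

variable (P : ObjectProperty C) [P.IsClosedUnderIsomorphisms] [P.ContainsZero]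
  (hql : PCoh.IsQuasiLiftable P) (hsum : ∀ X Y : C, P X → P Y → P (X ⨯ Y))
  (hqs : PCoh.IsQuasiStableUnderKernels P)

omit [P.IsClosedUnderIsomorphisms] [P.ContainsZero] in
lemma isStrictPC_of_le {n k : ℤ} (hnk : n ≤ k) {E : CochainComplex C ℤ}
    (hE : PCoh.IsStrictPC P n E) : PCoh.IsStrictPC P k E :=
  ⟨hE.1, fun i hi => hE.2 i (by omega)⟩

include hsum hqs hql in
/-- Lemma D: finiteness of `H^k` of the cone of a `(k+1)`-quasi-isomorphism from a strictly
`n`-pseudo-coherent complex to an `n`-pseudo-coherent one -/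
lemma finiteType_homology_cone_of_isNPC [HasDerivedCategory.{w} C] {n k : ℤ} (hk : n ≤ k)
    {E F : CochainComplex C ℤ} (hE : PCoh.IsStrictPC P n E) (hF : IsNPC P n (Q.obj F))
    (u : E ⟶ F) (hiso : ∀ i : ℤ, k + 1 < i → IsIso (HomologicalComplex.homologyMap u i))
    (hepi : Epi (HomologicalComplex.homologyMap u (k + 1))) :
    PCoh.IsOfFiniteType P ((mappingCone u).homology k) := by
  obtain ⟨F₀, hF₀, ⟨e₀⟩⟩ := hF
  obtain ⟨E₁, r, t, hE₁, hr, ht⟩ := exists_rep_of_hom P hql hsum hqs n E F₀ hE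
    (Q.map u ≫ e₀.inv)
  have hQr := isIso_Q_map_of_quasiIso r hr
  have hT : Q.mapTriangle.obj (CochainComplex.mappingCone.triangle u) ∈
      Pretriangulated.distinguishedTriangles := by
    rw [DerivedCategory.mem_distTriang_iff]
    exact ⟨_, _, u, ⟨Iso.refl _⟩⟩
  obtain ⟨e₃⟩ := Groth.Agent.H35.nonempty_mappingCone_iso _ hT E₁ F₀ (@asIso _ _ _ _ (Q.map r) hQr) e₀ t
    (by
      rw [ht]
      rfl)
  have hiso₃ : ∀ j : ℤ, (mappingCone t).homology j ≅ (mappingCone u).homology j := fun j =>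
    homologyIsoOfQIso e₃ j
  refine isOfFiniteType_of_iso P (hiso₃ k) ?_
  apply isOfFiniteType_homology P hqs k
  · exact isStrictPC_of_le P hk
      (isStrictPC_mappingCone P hsum (isStrictPC_of_le P (by omega) hE₁) hF₀ t)
  · intro j hj
    rw [HomologicalComplex.exactAt_iff_isZero_homology]
    refine IsZero.of_iso ?_ (hiso₃ j)
    rw [isZero_homology_mappingCone_iff u j (j + 1) rfl]
    have := hiso (j + 1) (by omega)
    constructor
    · rcases (show k + 1 ≤ j by omega).eq_or_lt with rfl | h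
      · exact hepi
      · have := hiso j h
        infer_instance
    · infer_instance

include hsum hqs hql in
/-- improving an `i`-quasi-isomorphism to an `n`-quasi-isomorphism -/
lemma exists_nQuasiIso_of_isNPC [HasDerivedCategory.{w} C] {n i : ℤ} (hni : n ≤ i)
    {E F : CochainComplex C ℤ} (hE : PCoh.IsStrictPC P n E) (hF : IsNPC P n (Q.obj F))
    (u : E ⟶ F) (hiso : ∀ j : ℤ, i < j → IsIso (HomologicalComplex.homologyMap u j))
    (hepi : Epi (HomologicalComplex.homologyMap u i)) :
    ∃ (E' : CochainComplex C ℤ) (v : E ⟶ E') (u' : E' ⟶ F), v ≫ u' = u ∧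
      PCoh.IsStrictPC P n E' ∧ (∀ j : ℤ, Mono (v.f j)) ∧ (∀ j : ℤ, i ≤ j → IsIso (v.f j)) ∧
      (∀ j : ℤ, n < j → IsIso (HomologicalComplex.homologyMap u' j)) ∧
      Epi (HomologicalComplex.homologyMap u' n) := by
  have key : ∀ k : ℤ, k ≤ i → n ≤ k →
      ∃ (E' : CochainComplex C ℤ) (v : E ⟶ E') (u' : E' ⟶ F), v ≫ u' = u ∧
      PCoh.IsStrictPC P n E' ∧ (∀ j : ℤ, Mono (v.f j)) ∧ (∀ j : ℤ, i ≤ j → IsIso (v.f j)) ∧
      (∀ j : ℤ, k < j → IsIso (HomologicalComplex.homologyMap u' j)) ∧
      Epi (HomologicalComplex.homologyMap u' k) := by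
    intro k hk
    induction k, hk using Int.leInductionDown with
    | base =>
      intro _
      exact ⟨E, 𝟙 E, u, Category.id_comp _, hE, fun j => inferInstance,
        fun j _ => inferInstance, hiso, hepi⟩
    | pred k hk ih =>
      intro hnk
      obtain ⟨E₁, v₁, u₁, hvu₁, hE₁, hmono₁, hisov₁, hiso₁, hepi₁⟩ := ih (by omega)
      have hiso₁' : ∀ j : ℤ, k - 1 + 1 < j → IsIso (HomologicalComplex.homologyMap u₁ j) :=
        fun j hj => hiso₁ j (by omega)
      have hepi₁' : Epi (HomologicalComplex.homologyMap u₁ (k - 1 + 1)) := by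
        rw [show k - 1 + 1 = k by omega]
        exact hepi₁
      have hcone := finiteType_homology_cone_of_isNPC P hql hsum hqs hnk hE₁ hF u₁ hiso₁' hepi₁'
      obtain ⟨E₂, v₂, u₂, hvu₂, hmono₂, hisov₂, -, hP₂, hiso₂, hepi₂⟩ :=
        exists_modification_of_finiteType_split P hsum hql (k - 1) E₁ F u₁ hiso₁' hepi₁' hcone
      obtain ⟨⟨b, hb⟩, hP₁⟩ := hE₁
      refine ⟨E₂, v₁ ≫ v₂, u₂, by rw [Category.assoc, hvu₂, hvu₁], ⟨⟨max b k, fun j hj => ?_⟩,
        fun j hj => ?_⟩, fun j => ?_, fun j hj => ?_, hiso₂, hepi₂⟩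
      · have := hisov₂ j (by omega)
        exact IsZero.of_iso (hb j (by omega)) (asIso (v₂.f j)).symm
      · by_cases hj' : j = k - 1
        · subst hj'
          exact hP₂ (hP₁ _ hj)
        · have := hisov₂ j hj'
          exact P.prop_of_iso (asIso (v₂.f j)) (hP₁ j hj)
      · have := hmono₁ j
        have := hmono₂ j
        rw [HomologicalComplex.comp_f]
        infer_instance
      · have := hisov₁ j hj
        have := hisov₂ j (by omega)
        rw [HomologicalComplex.comp_f]
        infer_instance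
  exact key n hni le_rfl

end

end Groth.Agent.H28.PCohDer
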