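import Groth.Agent.H28.PCohDev2
import Groth.Agent.H28.PCohDer3

/-!
# Pseudo-coherence and triangulated functors
-/

set_option autoImplicit false

universe w w' v v' u u'

open CategoryTheory CategoryTheory.Limits CochainComplex HomComplex

open scoped ZeroObject

namespace Groth.Agent.H28.PCohFun

open Groth.Agent.H28 Groth.Agent.H28.PCohCore Groth.Agent.H28.PCohDer Groth.Agent.H28.PCohSum
  Groth.Agent.H28.PCohDev DerivedCategory

section Trunc

variable {C : Type u} [Category.{v} C] [Abelian C] [HasDerivedCategory.{w} C]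

/-- dévissage of a bounded above complex by its terms, for an abstract pair of properties -/
lemma exists_stupidTrunc_of_prop (R₁ R : DerivedCategory C → Prop)
    (h0 : ∀ X : DerivedCategory C, IsZero X → R X)
    (hcone : ∀ T : Pretriangulated.Triangle (DerivedCategory C),
      T ∈ Pretriangulated.distinguishedTriangles → R₁ T.obj₁ → R T.obj₂ → R T.obj₃)
    (n : ℤ) (F : CochainComplex C ℤ) (b : ℤ)
    (hb : ∀ i : ℤ, b < i → IsZero (F.X i))
    (hfp : ∀ i : ℤ, n ≤ i → R₁ ((DerivedCategory.singleFunctor C (i + 1)).obj (F.X i))) :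
    ∀ k : ℤ, k ≤ max (b + 1) n → n ≤ k →
      ∃ (G : CochainComplex C ℤ) (ι : G ⟶ F), IsStupidTrunc F G ι k ∧ R (Q.obj G) := by
  intro k hk
  induction k, hk using Int.leInductionDown with
  | base =>
    intro _
    have h0' : IsZero (0 : CochainComplex C ℤ) := isZero_zero _
    have h0X : ∀ i : ℤ, IsZero ((0 : CochainComplex C ℤ).X i) := fun i =>
      (HomologicalComplex.eval C (ComplexShape.up ℤ) i).map_isZero h0'
    refine ⟨0, 0, ⟨fun i _ => h0X i, fun i hi => ?_⟩, h0 _ (Q.map_isZero h0')⟩
    exact ⟨⟨0, (h0X i).eq_of_src _ _, (hb i (by omega)).eq_of_src _ _⟩⟩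
  | pred k hk ih =>
    intro hnk
    obtain ⟨G, ι, hG, hGn⟩ := ih (by omega)
    have hk' : k - 1 + 1 = k := by omega
    refine ⟨_, stepι ι (k - 1) hk' hG, isStupidTrunc_step ι (k - 1) hk' hG, ?_⟩
    have h₁ : R₁ ((DerivedCategory.singleFunctor C k).obj (F.X (k - 1))) := by
      have := hfp (k - 1) hnk
      rwa [hk'] at this
    exact hcone _ (mapTriangle_mappingCone_distinguished (stepMap ι (k - 1) hG)) h₁ hGn

omit [HasDerivedCategory.{w} C] in
/-- a stupid truncation below the support is an isomorphism -/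
lemma isIso_of_isStupidTrunc {F G : CochainComplex C ℤ} (ι : G ⟶ F) (k : ℤ)
    (h : IsStupidTrunc F G ι k) (hF : ∀ i : ℤ, i < k → IsZero (F.X i)) : IsIso ι := by
  have : ∀ i : ℤ, IsIso (ι.f i) := by
    intro i
    by_cases hi : k ≤ i
    · exact h.isIso i hi
    · exact ⟨⟨0, (h.isZero i (by omega)).eq_of_src _ _, (hF i (by omega)).eq_of_src _ _⟩⟩
  exact HomologicalComplex.Hom.isIso_of_components ι

/-- dévissage of a bounded complex by its terms, for an abstract pair of properties -/
lemma prop_of_terms (R₁ R : DerivedCategory C → Prop)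
    (hiso : ∀ X Y : DerivedCategory C, (X ≅ Y) → R X → R Y)
    (h0 : ∀ X : DerivedCategory C, IsZero X → R X)
    (hcone : ∀ T : Pretriangulated.Triangle (DerivedCategory C),
      T ∈ Pretriangulated.distinguishedTriangles → R₁ T.obj₁ → R T.obj₂ → R T.obj₃)
    (n : ℤ) (F : CochainComplex C ℤ) (b : ℤ)
    (hb : ∀ i : ℤ, b < i → IsZero (F.X i)) (hn : ∀ i : ℤ, i < n → IsZero (F.X i))
    (hfp : ∀ i : ℤ, n ≤ i → R₁ ((DerivedCategory.singleFunctor C (i + 1)).obj (F.X i))) :
    R (Q.obj F) := by
  obtain ⟨G, ι, hG, hGn⟩ := exists_stupidTrunc_of_prop R₁ R h0 hcone n F b hb hfp n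
    (le_max_right _ _) le_rfl
  have := isIso_of_isStupidTrunc ι n hG hn
  exact hiso _ _ (Q.mapIso (asIso ι)) hGn

end Trunc

section Functor

variable {C : Type u} [Category.{v} C] [Abelian C] [HasDerivedCategory.{w} C]
  {C' : Type u'} [Category.{v'} C'] [Abelian C'] [HasDerivedCategory.{w'} C']

/-- cohomology of a shifted object -/
noncomputable def homologyShiftIso (X : DerivedCategory C) (n i j : ℤ) (h : n + i = j) :
    (DerivedCategory.homologyFunctor C i).obj (X⟦n⟧) ≅ (DerivedCategory.homologyFunctor C j).obj X :=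
  ((DerivedCategory.homologyFunctor C 0).shiftIso n i j h).app X

variable (U : DerivedCategory C ⥤ DerivedCategory C') [U.CommShift ℤ]

/-- a functor commuting with shifts which sends objects acyclic in degrees `> 0` to objects
acyclic in degrees `> b` sends objects acyclic in degrees `> t` to objects acyclic in degrees
`> t + b` -/
lemma isZero_homology_map_of_acyclic (b : ℤ)
    (hii : ∀ F : DerivedCategory C,
      (∀ i : ℤ, 0 < i → IsZero ((DerivedCategory.homologyFunctor C i).obj F)) →
      ∀ i : ℤ, b < i → IsZero ((DerivedCategory.homologyFunctor C' i).obj (U.obj F)))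
    (t : ℤ) (X : DerivedCategory C)
    (hX : ∀ i : ℤ, t < i → IsZero ((DerivedCategory.homologyFunctor C i).obj X))
    (i : ℤ) (hi : t + b < i) :
    IsZero ((DerivedCategory.homologyFunctor C' i).obj (U.obj X)) := by
  have h1 : ∀ j : ℤ, 0 < j → IsZero ((DerivedCategory.homologyFunctor C j).obj (X⟦t⟧)) :=
    fun j hj => IsZero.of_iso (hX (t + j) (by omega)) (homologyShiftIso X t j (t + j) rfl)
  have h2 := hii (X⟦t⟧) h1 (i - t) (by omega)
  exact IsZero.of_iso h2 ((homologyShiftIso (U.obj X) t (i - t) i (by omega)).symm ≪≫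
    (DerivedCategory.homologyFunctor C' (i - t)).mapIso ((U.commShiftIso t).app X).symm)

omit [HasDerivedCategory.{w} C] in
lemma isNPC_of_le (P : ObjectProperty C) [HasDerivedCategory.{w} C] {n k : ℤ} (hnk : n ≤ k)
    {F : DerivedCategory C} (h : IsNPC P n F) : IsNPC P k F := by
  obtain ⟨E, hE, he⟩ := h
  exact ⟨E, isStrictPC_of_le P hnk hE, he⟩

variable [U.IsTriangulated]
  (P : ObjectProperty C) [P.IsClosedUnderIsomorphisms] [P.ContainsZero]
  (hql : PCoh.IsQuasiLiftable P) (hsum : ∀ X Y : C, P X → P Y → P (X ⨯ Y))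
  (hqs : PCoh.IsQuasiStableUnderKernels P)
  (P' : ObjectProperty C') [P'.IsClosedUnderIsomorphisms] [P'.ContainsZero]
  (hql' : PCoh.IsQuasiLiftable P') (hsum' : ∀ X Y : C', P' X → P' Y → P' (X ⨯ Y))
  (hqs' : PCoh.IsQuasiStableUnderKernels P')

include hql' hsum' hqs' in
omit [P.IsClosedUnderIsomorphisms] [P.ContainsZero] in
/-- the image of a bounded complex with terms in `C₀`, vanishing in degrees `> n`, is
`(n+a)`-pseudo-coherent -/
lemma isNPC_map_of_bounded (a : ℤ)
    (hi : ∀ E : C, P E → IsNPC P' a (U.obj ((DerivedCategory.singleFunctor C 0).obj E)))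
    (μ n : ℤ) (F' : CochainComplex C ℤ) (hb : ∀ i : ℤ, n < i → IsZero (F'.X i))
    (hμ : ∀ i : ℤ, i < μ → IsZero (F'.X i)) (hP : ∀ i : ℤ, P (F'.X i)) :
    IsNPC P' (n + a) (U.obj (Q.obj F')) := by
  refine prop_of_terms (fun X => IsNPC P' (n + a + 1) (U.obj X))
    (fun X => IsNPC P' (n + a) (U.obj X)) ?_ ?_ ?_ μ F' n hb hμ ?_
  · intro X Y e hX
    exact IsNPC.of_iso P' hX (U.mapIso e)
  · intro X hX
    exact isNPC_of_isZero P' _ _ (U.map_isZero hX)
  · intro T hT h₁ h₂
    exact isNPC_obj₃ P' hql' hsum' hqs' (U.mapTriangle.obj T) (U.map_distinguished T hT) h₁ h₂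
  · intro i _
    by_cases hin : n < i
    · exact isNPC_of_isZero P' _ _
        (U.map_isZero ((DerivedCategory.singleFunctor C (i + 1)).map_isZero (hb i hin)))
    · have h1 := IsNPC.shift P' (hi (F'.X i) (hP i)) (-(i + 1)) (a + i + 1) (by omega)
      have h2 := IsNPC.of_iso P' h1 ((U.commShiftIso (-(i + 1))).app _).symm
      have h3 := IsNPC.of_iso P' h2 (U.mapIso
        (((DerivedCategory.singleFunctors C).shiftIso (-(i + 1)) (i + 1) 0 (by omega)).app
          (F'.X i)))
      exact isNPC_of_le P' (by omega) h3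

include hql hsum hqs hql' hsum' hqs' in
/-- a triangulated functor of finite "amplitude" preserves pseudo-coherence up to a shift of the
indices -/
theorem isNPC_map (a b : ℤ)
    (hi : ∀ E : C, P E → IsNPC P' a (U.obj ((DerivedCategory.singleFunctor C 0).obj E)))
    (hii : ∀ F : DerivedCategory C,
      (∀ i : ℤ, 0 < i → IsZero ((DerivedCategory.homologyFunctor C i).obj F)) →
      ∀ i : ℤ, b < i → IsZero ((DerivedCategory.homologyFunctor C' i).obj (U.obj F)))
    (μ n : ℤ) (F : DerivedCategory C) (hF : IsNPC P μ F)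
    (hac : ∀ i : ℤ, n < i → IsZero ((DerivedCategory.homologyFunctor C i).obj F)) :
    IsNPC P' (max (μ + b) (n + a)) (U.obj F) := by
  by_cases hμn : n < μ
  · refine isNPC_of_le P' (show n + b + 1 ≤ _ by omega) (isNPC_of_acyclic P' _ _ ?_)
    intro i hi'
    exact isZero_homology_map_of_acyclic U b hii n F hac i (by omega)
  · obtain ⟨E, hE, ⟨e⟩⟩ := hF
    have hEac : ∀ i : ℤ, n + 1 ≤ i → IsZero (E.homology i) := fun i hi' =>
      IsZero.of_iso (hac i (by omega)) ((homologyQIso E i).symm ≪≫
        (DerivedCategory.homologyFunctor C i).mapIso e)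
    obtain ⟨F', w, hb, hP, hz, hiso, hepi⟩ :=
      approxB_of_quasiIso P hql hsum hqs (show μ ≤ n + 1 by omega) hE (𝟙 E) inferInstance hEac
    have hR : ∀ i : ℤ, μ ≤ i → IsZero ((mappingCone w).homology i) := by
      intro i hi'
      rw [isZero_homology_mappingCone_iff w i (i + 1) rfl]
      have := hiso (i + 1) (by omega)
      constructor
      · rcases hi'.eq_or_lt with rfl | hi''
        · exact hepi
        · have := hiso i hi''
          infer_instance
      · infer_instance
    have hT := mapTriangle_mappingCone_distinguished w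
    have h₁ : IsNPC P' (max (μ + b) (n + a)) (U.obj (Q.obj F')) :=
      isNPC_of_le P' (le_max_right _ _)
        (isNPC_map_of_bounded U P P' hql' hsum' hqs' a hi μ n F' (fun i hi' => hb i (by omega))
          hz hP)
    have h₃ : IsNPC P' (max (μ + b) (n + a)) (U.obj (Q.obj (mappingCone w))) := by
      refine isNPC_of_le P' (le_max_left _ _) (isNPC_of_acyclic P' _ _ ?_)
      intro i hi'
      refine isZero_homology_map_of_acyclic U b hii (μ - 1) _ ?_ i (by omega)
      intro j hj
      exact IsZero.of_iso (hR j (by omega)) (homologyQIso _ j)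
    have h₂ := isNPC_obj₂ P' hql' hsum' hqs' (U.mapTriangle.obj _) (U.map_distinguished _ hT)
      h₁ h₃
    exact IsNPC.of_iso P' h₂ (U.mapIso e)

end Functor

end Groth.Agent.H28.PCohFun

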