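import Mathlib
import Groth.Agent.H2.DualCx.LocalCM

/-!
# Shifts of dualizing complexes (helper28)
-/

set_option autoImplicit false
universe u
open CategoryTheory Pretriangulated Limits DerivedCategory Opposite IsLocalRing

namespace Groth.Agent.H28.DualShift

attribute [local instance] HasDerivedCategory.standard

variable {A : Type u} [CommRing A]

/-- a shift of a dualizing complex is dualizing -/
theorem isDualizing_shift (ω : Dual.D A) (hω : Dual.IsDualizing A ω) (n : ℤ) :
    Dual.IsDualizing A (ω⟦n⟧) := by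
  have := hω.isNoetherianRing
  obtain ⟨a, b, hab⟩ := hω.finite_injective_dimension
  refine ⟨hω.isNoetherianRing, ⟨a - n, b - n, ?_⟩, ?_, ?_, ?_⟩
  · intro M _ _ i hi
    have := hab M (n + i) (by omega)
    exact (Groth.Agent.H2.DualCx.TShiftEquiv ω n i M).toEquiv.subsingleton
  · intro i
    have := hω.finite_cohomology (n + i)
    exact Module.Finite.equiv (Groth.Agent.H2.DualCx.HDShiftEquiv ω n i).symm
  · have h1 : (fun c : A => c • 𝟙 (ω⟦n⟧)) =
        (fun f : ω ⟶ ω => (shiftFunctor (Dual.D A) n).map f) ∘ (fun c : A => c • 𝟙 ω) := by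
      funext c
      simp [Functor.map_smul]
    rw [h1]
    refine Function.Bijective.comp ?_ hω.toEnd_bijective
    exact ⟨(shiftFunctor (Dual.D A) n).map_injective, (shiftFunctor (Dual.D A) n).map_surjective⟩
  · intro i hi
    have h0 := hω.ext_self_subsingleton i hi
    refine ⟨fun x y => ?_⟩
    let e : (ω⟦n⟧)⟦i⟧ ≅ (ω⟦i⟧)⟦n⟧ := (shiftFunctorComm (Dual.D A) n i).app ω
    obtain ⟨x', hx'⟩ := (shiftFunctor (Dual.D A) n).map_surjective (x ≫ e.hom)
    obtain ⟨y', hy'⟩ := (shiftFunctor (Dual.D A) n).map_surjective (y ≫ e.hom)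
    have : x ≫ e.hom = y ≫ e.hom := by rw [← hx', ← hy', h0.elim x' y']
    exact (cancel_mono e.hom).1 this

/-- normalizing shift -/
theorem exists_normalized_shift [IsLocalRing A] (ω : Dual.D A) (hω : Dual.IsDualizing A ω) :
    ∃ n : ℤ, Dual.IsDualizing A (ω⟦n⟧) ∧ Dual.IsNormalized A (ω⟦n⟧) := by
  have := hω.isNoetherianRing
  obtain ⟨n, hvan, -⟩ := Groth.Agent.H2.DualCx.residue_ext A ω hω (maximalIdeal A)
  refine ⟨n, isDualizing_shift ω hω n, ?_⟩
  intro i hi
  have := hvan (n + i) (by omega)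
  exact (Groth.Agent.H2.DualCx.TShiftEquiv ω n i (A ⧸ maximalIdeal A)).toEquiv.subsingleton

end Groth.Agent.H28.DualShift
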