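import Groth.Agent.H28.DualFinLen
import Groth.Agent.H28.CoextModel

/-!
# `Hom_D(N[0], ω) ≃ Hom_A(N, E)` for finite length `N` (helper28; S1749)
-/

set_option autoImplicit false
universe u
open CategoryTheory Pretriangulated Limits DerivedCategory Opposite IsLocalRing

namespace Groth.Agent.H28.DualFinLen

attribute [local instance] HasDerivedCategory.standard

section G

variable {A B : Type u} [CommRing A] [CommRing B] [Algebra A B]
variable (N : Type u) [AddCommGroup N] [Module A N] [Module B N] [IsScalarTower A B N]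

/-- `N` as a `B`-module restricted to `A` is `N` as an `A`-module -/
noncomputable def jIso :
    (ModuleCat.restrictScalars.{u} (algebraMap A B)).obj (ModuleCat.of B N) ≅ ModuleCat.of A N :=
  LinearEquiv.toModuleIso
    (show ((ModuleCat.restrictScalars.{u} (algebraMap A B)).obj (ModuleCat.of B N)) ≃ₗ[A] N from
    { toFun := fun x => x
      invFun := fun x => x
      map_add' := fun _ _ => rfl
      map_smul' := fun a x => algebraMap_smul B a (show N from x)
      left_inv := fun _ => rfl
      right_inv := fun _ => rfl })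

/-- `restrictD (N[0]) ≅ N[0]` -/
noncomputable def e1 : (DRing.restrictD (algebraMap A B)).obj (Dual.inD B N) ≅ Dual.inD A N :=
  ((ModuleCat.restrictScalars.{u} (algebraMap A B)).mapDerivedCategorySingleFunctor 0).app _ ≪≫
    (DerivedCategory.singleFunctor (ModuleCat.{u} A) 0).mapIso (jIso N)

variable (E : ModuleCat.{u} A)

/-- `Hom_A(N, E) → Hom_B(N, Hom_A(B, E))` -/
noncomputable def g1 (l : N →ₗ[A] E) :
    ModuleCat.of B N ⟶ (CoextModel.Rc (A := A) (B := B)).obj E :=
  (CoextModel.adj0 (A := A) (B := B)).homEquiv _ _ ((jIso N).hom ≫ ModuleCat.ofHom l)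

lemma g1_add (l l' : N →ₗ[A] E) : g1 (B := B) N E (l + l') = g1 N E l + g1 N E l' := by
  unfold g1
  rw [← Adjunction.homAddEquiv_add]
  congr 1

lemma g1_bijective : Function.Bijective (g1 (B := B) N E) := by
  have h1 : Function.Bijective (fun l : N →ₗ[A] E => ((jIso (B := B) N).hom ≫ ModuleCat.ofHom l)) := by
    constructor
    · intro l l' h
      have h2 := (cancel_epi _).1 h
      exact congrArg ModuleCat.Hom.hom h2
    · intro g
      refine ⟨((jIso (B := B) N).inv ≫ g).hom, ?_⟩
      change (jIso (B := B) N).hom ≫ ((jIso (B := B) N).inv ≫ g) = g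
      rw [Iso.hom_inv_id_assoc]
  exact ((CoextModel.adj0 (A := A) (B := B)).homEquiv _ _).bijective.comp h1

lemma g1_smul (a : A) (l : N →ₗ[A] E) :
    g1 (B := B) N E (a • l) = algebraMap A B a • g1 N E l := by
  ext x s
  change a • l ((show B from s) • (show N from x)) =
    l (((show B from s) * algebraMap A B a) • (show N from x))
  rw [mul_smul, algebraMap_smul, ← map_smul, smul_comm]

variable (ω : Dual.D A) (R : Dual.D A ⥤ Dual.D B) (adj : DRing.restrictD (algebraMap A B) ⊣ R)
  (θ : R.obj ω ≅ (DerivedCategory.singleFunctor (ModuleCat.{u} B) 0).obj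
    ((CoextModel.Rc (A := A) (B := B)).obj E))

/-- the comparison map `Hom_A(N, E) → Hom_{D(A)}(N[0], ω)` -/
noncomputable def Lam (l : N →ₗ[A] E) : Dual.inD A N ⟶ ω :=
  (e1 (B := B) N).inv ≫ (adj.homEquiv _ _).symm
    ((DerivedCategory.singleFunctor (ModuleCat.{u} B) 0).map (g1 N E l) ≫ θ.inv)

lemma Lam_eq (l : N →ₗ[A] E) : Lam N E ω R adj θ l =
    (e1 (B := B) N).inv ≫ ((DRing.restrictD (algebraMap A B)).map
      ((DerivedCategory.singleFunctor (ModuleCat.{u} B) 0).map (g1 N E l) ≫ θ.inv) ≫
        adj.counit.app ω) := by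
  unfold Lam
  rw [Adjunction.homEquiv_counit]

lemma Lam_add (l l' : N →ₗ[A] E) :
    Lam N E ω R adj θ (l + l') = Lam N E ω R adj θ l + Lam N E ω R adj θ l' := by
  rw [Lam_eq, Lam_eq, Lam_eq, g1_add, Functor.map_add, Preadditive.add_comp, Functor.map_add,
    Preadditive.add_comp, Preadditive.comp_add]

lemma Lam_smul (a : A) (l : N →ₗ[A] E) :
    Lam N E ω R adj θ (a • l) = a • Lam N E ω R adj θ l := by
  rw [Lam_eq, Lam_eq, g1_smul, Functor.map_smul, Linear.smul_comp,
    RestrAdj.restrictD_map_smul, Linear.smul_comp, Linear.comp_smul]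

lemma Lam_bijective : Function.Bijective (Lam N E ω R adj θ) := by
  have h2 : Function.Bijective (fun g : ModuleCat.of B N ⟶ (CoextModel.Rc (A := A) (B := B)).obj E =>
      (DerivedCategory.singleFunctor (ModuleCat.{u} B) 0).map g) :=
    ⟨Functor.map_injective _, Functor.map_surjective _⟩
  have h3 : Function.Bijective (fun g : Dual.inD B N ⟶
      (DerivedCategory.singleFunctor (ModuleCat.{u} B) 0).obj
        ((CoextModel.Rc (A := A) (B := B)).obj E) => g ≫ θ.inv) := by
    constructor
    · intro g g' h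
      exact (cancel_mono _).1 h
    · intro g
      exact ⟨g ≫ θ.hom, by simp⟩
  have h4 := (adj.homEquiv (Dual.inD B N) ω).symm.bijective
  have h5 : Function.Bijective (fun g : (DRing.restrictD (algebraMap A B)).obj (Dual.inD B N) ⟶ ω =>
      (e1 (B := B) N).inv ≫ g) := by
    constructor
    · intro g g' h
      exact (cancel_epi _).1 h
    · intro g
      exact ⟨(e1 (B := B) N).hom ≫ g, by simp⟩
  exact h5.comp (h4.comp (h3.comp (h2.comp (g1_bijective N E))))

include R adj θ in
/-- `Hom_{D(A)}(N[0], ω) ≃ Hom_A(N, E)` when `R ω ≅ Hom_A(B, E)[0]` and `N` is a `B`-module -/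
theorem nonempty_linearEquiv : Nonempty ((Dual.inD A N ⟶ ω) ≃ₗ[A] (N →ₗ[A] E)) := by
  let Λ : (N →ₗ[A] E) →ₗ[A] (Dual.inD A N ⟶ ω) :=
    { toFun := Lam N E ω R adj θ
      map_add' := Lam_add N E ω R adj θ
      map_smul' := Lam_smul N E ω R adj θ }
  exact ⟨(LinearEquiv.ofBijective Λ (Lam_bijective N E ω R adj θ)).symm⟩

end G

section Final

variable {A : Type u} [CommRing A] [IsLocalRing A] [IsNoetherianRing A]

theorem nonempty_linearEquiv_of_isFiniteLength (ω : Dual.D A) (hω : Dual.IsDualizing A ω)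
    (hn : Dual.IsNormalized A ω)
    (E : Type u) [AddCommGroup E] [Module A E] (f : ResidueField A →ₗ[A] E)
    (hf : InjHull.IsInjectiveHull f)
    (N : Type u) [AddCommGroup N] [Module A N] (hN : IsFiniteLength A N) :
    Nonempty ((Dual.inD A N ⟶ ω) ≃ₗ[A] (N →ₗ[A] E)) := by
  obtain ⟨n, hpos, hkill⟩ := exists_pow_smul_eq_bot N hN
  have htors : Module.IsTorsionBySet A N (((maximalIdeal A) ^ n : Ideal A) : Set A) := by
    intro x r
    have h1 : (r : A) • x ∈ (maximalIdeal A) ^ n • (⊤ : Submodule A N) :=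
      Submodule.smul_mem_smul r.2 Submodule.mem_top
    rw [hkill] at h1
    exact (Submodule.mem_bot A).1 h1
  let mB : Module (A ⧸ (maximalIdeal A) ^ n) N := htors.module
  have tower : IsScalarTower A (A ⧸ (maximalIdeal A) ^ n) N := htors.isScalarTower
  obtain ⟨θ⟩ := exists_iso_coext ω hω hn E f hf n hpos
  exact nonempty_linearEquiv N (ModuleCat.of A E) ω CoextModel.RRc CoextModel.adj' θ

end Final

end Groth.Agent.H28.DualFinLen
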