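import Mathlib
import Groth.Agent.H26.FlatBCDual3

/-!
# Dualizing complexes: from all maximal localizations to the ring (helper28; S7867, S11360)
-/

set_option autoImplicit false
universe u
open CategoryTheory Limits Pretriangulated DerivedCategory TensorProduct

namespace Groth.Agent.H28.DualLocGlob

open Groth.Agent.H26.FlatBCHom Groth.Agent.H26.FlatBCDual

attribute [local instance] HasDerivedCategory.standard
attribute [local instance] homModuleA

variable {A : Type u} [CommRing A] [IsNoetherianRing A]

/-- the map induced on localizations `A_P ⊗ -` is `lTensor` -/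
lemma map_mk_eq_lTensor (P : Ideal A) [P.IsPrime] {M N : Type*} [AddCommGroup M] [Module A M]
    [AddCommGroup N] [Module A N] (F : M →ₗ[A] N) :
    IsLocalizedModule.map P.primeCompl (TensorProduct.mk A (Localization.AtPrime P) M 1)
      (TensorProduct.mk A (Localization.AtPrime P) N 1) F = F.lTensor (Localization.AtPrime P) := by
  apply IsLocalizedModule.linearMap_ext P.primeCompl
    (TensorProduct.mk A (Localization.AtPrime P) M 1)
    (TensorProduct.mk A (Localization.AtPrime P) N 1)
  ext x
  have h := IsLocalizedModule.map_apply P.primeCompl
    (TensorProduct.mk A (Localization.AtPrime P) M 1)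
    (TensorProduct.mk A (Localization.AtPrime P) N 1) F x
  simpa using h

theorem isDualizing_of_maximal (K : Dual.D A) (a b : ℤ) (hGE : K.IsGE a) (hLE : K.IsLE b)
    (hfin : ∀ i : ℤ, Module.Finite A (Dual.HD A K i))
    (hinj : ∃ a b : ℤ, ∀ (M : Type u) [AddCommGroup M] [Module A M] (i : ℤ),
      (i < a ∨ b < i) → Subsingleton (Dual.inD A M ⟶ K⟦i⟧))
    (hloc : ∀ (m : Ideal A) [m.IsMaximal],
      Dual.IsDualizing (Localization.AtPrime m) ((LB A (Localization.AtPrime m)).obj K)) :
    Dual.IsDualizing A K := by
  refine ⟨inferInstance, hinj, hfin, ?_, ?_⟩
  · -- `A → End K` is bijective, checked at all maximal ideals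
    have hrho : Function.Bijective (rho K) := by
      refine bijective_of_isLocalized_maximal
        (fun P _ => Localization.AtPrime P ⊗[A] A)
        (fun P _ => TensorProduct.mk A (Localization.AtPrime P) A 1)
        (fun P _ => Localization.AtPrime P ⊗[A] (K ⟶ K))
        (fun P _ => TensorProduct.mk A (Localization.AtPrime P) (K ⟶ K) 1) (rho K) ?_
      intro P _
      rw [map_mk_eq_lTensor]
      have hBC : BC (B := Localization.AtPrime P) K K :=
        BC_of_bounded' K K a b a b hGE hLE hfin hGE hLE
      have h := (hloc P).toEnd_bijective
      rw [toEnd_LB_eq] at h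
      have h1 : Function.Bijective ((theta (B := Localization.AtPrime P) K K) ∘
          ((rho K).baseChange (Localization.AtPrime P))) := by
        have := h.comp (TensorProduct.AlgebraTensorModule.rid A (Localization.AtPrime P)
          (Localization.AtPrime P)).bijective
        have h2 : (((theta (B := Localization.AtPrime P) K K) ∘
            ((rho K).baseChange (Localization.AtPrime P)) ∘
            (TensorProduct.AlgebraTensorModule.rid A (Localization.AtPrime P)
              (Localization.AtPrime P)).symm) ∘
            (TensorProduct.AlgebraTensorModule.rid A (Localization.AtPrime P)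
              (Localization.AtPrime P))) =
            (theta (B := Localization.AtPrime P) K K) ∘
              ((rho K).baseChange (Localization.AtPrime P)) := by
          funext x
          simp
        rwa [h2] at this
      have h3 : Function.Bijective ((rho K).baseChange (Localization.AtPrime P)) := by
        refine ⟨?_, ?_⟩
        · exact h1.1.of_comp
        · intro y
          obtain ⟨x, hx⟩ := h1.2 (theta (B := Localization.AtPrime P) K K y)
          exact ⟨x, hBC.1 hx⟩
      exact h3
    exact hrho
  · intro i hi
    refine Groth.Agent.H26.FlatBCDual.subsingleton_of_forall_maximal_tensor (R := A) (K ⟶ K⟦i⟧) ?_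
    intro n _
    have hBC : BC (B := Localization.AtPrime n) K (K⟦i⟧) :=
      BC_of_bounded K K a b a b hGE hLE hfin hGE hLE i
    have h0 := (hloc n).ext_self_subsingleton i hi
    have h1 : Subsingleton ((LB A (Localization.AtPrime n)).obj K ⟶
        (LB A (Localization.AtPrime n)).obj (K⟦i⟧)) :=
      subsingleton_hom_of_iso (Iso.refl _)
        (((LB A (Localization.AtPrime n)).commShiftIso i).app K).symm h0
    exact hBC.1.subsingleton

end Groth.Agent.H28.DualLocGlob
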