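import Mathlib

/-!
# The characteristic sequence of a module over a polynomial ring (helper28)

For an `A[X]`-module `N` there is a short exact sequence of `A[X]`-modules
`0 → A[X] ⊗_A N → A[X] ⊗_A N → N → 0`, the first map being `X ⊗ 1 - 1 ⊗ X`.
-/

set_option autoImplicit false
universe u
open Polynomial TensorProduct

namespace Groth.Agent.H28.PolyCharSeq

variable (A : Type u) [CommRing A] (N : Type u) [AddCommGroup N] [Module A N] [Module A[X] N]
  [IsScalarTower A A[X] N]

/-- multiplication by `X` on `N`, as an `A`-linear map -/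
noncomputable def Tx : N →ₗ[A] N where
  toFun n := (X : A[X]) • n
  map_add' := smul_add _
  map_smul' a n := smul_comm _ _ _

@[simp] lemma Tx_apply (n : N) : Tx A N n = (X : A[X]) • n := rfl

/-- `d = X ⊗ 1 - 1 ⊗ X` -/
noncomputable def dMap : A[X] ⊗[A] N →ₗ[A[X]] A[X] ⊗[A] N :=
  LinearMap.lsmul A[X] (A[X] ⊗[A] N) X - AlgebraTensorModule.lTensor A[X] A[X] (Tx A N)

lemma dMap_tmul (b : A[X]) (n : N) :
    dMap A N (b ⊗ₜ[A] n) = (X * b) ⊗ₜ[A] n - b ⊗ₜ[A] ((X : A[X]) • n) := by
  simp [dMap, TensorProduct.smul_tmul']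

/-- the action map `ε : A[X] ⊗ N → N` -/
noncomputable def epsMap : A[X] ⊗[A] N →ₗ[A[X]] N :=
  (LinearMap.id : N →ₗ[A] N).liftBaseChange A[X]

lemma epsMap_tmul (b : A[X]) (n : N) : epsMap A N (b ⊗ₜ[A] n) = b • n := rfl

lemma epsMap_dMap (x : A[X] ⊗[A] N) : epsMap A N (dMap A N x) = 0 := by
  induction x using TensorProduct.induction_on with
  | zero => simp
  | tmul b n =>
    simp only [dMap_tmul, map_sub, epsMap_tmul]
    rw [mul_smul, smul_comm, sub_self]
  | add x y hx hy =>
    rw [(dMap A N).map_add, (epsMap A N).map_add, hx, hy, add_zero]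

lemma epsMap_surjective : Function.Surjective (epsMap A N) := fun n =>
  ⟨1 ⊗ₜ[A] n, by rw [epsMap_tmul, one_smul]⟩

lemma monomial_tmul_sub_mem (k : ℕ) : ∀ (a : A) (n : N),
    (monomial k a) ⊗ₜ[A] n - (1 : A[X]) ⊗ₜ[A] ((monomial k a) • n) ∈
      LinearMap.range (dMap A N) := by
  induction k with
  | zero =>
    intro a n
    have h1 : (monomial 0 a : A[X]) = algebraMap A A[X] a := rfl
    have h2 : (algebraMap A A[X] a) ⊗ₜ[A] n = (1 : A[X]) ⊗ₜ[A] (a • n) := by
      rw [Algebra.algebraMap_eq_smul_one, TensorProduct.smul_tmul]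
    rw [h1, h2, algebraMap_smul, sub_self]
    exact Submodule.zero_mem _
  | succ k ih =>
    intro a n
    have h1 : (monomial (k + 1) a : A[X]) = X * monomial k a := by
      rw [X_mul_monomial]
    have h2 : (monomial (k + 1) a) ⊗ₜ[A] n - (1 : A[X]) ⊗ₜ[A] ((monomial (k + 1) a) • n) =
        dMap A N ((monomial k a) ⊗ₜ[A] n) +
          ((monomial k a) ⊗ₜ[A] ((X : A[X]) • n) -
            (1 : A[X]) ⊗ₜ[A] ((monomial k a) • ((X : A[X]) • n))) := by
      rw [dMap_tmul, h1]
      have h3 : (X * monomial k a) • n = (monomial k a) • ((X : A[X]) • n) := by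
        rw [mul_comm, mul_smul]
      rw [h3]
      abel
    rw [h2]
    exact Submodule.add_mem _ ⟨_, rfl⟩ (ih a _)

lemma tmul_sub_mem (b : A[X]) : ∀ n : N,
    b ⊗ₜ[A] n - (1 : A[X]) ⊗ₜ[A] (b • n) ∈ LinearMap.range (dMap A N) := by
  induction b using Polynomial.induction_on' with
  | add p q hp hq =>
    intro n
    have : (p + q) ⊗ₜ[A] n - (1 : A[X]) ⊗ₜ[A] ((p + q) • n) =
        (p ⊗ₜ[A] n - (1 : A[X]) ⊗ₜ[A] (p • n)) + (q ⊗ₜ[A] n - (1 : A[X]) ⊗ₜ[A] (q • n)) := by
      rw [TensorProduct.add_tmul, add_smul, TensorProduct.tmul_add]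
      abel
    rw [this]
    exact Submodule.add_mem _ (hp n) (hq n)
  | monomial k a => exact monomial_tmul_sub_mem A N k a

lemma sub_one_tmul_eps_mem (x : A[X] ⊗[A] N) :
    x - (1 : A[X]) ⊗ₜ[A] (epsMap A N x) ∈ LinearMap.range (dMap A N) := by
  induction x using TensorProduct.induction_on with
  | zero => simp
  | tmul b n => exact tmul_sub_mem A N b n
  | add x y hx hy =>
    have : x + y - (1 : A[X]) ⊗ₜ[A] (epsMap A N (x + y)) =
        (x - (1 : A[X]) ⊗ₜ[A] (epsMap A N x)) + (y - (1 : A[X]) ⊗ₜ[A] (epsMap A N y)) := by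
      rw [map_add, TensorProduct.tmul_add]
      abel
    rw [this]
    exact Submodule.add_mem _ hx hy

lemma exact_dMap_epsMap : Function.Exact (dMap A N) (epsMap A N) := by
  intro x
  constructor
  · intro hx
    have := sub_one_tmul_eps_mem A N x
    rwa [hx, TensorProduct.tmul_zero, sub_zero] at this
  · rintro ⟨y, rfl⟩
    exact epsMap_dMap A N y

/-- the coefficients of an element of `A[X] ⊗ N` -/
noncomputable def coeffs : A[X] ⊗[A] N ≃ₗ[A] ℕ →₀ N :=
  TensorProduct.equivFinsuppOfBasisLeft (Polynomial.basisMonomials A)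

lemma coeffs_tmul (b : A[X]) (n : N) (k : ℕ) : coeffs A N (b ⊗ₜ[A] n) k = b.coeff k • n := by
  rw [coeffs, TensorProduct.equivFinsuppOfBasisLeft_apply_tmul_apply]
  congr 1

lemma coeffs_dMap_succ (x : A[X] ⊗[A] N) (k : ℕ) :
    coeffs A N (dMap A N x) (k + 1) = coeffs A N x k - (X : A[X]) • coeffs A N x (k + 1) := by
  induction x using TensorProduct.induction_on with
  | zero => simp
  | tmul b n =>
    rw [dMap_tmul, map_sub, Finsupp.sub_apply, coeffs_tmul, coeffs_tmul, coeffs_tmul, coeffs_tmul,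
      coeff_X_mul, smul_comm]
  | add x y hx hy =>
    rw [(dMap A N).map_add, (coeffs A N).map_add, Finsupp.add_apply, hx, hy,
      (coeffs A N).map_add, Finsupp.add_apply, Finsupp.add_apply, smul_add]
    abel

lemma dMap_injective : Function.Injective (dMap A N) := by
  rw [injective_iff_map_eq_zero]
  intro x hx
  have hrec : ∀ k, coeffs A N x k = (X : A[X]) • coeffs A N x (k + 1) := by
    intro k
    have := coeffs_dMap_succ A N x k
    rw [hx, map_zero, Finsupp.zero_apply] at this
    exact sub_eq_zero.mp this.symm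
  have hzero : coeffs A N x = 0 := by
    by_contra hne
    have hsupp : (coeffs A N x).support.Nonempty := Finsupp.support_nonempty_iff.mpr hne
    set m := (coeffs A N x).support.max' hsupp with hm
    have hmem : m ∈ (coeffs A N x).support := Finset.max'_mem _ hsupp
    have hnot : m + 1 ∉ (coeffs A N x).support := fun h => by
      have := Finset.le_max' _ _ h
      omega
    rw [Finsupp.mem_support_iff] at hmem
    rw [Finsupp.notMem_support_iff] at hnot
    apply hmem
    rw [hrec m, hnot, smul_zero]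
  exact (coeffs A N).map_eq_zero_iff.mp hzero

end Groth.Agent.H28.PolyCharSeq
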