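import Mathlib
import Groth.Agent.H28.PolyCharSeq
import Groth.Agent.H28.DualLocGlob
import Groth.Agent.H9.ExtBC.Adj
import Groth.Agent.H2.InjNoeth
import Groth.Agent.H2.DualCx.Finite

/-!
# The base change of a dualizing complex to the polynomial ring (helper28; S1776)
-/

set_option autoImplicit false
universe u
open CategoryTheory Limits Pretriangulated DerivedCategory TensorProduct Polynomial

namespace Groth.Agent.H28.DualPoly

open Groth.Agent.H26.FlatBCHom Groth.Agent.H26.FlatBCDual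

attribute [local instance] HasDerivedCategory.standard

section Inj

variable (A : Type u) [CommRing A] [IsNoetherianRing A]

/-- `A[X] ⊗_A J` is an injective `A`-module when `J` is -/
theorem injective_polynomial_tensor (J : Type u) [AddCommGroup J] [Module A J]
    (hJ : Module.Injective A J) : Module.Injective A (A[X] ⊗[A] J) := by
  have e1 : A[X] ⊗[A] J ≃ₗ[A] ℕ →₀ J :=
    TensorProduct.equivFinsuppOfBasisLeft (Polynomial.basisMonomials A)
  have e2 : (ℕ →₀ J) ≃ₗ[A] (ULift.{u} ℕ →₀ J) := Finsupp.domLCongr Equiv.ulift.symm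
  have e3 : (ULift.{u} ℕ →₀ J) ≃ₗ[A] DirectSum (ULift.{u} ℕ) (fun _ => J) :=
    finsuppLEquivDirectSum A J (ULift.{u} ℕ)
  have h := Groth.Agent.H2.injective_directSum (R := A) (fun _ : ULift.{u} ℕ => J) (fun _ => hJ)
  exact Module.Baer.injective
    (Module.Baer.of_equiv (e1.trans (e2.trans e3)).symm (Module.Baer.of_injective h))

end Inj

section RestrExt

variable {A B : Type u} [CommRing A] [CommRing B] [Algebra A B]

/-- the underlying `A`-module of `B ⊗_A M` -/
noncomputable def restrExtEquiv (M : ModuleCat.{u} A) :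
    ((H9.ExtBC.G A B).obj ((F0 A B).obj M)) ≃ₗ[A] B ⊗[A] M where
  toFun x := Groth.Agent.H12.BC.bridge (B := B) M x
  invFun y := (Groth.Agent.H12.BC.bridge (B := B) M).symm y
  map_add' x y := map_add _ _ _
  map_smul' a x := by
    rw [RingHom.id_apply]
    have h1 : a • x = (algebraMap A B a) • (show ((F0 A B).obj M) from x) := rfl
    rw [h1]
    erw [map_smul]
    rw [algebraMap_smul]
  left_inv x := (Groth.Agent.H12.BC.bridge (B := B) M).symm_apply_apply x
  right_inv y := (Groth.Agent.H12.BC.bridge (B := B) M).apply_symm_apply y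

end RestrExt

section Restr

variable (A : Type u) [CommRing A] [IsNoetherianRing A]

/-- the restriction to `A` of `A[X] ⊗_A J` is an injective object when `J` is -/
theorem injective_restr_ext (J : ModuleCat.{u} A) (hJ : Module.Injective A J) :
    Module.Injective A ((H9.ExtBC.G A A[X]).obj ((F0 A A[X]).obj J)) := by
  have h := injective_polynomial_tensor A J hJ
  exact Module.Baer.injective
    (Module.Baer.of_equiv (restrExtEquiv (B := A[X]) J).symm (Module.Baer.of_injective h))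

/-- restriction of scalars on derived categories -/
noncomputable abbrev Rs (B : Type u) [CommRing B] [Algebra A B] : Dual.D B ⥤ Dual.D A :=
  (H9.ExtBC.G A B).mapDerivedCategory

/-- `Hom(M[0], (ω ⊗ A[X])|_A [i]) = 0` outside the injective amplitude of `ω` -/
theorem subsingleton_hom_Rs_LB (ω : Dual.D A) (a b : ℤ)
    (hab : ∀ (M : Type u) [AddCommGroup M] [Module A M] (i : ℤ),
      (i < a ∨ b < i) → Subsingleton (Dual.inD A M ⟶ ω⟦i⟧))
    (M : ModuleCat.{u} A) (i : ℤ) (hi : i < a ∨ b < i) :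
    Subsingleton ((S0 A).obj M ⟶ ((Rs A A[X]).obj ((LB A A[X]).obj ω))⟦i⟧) := by
  obtain ⟨E, hE, hinj, ⟨e⟩⟩ := Groth.Agent.H35.hasInjAmplitudeIn_of_ext_vanishing ω a b
    (fun I i hi => hab (A ⧸ I) i hi)
  let E' : DRing.Cx A := ((H9.ExtBC.G A A[X]).mapHomologicalComplex _).obj
    (((F0 A A[X]).mapHomologicalComplex _).obj E)
  have hE' : DRing.VanishesOutside E' a b := fun j hj =>
    (H9.ExtBC.G A A[X]).map_isZero ((F0 A A[X]).map_isZero (hE j hj))
  have hinj' : ∀ j : ℤ, Module.Injective A (E'.X j) := fun j =>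
    injective_restr_ext A (E.X j) (hinj j)
  have h1 := Groth.Agent.H35.subsingleton_hom_shift_of_injective_amplitude E' a b hE' hinj' M i hi
  have iso : (Rs A A[X]).obj ((LB A A[X]).obj ω) ≅ Q.obj E' :=
    (Rs A A[X]).mapIso ((LB A A[X]).mapIso e.symm ≪≫
      (F0 A A[X]).mapDerivedCategoryFactors.app E) ≪≫
      (H9.ExtBC.G A A[X]).mapDerivedCategoryFactors.app _
  exact subsingleton_hom_of_iso (Iso.refl _) ((shiftFunctor (Dual.D A) i).mapIso iso.symm) h1

end Restr

section Main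

variable (A : Type u) [CommRing A] [IsNoetherianRing A]

/-- extended modules: `Hom((A[X] ⊗ M)[0], (LB ω)[i]) = 0` outside the amplitude of `ω` -/
theorem subsingleton_hom_extended (ω : Dual.D A) (a b : ℤ)
    (hab : ∀ (M : Type u) [AddCommGroup M] [Module A M] (i : ℤ),
      (i < a ∨ b < i) → Subsingleton (Dual.inD A M ⟶ ω⟦i⟧))
    (M : ModuleCat.{u} A) (i : ℤ) (hi : i < a ∨ b < i) :
    Subsingleton ((S0 A[X]).obj ((F0 A A[X]).obj M) ⟶ ((LB A A[X]).obj ω)⟦i⟧) := by
  have h1 := subsingleton_hom_Rs_LB A ω a b hab M i hi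
  have h2 : Subsingleton ((S0 A).obj M ⟶ (Rs A A[X]).obj (((LB A A[X]).obj ω)⟦i⟧)) :=
    subsingleton_hom_of_iso (Iso.refl _) (((Rs A A[X]).commShiftIso i).app _).symm h1
  have h3 : Subsingleton ((LB A A[X]).obj ((S0 A).obj M) ⟶ ((LB A A[X]).obj ω)⟦i⟧) :=
    ((H9.ExtBC.dAdj A A[X]).homEquiv _ _).subsingleton
  exact subsingleton_hom_of_iso (eps M) (Iso.refl _) h3

/-- all modules over `A[X]`, via the characteristic sequence -/
theorem subsingleton_hom_all (ω : Dual.D A) (a b : ℤ)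
    (hab : ∀ (M : Type u) [AddCommGroup M] [Module A M] (i : ℤ),
      (i < a ∨ b < i) → Subsingleton (Dual.inD A M ⟶ ω⟦i⟧))
    (hGE : ((LB A A[X]).obj ω).IsGE a)
    (N : Type u) [AddCommGroup N] [Module A N] [Module A[X] N] [IsScalarTower A A[X] N]
    (i : ℤ) (hi : i < a ∨ b + 1 < i) :
    Subsingleton ((S0 A[X]).obj (ModuleCat.of A[X] N) ⟶ ((LB A A[X]).obj ω)⟦i⟧) := by
  rcases hi with hi | hi
  · exact subsingleton_T_of_isGE _ a hGE N i hi
  · have hS := Groth.Agent.H2.DualCx.sc_shortExact (PolyCharSeq.dMap A N) (PolyCharSeq.epsMap A N)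
      (PolyCharSeq.dMap_injective A N) (PolyCharSeq.epsMap_surjective A N)
      (PolyCharSeq.exact_dMap_epsMap A N)
    have hT := hS.singleTriangle_distinguished
    let P : ModuleCat.{u} A[X] := ModuleCat.of A[X] (A[X] ⊗[A] N)
    have eP : (F0 A A[X]).obj (ModuleCat.of A N) ≅ P :=
      (Groth.Agent.H12.BC.bridge (B := A[X]) (ModuleCat.of A N)).toModuleIso
    have hP : ∀ j : ℤ, b < j → Subsingleton ((S0 A[X]).obj P ⟶ ((LB A A[X]).obj ω)⟦j⟧) :=
      fun j hj => subsingleton_hom_of_iso ((S0 A[X]).mapIso eP) (Iso.refl _)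
        (subsingleton_hom_extended A ω a b hab (ModuleCat.of A N) j (Or.inr hj))
    have h₂ : Subsingleton (hS.singleTriangle.obj₂ ⟶ ((LB A A[X]).obj ω)⟦i⟧) := hP i (by omega)
    have h₁ : Subsingleton (hS.singleTriangle.obj₁⟦(1 : ℤ)⟧ ⟶ ((LB A A[X]).obj ω)⟦i⟧) := by
      have h0 : Subsingleton ((S0 A[X]).obj P ⟶ ((LB A A[X]).obj ω)⟦i - 1⟧) := hP (i - 1) (by omega)
      have h0' : Subsingleton (((S0 A[X]).obj P)⟦(1 : ℤ)⟧ ⟶
          (((LB A A[X]).obj ω)⟦i - 1⟧)⟦(1 : ℤ)⟧) := by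
        refine ⟨fun f g => ?_⟩
        obtain ⟨f', rfl⟩ := (shiftL_bijective ((S0 A[X]).obj P) (((LB A A[X]).obj ω)⟦i - 1⟧) 1).2 f
        obtain ⟨g', rfl⟩ := (shiftL_bijective ((S0 A[X]).obj P) (((LB A A[X]).obj ω)⟦i - 1⟧) 1).2 g
        rw [Subsingleton.elim f' g']
      exact subsingleton_hom_of_iso (Iso.refl _)
        (shiftShiftIso ((LB A A[X]).obj ω) (i - 1) 1 i (by omega)) h0'
    refine ⟨fun f g => ?_⟩
    have key : ∀ f : hS.singleTriangle.obj₃ ⟶ ((LB A A[X]).obj ω)⟦i⟧, f = 0 := by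
      intro f
      obtain ⟨g, hg⟩ := Triangle.yoneda_exact₃ _ hT f (Subsingleton.elim _ _)
      rw [hg, Subsingleton.elim g 0, Limits.comp_zero]
    exact (key f).trans (key g).symm

/-- **`ω ⊗_A A[X]` is a dualizing complex for `A[X]`.** -/
theorem isDualizing_LB_polynomial (ω : Dual.D A) (hω : Dual.IsDualizing A ω) :
    Dual.IsDualizing A[X] ((LB A A[X]).obj ω) := by
  obtain ⟨a, b, hGE, hLE, hab⟩ := exists_bounds ω hω
  refine isDualizing_LB_of_cyclic ω hω a (b + 1) ?_
  intro J i hi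
  exact subsingleton_hom_all A ω a b hab (isGE_LB ω a hGE) (A[X] ⧸ J) i hi

end Main

end Groth.Agent.H28.DualPoly
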