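import Mathlib
import Groth.Agent.H28.DualPoly
import Groth.Agent.H28.DualFinite
import Groth.Agent.H28.CoextModel
import Groth.Agent.H2.DualCx.PLocalDim
import Groth.Prelude.Def_Found

/-!
# Rings with a dualizing complex are universally catenary (helper28; S1721)
-/

set_option autoImplicit false
universe u
open CategoryTheory Limits Pretriangulated DerivedCategory TensorProduct Polynomial

namespace Groth.Agent.H28.DualCatenary

open Groth.Agent.H26.FlatBCHom Groth.Agent.H26.FlatBCDual Groth.Agent.H2.DualCx

attribute [local instance] HasDerivedCategory.standard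

section Catenary

variable {S : Type u} [CommRing S] [IsNoetherianRing S] {ω : Dual.D S}
  (hω : Dual.IsDualizing S ω)

include hω in
/-- the dimension function jumps by exactly one along a covering specialization -/
theorem topDeg_of_covBy {p q : PrimeSpectrum S} (h : p ⋖ q) :
    topDeg hω q = topDeg hω p + 1 := by
  obtain ⟨k, hk, hk1⟩ := exists_topDeg_add hω h.le
  have hk1' := hk1 h.ne
  by_contra hne
  have hk2 : 2 ≤ k := by omega
  have hq : q ∈ Module.support S (T ω (topDeg hω p) (S ⧸ p.asIdeal)) :=
    Module.mem_support_mono h.le (topDeg_mem hω p)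
  obtain ⟨l, hl1, hl2, hl3⟩ := exists_series_of_mem_support_T_quot hω q k p (topDeg hω p) hk hq
  have h01 : l ⟨0, by omega⟩ < l ⟨1, by omega⟩ := l.strictMono (by simp [Fin.lt_def])
  have h1k : l ⟨1, by omega⟩ < l ⟨l.length, by omega⟩ := l.strictMono (by simp [Fin.lt_def]; omega)
  have hhead : l ⟨0, by omega⟩ = p := hl2
  have hlast : l ⟨l.length, by omega⟩ = q := hl3
  rw [hhead] at h01
  rw [hlast] at h1k
  exact h.2 h01 h1k

include hω in
theorem topDeg_saturated (s : LTSeries (PrimeSpectrum S))
    (hs : ∀ i : Fin s.length, s (Fin.castSucc i) ⋖ s (Fin.succ i)) :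
    topDeg hω s.last = topDeg hω s.head + s.length := by
  have key : ∀ (i : ℕ) (hi : i < s.length + 1),
      topDeg hω (s ⟨i, hi⟩) = topDeg hω s.head + i := by
    intro i
    induction i with
    | zero =>
      intro hi
      simp only [Nat.cast_zero, add_zero]
      rfl
    | succ i ih =>
      intro hi
      have h1 := ih (by omega)
      have h2 := topDeg_of_covBy hω (hs ⟨i, by omega⟩)
      have e1 : (Fin.castSucc (⟨i, by omega⟩ : Fin s.length)) = ⟨i, by omega⟩ := rfl
      have e2 : (Fin.succ (⟨i, by omega⟩ : Fin s.length)) = ⟨i + 1, hi⟩ := rfl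
      rw [e1, e2] at h2
      push_cast
      omega
  exact key s.length (by omega)

include hω in
/-- **a Noetherian ring with a dualizing complex is catenary** -/
theorem isCatenary_of_isDualizing : CAlg.IsCatenary S := by
  refine ⟨fun p q _ => ⟨(topDeg hω q - topDeg hω p).toNat, fun s hs ht => ?_⟩,
    fun s t hst hst' hs ht => ?_⟩
  · have := topDeg_series hω s
    rw [hs, ht] at this
    omega
  · have h1 := topDeg_saturated hω s hs
    have h2 := topDeg_saturated hω t ht
    rw [hst, hst'] at h1
    omega

end Catenary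

section Exists

/-- transport of a dualizing complex along a ring isomorphism -/
theorem exists_dualizing_of_ringEquiv {R R' : Type u} [CommRing R] [CommRing R']
    [IsNoetherianRing R] (e : R ≃+* R') (h : ∃ ω : Dual.D R, Dual.IsDualizing R ω) :
    ∃ ω' : Dual.D R', Dual.IsDualizing R' ω' := by
  obtain ⟨ω, hω⟩ := h
  letI : Algebra R R' := e.toRingHom.toAlgebra
  haveI : IsNoetherianRing R' := isNoetherianRing_of_ringEquiv R e
  let eL : R' ≃ₗ[R] R :=
    { e.symm.toAddEquiv with
      map_smul' := fun r x => by
        change e.symm (e r * x) = r * e.symm x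
        rw [map_mul, RingEquiv.symm_apply_apply] }
  haveI : Module.Flat R R' := Module.Flat.of_linearEquiv eL
  refine ⟨(LB R R').obj ω, isDualizing_LB_of_extended ω hω (fun J => ?_)⟩
  refine extended_of_map_comap J ?_
  exact Ideal.map_comap_of_surjective _ e.surjective J

/-- polynomial rings in finitely many variables over a ring with a dualizing complex have one -/
theorem exists_dualizing_mvPolynomial (A : Type u) [CommRing A] [IsNoetherianRing A]
    (h : ∃ ω : Dual.D A, Dual.IsDualizing A ω) (n : ℕ) :
    ∃ ω' : Dual.D (MvPolynomial (Fin n) A), Dual.IsDualizing (MvPolynomial (Fin n) A) ω' := by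
  induction n with
  | zero =>
    exact exists_dualizing_of_ringEquiv (MvPolynomial.isEmptyRingEquiv A (Fin 0)).symm h
  | succ n ih =>
    obtain ⟨ω, hω⟩ := ih
    have h1 : ∃ ω' : Dual.D (MvPolynomial (Fin n) A)[X],
        Dual.IsDualizing (MvPolynomial (Fin n) A)[X] ω' :=
      ⟨_, Groth.Agent.H28.DualPoly.isDualizing_LB_polynomial (MvPolynomial (Fin n) A) ω hω⟩
    exact exists_dualizing_of_ringEquiv (MvPolynomial.finSuccEquiv A n).symm.toRingEquiv h1

/-- finite type algebras over a ring with a dualizing complex have one -/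
theorem exists_dualizing_of_finiteType (A : Type u) [CommRing A] [IsNoetherianRing A]
    (h : ∃ ω : Dual.D A, Dual.IsDualizing A ω) (S : Type u) [CommRing S] [Algebra A S]
    (hS : Algebra.FiniteType A S) :
    IsNoetherianRing S ∧ ∃ ω' : Dual.D S, Dual.IsDualizing S ω' := by
  haveI : IsNoetherianRing S := Algebra.FiniteType.isNoetherianRing A S
  refine ⟨inferInstance, ?_⟩
  obtain ⟨n, f, hf⟩ := Algebra.FiniteType.iff_quotient_mvPolynomial''.mp hS
  obtain ⟨ω, hω⟩ := exists_dualizing_mvPolynomial A h n
  letI : Algebra (MvPolynomial (Fin n) A) S := f.toRingHom.toAlgebra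
  haveI : Module.Finite (MvPolynomial (Fin n) A) S :=
    Module.Finite.of_surjective (Algebra.linearMap (MvPolynomial (Fin n) A) S) hf
  exact ⟨_, Groth.Agent.H28.DualFinite.isDualizing_rightAdjoint _
    (Groth.Agent.H28.CoextModel.adj' (A := MvPolynomial (Fin n) A) (B := S)) ω hω⟩

/-- **S1721** -/
theorem isUniversallyCatenary_of_isDualizing (A : Type u) [CommRing A] [IsNoetherianRing A]
    (ω : Dual.D A) (hω : Dual.IsDualizing A ω) : CAlg.IsUniversallyCatenary A := by
  refine ⟨inferInstance, fun S _ _ hS => ?_⟩
  obtain ⟨hN, ω', hω'⟩ := exists_dualizing_of_finiteType A ⟨ω, hω⟩ S hS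
  exact isCatenary_of_isDualizing hω'

end Exists

end Groth.Agent.H28.DualCatenary
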