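import Mathlib
import Groth.Agent.H28.CoextModel
import Groth.Agent.H12.Bridge
import Groth.Agent.H33.KInj.Main

/-!
# The kernel triangle for the right adjoint of restriction along a principal quotient (helper28)

For `A → B` surjective with kernel generated by a regular element `t`, and `Rπ` any right adjoint of
restriction of scalars `D(B) ⥤ D(A)`, every `Y` in `D(A)` sits in a distinguished triangle
`π_* Rπ Y → Y --t--> Y → (π_* Rπ Y)[1]`.
-/

set_option autoImplicit false
set_option linter.style.haveILetI false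
universe u
open CategoryTheory Limits Pretriangulated DerivedCategory

namespace Groth.Agent.H28.ShriekCoext

open Groth.Agent.H28.CoextModel

attribute [local instance] HasDerivedCategory.standard

variable {A B : Type u} [CommRing A] [CommRing B] [Algebra A B]

/-- divisibility of injective modules by a regular element -/
lemma exists_smul_eq_of_injective (J : Type u) [AddCommGroup J] [Module A J]
    [Module.Injective A J] (t : A) (ht : IsSMulRegular A t) (x : J) : ∃ y : J, t • y = x := by
  let ι : A →ₗ[A] A := LinearMap.mulRight A t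
  have hι : Function.Injective ι := by
    intro a b h
    have h' : t • a = t • b := by
      simpa [ι, mul_comm] using h
    exact ht h'
  obtain ⟨h, hh⟩ := Module.Injective.out ι hι (LinearMap.toSpanSingleton A J x)
  refine ⟨h 1, ?_⟩
  have h1 := hh 1
  simp only [ι, LinearMap.mulRight_apply, one_mul, LinearMap.toSpanSingleton_apply, one_smul] at h1
  rw [← h1, ← map_smul, smul_eq_mul, mul_one]

lemma toFn_zero' (M : ModuleCat.{u} A) (g : (Lr (A := A) (B := B)).obj (Rc.obj M)) :
    toFn M g 0 = 0 := by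
  have := toFn_smul M g 0 0
  rwa [zero_smul, zero_smul] at this

variable (t : A) (hker : RingHom.ker (algebraMap A B) = Ideal.span {t})
  (hsurj : Function.Surjective (algebraMap A B))

/-- the counit `Hom_A(B, J) → J` -/
noncomputable abbrev cu (J : ModuleCat.{u} A) : (Lr (A := A) (B := B)).obj (Rc.obj J) ⟶ J :=
  (adj0 (A := A) (B := B)).counit.app J

lemma cu_apply (J : ModuleCat.{u} A) (g : (Lr (A := A) (B := B)).obj (Rc.obj J)) :
    (cu (B := B) J).hom g = toFn J g 1 := rfl

include hsurj in
lemma cu_injective (J : ModuleCat.{u} A) : Function.Injective (cu (B := B) J).hom := by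
  intro g g' h
  rw [cu_apply, cu_apply] at h
  apply toFn_injective J
  funext s
  obtain ⟨a, rfl⟩ := hsurj s
  have h1 : algebraMap A B a = a • (1 : B) := by rw [Algebra.smul_def, mul_one]
  rw [h1, toFn_smul, toFn_smul, h]


include hker in
lemma smul_cu (J : ModuleCat.{u} A) (g : (Lr (A := A) (B := B)).obj (Rc.obj J)) :
    t • (cu (B := B) J).hom g = 0 := by
  rw [cu_apply, ← toFn_smul]
  have h1 : t • (1 : B) = 0 := by
    rw [Algebra.smul_def, mul_one]
    have : t ∈ RingHom.ker (algebraMap A B) := by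
      rw [hker]
      exact Ideal.subset_span rfl
    exact this
  rw [h1, toFn_zero']

include hker hsurj in
lemma exists_cu_eq (J : ModuleCat.{u} A) (x : J) (hx : t • x = 0) :
    ∃ g : (Lr (A := A) (B := B)).obj (Rc.obj J), (cu (B := B) J).hom g = x := by
  let p : A →ₗ[A] B := Algebra.linearMap A B
  have hp : Function.Surjective p := hsurj
  let ψ : A →ₗ[A] J := LinearMap.toSpanSingleton A J x
  have hle : LinearMap.ker p ≤ LinearMap.ker ψ := by
    intro a ha
    have ha' : a ∈ RingHom.ker (algebraMap A B) := ha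
    rw [hker, Ideal.mem_span_singleton'] at ha'
    obtain ⟨c, rfl⟩ := ha'
    change (c * t) • x = 0
    rw [mul_smul, hx, smul_zero]
  let φ : B →ₗ[A] J :=
    ((LinearMap.ker p).liftQ ψ hle).comp (p.quotKerEquivOfSurjective hp).symm.toLinearMap
  have hφ : φ 1 = x := by
    have h1 : (p.quotKerEquivOfSurjective hp).symm 1 = Submodule.Quotient.mk 1 := by
      rw [LinearEquiv.symm_apply_eq]
      change (1 : B) = p 1
      simp [p]
    change ((LinearMap.ker p).liftQ ψ hle) ((p.quotKerEquivOfSurjective hp).symm 1) = x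
    rw [h1, Submodule.liftQ_apply]
    simp [ψ]
  let φ' : ((ModuleCat.restrictScalars (algebraMap A B)).obj (ModuleCat.of B B)) →ₗ[A] J :=
    φ.comp (Groth.Agent.H12.BC.restrictSelfEquiv (A := A) (B := B)).toLinearMap
  refine ⟨(show (Lr (A := A) (B := B)).obj (Rc.obj J) from
    (ModuleCat.CoextendScalars.equiv (algebraMap A B) J).symm φ'), ?_⟩
  exact hφ


section complexes

variable (I : DRing.Cx A)

include hker in
lemma counitC_smul :
    Groth.Agent.H33.DerAdjU.counitC (adj0 (A := A) (B := B)) (ComplexShape.up ℤ) I ≫ (t • 𝟙 I) = 0 := by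
  ext p : 1
  apply ModuleCat.hom_ext
  apply LinearMap.ext
  intro g
  exact smul_cu t hker (I.X p) g

/-- the short complex `Hom_A(B, I) → I --t--> I` -/
noncomputable def scI :=
  ShortComplex.mk (Groth.Agent.H33.DerAdjU.counitC (adj0 (A := A) (B := B)) (ComplexShape.up ℤ) I)
    (t • 𝟙 I) (counitC_smul t hker I)

include hsurj in
lemma scI_shortExact (ht : IsSMulRegular A t) (hinj : ∀ p, Module.Injective A (I.X p)) :
    (scI t hker I).ShortExact := by
  refine HomologicalComplex.shortExact_of_degreewise_shortExact _ (fun p => ?_)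
  refine ModuleCat.shortComplex_shortExact _ ?_ ?_ ?_
  · intro x
    constructor
    · intro hx
      exact exists_cu_eq t hker hsurj (I.X p) x hx
    · rintro ⟨g, rfl⟩
      exact smul_cu t hker (I.X p) g
  · exact cu_injective hsurj (I.X p)
  · intro x
    haveI := hinj p
    exact exists_smul_eq_of_injective (I.X p) t ht x

end complexes


section derived

include hker hsurj in
/-- **The kernel triangle** `π_* Rπ Y → Y --t--> Y → (π_* Rπ Y)[1]`. -/
theorem exists_triangle_coext (ht : IsSMulRegular A t)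
    (Rπ : Dual.D A ⥤ Dual.D B) (adj : DRing.restrictD (algebraMap A B) ⊣ Rπ) (Y : Dual.D A) :
    ∃ (a : (DRing.restrictD (algebraMap A B)).obj (Rπ.obj Y) ⟶ Y)
      (b : Y ⟶ ((DRing.restrictD (algebraMap A B)).obj (Rπ.obj Y))⟦(1 : ℤ)⟧),
      Triangle.mk a (t • 𝟙 Y) b ∈ distTriang (Dual.D A) := by
  let Y' := Q.objPreimage Y
  obtain ⟨I, f, hI, hf, -, hinj⟩ := Groth.Agent.H33.KInj.exists_kInjective_resolution Y'
  haveI := hI
  haveI := hf
  have hinj' : ∀ p, Module.Injective A (I.X p) := fun p => by
    haveI := hinj p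
    exact Module.injective_module_of_injective_object A (I.X p)
  let eY : Y ≅ Q.obj I := (Q.objObjPreimageIso Y).symm ≪≫ asIso (Q.map f)
  have hS := scI_shortExact t hker hsurj I ht hinj'
  let P1 : DRing.Cx A :=
    ((Lr (A := A) (B := B)).mapHomologicalComplex (ComplexShape.up ℤ)).obj (RcC (B := B) I)
  let m1 : Q.obj P1 ⟶ Q.obj I := Q.map (scI t hker I).f
  let m2 : Q.obj I ⟶ Q.obj I := Q.map (scI t hker I).g
  let m3 : Q.obj I ⟶ (Q.obj P1)⟦(1 : ℤ)⟧ := triangleOfSESδ hS
  have hT : Triangle.mk m1 m2 m3 ∈ distTriang (Dual.D A) := triangleOfSES_distinguished hS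
  have h2 : m2 = t • 𝟙 (Q.obj I) := by
    change Q.map (t • 𝟙 I) = _
    rw [Functor.map_smul, CategoryTheory.Functor.map_id]
  let e1 : Rπ.obj Y ≅ Q.obj (RcC (B := B) I) :=
    (adj.rightAdjointUniq (adj' (A := A) (B := B))).app Y ≪≫
      (RRc (A := A) (B := B)).mapIso eY ≪≫ (asIso (uh (B := B) I)).symm
  let iso1 : (DRing.restrictD (algebraMap A B)).obj (Rπ.obj Y) ≅ Q.obj P1 :=
    (DRing.restrictD (algebraMap A B)).mapIso e1 ≪≫
      (Lr (A := A) (B := B)).mapDerivedCategoryFactors.app (RcC (B := B) I)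
  refine ⟨iso1.hom ≫ m1 ≫ eY.inv, eY.hom ≫ m3 ≫ iso1.inv⟦(1 : ℤ)⟧', ?_⟩
  refine isomorphic_distinguished _ hT _ (Triangle.isoMk _ _ iso1 eY eY ?_ ?_ ?_)
  · change (iso1.hom ≫ m1 ≫ eY.inv) ≫ eY.hom = iso1.hom ≫ m1
    rw [Category.assoc, Category.assoc, Iso.inv_hom_id, Category.comp_id]
  · change (t • 𝟙 Y) ≫ eY.hom = eY.hom ≫ m2
    rw [h2, Linear.smul_comp, Linear.comp_smul, Category.id_comp, Category.comp_id]
  · change (eY.hom ≫ m3 ≫ iso1.inv⟦(1 : ℤ)⟧') ≫ iso1.hom⟦(1 : ℤ)⟧' = eY.hom ≫ m3
    rw [Category.assoc, Category.assoc, ← Functor.map_comp, Iso.inv_hom_id,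
      CategoryTheory.Functor.map_id, Category.comp_id]

end derived

end Groth.Agent.H28.ShriekCoext
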