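import Mathlib
import Groth.Agent.H28.PolyCharSeq
import Groth.Agent.H12.Bridge
import Groth.Agent.H26.FlatBCHom

/-!
# The characteristic sequence as a short exact sequence of functors (helper28)

For a ring `S`, `g : S` and `π = eval_g : S[X] → S`, there is a natural short exact sequence of
`S[X]`-modules `0 → S[X] ⊗_S M --(X - g)--> S[X] ⊗_S M --ε--> π_* M → 0`.
-/

set_option autoImplicit false
set_option linter.style.haveILetI false
universe u
open CategoryTheory Limits Polynomial TensorProduct ChangeOfRings

namespace Groth.Agent.H28.ShriekPolyMod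

open Groth.Agent.H26.FlatBCHom

variable (S : Type u) [CommRing S] (g : S)

/-- evaluation at `g` -/
noncomputable abbrev piHom : S[X] →+* S := Polynomial.evalRingHom g

/-- restriction of scalars along evaluation at `g` -/
noncomputable abbrev piStar : ModuleCat.{u} S ⥤ ModuleCat.{u} S[X] :=
  ModuleCat.restrictScalars.{u} (piHom S g)

/-- restriction of scalars along `C` -/
noncomputable abbrev cStar : ModuleCat.{u} S[X] ⥤ ModuleCat.{u} S :=
  ModuleCat.restrictScalars.{u} (algebraMap S S[X])

lemma piHom_comp_C : (piHom S g).comp (algebraMap S S[X]) = RingHom.id S := by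
  ext a
  simp [piHom]

/-- `M ≅ C_* π_* M` -/
noncomputable def iotaIso : 𝟭 (ModuleCat.{u} S) ≅ piStar S g ⋙ cStar S :=
  (ModuleCat.restrictScalarsId'.{u} ((piHom S g).comp (algebraMap S S[X])) (piHom_comp_C S g)).symm ≪≫
    ModuleCat.restrictScalarsComp'.{u} (algebraMap S S[X]) (piHom S g) _ rfl

/-- the natural map `ε : S[X] ⊗_S M → π_* M` -/
noncomputable def epsNat : F0 S S[X] ⟶ piStar S g where
  app M := (F0 S S[X]).map ((iotaIso S g).hom.app M) ≫
    (ModuleCat.extendRestrictScalarsAdj.{u, u, u} (algebraMap S S[X])).counit.app ((piStar S g).obj M)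
  naturality M M' φ := by
    have h1 := (iotaIso S g).hom.naturality φ
    have h2 := (ModuleCat.extendRestrictScalarsAdj.{u, u, u} (algebraMap S S[X])).counit.naturality
      ((piStar S g).map φ)
    simp only [Functor.id_map, Functor.comp_map] at h1 h2
    rw [← Category.assoc, ← Functor.map_comp, h1, Functor.map_comp, Category.assoc, h2]
    rfl

/-- multiplication by `X - g` -/
noncomputable def muNat : F0 S S[X] ⟶ F0 S S[X] where
  app M := (X - C g : S[X]) • 𝟙 _
  naturality M M' φ := by
    rw [Linear.comp_smul, Linear.smul_comp, Category.comp_id, Category.id_comp]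

/-- the `S[X]`-module structure on `M` through evaluation at `g` -/
@[reducible] noncomputable def piModule (M : ModuleCat.{u} S) : Module S[X] M :=
  Module.compHom M (piHom S g)

lemma piTower (M : ModuleCat.{u} S) :
    letI := piModule S g M
    IsScalarTower S S[X] M := by
  letI := piModule S g M
  refine ⟨fun a q m => ?_⟩
  change (piHom S g (a • q)) • m = a • ((piHom S g q) • m)
  rw [Algebra.smul_def, map_mul, mul_smul]
  congr 1
  simp [piHom]

/-- `ε` through the bridge -/
noncomputable def epsHom (M : ModuleCat.{u} S) : (F0 S S[X]).obj M ⟶ (piStar S g).obj M :=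
  letI := piModule S g M
  haveI := piTower S g M
  ModuleCat.ofHom (X := (F0 S S[X]).obj M) (Y := (piStar S g).obj M)
    ((PolyCharSeq.epsMap S M).comp (Groth.Agent.H12.BC.bridge (B := S[X]) M).toLinearMap)

lemma epsNat_app_eq (M : ModuleCat.{u} S) : (epsNat S g).app M = epsHom S g M := by
  apply ModuleCat.ExtendScalars.hom_ext
  intro m
  have h1 : ((epsNat S g).app M).hom ((1 : S[X]) ⊗ₜ[S, algebraMap S S[X]] m) = m := by
    have e1 : ((F0 S S[X]).map ((iotaIso S g).hom.app M)).hom
        ((1 : S[X]) ⊗ₜ[S, algebraMap S S[X]] m) =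
        (1 : S[X]) ⊗ₜ[S, algebraMap S S[X]] (((iotaIso S g).hom.app M).hom m) := rfl
    have e2 := ModuleCat.extendRestrictScalarsAdj_counit_app_apply_one_tmul
      (f := algebraMap S S[X]) ((piStar S g).obj M) (((iotaIso S g).hom.app M).hom m)
    have e3 : ((epsNat S g).app M).hom ((1 : S[X]) ⊗ₜ[S, algebraMap S S[X]] m) =
        ((ModuleCat.extendRestrictScalarsAdj.{u, u, u} (algebraMap S S[X])).counit.app
          ((piStar S g).obj M)).hom (((F0 S S[X]).map ((iotaIso S g).hom.app M)).hom
            ((1 : S[X]) ⊗ₜ[S, algebraMap S S[X]] m)) := rfl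
    rw [e3, e1]
    exact e2
  have h2 : (epsHom S g M).hom ((1 : S[X]) ⊗ₜ[S, algebraMap S S[X]] m) = m := by
    letI := piModule S g M
    haveI := piTower S g M
    change PolyCharSeq.epsMap S M ((1 : S[X]) ⊗ₜ[S] m) = m
    rw [PolyCharSeq.epsMap_tmul, one_smul]
  exact h1.trans h2.symm


lemma dMap_eq_smul (M : ModuleCat.{u} S) :
    letI := piModule S g M
    haveI := piTower S g M
    ∀ y : S[X] ⊗[S] M, PolyCharSeq.dMap S M y = (X - C g : S[X]) • y := by
  letI := piModule S g M
  haveI := piTower S g M
  intro y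
  induction y using TensorProduct.induction_on with
  | zero => rw [map_zero, smul_zero]
  | tmul b m =>
    rw [PolyCharSeq.dMap_tmul, TensorProduct.smul_tmul', smul_eq_mul, sub_mul,
      TensorProduct.sub_tmul]
    congr 1
    have h1 : (X : S[X]) • m = g • m := by
      change (piHom S g X) • m = g • m
      simp [piHom]
    rw [h1, TensorProduct.tmul_smul, TensorProduct.smul_tmul', Algebra.smul_def]
    rfl
  | add x y hx hy => rw [map_add, hx, hy, smul_add]

lemma bridge_mu (M : ModuleCat.{u} S) (z : (F0 S S[X]).obj M) :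
    letI := piModule S g M
    haveI := piTower S g M
    Groth.Agent.H12.BC.bridge (B := S[X]) M (((muNat S g).app M).hom z) =
      PolyCharSeq.dMap S M (Groth.Agent.H12.BC.bridge (B := S[X]) M z) := by
  letI := piModule S g M
  haveI := piTower S g M
  rw [dMap_eq_smul]
  have h1 : ((muNat S g).app M).hom z = (X - C g : S[X]) • z := rfl
  rw [h1, map_smul]

lemma eps_bridge (M : ModuleCat.{u} S) (z : (F0 S S[X]).obj M) :
    letI := piModule S g M
    haveI := piTower S g M
    ((epsNat S g).app M).hom z =
      PolyCharSeq.epsMap S M (Groth.Agent.H12.BC.bridge (B := S[X]) M z) := by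
  rw [epsNat_app_eq]
  rfl


lemma mu_injective (M : ModuleCat.{u} S) : Function.Injective ((muNat S g).app M).hom := by
  letI := piModule S g M
  haveI := piTower S g M
  intro z z' h
  have h1 := congrArg (Groth.Agent.H12.BC.bridge (B := S[X]) M) h
  rw [bridge_mu, bridge_mu] at h1
  exact (Groth.Agent.H12.BC.bridge (B := S[X]) M).injective
    (PolyCharSeq.dMap_injective S M h1)

lemma eps_surjective (M : ModuleCat.{u} S) : Function.Surjective ((epsNat S g).app M).hom := by
  letI := piModule S g M
  haveI := piTower S g M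
  intro m
  obtain ⟨y, hy⟩ := PolyCharSeq.epsMap_surjective S M m
  refine ⟨(Groth.Agent.H12.BC.bridge (B := S[X]) M).symm y, ?_⟩
  rw [eps_bridge, LinearEquiv.apply_symm_apply, hy]

lemma mu_eps_exact (M : ModuleCat.{u} S) :
    Function.Exact ((muNat S g).app M).hom ((epsNat S g).app M).hom := by
  letI := piModule S g M
  haveI := piTower S g M
  intro z
  rw [eps_bridge]
  constructor
  · intro h
    obtain ⟨y, hy⟩ := (PolyCharSeq.exact_dMap_epsMap S M _).mp h
    refine ⟨(Groth.Agent.H12.BC.bridge (B := S[X]) M).symm y, ?_⟩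
    apply (Groth.Agent.H12.BC.bridge (B := S[X]) M).injective
    rw [bridge_mu, LinearEquiv.apply_symm_apply, hy]
  · rintro ⟨y, rfl⟩
    rw [bridge_mu]
    exact PolyCharSeq.epsMap_dMap S M _

lemma mu_eps (M : ModuleCat.{u} S) : (muNat S g).app M ≫ (epsNat S g).app M = 0 := by
  apply ModuleCat.hom_ext
  apply LinearMap.ext
  intro z
  exact (mu_eps_exact S g M _).mpr ⟨z, rfl⟩

/-- the short complex `S[X] ⊗ M → S[X] ⊗ M → π_* M` -/
noncomputable def sc (M : ModuleCat.{u} S) :=
  ShortComplex.mk ((muNat S g).app M) ((epsNat S g).app M) (mu_eps S g M)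

lemma sc_shortExact (M : ModuleCat.{u} S) : (sc S g M).ShortExact :=
  ModuleCat.shortComplex_shortExact _ (mu_eps_exact S g M) (mu_injective S g M)
    (eps_surjective S g M)

end Groth.Agent.H28.ShriekPolyMod
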