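import Mathlib
import Groth.Prelude.Def_DDual2
import Groth.Agent.H33.Glue.MapDComp

/-!
# Tools for restriction of scalars on derived categories (helper28)

* `mapDerivedCategoryIdIso`: an exact endofunctor isomorphic to the identity induces the identity
* `restrictDComp'`, `restrictDId'`: composition and identity for `DRing.restrictD`
* `restrictDEquivAdj`: for a ring isomorphism `e`, `restrictD e ⊣ restrictD e.symm`
-/

set_option autoImplicit false
universe u w₁ v₁ u₁
open CategoryTheory CategoryTheory.Limits

namespace Groth.Agent.H28.ShriekTools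

section general

variable {C₁ : Type u₁} [Category.{v₁} C₁] [Abelian C₁] [HasDerivedCategory.{w₁} C₁]
  (F : C₁ ⥤ C₁) [F.Additive] [PreservesFiniteLimits F] [PreservesFiniteColimits F]

/-- an exact endofunctor isomorphic to the identity induces a functor isomorphic to the identity on
the derived category -/
noncomputable def mapDerivedCategoryIdIso (e : F ≅ 𝟭 C₁) :
    F.mapDerivedCategory ≅ 𝟭 (DerivedCategory C₁) :=
  Localization.liftNatIso DerivedCategory.Q
    (HomologicalComplex.quasiIso C₁ (ComplexShape.up ℤ))
    (F.mapHomologicalComplex (ComplexShape.up ℤ) ⋙ DerivedCategory.Q) DerivedCategory.Q _ _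
    (Functor.isoWhiskerRight (NatIso.mapHomologicalComplex e (ComplexShape.up ℤ) ≪≫
      Functor.mapHomologicalComplexIdIso C₁ (ComplexShape.up ℤ)) DerivedCategory.Q ≪≫
      Functor.leftUnitor _)

end general

attribute [local instance] HasDerivedCategory.standard

section rings

variable {A B C : Type u} [CommRing A] [CommRing B] [CommRing C]

/-- `restrictD` of a composition -/
noncomputable def restrictDComp' (f : A →+* B) (g : B →+* C) (gf : A →+* C) (h : gf = g.comp f) :
    DRing.restrictD gf ≅ DRing.restrictD g ⋙ DRing.restrictD f :=
  (Groth.Agent.H33.Glue.mapDerivedCategoryCompIso (ModuleCat.restrictScalars.{u} g)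
    (ModuleCat.restrictScalars.{u} f) (ModuleCat.restrictScalars.{u} gf)
    (ModuleCat.restrictScalarsComp'.{u} f g gf h).symm).symm

/-- `restrictD` of the identity -/
noncomputable def restrictDId' (f : A →+* A) (h : f = RingHom.id A) :
    DRing.restrictD f ≅ 𝟭 (Dual.D A) :=
  mapDerivedCategoryIdIso (ModuleCat.restrictScalars.{u} f) (ModuleCat.restrictScalarsId'.{u} f h)

/-- `restrictD` along equal maps -/
noncomputable def restrictDOfEq {f f' : A →+* B} (h : f = f') :
    DRing.restrictD f ≅ DRing.restrictD f' := by
  subst h
  exact Iso.refl _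

/-- the equivalence of derived categories induced by a ring isomorphism -/
noncomputable def restrictDEquivalence (e : A ≃+* B) : Dual.D B ≌ Dual.D A :=
  CategoryTheory.Equivalence.mk (DRing.restrictD e.toRingHom) (DRing.restrictD e.symm.toRingHom)
    ((restrictDId' (e.toRingHom.comp e.symm.toRingHom) (by ext; simp)).symm ≪≫
      restrictDComp' e.symm.toRingHom e.toRingHom _ rfl)
    ((restrictDComp' e.toRingHom e.symm.toRingHom _ rfl).symm ≪≫
      restrictDId' (e.symm.toRingHom.comp e.toRingHom) (by ext; simp))

/-- for a ring isomorphism `e`, `restrictD e ⊣ restrictD e.symm` -/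
noncomputable def restrictDEquivAdj (e : A ≃+* B) :
    DRing.restrictD e.toRingHom ⊣ DRing.restrictD e.symm.toRingHom :=
  (restrictDEquivalence e).toAdjunction

/-- for a ring isomorphism `e`, `restrictD e.symm ⊣ restrictD e` -/
noncomputable def restrictDEquivAdj' (e : A ≃+* B) :
    DRing.restrictD e.symm.toRingHom ⊣ DRing.restrictD e.toRingHom :=
  (restrictDEquivalence e).symm.toAdjunction

end rings

end Groth.Agent.H28.ShriekTools
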