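import Mathlib
import Groth.Agent.H28.ShriekPolyMod
import Groth.Agent.H28.ShriekTools

/-!
# The characteristic triangle in `D(S[X])` (helper28)

For `K` in `D(S)` and `g : S`, with `π = eval_g : S[X] → S`, there is a distinguished triangle
`K[x] --(X - g)--> K[x] → π_* K → K[x][1]` in `D(S[X])`.
-/

set_option autoImplicit false
set_option linter.style.haveILetI false
universe u
open CategoryTheory Limits Polynomial TensorProduct Pretriangulated DerivedCategory

namespace Groth.Agent.H28.ShriekPolyTri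

open Groth.Agent.H26.FlatBCHom Groth.Agent.H28.ShriekPolyMod

attribute [local instance] HasDerivedCategory.standard

variable (S : Type u) [CommRing S] (g : S)

lemma mapHC_mu (K : CochainComplex (ModuleCat.{u} S) ℤ) :
    (NatTrans.mapHomologicalComplex (muNat S g) (ComplexShape.up ℤ)).app K =
      (X - C g : S[X]) • 𝟙 _ := by
  ext p : 1
  rfl

/-- the short exact sequence of complexes -/
noncomputable def scC (K : CochainComplex (ModuleCat.{u} S) ℤ) :=
  ShortComplex.mk ((NatTrans.mapHomologicalComplex (muNat S g) (ComplexShape.up ℤ)).app K)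
    ((NatTrans.mapHomologicalComplex (epsNat S g) (ComplexShape.up ℤ)).app K)
    (by ext p : 1; exact mu_eps S g (K.X p))

lemma scC_shortExact (K : CochainComplex (ModuleCat.{u} S) ℤ) : (scC S g K).ShortExact :=
  HomologicalComplex.shortExact_of_degreewise_shortExact _ (fun p => sc_shortExact S g (K.X p))


/-- **The characteristic triangle** `K[x] --(X - g)--> K[x] → π_* K → K[x][1]`. -/
theorem exists_triangle_LB (K : Dual.D S) :
    ∃ (a : (LB S S[X]).obj K ⟶ (DRing.restrictD (piHom S g)).obj K)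
      (b : (DRing.restrictD (piHom S g)).obj K ⟶ ((LB S S[X]).obj K)⟦(1 : ℤ)⟧),
      Triangle.mk ((X - C g : S[X]) • 𝟙 ((LB S S[X]).obj K)) a b ∈
        distTriang (Dual.D S[X]) := by
  let K' := Q.objPreimage K
  let e : Q.obj K' ≅ K := Q.objObjPreimageIso K
  let P : CochainComplex (ModuleCat.{u} S[X]) ℤ :=
    ((F0 S S[X]).mapHomologicalComplex (ComplexShape.up ℤ)).obj K'
  let P3 : CochainComplex (ModuleCat.{u} S[X]) ℤ :=
    ((piStar S g).mapHomologicalComplex (ComplexShape.up ℤ)).obj K'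
  let m1 : Q.obj P ⟶ Q.obj P := Q.map (scC S g K').f
  let m2 : Q.obj P ⟶ Q.obj P3 := Q.map (scC S g K').g
  let m3 : Q.obj P3 ⟶ (Q.obj P)⟦(1 : ℤ)⟧ := triangleOfSESδ (scC_shortExact S g K')
  have hT : Triangle.mk m1 m2 m3 ∈ distTriang (Dual.D S[X]) :=
    triangleOfSES_distinguished (scC_shortExact S g K')
  let iso1 : (LB S S[X]).obj K ≅ Q.obj P :=
    (LB S S[X]).mapIso e.symm ≪≫ (F0 S S[X]).mapDerivedCategoryFactors.app K'
  let iso3 : (DRing.restrictD (piHom S g)).obj K ≅ Q.obj P3 :=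
    (DRing.restrictD (piHom S g)).mapIso e.symm ≪≫
      (piStar S g).mapDerivedCategoryFactors.app K'
  have h1 : m1 = (X - C g : S[X]) • 𝟙 (Q.obj P) := by
    change Q.map ((NatTrans.mapHomologicalComplex (muNat S g) (ComplexShape.up ℤ)).app K') = _
    rw [mapHC_mu, Functor.map_smul, CategoryTheory.Functor.map_id]
  refine ⟨iso1.hom ≫ m2 ≫ iso3.inv, iso3.hom ≫ m3 ≫ iso1.inv⟦(1 : ℤ)⟧', ?_⟩
  refine isomorphic_distinguished _ hT _ (Triangle.isoMk _ _ iso1 iso1 iso3 ?_ ?_ ?_)
  · change ((X - C g : S[X]) • 𝟙 ((LB S S[X]).obj K)) ≫ iso1.hom = iso1.hom ≫ m1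
    rw [h1, Linear.smul_comp, Linear.comp_smul, Category.id_comp, Category.comp_id]
  · change (iso1.hom ≫ m2 ≫ iso3.inv) ≫ iso3.hom = iso1.hom ≫ m2
    rw [Category.assoc, Category.assoc, Iso.inv_hom_id, Category.comp_id]
  · change (iso3.hom ≫ m3 ≫ iso1.inv⟦(1 : ℤ)⟧') ≫ iso1.hom⟦(1 : ℤ)⟧' = iso3.hom ≫ m3
    rw [Category.assoc, Category.assoc, ← Functor.map_comp, Iso.inv_hom_id,
      CategoryTheory.Functor.map_id, Category.comp_id]

end Groth.Agent.H28.ShriekPolyTri
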