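import Mathlib
import Groth.Agent.H28.ShriekCoext
import Groth.Agent.H28.ShriekPolyTri

/-!
# The retraction lemma (helper28)

For a ring `S`, `g : S`, `π = eval_g : S[X] → S` and any right adjoint `Rπ` of restriction of
scalars along `π`: `Rπ(K ⊗_S S[X])[1] ≅ K` for every `K` in `D(S)`.
-/

set_option autoImplicit false
set_option linter.style.haveILetI false
universe u
open CategoryTheory Limits Polynomial Pretriangulated DerivedCategory

namespace Groth.Agent.H28.ShriekRetract

open Groth.Agent.H26.FlatBCHom Groth.Agent.H28.ShriekPolyMod Groth.Agent.H28.ShriekTools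

attribute [local instance] HasDerivedCategory.standard

variable (S : Type u) [CommRing S] (g : S)

/-- **The retraction lemma**: for `π = eval_g : S[X] → S` and `Rπ` right adjoint to restriction
along `π`, `Rπ(K ⊗_S S[X])[1] ≅ K`. -/
theorem nonempty_iso_retraction (Rπ : Dual.D S[X] ⥤ Dual.D S)
    (adj : DRing.restrictD (piHom S g) ⊣ Rπ) (K : Dual.D S) :
    Nonempty ((Rπ.obj ((LB S S[X]).obj K))⟦(1 : ℤ)⟧ ≅ K) := by
  letI : Algebra S[X] S := (piHom S g).toAlgebra
  have hker : RingHom.ker (algebraMap S[X] S) = Ideal.span {X - C g} := Polynomial.ker_evalRingHom g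
  have hsurj : Function.Surjective (algebraMap S[X] S) := fun s => ⟨C s, by
    change (C s).eval g = s
    simp⟩
  have ht : IsSMulRegular S[X] (X - C g) :=
    (Polynomial.monic_X_sub_C g).isRegular.left.isSMulRegular
  set Y := (LB S S[X]).obj K with hY
  obtain ⟨a, b, hT1⟩ := Groth.Agent.H28.ShriekCoext.exists_triangle_coext (A := S[X]) (B := S)
    (X - C g) hker hsurj ht Rπ adj Y
  obtain ⟨a', b', hT2⟩ := Groth.Agent.H28.ShriekPolyTri.exists_triangle_LB S g K
  have hT1' := rot_of_distTriang _ hT1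
  let iso := isoTriangleOfIso₁₂ _ _ hT1' hT2 (Iso.refl Y) (Iso.refl Y) (by
    change ((X - C g : S[X]) • 𝟙 Y) ≫ 𝟙 Y = 𝟙 Y ≫ ((X - C g : S[X]) • 𝟙 Y)
    rw [Category.comp_id, Category.id_comp])
  let e3 : ((DRing.restrictD (piHom S g)).obj (Rπ.obj Y))⟦(1 : ℤ)⟧ ≅
      (DRing.restrictD (piHom S g)).obj K := Triangle.π₃.mapIso iso
  let cD := DRing.restrictD (algebraMap S S[X])
  let r : ∀ Z : Dual.D S, cD.obj ((DRing.restrictD (piHom S g)).obj Z) ≅ Z := fun Z =>
    (restrictDComp' (algebraMap S S[X]) (piHom S g) _ rfl).symm.app Z ≪≫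
      (restrictDId' _ (piHom_comp_C S g)).app Z
  exact ⟨(shiftFunctor (Dual.D S) (1 : ℤ)).mapIso (r (Rπ.obj Y)).symm ≪≫
    ((cD.commShiftIso (1 : ℤ)).app _).symm ≪≫ cD.mapIso e3 ≪≫ r K⟩

end Groth.Agent.H28.ShriekRetract
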