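import Mathlib
import Groth.Agent.H28.ShriekRetract
import Groth.Agent.H9.ExtBC.Adj

/-!
# Independence of the algebraic upper shriek of the presentation: abstract lemmas (helper28)

A "presentation datum" over `R` with target `A` is a ring `P` with `Algebra R P`, a ring map
`θ : P → A`, a left adjoint `L` of restriction `D(P) ⥤ D(R)` and a right adjoint `Rθ` of restriction
`D(A) ⥤ D(P)`; its value at `K` is `Rθ (L K)`.
* `nonempty_iso_of_ringEquiv`: invariance under ring isomorphisms of `P`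
* `nonempty_iso_polynomial`: passing from `P` to `P[X]` shifts the value by one
* `nonempty_iso_mvPolynomial`: passing from `P` to `P[x_1..x_m]` shifts the value by `m`
* `exists_rightAdjoint`: restriction of scalars on derived categories has a right adjoint
-/

set_option autoImplicit false
set_option linter.style.haveILetI false
universe u
open CategoryTheory Limits Polynomial Pretriangulated DerivedCategory

namespace Groth.Agent.H28.ShriekIndep

open Groth.Agent.H26.FlatBCHom Groth.Agent.H28.ShriekPolyMod Groth.Agent.H28.ShriekTools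

attribute [local instance] HasDerivedCategory.standard

section LemmaI

variable {R A P P' : Type u} [CommRing R] [CommRing A] [CommRing P] [CommRing P']
  [Algebra R P] [Algebra R P']

/-- **Invariance under isomorphisms of the presenting ring.** -/
theorem nonempty_iso_of_ringEquiv (e : P ≃+* P')
    (he : e.toRingHom.comp (algebraMap R P) = algebraMap R P')
    (θ : P →+* A) (θ' : P' →+* A) (hθ : θ'.comp e.toRingHom = θ)
    (L : Dual.D R ⥤ Dual.D P) (adjL : L ⊣ DRing.restrictD (algebraMap R P))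
    (Rθ : Dual.D P ⥤ Dual.D A) (adjθ : DRing.restrictD θ ⊣ Rθ)
    (L' : Dual.D R ⥤ Dual.D P') (adjL' : L' ⊣ DRing.restrictD (algebraMap R P'))
    (Rθ' : Dual.D P' ⥤ Dual.D A) (adjθ' : DRing.restrictD θ' ⊣ Rθ') (K : Dual.D R) :
    Nonempty (Rθ.obj (L.obj K) ≅ Rθ'.obj (L'.obj K)) := by
  -- `L' ≅ L ⋙ restrictD e.symm`
  have adj1 : L ⋙ DRing.restrictD e.symm.toRingHom ⊣ DRing.restrictD (algebraMap R P') :=
    (adjL.comp (restrictDEquivAdj' e)).ofNatIsoRight
      (restrictDComp' (algebraMap R P) e.toRingHom (algebraMap R P') he.symm).symm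
  let i1 : L' ≅ L ⋙ DRing.restrictD e.symm.toRingHom := adjL'.leftAdjointUniq adj1
  -- `Rθ ≅ restrictD e.symm ⋙ Rθ'`
  have adj2 : DRing.restrictD θ ⊣ DRing.restrictD e.symm.toRingHom ⋙ Rθ' :=
    (adjθ'.comp (restrictDEquivAdj e)).ofNatIsoLeft
      (restrictDComp' e.toRingHom θ' θ hθ.symm).symm
  let i2 : Rθ ≅ DRing.restrictD e.symm.toRingHom ⋙ Rθ' := adjθ.rightAdjointUniq adj2
  exact ⟨i2.app (L.obj K) ≪≫ Rθ'.mapIso (i1.app K).symm⟩

end LemmaI


section LemmaII

variable {R A P : Type u} [CommRing R] [CommRing A] [CommRing P] [Algebra R P]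

/-- **One more variable does not change the upper shriek.** -/
theorem nonempty_iso_polynomial (θ : P →+* A) (θQ : P[X] →+* A)
    (hC : θQ.comp (C : P →+* P[X]) = θ) (g : P) (hX : θQ X = θ g)
    (L : Dual.D R ⥤ Dual.D P) (adjL : L ⊣ DRing.restrictD (algebraMap R P))
    (Rθ : Dual.D P ⥤ Dual.D A) (adjθ : DRing.restrictD θ ⊣ Rθ)
    (LQ : Dual.D R ⥤ Dual.D P[X]) (adjLQ : LQ ⊣ DRing.restrictD (algebraMap R P[X]))
    (RθQ : Dual.D P[X] ⥤ Dual.D A) (adjθQ : DRing.restrictD θQ ⊣ RθQ) (K : Dual.D R) :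
    Nonempty ((RθQ.obj (LQ.obj K))⟦(1 : ℤ)⟧ ≅ Rθ.obj (L.obj K)) := by
  have hθQ : θQ = θ.comp (piHom P g) := by
    refine Polynomial.ringHom_ext (fun a => ?_) ?_
    · rw [← hC]
      simp [piHom]
    · rw [hX]
      simp [piHom]
  letI : Algebra P[X] P := (piHom P g).toAlgebra
  have adj1 : L ⋙ LB P P[X] ⊣ DRing.restrictD (algebraMap R P[X]) :=
    (adjL.comp (Groth.Agent.H9.ExtBC.dAdj P P[X])).ofNatIsoRight
      (restrictDComp' (algebraMap R P) (algebraMap P P[X]) (algebraMap R P[X])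
        (IsScalarTower.algebraMap_eq R P P[X])).symm
  let i1 : LQ ≅ L ⋙ LB P P[X] := adjLQ.leftAdjointUniq adj1
  have adj2 : DRing.restrictD θQ ⊣
      Groth.Agent.H28.CoextModel.RRc (A := P[X]) (B := P) ⋙ Rθ :=
    (adjθ.comp (Groth.Agent.H28.CoextModel.adj' (A := P[X]) (B := P))).ofNatIsoLeft
      (restrictDComp' (piHom P g) θ θQ hθQ).symm
  let i2 : RθQ ≅ Groth.Agent.H28.CoextModel.RRc (A := P[X]) (B := P) ⋙ Rθ :=
    adjθQ.rightAdjointUniq adj2
  obtain ⟨e⟩ := Groth.Agent.H28.ShriekRetract.nonempty_iso_retraction P g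
    (Groth.Agent.H28.CoextModel.RRc (A := P[X]) (B := P))
    (Groth.Agent.H28.CoextModel.adj' (A := P[X]) (B := P)) (L.obj K)
  letI := adjθ.rightAdjointCommShift ℤ
  exact ⟨(shiftFunctor (Dual.D A) (1 : ℤ)).mapIso (i2.app _ ≪≫
      (Groth.Agent.H28.CoextModel.RRc (A := P[X]) (B := P) ⋙ Rθ).mapIso (i1.app K)) ≪≫
    ((Rθ.commShiftIso (1 : ℤ)).app _).symm ≪≫ Rθ.mapIso e⟩

end LemmaII


section Existence

variable {A B : Type u} [CommRing A] [CommRing B]

/-- restriction of scalars on derived categories has a right adjoint -/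
theorem exists_rightAdjoint (φ : A →+* B) :
    ∃ G : Dual.D A ⥤ Dual.D B, Nonempty (DRing.restrictD φ ⊣ G) := by
  letI : Algebra A B := φ.toAlgebra
  exact ⟨Groth.Agent.H28.CoextModel.RRc (A := A) (B := B),
    ⟨Groth.Agent.H28.CoextModel.adj' (A := A) (B := B)⟩⟩

end Existence

section LemmaIII

variable {R A : Type u} [CommRing R] [CommRing A]

/-- **Adjoining `m` variables does not change the upper shriek.** -/
theorem nonempty_iso_mvPolynomial : ∀ (m : ℕ) (P : Type u) [CommRing P] [Algebra R P]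
    (θ : P →+* A) (θQ : MvPolynomial (Fin m) P →+* A)
    (_ : θQ.comp (MvPolynomial.C : P →+* MvPolynomial (Fin m) P) = θ)
    (_ : ∀ j, ∃ g : P, θQ (MvPolynomial.X j) = θ g)
    (L : Dual.D R ⥤ Dual.D P) (_ : L ⊣ DRing.restrictD (algebraMap R P))
    (Rθ : Dual.D P ⥤ Dual.D A) (_ : DRing.restrictD θ ⊣ Rθ)
    (LQ : Dual.D R ⥤ Dual.D (MvPolynomial (Fin m) P))
    (_ : LQ ⊣ DRing.restrictD (algebraMap R (MvPolynomial (Fin m) P)))
    (RθQ : Dual.D (MvPolynomial (Fin m) P) ⥤ Dual.D A) (_ : DRing.restrictD θQ ⊣ RθQ)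
    (K : Dual.D R), Nonempty ((RθQ.obj (LQ.obj K))⟦(m : ℤ)⟧ ≅ Rθ.obj (L.obj K)) := by
  intro m
  induction m with
  | zero =>
    intro P _ _ θ θQ hC hX L adjL Rθ adjθ LQ adjLQ RθQ adjθQ K
    let e : MvPolynomial (Fin 0) P ≃ₐ[P] P := MvPolynomial.isEmptyAlgEquiv P (Fin 0)
    have he : e.toRingEquiv.toRingHom.comp (algebraMap R (MvPolynomial (Fin 0) P)) =
        algebraMap R P := by
      refine RingHom.ext fun r => ?_
      exact (e.restrictScalars R).commutes r
    have hθ : θ.comp e.toRingEquiv.toRingHom = θQ := by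
      refine RingHom.ext fun x => ?_
      obtain ⟨p, rfl⟩ := e.symm.surjective x
      change θ (e (e.symm p)) = θQ (e.symm p)
      rw [e.apply_symm_apply, MvPolynomial.isEmptyAlgEquiv_symm_apply, ← hC]
      rfl
    obtain ⟨i⟩ := nonempty_iso_of_ringEquiv e.toRingEquiv he θQ θ hθ LQ adjLQ RθQ adjθQ L adjL
      Rθ adjθ K
    exact ⟨(shiftFunctorZero (Dual.D A) ℤ).app _ ≪≫ i⟩
  | succ m ih =>
    intro P _ _ θ θQ hC hX L adjL Rθ adjθ LQ adjLQ RθQ adjθQ K
    let Qm := MvPolynomial (Fin m) P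
    let e : MvPolynomial (Fin (m + 1)) P ≃ₐ[P] Polynomial Qm := MvPolynomial.finSuccEquiv P m
    let θ' : Polynomial Qm →+* A := θQ.comp e.symm.toRingEquiv.toRingHom
    let θm : Qm →+* A := θ'.comp (Polynomial.C : Qm →+* Polynomial Qm)
    have hθm : θm.comp (MvPolynomial.C : P →+* Qm) = θ := by
      rw [← hC]
      refine RingHom.ext fun p => ?_
      change θQ (e.symm (Polynomial.C (MvPolynomial.C p))) = θQ (MvPolynomial.C p)
      congr 1
      rw [AlgEquiv.symm_apply_eq]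
      exact ((MvPolynomial.finSuccEquiv P m).commutes p).symm
    have hXm : ∀ j, ∃ g : P, θm (MvPolynomial.X j) = θ g := by
      intro j
      obtain ⟨g, hg⟩ := hX j.succ
      refine ⟨g, ?_⟩
      rw [← hg]
      change θQ (e.symm (Polynomial.C (MvPolynomial.X j))) = θQ (MvPolynomial.X j.succ)
      congr 1
      rw [AlgEquiv.symm_apply_eq]
      exact MvPolynomial.finSuccEquiv_X_succ.symm
    obtain ⟨g₀, hg₀⟩ := hX 0
    have hX' : θ' Polynomial.X = θm (MvPolynomial.C g₀) := by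
      have h1 : θm (MvPolynomial.C g₀) = θ g₀ := by rw [← hθm]; rfl
      rw [h1, ← hg₀]
      change θQ (e.symm Polynomial.X) = θQ (MvPolynomial.X 0)
      congr 1
      rw [AlgEquiv.symm_apply_eq]
      exact MvPolynomial.finSuccEquiv_X_zero.symm
    -- data on `Qm`
    have adjLm : L ⋙ LB P Qm ⊣ DRing.restrictD (algebraMap R Qm) :=
      (adjL.comp (Groth.Agent.H9.ExtBC.dAdj P Qm)).ofNatIsoRight
        (restrictDComp' (algebraMap R P) (algebraMap P Qm) (algebraMap R Qm)
          (IsScalarTower.algebraMap_eq R P Qm)).symm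
    obtain ⟨Rθm, ⟨adjθm⟩⟩ := exists_rightAdjoint θm
    -- data on `Qm[X]`
    have adjL' : (L ⋙ LB P Qm) ⋙ LB Qm (Polynomial Qm) ⊣
        DRing.restrictD (algebraMap R (Polynomial Qm)) :=
      (adjLm.comp (Groth.Agent.H9.ExtBC.dAdj Qm (Polynomial Qm))).ofNatIsoRight
        (restrictDComp' (algebraMap R Qm) (algebraMap Qm (Polynomial Qm))
          (algebraMap R (Polynomial Qm)) (IsScalarTower.algebraMap_eq R Qm (Polynomial Qm))).symm
    obtain ⟨Rθ', ⟨adjθ'⟩⟩ := exists_rightAdjoint θ'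
    have he : e.toRingEquiv.toRingHom.comp (algebraMap R (MvPolynomial (Fin (m + 1)) P)) =
        algebraMap R (Polynomial Qm) := by
      refine RingHom.ext fun r => ?_
      exact (e.restrictScalars R).commutes r
    have hθ' : θ'.comp e.toRingEquiv.toRingHom = θQ := by
      refine RingHom.ext fun x => ?_
      change θQ (e.symm (e x)) = θQ x
      rw [e.symm_apply_apply]
    obtain ⟨i1⟩ := nonempty_iso_of_ringEquiv e.toRingEquiv he θQ θ' hθ' LQ adjLQ RθQ adjθQ _ adjL'
      Rθ' adjθ' K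
    obtain ⟨i2⟩ := nonempty_iso_polynomial θm θ' rfl (MvPolynomial.C g₀) hX' _ adjLm Rθm adjθm
      _ adjL' Rθ' adjθ' K
    obtain ⟨i3⟩ := ih P θ θm hθm hXm L adjL Rθ adjθ _ adjLm Rθm adjθm K
    have hadd : (1 : ℤ) + (m : ℤ) = ((m + 1 : ℕ) : ℤ) := by push_cast; ring
    exact ⟨(shiftFunctorAdd' (Dual.D A) (1 : ℤ) (m : ℤ) ((m + 1 : ℕ) : ℤ) hadd).app _ ≪≫
      (shiftFunctor (Dual.D A) (m : ℤ)).mapIso
        ((shiftFunctor (Dual.D A) (1 : ℤ)).mapIso i1 ≪≫ i2) ≪≫ i3⟩

end LemmaIII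

end Groth.Agent.H28.ShriekIndep
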