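import Mathlib
import Groth.Agent.H28.ShriekIndep
import Groth.Agent.H26.FlatBCDual
import Groth.Prelude.Def_DualSh

/-!
# The algebraic upper shriek is independent of the presentation (helper28; S1781)
-/

set_option autoImplicit false
set_option linter.style.haveILetI false
universe u
open CategoryTheory Limits Pretriangulated DerivedCategory

namespace Groth.Agent.H28.ShriekMain

open Groth.Agent.H26.FlatBCHom Groth.Agent.H28.ShriekTools Groth.Agent.H28.ShriekIndep

attribute [local instance] HasDerivedCategory.standard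

/-- derived base change along a flat map is left adjoint to restriction of scalars -/
noncomputable def lbcAdj {A B : Type u} [CommRing A] [CommRing B] [Algebra A B] [Module.Flat A B]
    [DRing.HasLBaseChange (algebraMap A B)] :
    DRing.LBaseChange (algebraMap A B) ⊣ DRing.restrictD (algebraMap A B) :=
  (Groth.Agent.H9.ExtBC.dAdj A B).ofNatIsoLeft
    (Groth.Agent.H26.FlatBCDual.lbcIso (A := A) (B := B)).symm

variable {R A : Type u} [CommRing R] [CommRing A] [Algebra R A]

/-- **The algebraic upper shriek is independent of the presentation.** -/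
theorem nonempty_shriekVia_iso (n : ℕ) (ψ : MvPolynomial (Fin n) R →ₐ[R] A)
    (hψ : Function.Surjective ψ) [DRing.HasLBaseChange (algebraMap R (MvPolynomial (Fin n) R))]
    (Rψ : Dual.D (MvPolynomial (Fin n) R) ⥤ Dual.D A) (adj : DRing.restrictD ψ.toRingHom ⊣ Rψ)
    (m : ℕ) (ψ' : MvPolynomial (Fin m) R →ₐ[R] A) (hψ' : Function.Surjective ψ')
    [DRing.HasLBaseChange (algebraMap R (MvPolynomial (Fin m) R))]
    (Rψ' : Dual.D (MvPolynomial (Fin m) R) ⥤ Dual.D A) (adj' : DRing.restrictD ψ'.toRingHom ⊣ Rψ')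
    (K : Dual.D R) : Nonempty (Dual2.shriekVia n Rψ K ≅ Dual2.shriekVia m Rψ' K) := by
  let P := MvPolynomial (Fin n) R
  let P' := MvPolynomial (Fin m) R
  let Q := MvPolynomial (Fin m) P
  let Q' := MvPolynomial (Fin n) P'
  let θQ : Q →+* A := MvPolynomial.eval₂Hom ψ.toRingHom (fun j => ψ' (MvPolynomial.X j))
  let θQ' : Q' →+* A := MvPolynomial.eval₂Hom ψ'.toRingHom (fun i => ψ (MvPolynomial.X i))
  have hC : θQ.comp (MvPolynomial.C : P →+* Q) = ψ.toRingHom :=
    RingHom.ext fun p => MvPolynomial.eval₂Hom_C _ _ p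
  have hC' : θQ'.comp (MvPolynomial.C : P' →+* Q') = ψ'.toRingHom :=
    RingHom.ext fun p => MvPolynomial.eval₂Hom_C _ _ p
  have hX : ∀ j, ∃ g : P, θQ (MvPolynomial.X j) = ψ.toRingHom g := fun j => by
    obtain ⟨g, hg⟩ := hψ (ψ' (MvPolynomial.X j))
    exact ⟨g, (MvPolynomial.eval₂Hom_X' _ _ j).trans hg.symm⟩
  have hX' : ∀ i, ∃ g : P', θQ' (MvPolynomial.X i) = ψ'.toRingHom g := fun i => by
    obtain ⟨g, hg⟩ := hψ' (ψ (MvPolynomial.X i))
    exact ⟨g, (MvPolynomial.eval₂Hom_X' _ _ i).trans hg.symm⟩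
  have adjLQ : DRing.LBaseChange (algebraMap R P) ⋙ LB P Q ⊣ DRing.restrictD (algebraMap R Q) :=
    ((lbcAdj (A := R) (B := P)).comp (Groth.Agent.H9.ExtBC.dAdj P Q)).ofNatIsoRight
      (restrictDComp' (algebraMap R P) (algebraMap P Q) (algebraMap R Q)
        (IsScalarTower.algebraMap_eq R P Q)).symm
  have adjLQ' : DRing.LBaseChange (algebraMap R P') ⋙ LB P' Q' ⊣
      DRing.restrictD (algebraMap R Q') :=
    ((lbcAdj (A := R) (B := P')).comp (Groth.Agent.H9.ExtBC.dAdj P' Q')).ofNatIsoRight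
      (restrictDComp' (algebraMap R P') (algebraMap P' Q') (algebraMap R Q')
        (IsScalarTower.algebraMap_eq R P' Q')).symm
  obtain ⟨RθQ, ⟨adjθQ⟩⟩ := exists_rightAdjoint θQ
  obtain ⟨RθQ', ⟨adjθQ'⟩⟩ := exists_rightAdjoint θQ'
  obtain ⟨i1⟩ := nonempty_iso_mvPolynomial m P ψ.toRingHom θQ hC hX _ (lbcAdj (A := R) (B := P))
    Rψ adj _ adjLQ RθQ adjθQ K
  obtain ⟨i2⟩ := nonempty_iso_mvPolynomial n P' ψ'.toRingHom θQ' hC' hX' _
    (lbcAdj (A := R) (B := P')) Rψ' adj' _ adjLQ' RθQ' adjθQ' K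
  let e : Q ≃ₐ[R] Q' := MvPolynomial.commAlgEquiv R (Fin m) (Fin n)
  have he : e.toRingEquiv.toRingHom.comp (algebraMap R Q) = algebraMap R Q' :=
    RingHom.ext fun r => e.commutes r
  have hθ : θQ'.comp e.toRingEquiv.toRingHom = θQ := by
    refine MvPolynomial.ringHom_ext (fun p => ?_) (fun j => ?_)
    · change θQ' (e (MvPolynomial.C p)) = θQ (MvPolynomial.C p)
      rw [MvPolynomial.eval₂Hom_C]
      have h1 : e (MvPolynomial.C p) = MvPolynomial.map MvPolynomial.C p :=
        MvPolynomial.commAlgEquiv_C p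
      rw [h1]
      have h2 : (θQ'.comp (MvPolynomial.map (MvPolynomial.C : R →+* P'))) = ψ.toRingHom := by
        refine MvPolynomial.ringHom_ext (fun r => ?_) (fun i => ?_)
        · change θQ' (MvPolynomial.map MvPolynomial.C (MvPolynomial.C r)) = ψ (MvPolynomial.C r)
          rw [MvPolynomial.map_C, MvPolynomial.eval₂Hom_C]
          change ψ' (algebraMap R P' r) = ψ (algebraMap R P r)
          rw [ψ'.commutes, ψ.commutes]
        · change θQ' (MvPolynomial.map MvPolynomial.C (MvPolynomial.X i)) = ψ (MvPolynomial.X i)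
          rw [MvPolynomial.map_X, MvPolynomial.eval₂Hom_X']
      exact congrArg (fun φ => φ p) h2
    · change θQ' (e (MvPolynomial.X j)) = θQ (MvPolynomial.X j)
      have h1 : e (MvPolynomial.X j) = MvPolynomial.C (MvPolynomial.X j) :=
        MvPolynomial.commAlgEquiv_X j
      rw [h1, MvPolynomial.eval₂Hom_C, MvPolynomial.eval₂Hom_X']
      rfl
  obtain ⟨i3⟩ := nonempty_iso_of_ringEquiv e.toRingEquiv he θQ θQ' hθ _ adjLQ RθQ adjθQ _ adjLQ'
    RθQ' adjθQ' K
  exact ⟨(shiftFunctor (Dual.D A) (n : ℤ)).mapIso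
      (i1.symm ≪≫ (shiftFunctor (Dual.D A) (m : ℤ)).mapIso i3) ≪≫
    shiftComm _ (m : ℤ) (n : ℤ) ≪≫ (shiftFunctor (Dual.D A) (m : ℤ)).mapIso i2⟩

end Groth.Agent.H28.ShriekMain
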