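import Groth.Agent.H28.PCohFibre

/-!
# Derived base change along a composition, for bounded above flat complexes; tor amplitude and the
Jacobson radical
-/

set_option autoImplicit false

universe u

open CategoryTheory CategoryTheory.Limits

open scoped ZeroObject

namespace Groth.Agent.H28.PCohFibre

open Groth.Agent.H28 Groth.Agent.H28.PCohCore Groth.Agent.H28.PCohDer Groth.Agent.H28.PCohSum
  Groth.Agent.H28.PCohDev Groth.Agent.H28.PCohSES Groth.Agent.H28.PCohTri
  Groth.Agent.H28.PCohRing DerivedCategory Groth.Agent.H35 Groth.Agent.H35.LT Groth.Agent.H35.KF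
  Groth.Agent.H28.PCohLocal

attribute [local instance] HasDerivedCategory.standard

section Comp

variable {A B C : Type u} [CommRing A] [CommRing B] [CommRing C] (f : A →+* B) (g : B →+* C)

/-- termwise base change along a composition -/
noncomputable def extCxCompIso (E : CochainComplex (ModuleCat.{u} A) ℤ) :
    (extCx (g.comp f)).obj E ≅ (extCx g).obj ((extCx f).obj E) :=
  (NatIso.mapHomologicalComplex (ModuleCat.extendScalarsComp f g) (ComplexShape.up ℤ)).app E

lemma LBaseChange_congr {φ φ' : A →+* B} (h : φ = φ') [DRing.HasLBaseChange φ]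
    [DRing.HasLBaseChange φ'] (X : Dual.D A) :
    Nonempty ((DRing.LBaseChange φ).obj X ≅ (DRing.LBaseChange φ').obj X) := by
  subst h
  exact ⟨Iso.refl _⟩

/-- derived base change of a bounded above complex of flat modules along a composition -/
lemma LBaseChange_comp_iso [DRing.HasLBaseChange f] [DRing.HasLBaseChange g]
    [DRing.HasLBaseChange (g.comp f)] (E : CochainComplex (ModuleCat.{u} A) ℤ) (b : ℤ)
    (hb : ∀ i : ℤ, b < i → IsZero (E.X i)) (hE : ∀ i : ℤ, Module.Flat A (E.X i)) :
    Nonempty ((DRing.LBaseChange g).obj ((DRing.LBaseChange f).obj (Q.obj E)) ≅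
      (DRing.LBaseChange (g.comp f)).obj (Q.obj E)) := by
  have hEK : IsKFlat E := isKFlat_of_bounded_flat E b hb hE
  have hEK' : IsKFlat ((extCx f).obj E) := isKFlat_of_bounded_flat _ b
    (fun i hi => (ModuleCat.extendScalars.{u, u, u} f).map_isZero (hb i hi))
    (fun i => by
      have := hE i
      exact flat_extendScalars f (E.X i))
  exact ⟨(DRing.LBaseChange g).mapIso (LBaseChangeIso f E hEK) ≪≫
    LBaseChangeIso g _ hEK' ≪≫ Q.mapIso (extCxCompIso f g E).symm ≪≫
    (LBaseChangeIso (g.comp f) E hEK).symm⟩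

end Comp

section Jacobson

variable {R : Type u} [CommRing R]

/-- a pseudo-coherent complex whose derived base change to `R ⧸ I`, `I` in the Jacobson radical,
has tor amplitude in `[a, b]`, is represented by a complex of finite projective modules vanishing
outside `[a, b]` -/
theorem exists_finProj_rep_of_LBaseChange_quotient_le_jacobson (I : Ideal R)
    (hI : I ≤ Ideal.jacobson (⊥ : Ideal R)) [DRing.HasLBaseChange (Ideal.Quotient.mk I)]
    (P : Dual.D R) (hpc : ∀ j : ℤ, IsNPC (finFree R) j P) (a b : ℤ)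
    (h : DRing.HasTorAmplitudeIn (R ⧸ I) a b ((DRing.LBaseChange (Ideal.Quotient.mk I)).obj P)) :
    ∃ G : DRing.Cx R, DRing.VanishesOutside G a b ∧
      DRing.TermwiseFiniteProjective G ∧ Nonempty (DRing.toD G ≅ P) := by
  haveI : ∀ m : Ideal R, DRing.HasLBaseChange (Ideal.Quotient.mk m) := fun m => hasLBaseChange _
  refine exists_finProj_rep_of_maximal_fibres_vanishing P hpc a b (fun m hm n hn => ?_)
  have hIm : I ≤ m := hI.trans (sInf_le ⟨bot_le, hm⟩)
  haveI : DRing.HasLBaseChange (Ideal.Quotient.factor hIm) := hasLBaseChange _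
  haveI : DRing.HasLBaseChange ((Ideal.Quotient.factor hIm).comp (Ideal.Quotient.mk I)) :=
    hasLBaseChange _
  have hcomp : (Ideal.Quotient.factor hIm).comp (Ideal.Quotient.mk I) = Ideal.Quotient.mk m :=
    Ideal.Quotient.factor_comp_mk hIm
  obtain ⟨E, c, hc, hE, ⟨e⟩⟩ := (isPseudoCoherent'_iff R P).mpr hpc
  have hflat : ∀ i : ℤ, Module.Flat R (E.X i) := fun i => by
    have := (hE i).2
    infer_instance
  obtain ⟨e1⟩ := LBaseChange_comp_iso (Ideal.Quotient.mk I) (Ideal.Quotient.factor hIm) E c hc hflat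
  obtain ⟨e2⟩ := LBaseChange_congr hcomp (Q.obj E)
  have htor : DRing.HasTorAmplitudeIn (R ⧸ m) a b
      ((DRing.LBaseChange (Ideal.Quotient.mk m)).obj P) :=
    hasTorAmplitudeIn_of_iso
      ((DRing.LBaseChange (Ideal.Quotient.factor hIm)).mapIso
        ((DRing.LBaseChange (Ideal.Quotient.mk I)).mapIso e.symm) ≪≫ e1 ≪≫ e2 ≪≫
          (DRing.LBaseChange (Ideal.Quotient.mk m)).mapIso e) a b
      (hasTorAmplitudeIn_LBaseChange (Ideal.Quotient.factor hIm) _ a b h)
  exact isZero_homology_of_hasTorAmplitudeIn _ a b htor n hn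

end Jacobson

end Groth.Agent.H28.PCohFibre
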