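import Mathlib
import Groth.Agent.H35.NilpPC
import Groth.Agent.H35.PerfectPC
import Groth.Agent.H28.PCohFibre2

/-!
# Two surjections whose kernels multiply to zero (helper28)

`φ₁ : R' → A₁`, `φ₂ : R' → A₂` surjective with `ker φ₁ * ker φ₂ = 0`: boundedness above, finiteness,
pseudo-coherence, tor amplitude and perfectness of `K' ∈ D(R')` can be checked after derived base
change along `φ₁` and `φ₂`.  (Variation on helper35's `NilpPC`/`TorNilpAmp`.)
-/

open CategoryTheory Limits MonoidalCategory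

namespace Groth.Agent.H28.PCohTwoIdeals

universe u

open HomologicalComplex Groth.Agent.H35.KF Groth.Agent.H35.LT DerivedCategory TensorProduct
  Groth.Agent.H35.NilpPC

attribute [local instance] HasDerivedCategory.standard

variable {R' A₁ A₂ : Type u} [CommRing R'] [CommRing A₁] [CommRing A₂]
  (φ₁ : R' →+* A₁) (φ₂ : R' →+* A₂)

/-- Dévissage: a property of modules which holds for modules killed by `I₁`, for modules killed by
`I₂`, and is stable under extensions holds for all modules when `I₁ * I₂ = 0`. -/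
theorem induction_two_ideals (I₁ I₂ : Ideal R') (hI : ∀ a ∈ I₁, ∀ b ∈ I₂, a * b = 0)
    (Pr : ModuleCat.{u} R' → Prop)
    (h1 : ∀ N : ModuleCat.{u} R', (∀ a ∈ I₁, ∀ x : N, a • x = 0) → Pr N)
    (h2 : ∀ N : ModuleCat.{u} R', (∀ a ∈ I₂, ∀ x : N, a • x = 0) → Pr N)
    (hext : ∀ S : ShortComplex (ModuleCat.{u} R'), S.ShortExact → Pr S.X₁ → Pr S.X₃ → Pr S.X₂)
    (N : ModuleCat.{u} R') : Pr N := by
  let N' : Submodule R' N := I₁ • (⊤ : Submodule R' N)
  let S : ShortComplex (ModuleCat.{u} R') :=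
    ShortComplex.mk (ModuleCat.ofHom N'.subtype) (ModuleCat.ofHom N'.mkQ) (by
      ext x
      simp)
  have hS : S.ShortExact :=
    { exact := (ShortComplex.ShortExact.moduleCat_exact_iff_function_exact S).2
        (LinearMap.exact_subtype_mkQ N')
      mono_f := (ModuleCat.mono_iff_injective _).2 N'.injective_subtype
      epi_g := (ModuleCat.epi_iff_surjective _).2 N'.mkQ_surjective }
  have h3 : Pr S.X₃ := by
    apply h1
    intro a ha x
    obtain ⟨y, rfl⟩ := N'.mkQ_surjective x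
    change a • N'.mkQ y = 0
    rw [← map_smul, Submodule.mkQ_apply, Submodule.Quotient.mk_eq_zero]
    exact Submodule.smul_mem_smul ha Submodule.mem_top
  have h1' : Pr S.X₁ := by
    apply h2
    intro a ha x
    obtain ⟨x, hx⟩ := x
    apply Subtype.ext
    change a • x = 0
    have hx' : x ∈ I₁ • (⊤ : Submodule R' N) := hx
    refine Submodule.smul_induction_on hx' ?_ ?_
    · intro b hb y _
      rw [← mul_smul, mul_comm, hI b hb a ha, zero_smul]
    · intro y z hy hz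
      rw [smul_add, hy, hz, add_zero]
  exact hext S hS h1' h3

variable (hφ₁ : Function.Surjective φ₁) (hφ₂ : Function.Surjective φ₂)
  (hker : ∀ a ∈ RingHom.ker φ₁, ∀ b ∈ RingHom.ker φ₂, a * b = 0)

include hφ₁ hφ₂ hker

/-- Tor amplitude can be checked after derived base change along `φ₁` and `φ₂`. -/
theorem hasTorAmplitudeIn_of_LBaseChange [DRing.HasLBaseChange φ₁] [DRing.HasLBaseChange φ₂]
    (K' : Dual.D R') (a b : ℤ)
    (h₁ : DRing.HasTorAmplitudeIn A₁ a b ((DRing.LBaseChange φ₁).obj K'))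
    (h₂ : DRing.HasTorAmplitudeIn A₂ a b ((DRing.LBaseChange φ₂).obj K')) :
    DRing.HasTorAmplitudeIn R' a b K' := by
  have : ∀ M : ModuleCat.{u} R', DRing.HasLTensor R' M := fun M => hasLTensor M
  rw [hasTorAmplitudeIn_iff_LTensor]
  intro N i hi
  obtain ⟨K₀, ⟨e₀⟩⟩ : ∃ K₀ : CochainComplex (ModuleCat.{u} R') ℤ, Nonempty (Q.obj K₀ ≅ K') :=
    ⟨_, ⟨Q.objObjPreimageIso K'⟩⟩
  obtain ⟨P, q, hP, hPfl, hq, -⟩ := exists_isKFlat_resolution R' K₀
  have : IsIso (Q.map q) := (DerivedCategory.isIso_Q_map_iff_quasiIso (φ := q)).2 hq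
  let e : Q.obj P ≅ K' := asIso (Q.map q) ≪≫ e₀
  rw [subsingleton_HD_LTensor_iff N P hP K' e i]
  have key : ∀ {A : Type u} [CommRing A] (φ : R' →+* A) (_ : Function.Surjective φ)
      [DRing.HasLBaseChange φ]
      (_ : DRing.HasTorAmplitudeIn A a b ((DRing.LBaseChange φ).obj K'))
      (N' : ModuleCat.{u} R') (_ : ∀ a ∈ RingHom.ker φ, ∀ x : N', a • x = 0) (i : ℤ),
      (i < a ∨ b < i) → TensExactAt P N' i := by
    intro A _ φ hφ _ h N' hN' i hi
    have hP' : IsKFlat ((extCx φ).obj P) := Groth.Agent.H35.KFBC.isKFlat_extendScalars φ P hP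
    obtain ⟨E, hE, hEfl, ⟨eE⟩⟩ := h
    have hEK : IsKFlat E := isKFlat_of_bounded_flat E b (fun i hi => hE i (Or.inr hi)) hEfl
    let e' : Q.obj ((extCx φ).obj P) ≅ Q.obj E :=
      (LBaseChangeIso φ P hP).symm ≪≫ (DRing.LBaseChange φ).mapIso e ≪≫ eE.symm
    obtain ⟨M', ⟨eM⟩⟩ := exists_restrictScalars_iso_of_killed_ker φ hφ N' hN'
    rw [← tensExactAt_iff_of_iso P eM i, ← tensExactAt_extCx_iff,
      tensExactAt_iff_of_iso_Q_of_isKFlat hP' hEK e' M' i]
    exact tensExactAt_of_isZero E M' i (hE i hi)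
  refine induction_two_ideals (RingHom.ker φ₁) (RingHom.ker φ₂) hker
    (fun N => ∀ i, (i < a ∨ b < i) → TensExactAt P N i) ?_ ?_ ?_ N i hi
  · intro N' hN' i hi
    exact key φ₁ hφ₁ h₁ N' hN' i hi
  · intro N' hN' i hi
    exact key φ₂ hφ₂ h₂ N' hN' i hi
  · intro S hS h₁ h₃ i hi
    exact tensExactAt_of_shortExact P hPfl S hS i (h₁ i hi) (h₃ i hi)

/-- If `K' ⊗^L A₁` and `K' ⊗^L A₂` have no cohomology above `b`, neither has `K'`. -/
theorem isZero_homology_above_of_LBaseChange [DRing.HasLBaseChange φ₁] [DRing.HasLBaseChange φ₂]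
    (K' : Dual.D R') (b : ℤ)
    (h₁ : ∀ i : ℤ, b < i → IsZero ((DerivedCategory.homologyFunctor (ModuleCat.{u} A₁) i).obj
      ((DRing.LBaseChange φ₁).obj K')))
    (h₂ : ∀ i : ℤ, b < i → IsZero ((DerivedCategory.homologyFunctor (ModuleCat.{u} A₂) i).obj
      ((DRing.LBaseChange φ₂).obj K'))) :
    ∀ i : ℤ, b < i → IsZero ((DerivedCategory.homologyFunctor (ModuleCat.{u} R') i).obj K') := by
  obtain ⟨K₀, ⟨e₀⟩⟩ : ∃ K₀ : CochainComplex (ModuleCat.{u} R') ℤ, Nonempty (Q.obj K₀ ≅ K') :=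
    ⟨_, ⟨Q.objObjPreimageIso K'⟩⟩
  obtain ⟨P, q, hP, hPfl, hq, -⟩ := exists_isKFlat_resolution R' K₀
  have : IsIso (Q.map q) := (DerivedCategory.isIso_Q_map_iff_quasiIso (φ := q)).2 hq
  let e : Q.obj P ≅ K' := asIso (Q.map q) ≪≫ e₀
  have key : ∀ {A : Type u} [CommRing A] (φ : R' →+* A) (hφ : Function.Surjective φ)
      [DRing.HasLBaseChange φ]
      (_ : ∀ i : ℤ, b < i → IsZero ((DerivedCategory.homologyFunctor (ModuleCat.{u} A) i).obj
        ((DRing.LBaseChange φ).obj K')))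
      (N' : ModuleCat.{u} R') (_ : ∀ a ∈ RingHom.ker φ, ∀ x : N', a • x = 0) (i : ℤ),
      b < i → TensExactAt P N' i := by
    intro A _ φ hφ _ h N' hN' i hi
    have hquot : ∀ j, b < j → TensExactAt P (ModuleCat.of R' (R' ⧸ RingHom.ker φ)) j := by
      intro j hj
      rw [← tensExactAt_iff_of_iso P (BAEquivQuotientKer φ hφ).toModuleIso j,
        ← exactAt_map_extendScalars_iff, exactAt_iff_isZero_homology]
      refine IsZero.of_iso (h j hj) ?_
      exact ((DerivedCategory.homologyFunctorFactors (ModuleCat.{u} A) j).app _).symm ≪≫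
        (DerivedCategory.homologyFunctor (ModuleCat.{u} A) j).mapIso
          ((LBaseChangeIso φ P hP).symm ≪≫ (DRing.LBaseChange φ).mapIso e)
    refine tensExactAt_of_killed_by_pow (RingHom.ker φ) P hP hPfl b hquot 1 N' ?_ i hi
    intro a ha x
    rw [pow_one] at ha
    exact hN' a ha x
  intro i hi
  have h1 : TensExactAt P (𝟙_ (ModuleCat.{u} R')) i := by
    refine induction_two_ideals (RingHom.ker φ₁) (RingHom.ker φ₂) hker
      (fun N => ∀ i, b < i → TensExactAt P N i) ?_ ?_ ?_ _ i hi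
    · intro N' hN' i hi
      exact key φ₁ hφ₁ h₁ N' hN' i hi
    · intro N' hN' i hi
      exact key φ₂ hφ₂ h₂ N' hN' i hi
    · intro S hS h₁ h₃ i hi
      exact tensExactAt_of_shortExact P hPfl S hS i (h₁ i hi) (h₃ i hi)
  exact (isZero_homology_of_exactAt P i (exactAt_of_tensExactAt_unit P i h1)).of_iso
    ((DerivedCategory.homologyFunctor (ModuleCat.{u} R') i).mapIso e.symm)

omit hφ₁ hφ₂ hker in
/-- Nakayama's lemma for two ideals with zero product. -/
lemma eq_top_of_sup_smul_eq_top {M : Type u} [AddCommGroup M] [Module R' M]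
    (I₁ I₂ : Ideal R') (hI : ∀ a ∈ I₁, ∀ b ∈ I₂, a * b = 0) (N : Submodule R' M)
    (h₁ : N ⊔ I₁ • (⊤ : Submodule R' M) = ⊤) (h₂ : N ⊔ I₂ • (⊤ : Submodule R' M) = ⊤) : N = ⊤ := by
  have h0 : I₁ * I₂ = ⊥ := by
    rw [eq_bot_iff, Ideal.mul_le]
    intro a ha b hb
    rw [hI a ha b hb]
    exact Submodule.zero_mem _
  rw [eq_top_iff]
  calc (⊤ : Submodule R' M) = N ⊔ I₁ • (⊤ : Submodule R' M) := h₁.symm
    _ = N ⊔ I₁ • (N ⊔ I₂ • (⊤ : Submodule R' M)) := by rw [h₂]
    _ = N ⊔ (I₁ • N ⊔ I₁ • (I₂ • (⊤ : Submodule R' M))) := by rw [Submodule.smul_sup]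
    _ ≤ N := by
      refine sup_le le_rfl (sup_le Submodule.smul_le_right ?_)
      rw [← Submodule.mul_smul, h0, Submodule.bot_smul]
      exact bot_le

omit hφ₁ hφ₂ hker in
/-- A finite generating family modulo `I`. -/
lemma exists_finite_span_sup_eq_top (φ : R' →+* A₁) (hφ : Function.Surjective φ)
    (M : ModuleCat.{u} R')
    (h : Module.Finite A₁ ((ModuleCat.extendScalars.{u, u, u} φ).obj M)) :
    ∃ s : Set M, s.Finite ∧
      Submodule.span R' s ⊔ (RingHom.ker φ) • (⊤ : Submodule R' M) = ⊤ := by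
  have h1 : Module.Finite R' ((ModuleCat.restrictScalars φ).obj
      ((ModuleCat.extendScalars.{u, u, u} φ).obj M)) :=
    Groth.Agent.H35.RelPC.finite_restrict_of_surjective φ hφ _ h
  have h2 : Module.Finite R' ((BA φ : Type u) ⊗[R'] (M : Type u)) :=
    Module.Finite.equiv (restrictExtEquiv φ M)
  have h3 : Module.Finite R' ((R' ⧸ RingHom.ker φ) ⊗[R'] (M : Type u)) :=
    Module.Finite.equiv (TensorProduct.congr (BAEquivQuotientKer φ hφ) (LinearEquiv.refl R' M))
  have h4 : Module.Finite R' ((M : Type u) ⧸ (RingHom.ker φ) • (⊤ : Submodule R' M)) :=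
    Module.Finite.equiv (TensorProduct.quotTensorEquivQuotSMul M (RingHom.ker φ))
  obtain ⟨n, f, hf⟩ := Module.Finite.exists_fin' R'
    ((M : Type u) ⧸ (RingHom.ker φ) • (⊤ : Submodule R' M))
  have hm : ∀ i : Fin n, ∃ m : M, Submodule.Quotient.mk m = f (Pi.single i 1) := fun i =>
    Submodule.Quotient.mk_surjective _ _
  choose m hm using hm
  refine ⟨Set.range m, Set.finite_range m, ?_⟩
  rw [eq_top_iff]
  intro x _
  obtain ⟨c, hc⟩ := hf (Submodule.Quotient.mk x)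
  have hc' : c = ∑ i, c i • (Pi.single i (1 : R') : Fin n → R') := by
    ext j
    simp [Finset.sum_apply, Pi.single_apply]
  have hfc : f c = ∑ i, c i • f (Pi.single i 1) := by
    conv_lhs => rw [hc']
    rw [map_sum]
    exact Finset.sum_congr rfl (fun i _ => map_smul _ _ _)
  have hx : Submodule.Quotient.mk (p := (RingHom.ker φ) • (⊤ : Submodule R' M)) x =
      Submodule.Quotient.mk (∑ i, c i • m i) := by
    rw [← hc, hfc, ← Submodule.mkQ_apply, map_sum]
    refine Finset.sum_congr rfl (fun i _ => ?_)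
    rw [map_smul, Submodule.mkQ_apply, hm]
  have hx' : x - ∑ i, c i • m i ∈ (RingHom.ker φ) • (⊤ : Submodule R' M) :=
    (Submodule.Quotient.eq _).1 hx
  have : x = (∑ i, c i • m i) + (x - ∑ i, c i • m i) := by abel
  rw [this]
  refine Submodule.add_mem_sup ?_ hx'
  exact Submodule.sum_mem _ (fun i _ => Submodule.smul_mem _ _
    (Submodule.subset_span (Set.mem_range_self i)))

/-- Finiteness can be checked after base change along `φ₁` and `φ₂`. -/
theorem finite_of_finite_extendScalars (M : ModuleCat.{u} R')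
    (h₁ : Module.Finite A₁ ((ModuleCat.extendScalars.{u, u, u} φ₁).obj M))
    (h₂ : Module.Finite A₂ ((ModuleCat.extendScalars.{u, u, u} φ₂).obj M)) :
    Module.Finite R' M := by
  obtain ⟨s₁, hs₁, hs₁'⟩ := exists_finite_span_sup_eq_top φ₁ hφ₁ M h₁
  obtain ⟨s₂, hs₂, hs₂'⟩ := exists_finite_span_sup_eq_top φ₂ hφ₂ M h₂
  have hN : Submodule.span R' (s₁ ∪ s₂) = ⊤ := by
    refine eq_top_of_sup_smul_eq_top (RingHom.ker φ₁) (RingHom.ker φ₂) hker _ ?_ ?_
    · exact top_unique (hs₁'.symm.le.trans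
        (sup_le_sup (Submodule.span_mono Set.subset_union_left) le_rfl))
    · exact top_unique (hs₂'.symm.le.trans
        (sup_le_sup (Submodule.span_mono Set.subset_union_right) le_rfl))
  exact ⟨by rw [← hN]; exact Submodule.fg_span (hs₁.union hs₂)⟩

section Main

open Groth.Agent.H28 Groth.Agent.H28.PCohCore Groth.Agent.H28.PCohDer Groth.Agent.H28.PCohSum
  Groth.Agent.H28.PCohDev Groth.Agent.H28.PCohSES Groth.Agent.H28.PCohTri
  Groth.Agent.H28.PCohRing Groth.Agent.H28.PCohDescent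

omit hφ₁ hφ₂ hker in
/-- base change of the top cohomology -/
lemma finite_extendScalars_homology_top {A : Type u} [CommRing A] (φ : R' →+* A)
    [DRing.HasLBaseChange φ] (n : ℤ) (X : Dual.D R')
    (P : CochainComplex (ModuleCat.{u} R') ℤ) (hPb : ∀ i : ℤ, n < i → IsZero (P.X i))
    (hPK : IsKFlat P) (e : Q.obj P ≅ X)
    (hQ : IsNPC (finFree A) n ((DRing.LBaseChange φ).obj X)) :
    Module.Finite A ((ModuleCat.extendScalars.{u, u, u} φ).obj (P.homology n)) := by
  let eY : (DRing.LBaseChange φ).obj X ≅ Q.obj ((extCx φ).obj P) :=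
    (DRing.LBaseChange φ).mapIso e.symm ≪≫ LBaseChangeIso φ P hPK
  have hacY : ∀ i : ℤ, n < i → IsZero ((DerivedCategory.homologyFunctor (ModuleCat.{u} A) i).obj
      ((DRing.LBaseChange φ).obj X)) := by
    intro i hi
    refine IsZero.of_iso ?_ ((DerivedCategory.homologyFunctor (ModuleCat.{u} A) i).mapIso eY)
    refine isZero_homology_of_exactAt _ i (HomologicalComplex.ExactAt.of_isZero ?_)
    exact (ModuleCat.extendScalars.{u, u, u} φ).map_isZero (hPb i hi)
  have h1 := isOfFiniteType_homology_of_isNPC (finFree A) (hqs_finFree A) n _ hacY hQ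
  rw [isOfFiniteType_finFree_iff] at h1
  let e2 : (DerivedCategory.homologyFunctor (ModuleCat.{u} A) n).obj
      ((DRing.LBaseChange φ).obj X) ≅
      (ModuleCat.extendScalars.{u, u, u} φ).obj (P.homology n) :=
    (DerivedCategory.homologyFunctor (ModuleCat.{u} A) n).mapIso eY ≪≫
      (DerivedCategory.homologyFunctorFactors (ModuleCat.{u} A) n).app _ ≪≫
      mapHomologyTopIso (ModuleCat.extendScalars.{u, u, u} φ) P n (hPb (n + 1) (by omega))
  exact Module.Finite.equiv e2.toLinearEquiv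

/-- The top cohomology of `X` is finite when `X ⊗^L A₁` and `X ⊗^L A₂` are `n`-pseudo-coherent. -/
theorem finite_homology_top_of_isNPC_LBaseChange [DRing.HasLBaseChange φ₁]
    [DRing.HasLBaseChange φ₂] (n : ℤ) (X : Dual.D R')
    (hac : ∀ i : ℤ, n < i →
      IsZero ((DerivedCategory.homologyFunctor (ModuleCat.{u} R') i).obj X))
    (hQ₁ : IsNPC (finFree A₁) n ((DRing.LBaseChange φ₁).obj X))
    (hQ₂ : IsNPC (finFree A₂) n ((DRing.LBaseChange φ₂).obj X)) :
    PCoh.IsOfFiniteType (finFree R')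
      ((DerivedCategory.homologyFunctor (ModuleCat.{u} R') n).obj X) := by
  obtain ⟨P, hPb, hproj, ⟨e⟩⟩ := Groth.Agent.H35.exists_projective_rep X n hac
  have hPfl : ∀ i, Module.Flat R' (P.X i) := fun i => by
    have := hproj i
    infer_instance
  have hPK : IsKFlat P := isKFlat_of_bounded_flat P n hPb hPfl
  rw [isOfFiniteType_finFree_iff]
  have h3 : Module.Finite R' (P.homology n) :=
    finite_of_finite_extendScalars φ₁ φ₂ hφ₁ hφ₂ hker _
      (finite_extendScalars_homology_top φ₁ n X P hPb hPK e hQ₁)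
      (finite_extendScalars_homology_top φ₂ n X P hPb hPK e hQ₂)
  let e3 : P.homology n ≅ (DerivedCategory.homologyFunctor (ModuleCat.{u} R') n).obj X :=
    ((DerivedCategory.homologyFunctorFactors (ModuleCat.{u} R') n).app P).symm ≪≫
      (DerivedCategory.homologyFunctor (ModuleCat.{u} R') n).mapIso e
  exact Module.Finite.equiv e3.toLinearEquiv

/-- `m`-pseudo-coherence can be checked after derived base change along `φ₁` and `φ₂`. -/
theorem isNPC_of_isNPC_LBaseChange [DRing.HasLBaseChange φ₁] [DRing.HasLBaseChange φ₂]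
    (m : ℤ) (K' : Dual.D R')
    (h₁ : IsNPC (finFree A₁) m ((DRing.LBaseChange φ₁).obj K'))
    (h₂ : IsNPC (finFree A₂) m ((DRing.LBaseChange φ₂).obj K')) : IsNPC (finFree R') m K' := by
  obtain ⟨E₁, ⟨⟨b₁, hb₁⟩, -⟩, ⟨e₁⟩⟩ := id h₁
  obtain ⟨E₂, ⟨⟨b₂, hb₂⟩, -⟩, ⟨e₂⟩⟩ := id h₂
  have hacY₁ : ∀ i : ℤ, max b₁ b₂ < i →
      IsZero ((DerivedCategory.homologyFunctor (ModuleCat.{u} A₁) i).obj
      ((DRing.LBaseChange φ₁).obj K')) := by
    intro i hi
    refine IsZero.of_iso ?_ ((DerivedCategory.homologyFunctor (ModuleCat.{u} A₁) i).mapIso e₁.symm)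
    exact isZero_homology_of_exactAt _ i (HomologicalComplex.ExactAt.of_isZero
      (hb₁ i (lt_of_le_of_lt (le_max_left _ _) hi)))
  have hacY₂ : ∀ i : ℤ, max b₁ b₂ < i →
      IsZero ((DerivedCategory.homologyFunctor (ModuleCat.{u} A₂) i).obj
      ((DRing.LBaseChange φ₂).obj K')) := by
    intro i hi
    refine IsZero.of_iso ?_ ((DerivedCategory.homologyFunctor (ModuleCat.{u} A₂) i).mapIso e₂.symm)
    exact isZero_homology_of_exactAt _ i (HomologicalComplex.ExactAt.of_isZero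
      (hb₂ i (lt_of_le_of_lt (le_max_right _ _) hi)))
  have hac := isZero_homology_above_of_LBaseChange φ₁ φ₂ hφ₁ hφ₂ hker K' (max b₁ b₂) hacY₁ hacY₂
  refine isNPC_of_descent (finFree R') (hql_finFree R') (finFree_prod R') (hqs_finFree R')
    (fun k Y => IsNPC (finFree A₁) k ((DRing.LBaseChange φ₁).obj Y) ∧
      IsNPC (finFree A₂) k ((DRing.LBaseChange φ₂).obj Y)) ?_ ?_ ?_ ?_
    (max b₁ b₂ - m + 1).toNat m (max b₁ b₂) K' (by omega) hac ⟨h₁, h₂⟩
  · intro k k' Y hk hY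
    exact ⟨PCohFun.isNPC_of_le (finFree A₁) hk hY.1, PCohFun.isNPC_of_le (finFree A₂) hk hY.2⟩
  · intro k T hT h₁ h₂
    constructor
    · obtain ⟨T', hT', ⟨e₁⟩, ⟨e₂⟩, ⟨e₃⟩⟩ := Groth.Agent.H28.LDerivTri.exists_distTriang (hyp R')
        (ModuleCat.extendScalars.{u, u, u} φ₁) (kfAcyclic_extendScalars φ₁) _ hT
      exact IsNPC.of_iso _ (isNPC_obj₃ _ (hql_finFree A₁) (finFree_prod A₁) (hqs_finFree A₁) T' hT'
        (IsNPC.of_iso _ h₁.1 e₁.symm) (IsNPC.of_iso _ h₂.1 e₂.symm)) e₃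
    · obtain ⟨T', hT', ⟨e₁⟩, ⟨e₂⟩, ⟨e₃⟩⟩ := Groth.Agent.H28.LDerivTri.exists_distTriang (hyp R')
        (ModuleCat.extendScalars.{u, u, u} φ₂) (kfAcyclic_extendScalars φ₂) _ hT
      exact IsNPC.of_iso _ (isNPC_obj₃ _ (hql_finFree A₂) (finFree_prod A₂) (hqs_finFree A₂) T' hT'
        (IsNPC.of_iso _ h₁.2 e₁.symm) (IsNPC.of_iso _ h₂.2 e₂.symm)) e₃
  · intro k E' a' b' hE' hP'
    exact ⟨Groth.Agent.H28.PCohLBC.isNPC_LBaseChange_of_bounded φ₁ E' b'
        (fun i hi => hE' i (Or.inr hi)) hP' k,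
      Groth.Agent.H28.PCohLBC.isNPC_LBaseChange_of_bounded φ₂ E' b'
        (fun i hi => hE' i (Or.inr hi)) hP' k⟩
  · intro n Y hY hQ
    exact finite_homology_top_of_isNPC_LBaseChange φ₁ φ₂ hφ₁ hφ₂ hker n Y hY hQ.1 hQ.2

/-- pseudo-coherence can be checked after derived base change along `φ₁` and `φ₂` -/
theorem isPseudoCoherent'_of_LBaseChange [DRing.HasLBaseChange φ₁] [DRing.HasLBaseChange φ₂]
    (K' : Dual.D R')
    (h₁ : DRing.IsPseudoCoherent' A₁ ((DRing.LBaseChange φ₁).obj K'))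
    (h₂ : DRing.IsPseudoCoherent' A₂ ((DRing.LBaseChange φ₂).obj K')) :
    DRing.IsPseudoCoherent' R' K' := by
  rw [isPseudoCoherent'_iff] at h₁ h₂ ⊢
  exact fun m => isNPC_of_isNPC_LBaseChange φ₁ φ₂ hφ₁ hφ₂ hker m K' (h₁ m) (h₂ m)

/-- perfectness can be checked after derived base change along `φ₁` and `φ₂` -/
theorem isPerfect_of_LBaseChange [DRing.HasLBaseChange φ₁] [DRing.HasLBaseChange φ₂]
    (K' : Dual.D R')
    (h₁ : DRing.IsPerfect A₁ ((DRing.LBaseChange φ₁).obj K'))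
    (h₂ : DRing.IsPerfect A₂ ((DRing.LBaseChange φ₂).obj K')) :
    DRing.IsPerfect R' K' := by
  obtain ⟨hpc₁, a₁, b₁, htor₁⟩ :=
    (Groth.Agent.H35.KF.isPerfect_iff_isPseudoCoherent'_and_hasFiniteTorDimCx _).1 h₁
  obtain ⟨hpc₂, a₂, b₂, htor₂⟩ :=
    (Groth.Agent.H35.KF.isPerfect_iff_isPseudoCoherent'_and_hasFiniteTorDimCx _).1 h₂
  rw [Groth.Agent.H35.KF.isPerfect_iff_isPseudoCoherent'_and_hasFiniteTorDimCx]
  refine ⟨isPseudoCoherent'_of_LBaseChange φ₁ φ₂ hφ₁ hφ₂ hker K' hpc₁ hpc₂, min a₁ a₂, max b₁ b₂,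
    hasTorAmplitudeIn_of_LBaseChange φ₁ φ₂ hφ₁ hφ₂ hker K' _ _ ?_ ?_⟩
  · obtain ⟨E, hE, hEfl, ⟨eE⟩⟩ := htor₁
    exact ⟨E, fun i hi => hE i (by omega), hEfl, ⟨eE⟩⟩
  · obtain ⟨E, hE, hEfl, ⟨eE⟩⟩ := htor₂
    exact ⟨E, fun i hi => hE i (by omega), hEfl, ⟨eE⟩⟩

end Main

section CompGeneral

omit hφ₁ hφ₂ hker

variable {A B C : Type u} [CommRing A] [CommRing B] [CommRing C] (f : A →+* B) (g : B →+* C)

/-- derived base change along a composition, for arbitrary objects of `D(A)` -/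
lemma LBaseChange_comp_iso' [DRing.HasLBaseChange f] [DRing.HasLBaseChange g]
    (h : A →+* C) (hh : h = g.comp f) [DRing.HasLBaseChange h] (K : Dual.D A) :
    Nonempty ((DRing.LBaseChange g).obj ((DRing.LBaseChange f).obj K) ≅
      (DRing.LBaseChange h).obj K) := by
  subst hh
  obtain ⟨K₀, ⟨e₀⟩⟩ : ∃ K₀ : CochainComplex (ModuleCat.{u} A) ℤ, Nonempty (Q.obj K₀ ≅ K) :=
    ⟨_, ⟨Q.objObjPreimageIso K⟩⟩
  obtain ⟨P, q, hP, hPfl, hq, -⟩ := exists_isKFlat_resolution A K₀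
  have : IsIso (Q.map q) := (DerivedCategory.isIso_Q_map_iff_quasiIso (φ := q)).2 hq
  let e : Q.obj P ≅ K := asIso (Q.map q) ≪≫ e₀
  have hP' : IsKFlat ((extCx f).obj P) := Groth.Agent.H35.KFBC.isKFlat_extendScalars f P hP
  exact ⟨(DRing.LBaseChange g).mapIso ((DRing.LBaseChange f).mapIso e.symm) ≪≫
    (DRing.LBaseChange g).mapIso (LBaseChangeIso f P hP) ≪≫
    LBaseChangeIso g _ hP' ≪≫ Q.mapIso (Groth.Agent.H28.PCohFibre.extCxCompIso f g P).symm ≪≫
    (LBaseChangeIso (g.comp f) P hP).symm ≪≫ (DRing.LBaseChange (g.comp f)).mapIso e⟩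

end CompGeneral

end Groth.Agent.H28.PCohTwoIdeals
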