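import Mathlib
import Groth.Prelude.Def_DRing2
import Groth.Agent.H12.Bridge
import Groth.Agent.H12.BridgeW
import Groth.Agent.H18.TorBalance

/-!
# Vanishing of `Tor^P_p(A, P ⊗_R R')` for `A` flat over `R` (helper28)

`R → P` flat, `A` a `P`-algebra which is flat over `R`, `P' = P ⊗_R R'` (a pushout): then
`Tor_p^P(A, P') = 0` for `p ≥ 1` (Mathlib's `Tor`, resolving the second variable).
-/

set_option autoImplicit false
set_option linter.style.haveILetI false
universe u
open CategoryTheory CategoryTheory.Limits MonoidalCategory TensorProduct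

namespace Groth.Agent.H28.TorPushout

section Theta

variable {R P A : Type u} [CommRing R] [CommRing P] [CommRing A] [Algebra R P] [Algebra P A]
  [Algebra R A] [IsScalarTower R P A]

/-- `A ⊗_P (P ⊗_R X) ≃ A ⊗_R X`, on the `ModuleCat` level -/
noncomputable def theta (X : ModuleCat.{u} R) :
    (A ⊗[P] ((ModuleCat.extendScalars (algebraMap R P)).obj X)) ≃ₗ[P] A ⊗[R] X :=
  (TensorProduct.congr (LinearEquiv.refl P A) (Groth.Agent.H12.BC.bridge (B := P) X)) ≪≫ₗ
    TensorProduct.AlgebraTensorModule.cancelBaseChange R P P A X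

theorem cancel_natural {X Y : Type u} [AddCommGroup X] [Module R X] [AddCommGroup Y] [Module R Y]
    (g : X →ₗ[R] Y) (a : A) (v : P ⊗[R] X) :
    TensorProduct.AlgebraTensorModule.cancelBaseChange R P P A Y (a ⊗ₜ[P] (g.baseChange P v)) =
      LinearMap.lTensor A g
        (TensorProduct.AlgebraTensorModule.cancelBaseChange R P P A X (a ⊗ₜ[P] v)) := by
  induction v using TensorProduct.induction_on with
  | zero => simp
  | add x y hx hy =>
    simp only [TensorProduct.tmul_add, map_add] at hx hy ⊢
    rw [hx, hy]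
  | tmul p x =>
    rw [LinearMap.baseChange_tmul, TensorProduct.AlgebraTensorModule.cancelBaseChange_tmul,
      TensorProduct.AlgebraTensorModule.cancelBaseChange_tmul, LinearMap.lTensor_tmul]

theorem theta_natural {X Y : ModuleCat.{u} R} (g : X ⟶ Y)
    (z : A ⊗[P] ((ModuleCat.extendScalars.{u,u,u} (algebraMap R P)).obj X)) :
    theta (P := P) (A := A) Y
      (LinearMap.lTensor A ((ModuleCat.extendScalars.{u,u,u} (algebraMap R P)).map g).hom z) =
      LinearMap.lTensor A g.hom (theta (P := P) (A := A) X z) := by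
  induction z using TensorProduct.induction_on with
  | zero => rw [map_zero, map_zero, map_zero, map_zero]
  | add x y hx hy => simp only [map_add, hx, hy]
  | tmul a w =>
    rw [LinearMap.lTensor_tmul]
    change TensorProduct.AlgebraTensorModule.cancelBaseChange R P P A Y
        (a ⊗ₜ[P] (Groth.Agent.H12.BC.bridge (B := P) Y
          (((ModuleCat.extendScalars.{u,u,u} (algebraMap R P)).map g).hom w))) =
      LinearMap.lTensor A g.hom (TensorProduct.AlgebraTensorModule.cancelBaseChange R P P A X
        (a ⊗ₜ[P] (Groth.Agent.H12.BC.bridge (B := P) X w)))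
    rw [Groth.Agent.H12.BW.bridge_natural P g w]
    exact cancel_natural g.hom a _

/-- exactness transported through `theta` -/
theorem exact_lTensor_extendScalars [Module.Flat R A] {X Y Z : ModuleCat.{u} R} (f : X ⟶ Y)
    (g : Y ⟶ Z) (H : Function.Exact f.hom g.hom) :
    Function.Exact
      (LinearMap.lTensor A ((ModuleCat.extendScalars.{u,u,u} (algebraMap R P)).map f).hom)
      (LinearMap.lTensor A ((ModuleCat.extendScalars.{u,u,u} (algebraMap R P)).map g).hom) := by
  have H0 : Function.Exact (LinearMap.lTensor A f.hom) (LinearMap.lTensor A g.hom) :=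
    Module.Flat.lTensor_exact A H
  intro y
  constructor
  · intro hy
    have h1 : LinearMap.lTensor A g.hom (theta (P := P) (A := A) Y y) = 0 := by
      rw [← theta_natural g y, hy, map_zero]
    obtain ⟨x, hx⟩ := (H0 _).mp h1
    refine ⟨(theta (P := P) (A := A) X).symm x, ?_⟩
    apply (theta (P := P) (A := A) Y).injective
    rw [theta_natural f, LinearEquiv.apply_symm_apply, hx]
  · rintro ⟨z, rfl⟩
    apply (theta (P := P) (A := A) Z).injective
    rw [theta_natural g, theta_natural f, map_zero]
    exact H0.apply_apply_eq_zero _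

variable (R P A) in
theorem isZero_tor_extendScalars [Module.Flat R P] [Module.Flat R A] (N : ModuleCat.{u} R) (k : ℕ) :
    IsZero (((Tor (ModuleCat.{u} P) (k + 1)).obj (ModuleCat.of P A)).obj
      ((ModuleCat.extendScalars.{u,u,u} (algebraMap R P)).obj N)) := by
  let E : ModuleCat.{u} R ⥤ ModuleCat.{u} P := ModuleCat.extendScalars.{u,u,u} (algebraMap R P)
  let F : ModuleCat.{u} P ⥤ ModuleCat.{u} P := (tensoringLeft (ModuleCat.{u} P)).obj (ModuleCat.of P A)
  have hF : PreservesFiniteColimits F :=
    inferInstanceAs (PreservesFiniteColimits (tensorLeft (ModuleCat.of P A)))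
  haveI hE1 : PreservesFiniteLimits E :=
    ModuleCat.preservesFiniteLimits_extendScalars_of_flat
      ((RingHom.flat_algebraMap_iff).mpr inferInstance)
  haveI hE2 : PreservesFiniteColimits E := by
    haveI : E.IsLeftAdjoint := ⟨_, ⟨ModuleCat.extendRestrictScalarsAdj.{u,u,u} (algebraMap R P)⟩⟩
    infer_instance
  haveI : E.PreservesProjectiveObjects :=
    Functor.preservesProjectiveObjects_of_adjunction_of_preservesEpimorphisms
      (ModuleCat.extendRestrictScalarsAdj.{u,u,u} (algebraMap R P))
  let Q := projectiveResolution N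
  let Q' := E.mapProjectiveResolution Q
  refine IsZero.of_iso ?_ (Q'.isoLeftDerivedObj F (k + 1))
  change IsZero (((F.mapHomologicalComplex (ComplexShape.down ℕ)).obj
    ((E.mapHomologicalComplex (ComplexShape.down ℕ)).obj Q.complex)).homology (k + 1))
  rw [← HomologicalComplex.exactAt_iff_isZero_homology,
    HomologicalComplex.exactAt_iff' _ (k + 2) (k + 1) k (by simp) (by simp)]
  have h := Q.complex_exactAt_succ k
  rw [HomologicalComplex.exactAt_iff' _ (k + 2) (k + 1) k (by simp) (by simp)] at h
  rw [ShortComplex.ShortExact.moduleCat_exact_iff_function_exact] at h ⊢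
  exact exact_lTensor_extendScalars (P := P) (A := A) (Q.complex.d (k + 2) (k + 1))
    (Q.complex.d (k + 1) k) h

end Theta

/-- `Tor_p^P(A, P') = 0` (`p ≥ 1`) for `P' = P ⊗_R R'`, `P` and `A` flat over `R`. -/
theorem subsingleton_tor_of_isPushout (R P A R' P' : Type u) [CommRing R] [CommRing P] [CommRing A]
    [CommRing R'] [CommRing P'] [Algebra R P] [Algebra P A] [Algebra R A] [IsScalarTower R P A]
    [Algebra R R'] [Algebra P P'] [Algebra R' P'] [Algebra R P'] [IsScalarTower R P P']
    [IsScalarTower R R' P'] [Algebra.IsPushout R P R' P'] [Module.Flat R P] [Module.Flat R A]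
    (p : ℕ) (hp : 1 ≤ p) : Subsingleton (DRing.Tor P p A P') := by
  obtain ⟨k, rfl⟩ : ∃ k, p = k + 1 := ⟨p - 1, by omega⟩
  have hbc : IsBaseChange P (IsScalarTower.toAlgHom R R' P').toLinearMap :=
    Algebra.IsPushout.out
  let e : ((ModuleCat.extendScalars.{u,u,u} (algebraMap R P)).obj (ModuleCat.of R R')) ≃ₗ[P] P' :=
    (Groth.Agent.H12.BC.bridge (B := P) (ModuleCat.of R R')) ≪≫ₗ hbc.equiv
  have hz := isZero_tor_extendScalars R P A (ModuleCat.of R R') k
  have hz' : IsZero (((Tor (ModuleCat.{u} P) (k + 1)).obj (ModuleCat.of P A)).obj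
      (ModuleCat.of P P')) :=
    IsZero.of_iso hz (((Tor (ModuleCat.{u} P) (k + 1)).obj (ModuleCat.of P A)).mapIso
      e.toModuleIso.symm)
  exact ModuleCat.subsingleton_of_isZero hz'


end Groth.Agent.H28.TorPushout
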