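import Mathlib
import Groth.Prelude.Def_DDual2
import Groth.Prelude.Def_DualSh
import Groth.Prelude.Def_TrivBC
import Groth.Agent.H26.CoextBC5
import Groth.Agent.H26.CoextBC11
import Groth.Agent.H28.TorPushout
import Groth.Agent.H28.PCohTwoIdeals
import Groth.Agent.H28.ShriekMain
import Groth.Agent.H35.TrivBCCmp
import Groth.Agent.H5.LBaseChangeAdj

/-!
# Base change for the algebraic upper shriek of a FLAT map along an ARBITRARY map (helper28)

`φ : R → A` flat of finite type (`R` Noetherian), `R → R'` arbitrary, `A' = R' ⊗_R A`: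
`(φ^! K) ⊗^L_A A' ≅ φ'^!(K ⊗^L_R R')` for every `K ∈ D(R)`.

This is deduced from base change for trivial duality in the perfect tor independent case
(`TrivBCPerfect`, the exact shape of milestone S13549) applied to the square
`P = R[x] → A`, `P → P' = R'[x]`, `A' = A ⊗_P P'`: `A` is a perfect `P`-module
(`H26.CoextBC.isPerfectModule_of_flat`) and `Tor^P_p(A, P') = Tor^R_p(A, R') = 0`
(`H28.TorPushout.subsingleton_tor_of_isPushout`).
-/

set_option autoImplicit false
set_option linter.unusedSectionVars false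
set_option linter.style.haveILetI false
set_option linter.overlappingInstances false

universe u

open CategoryTheory Limits Pretriangulated DerivedCategory TensorProduct

namespace Groth.Agent.H28.ShriekNonFlatBC

open Groth.Agent.H26.CoextBC

attribute [local instance] HasDerivedCategory.standard
attribute [local instance] MvPolynomial.algebraMvPolynomial
attribute [local instance] Algebra.TensorProduct.rightAlgebra

/-- Base change for trivial duality, `A` perfect over `R` and tor independent of `R'`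
(the exact shape of milestone S13549). -/
def TrivBCPerfect : Prop :=
  ∀ (R A R' A' : Type u) [CommRing R] [CommRing A] [CommRing R'] [CommRing A']
    [Algebra R A] [Algebra R R'] [Algebra A A'] [Algebra R' A'] [Algebra R A'] [IsScalarTower R A A'] [IsScalarTower R R' A']
    [Algebra.IsPushout R A R' A']
    (_hperf : DRing.IsPerfectModule R A)
    (_htor : ∀ p : ℕ, 1 ≤ p → Subsingleton (DRing.Tor R p A R'))
    [DRing.HasLBaseChange (algebraMap R R')] [DRing.HasLBaseChange (algebraMap A A')]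
    (adjρ : DRing.LBaseChange (algebraMap R R') ⊣ DRing.restrictD (algebraMap R R'))
    (adjα : DRing.LBaseChange (algebraMap A A') ⊣ DRing.restrictD (algebraMap A A'))
    (h : (algebraMap A A').comp (algebraMap R A) = (algebraMap R' A').comp (algebraMap R R'))
    (Rφ : Dual.D R ⥤ Dual.D A) (adj : DRing.restrictD (algebraMap R A) ⊣ Rφ)
    (Rφ' : Dual.D R' ⥤ Dual.D A') (adj' : DRing.restrictD (algebraMap R' A') ⊣ Rφ')
    (K : Dual.D R) (hc : IsIso (TrivBC.cmp adjρ adjα h (Rφ.obj K))),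
    IsIso (TrivBC.bcMap adjρ adjα h adj adj' K hc)

variable (R R' A : Type u) [CommRing R] [CommRing R'] [CommRing A] [Algebra R R'] [Algebra R A]

set_option maxHeartbeats 1600000 in
/-- **Base change for the algebraic upper shriek of a flat map** (all objects, arbitrary `R → R'`) -/
theorem nonempty_shriekVia_baseChange_of_flat (h49 : TrivBCPerfect.{u})
    [IsNoetherianRing R] [Module.Flat R A]
    (n : ℕ) (ψ : MvPolynomial (Fin n) R →ₐ[R] A)
    (hψ : Function.Surjective ψ) [DRing.HasLBaseChange (algebraMap R (MvPolynomial (Fin n) R))]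
    (Rψ : Dual.D (MvPolynomial (Fin n) R) ⥤ Dual.D A) (adj : DRing.restrictD ψ.toRingHom ⊣ Rψ)
    (m : ℕ) (ψ' : MvPolynomial (Fin m) R' →ₐ[R'] (R' ⊗[R] A)) (hψ' : Function.Surjective ψ')
    [DRing.HasLBaseChange (algebraMap R' (MvPolynomial (Fin m) R'))]
    (Rψ' : Dual.D (MvPolynomial (Fin m) R') ⥤ Dual.D (R' ⊗[R] A))
    (adj' : DRing.restrictD ψ'.toRingHom ⊣ Rψ')
    [DRing.HasLBaseChange (Algebra.TensorProduct.includeRight : A →ₐ[R] R' ⊗[R] A).toRingHom]
    [DRing.HasLBaseChange (algebraMap R R')] (K : Dual.D R) :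
    Nonempty ((DRing.LBaseChange
      (Algebra.TensorProduct.includeRight : A →ₐ[R] R' ⊗[R] A).toRingHom).obj
        (Dual2.shriekVia n Rψ K) ≅
      Dual2.shriekVia m Rψ' ((DRing.LBaseChange (algebraMap R R')).obj K)) := by
  letI algPA : Algebra (MvPolynomial (Fin n) R) A := ψ.toRingHom.toAlgebra
  letI algP'A' : Algebra (MvPolynomial (Fin n) R') (R' ⊗[R] A) :=
    (psiBC R R' A n ψ).toRingHom.toAlgebra
  letI algPA' : Algebra (MvPolynomial (Fin n) R) (R' ⊗[R] A) :=
    ((algebraMap A (R' ⊗[R] A)).comp (algebraMap (MvPolynomial (Fin n) R) A)).toAlgebra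
  haveI t1 : IsScalarTower (MvPolynomial (Fin n) R) A (R' ⊗[R] A) :=
    IsScalarTower.of_algebraMap_eq (fun _ => rfl)
  haveI t2 : IsScalarTower (MvPolynomial (Fin n) R) (MvPolynomial (Fin n) R') (R' ⊗[R] A) :=
    IsScalarTower.of_algebraMap_eq (fun p => (psiBC_map R R' A n ψ p).symm)
  haveI t3 : IsScalarTower R (MvPolynomial (Fin n) R) A :=
    IsScalarTower.of_algebraMap_eq (fun r => (ψ.commutes r).symm)
  haveI t4 : IsScalarTower R' (MvPolynomial (Fin n) R') (R' ⊗[R] A) :=
    IsScalarTower.of_algebraMap_eq (fun r => ((psiBC R R' A n ψ).commutes r).symm)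
  haveI t5 : IsScalarTower R (MvPolynomial (Fin n) R') (R' ⊗[R] A) :=
    IsScalarTower.of_algebraMap_eq (fun r => by
      rw [IsScalarTower.algebraMap_apply R R' (R' ⊗[R] A),
        IsScalarTower.algebraMap_apply R R' (MvPolynomial (Fin n) R'),
        ← IsScalarTower.algebraMap_apply R' (MvPolynomial (Fin n) R') (R' ⊗[R] A)])
  haveI po1 : Algebra.IsPushout R A R' (R' ⊗[R] A) := inferInstance
  haveI po2 : Algebra.IsPushout (MvPolynomial (Fin n) R) A (MvPolynomial (Fin n) R')
      (R' ⊗[R] A) :=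
    (Algebra.IsPushout.comp_iff R (MvPolynomial (Fin n) R) R'
      (S' := MvPolynomial (Fin n) R') (T := A) (T' := R' ⊗[R] A)).mp po1
  -- the hypotheses of trivial duality base change for the square `P → A`, `P → P'`
  have hperf : DRing.IsPerfectModule (MvPolynomial (Fin n) R) A :=
    isPerfectModule_of_flat R A n ψ hψ
  have htor : ∀ p : ℕ, 1 ≤ p →
      Subsingleton (DRing.Tor (MvPolynomial (Fin n) R) p A (MvPolynomial (Fin n) R')) :=
    fun p hp => Groth.Agent.H28.TorPushout.subsingleton_tor_of_isPushout R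
      (MvPolynomial (Fin n) R) A R' (MvPolynomial (Fin n) R') p hp
  haveI hLBρ : DRing.HasLBaseChange
      (algebraMap (MvPolynomial (Fin n) R) (MvPolynomial (Fin n) R')) :=
    Groth.Agent.H35.LT.hasLBaseChange _
  haveI hLBα : DRing.HasLBaseChange (algebraMap A (R' ⊗[R] A)) :=
    inferInstanceAs (DRing.HasLBaseChange
      (Algebra.TensorProduct.includeRight : A →ₐ[R] R' ⊗[R] A).toRingHom)
  let adjρ := Groth.Agent.H5.LBaseChangeAdj.adj
    (algebraMap (MvPolynomial (Fin n) R) (MvPolynomial (Fin n) R'))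
  let adjα := Groth.Agent.H5.LBaseChangeAdj.adj (algebraMap A (R' ⊗[R] A))
  have hsq : (algebraMap A (R' ⊗[R] A)).comp (algebraMap (MvPolynomial (Fin n) R) A) =
      (algebraMap (MvPolynomial (Fin n) R') (R' ⊗[R] A)).comp
        (algebraMap (MvPolynomial (Fin n) R) (MvPolynomial (Fin n) R')) :=
    (IsScalarTower.algebraMap_eq (MvPolynomial (Fin n) R) A (R' ⊗[R] A)).symm.trans
      (IsScalarTower.algebraMap_eq (MvPolynomial (Fin n) R) (MvPolynomial (Fin n) R')
        (R' ⊗[R] A))
  let K1 : Dual.D (MvPolynomial (Fin n) R) :=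
    (DRing.LBaseChange (algebraMap R (MvPolynomial (Fin n) R))).obj K
  have hc : IsIso (TrivBC.cmp adjρ adjα hsq (Rψ.obj K1)) :=
    Groth.Agent.H35.TrivBCCmp.isIso_cmp (MvPolynomial (Fin n) R) A (MvPolynomial (Fin n) R')
      (R' ⊗[R] A) htor adjρ adjα hsq (Rψ.obj K1)
  haveI hbc : IsIso (TrivBC.bcMap adjρ adjα hsq adj
      (adjRR (MvPolynomial (Fin n) R') (R' ⊗[R] A)) K1 hc) :=
    h49 (MvPolynomial (Fin n) R) A (MvPolynomial (Fin n) R') (R' ⊗[R] A) hperf htor adjρ adjα hsq
      Rψ adj (RR (MvPolynomial (Fin n) R') (R' ⊗[R] A))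
      (adjRR (MvPolynomial (Fin n) R') (R' ⊗[R] A)) K1 hc
  have e1 : (DRing.LBaseChange (algebraMap A (R' ⊗[R] A))).obj (Rψ.obj K1) ≅
      (RR (MvPolynomial (Fin n) R') (R' ⊗[R] A)).obj
        ((DRing.LBaseChange
          (algebraMap (MvPolynomial (Fin n) R) (MvPolynomial (Fin n) R'))).obj K1) :=
    asIso (TrivBC.bcMap adjρ adjα hsq adj (adjRR (MvPolynomial (Fin n) R') (R' ⊗[R] A)) K1 hc)
  -- composition of base changes `R → P → P'` and `R → R' → P'`
  haveI hLB' : DRing.HasLBaseChange (algebraMap R' (MvPolynomial (Fin n) R')) :=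
    Groth.Agent.H35.LT.hasLBaseChange _
  haveI hLBRP' : DRing.HasLBaseChange (algebraMap R (MvPolynomial (Fin n) R')) :=
    Groth.Agent.H35.LT.hasLBaseChange _
  obtain ⟨c1⟩ := Groth.Agent.H28.PCohTwoIdeals.LBaseChange_comp_iso'
    (algebraMap R (MvPolynomial (Fin n) R))
    (algebraMap (MvPolynomial (Fin n) R) (MvPolynomial (Fin n) R'))
    (algebraMap R (MvPolynomial (Fin n) R'))
    (IsScalarTower.algebraMap_eq R (MvPolynomial (Fin n) R) (MvPolynomial (Fin n) R')) K
  obtain ⟨c2⟩ := Groth.Agent.H28.PCohTwoIdeals.LBaseChange_comp_iso'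
    (algebraMap R R') (algebraMap R' (MvPolynomial (Fin n) R'))
    (algebraMap R (MvPolynomial (Fin n) R'))
    (IsScalarTower.algebraMap_eq R R' (MvPolynomial (Fin n) R')) K
  -- derived base change commutes with shifts
  letI cs : (DRing.LBaseChange (algebraMap A (R' ⊗[R] A))).CommShift ℤ :=
    adjα.leftAdjointCommShift ℤ
  have eL : (DRing.LBaseChange
      (Algebra.TensorProduct.includeRight : A →ₐ[R] R' ⊗[R] A).toRingHom).obj
        (Dual2.shriekVia n Rψ K) ≅
      Dual2.shriekVia n (RR (MvPolynomial (Fin n) R') (R' ⊗[R] A))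
        ((DRing.LBaseChange (algebraMap R R')).obj K) :=
    ((DRing.LBaseChange (algebraMap A (R' ⊗[R] A))).commShiftIso (n : ℤ)).app (Rψ.obj K1) ≪≫
      (shiftFunctor (Dual.D (R' ⊗[R] A)) (n : ℤ)).mapIso
        (e1 ≪≫ (RR (MvPolynomial (Fin n) R') (R' ⊗[R] A)).mapIso (c1 ≪≫ c2.symm))
  obtain ⟨eI⟩ := Groth.Agent.H28.ShriekMain.nonempty_shriekVia_iso m ψ' hψ' Rψ' adj' n
    (psiBC R R' A n ψ) (psiBC_surjective R R' A n ψ hψ)
    (RR (MvPolynomial (Fin n) R') (R' ⊗[R] A)) (adjRR (MvPolynomial (Fin n) R') (R' ⊗[R] A))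
    ((DRing.LBaseChange (algebraMap R R')).obj K)
  exact ⟨eL ≪≫ eI.symm⟩

end Groth.Agent.H28.ShriekNonFlatBC
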