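import Mathlib
import Groth.Prelude.Def_DDual2
import Groth.Prelude.Def_DualSh
import Groth.Agent.H12.Bridge
import Groth.Agent.H35.LTensorRing
import Groth.Agent.H35.KFBounded
import Groth.Agent.H28.DualSelf
import Groth.Agent.H28.DualFinite
import Groth.Agent.H28.DualShift
import Groth.Agent.H28.ShriekNonFlatBC
import Groth.Agent.H26.FlatBCDual11

/-!
# The fibres of the relative dualizing complex of a flat finite type map are dualizing (helper28)

`isDualizing_fibre` is conjunct (d) of S1801, conditional on a hypothesis of the exact shape of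
milestone S13549 (`ShriekNonFlatBC.TrivBCPerfect`).
-/

set_option autoImplicit false
set_option linter.style.haveILetI false
set_option linter.unusedSectionVars false
set_option linter.overlappingInstances false
universe u
open CategoryTheory Limits Pretriangulated DerivedCategory TensorProduct
namespace Groth.Agent.H28.ShriekFibre
attribute [local instance] HasDerivedCategory.standard
attribute [local instance] MvPolynomial.algebraMvPolynomial
attribute [local instance] Algebra.TensorProduct.rightAlgebra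
open Groth.Agent.H26.CoextBC Groth.Agent.H28.ShriekNonFlatBC

/-- `B ⊗_A A ≅ B` on the `ModuleCat` level -/
noncomputable def extendSelfIso (A B : Type u) [CommRing A] [CommRing B] [Algebra A B] :
    (ModuleCat.extendScalars.{u,u,u} (algebraMap A B)).obj (ModuleCat.of A A) ≅ ModuleCat.of B B :=
  ((Groth.Agent.H12.BC.bridge (B := B) (ModuleCat.of A A)) ≪≫ₗ
    TensorProduct.AlgebraTensorModule.rid A B B).toModuleIso

/-- the derived base change of `A[0]` is `B[0]` (no flatness) -/
theorem nonempty_LBaseChange_inD_self (A B : Type u) [CommRing A] [CommRing B] [Algebra A B]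
    [DRing.HasLBaseChange (algebraMap A B)] :
    Nonempty ((DRing.LBaseChange (algebraMap A B)).obj (Dual.inD A A) ≅ Dual.inD B B) := by
  let K : CochainComplex (ModuleCat.{u} A) ℤ :=
    (HomologicalComplex.single (ModuleCat.{u} A) (ComplexShape.up ℤ) 0).obj (ModuleCat.of A A)
  have hK : Groth.Agent.H35.KF.IsKFlat K := by
    refine Groth.Agent.H35.KF.isKFlat_of_isZero_of_isFlat K 0 (fun q hq => ?_) ?_
    · exact HomologicalComplex.isZero_single_obj_X _ _ _ _ hq
    · have e : K.X 0 ≅ ModuleCat.of A A :=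
        HomologicalComplex.singleObjXSelf (ComplexShape.up ℤ) 0 (ModuleCat.of A A)
      exact Module.Flat.of_linearEquiv e.toLinearEquiv
  have e1 : Dual.inD A A ≅ Q.obj K :=
    (DerivedCategory.singleFunctorIsoCompQ (ModuleCat.{u} A) 0).app (ModuleCat.of A A)
  have e2 := Groth.Agent.H35.LT.LBaseChangeIso (algebraMap A B) K hK
  have e3 : ((ModuleCat.extendScalars.{u, u, u} (algebraMap A B)).mapHomologicalComplex
      (ComplexShape.up ℤ)).obj K ≅
      (HomologicalComplex.single (ModuleCat.{u} B) (ComplexShape.up ℤ) 0).obj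
        ((ModuleCat.extendScalars.{u, u, u} (algebraMap A B)).obj (ModuleCat.of A A)) :=
    (HomologicalComplex.singleMapHomologicalComplex
      (ModuleCat.extendScalars.{u, u, u} (algebraMap A B)) (ComplexShape.up ℤ) 0).app _
  have e4 : Q.obj ((HomologicalComplex.single (ModuleCat.{u} B) (ComplexShape.up ℤ) 0).obj
      (ModuleCat.of B B)) ≅ Dual.inD B B :=
    ((DerivedCategory.singleFunctorIsoCompQ (ModuleCat.{u} B) 0).app (ModuleCat.of B B)).symm
  exact ⟨(DRing.LBaseChange (algebraMap A B)).mapIso e1 ≪≫ e2 ≪≫ Q.mapIso e3 ≪≫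
    Q.mapIso ((HomologicalComplex.single (ModuleCat.{u} B) (ComplexShape.up ℤ) 0).mapIso
      (extendSelfIso A B)) ≪≫ e4⟩

/-- a field is its own dualizing complex -/
theorem isDualizing_inD_field (k : Type u) [Field k] : Dual.IsDualizing k (Dual.inD k k) := by
  haveI : Module.Injective k k := Module.injective_of_isSemisimpleRing k k
  haveI : Injective (ModuleCat.of k k) := Module.injective_object_of_injective_module k k
  exact Groth.Agent.H28.DualSelf.isDualizing_self k 1 inferInstance

set_option maxHeartbeats 1600000 in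
/-- **S1801 (d)**: the base change to a field `k` of `ω = φ^!(R)` (`φ` flat of finite type) is a
dualizing complex of `k ⊗_R A`. -/
theorem isDualizing_fibre (h49 : TrivBCPerfect.{u}) (R A : Type u) [CommRing R] [CommRing A]
    [IsNoetherianRing R] [Algebra R A] [Module.Flat R A] (n : ℕ)
    (ψ : MvPolynomial (Fin n) R →ₐ[R] A) (hψ : Function.Surjective ψ)
    [DRing.HasLBaseChange (algebraMap R (MvPolynomial (Fin n) R))]
    (Rψ : Dual.D (MvPolynomial (Fin n) R) ⥤ Dual.D A) (adj : DRing.restrictD ψ.toRingHom ⊣ Rψ)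
    (k : Type u) [Field k] [Algebra R k]
    [DRing.HasLBaseChange (Algebra.TensorProduct.includeRight : A →ₐ[R] k ⊗[R] A).toRingHom] :
    Dual.IsDualizing (k ⊗[R] A) ((DRing.LBaseChange
      (Algebra.TensorProduct.includeRight : A →ₐ[R] k ⊗[R] A).toRingHom).obj
        (Dual2.shriekVia n Rψ (Dual.inD R R))) := by
  letI algP'A' : Algebra (MvPolynomial (Fin n) k) (k ⊗[R] A) :=
    (psiBC R k A n ψ).toRingHom.toAlgebra
  have hsurj : Function.Surjective (algebraMap (MvPolynomial (Fin n) k) (k ⊗[R] A)) :=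
    psiBC_surjective R k A n ψ hψ
  haveI hN : IsNoetherianRing (k ⊗[R] A) :=
    isNoetherianRing_of_surjective (MvPolynomial (Fin n) k) (k ⊗[R] A)
      (algebraMap (MvPolynomial (Fin n) k) (k ⊗[R] A)) hsurj
  haveI fin : Module.Finite (MvPolynomial (Fin n) k) (k ⊗[R] A) :=
    Module.Finite.of_surjective (Algebra.linearMap (MvPolynomial (Fin n) k) (k ⊗[R] A)) hsurj
  haveI hLB1 : DRing.HasLBaseChange (algebraMap k (MvPolynomial (Fin n) k)) :=
    Groth.Agent.H35.LT.hasLBaseChange _
  haveI hLB2 : DRing.HasLBaseChange (algebraMap R k) := Groth.Agent.H35.LT.hasLBaseChange _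
  obtain ⟨e⟩ := nonempty_shriekVia_baseChange_of_flat R k A h49 n ψ hψ Rψ adj n
    (psiBC R k A n ψ) (psiBC_surjective R k A n ψ hψ)
    (RR (MvPolynomial (Fin n) k) (k ⊗[R] A)) (adjRR (MvPolynomial (Fin n) k) (k ⊗[R] A))
    (Dual.inD R R)
  obtain ⟨e0⟩ := nonempty_LBaseChange_inD_self R k
  -- `k[x] ⊗ k[0]` is dualizing
  have h1 : Dual.IsDualizing (MvPolynomial (Fin n) k)
      ((DRing.LBaseChange (algebraMap k (MvPolynomial (Fin n) k))).obj (Dual.inD k k)) :=
    Groth.Agent.H26.FlatBCDual.isDualizing_of_iso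
      ((Groth.Agent.H26.FlatBCDual.lbcIso (A := k) (B := MvPolynomial (Fin n) k)).app _).symm
      (Groth.Agent.H26.FlatBCDual.isDualizing_LB_mvPolynomial n (Dual.inD k k)
        (isDualizing_inD_field k))
  have h2 : Dual.IsDualizing (k ⊗[R] A)
      ((RR (MvPolynomial (Fin n) k) (k ⊗[R] A)).obj
        ((DRing.LBaseChange (algebraMap k (MvPolynomial (Fin n) k))).obj (Dual.inD k k))) :=
    Groth.Agent.H28.DualFinite.isDualizing_rightAdjoint _
      (adjRR (MvPolynomial (Fin n) k) (k ⊗[R] A)) _ h1
  have h3 := Groth.Agent.H28.DualShift.isDualizing_shift _ h2 (n : ℤ)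
  refine Groth.Agent.H26.FlatBCDual.isDualizing_of_iso (?_ ≪≫ e.symm) h3
  exact (shiftFunctor (Dual.D (k ⊗[R] A)) (n : ℤ)).mapIso
    ((RR (MvPolynomial (Fin n) k) (k ⊗[R] A)).mapIso
      ((DRing.LBaseChange (algebraMap k (MvPolynomial (Fin n) k))).mapIso e0.symm))

end Groth.Agent.H28.ShriekFibre
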