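import Mathlib
import Groth.Agent.H35.TorAmpFFlat
import Groth.Agent.H35.TorAmpDescent
import Groth.Agent.H35.TensorAmp

/-!
# Tor amplitude of a restriction of scalars is local on the source (helper28)
-/

open CategoryTheory Limits MonoidalCategory TensorProduct

universe u

namespace Groth.Agent.H28.TorAmpLocal

open HomologicalComplex Groth.Agent.H35.KF Groth.Agent.H35.KFBC Groth.Agent.H35.LT DerivedCategory

attribute [local instance] HasDerivedCategory.standard

section LocalGlobal

variable {B : Type u} [CommRing B]

/-- exactness of a complex of modules can be checked after localizing at all maximal ideals -/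
lemma exactAt_of_forall_maximal (T : CochainComplex (ModuleCat.{u} B) ℤ) (i : ℤ)
    (h : ∀ (m : Ideal B) [m.IsMaximal],
      (extK (algebraMap B (Localization.AtPrime m)) T).ExactAt i) : T.ExactAt i := by
  rw [exactAt_iff' T (i - 1) i (i + 1) (by simp) (by simp),
    ShortComplex.ShortExact.moduleCat_exact_iff_function_exact]
  refine exact_of_isLocalized_maximal
    (fun m _ => Localization.AtPrime m ⊗[B] T.X (i - 1))
    (fun m _ => TensorProduct.mk B (Localization.AtPrime m) _ 1)
    (fun m _ => Localization.AtPrime m ⊗[B] T.X i)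
    (fun m _ => TensorProduct.mk B (Localization.AtPrime m) _ 1)
    (fun m _ => Localization.AtPrime m ⊗[B] T.X (i + 1))
    (fun m _ => TensorProduct.mk B (Localization.AtPrime m) _ 1) _ _ ?_
  intro m hm
  rw [isLocalizedModule_map_mk_eq_lTensor, isLocalizedModule_map_mk_eq_lTensor]
  have h1 := h m
  rw [exactAt_map_extendScalars_iff,
    tensExactAt_iff_of_iso T
      (Groth.Agent.H28.PCohRestrict.algebraRestrictIso B (Localization.AtPrime m)).symm i,
    tensExactAt_iff_function_exact T (Localization.AtPrime m) (i - 1) i (i + 1) (by simp)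
      (by simp)] at h1
  exact (LinearMap.rTensor_exact_iff_lTensor_exact _).1 h1

end LocalGlobal

section Main

variable {A B : Type u} [CommRing A] [CommRing B] [Algebra A B]

/-- extension of scalars along a composite, on complexes -/
noncomputable def extKCompIso {R₁ R₂ R₃ : Type u} [CommRing R₁] [CommRing R₂] [CommRing R₃]
    (f₁₂ : R₁ →+* R₂) (f₂₃ : R₂ →+* R₃) (G : CochainComplex (ModuleCat.{u} R₁) ℤ) :
    extK (f₂₃.comp f₁₂) G ≅ extK f₂₃ (extK f₁₂ G) :=
  (NatIso.mapHomologicalComplex (ModuleCat.extendScalarsComp f₁₂ f₂₃) (ComplexShape.up ℤ)).app G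

/-- extension of scalars along equal ring maps -/
noncomputable def extKCongrIso {R₁ R₂ : Type u} [CommRing R₁] [CommRing R₂]
    (f g : R₁ →+* R₂) (h : f = g) (G : CochainComplex (ModuleCat.{u} R₁) ℤ) :
    extK f G ≅ extK g G := eqToIso (by rw [h])

theorem hasTorAmplitudeIn_restrict_of_forall_maximal (K : CochainComplex (ModuleCat.{u} B) ℤ)
    (a b : ℤ)
    (h3 : ∀ (m : Ideal B) [m.IsMaximal],
      DRing.HasTorAmplitudeIn (Localization.AtPrime (m.comap (algebraMap A B))) a b
        (Q.obj (resL (Localization.localRingHom (m.comap (algebraMap A B)) m (algebraMap A B) rfl)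
          (extK (algebraMap B (Localization.AtPrime m)) K)))) :
    DRing.HasTorAmplitudeIn A a b (Q.obj (resL (algebraMap A B) K)) := by
  rw [hasTorAmplitudeIn_Q_iff]
  intro N G hG g hg i hi
  rw [← exactAt_iff_of_iso' (restrictTensorIso (algebraMap A B) K G) i,
    exactAt_map_restrictScalars_iff]
  apply exactAt_of_forall_maximal
  intro m hm
  let ψ := Localization.localRingHom (m.comap (algebraMap A B)) m (algebraMap A B) rfl
  have hsq : (algebraMap B (Localization.AtPrime m)).comp (algebraMap A B) =
      ψ.comp (algebraMap A (Localization.AtPrime (m.comap (algebraMap A B)))) := by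
    ext x
    simp [ψ]
  rw [exactAt_map_extendScalars_iff, ← exactAt_tensor_sgl_iff,
    exactAt_iff_of_iso' (tensorSwapIso _ _) i,
    ← exactAt_iff_of_iso' (α_ (sgl (BA (algebraMap B (Localization.AtPrime m)))) K
      (extK (algebraMap A B) G)) i,
    ← exactAt_iff_of_iso' (whiskerRightIso (resLExtKIso (B := Localization.AtPrime m) K)
      (extK (algebraMap A B) G)) i,
    ← exactAt_iff_of_iso' (restrictTensorIso (algebraMap B (Localization.AtPrime m))
      (extK (algebraMap B (Localization.AtPrime m)) K) (extK (algebraMap A B) G)) i,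
    exactAt_map_restrictScalars_iff]
  let μ := algebraMap A (Localization.AtPrime (m.comap (algebraMap A B)))
  let G' := extK μ G
  let iso4 : extK (algebraMap B (Localization.AtPrime m)) (extK (algebraMap A B) G) ≅ extK ψ G' :=
    (extKCompIso (algebraMap A B) (algebraMap B (Localization.AtPrime m)) G).symm ≪≫
      extKCongrIso _ _ hsq G ≪≫ extKCompIso μ ψ G
  rw [exactAt_iff_of_iso' (whiskerLeftIso (extK (algebraMap B (Localization.AtPrime m)) K) iso4) i,
    ← exactAt_map_restrictScalars_iff ψ,
    exactAt_iff_of_iso' (restrictTensorIso ψ (extK (algebraMap B (Localization.AtPrime m)) K) G') i]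
  have hG' : IsKFlat G' := isKFlat_extendScalars μ G hG
  let N' := (ModuleCat.extendScalars.{u, u, u} μ).obj N
  let g' : G' ⟶ sgl N' := (extCx μ).map g ≫
    ((HomologicalComplex.singleMapHomologicalComplex (ModuleCat.extendScalars.{u, u, u} μ)
      (ComplexShape.up ℤ) 0).app N).hom
  have hq : QuasiIso ((extCx μ).map g) := inferInstance
  have hg' : QuasiIso g' := inferInstance
  exact (hasTorAmplitudeIn_Q_iff _ a b).1 (h3 m) N' G' hG' g' hg' i hi

end Main

end Groth.Agent.H28.TorAmpLocal
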