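import Mathlib
import Groth.Agent.H28.DualLocGlob
import Groth.Agent.H2.DualCx.Support3
import Groth.Agent.H2.DualCx.LocalCM

/-!
# Pointwise dualizing complexes over a ring of finite Krull dimension (helper28; S11173)

If `R ∈ D^+(A)` has finite cohomology modules, `dim A < ∞`, and all localizations `R_p` are
dualizing complexes, then `R` is a dualizing complex.
-/

set_option autoImplicit false
universe u
open CategoryTheory Limits Pretriangulated DerivedCategory TensorProduct

namespace Groth.Agent.H28.DualPointwise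

open Groth.Agent.H26.FlatBCHom Groth.Agent.H26.FlatBCDual Groth.Agent.H2.DualCx

attribute [local instance] HasDerivedCategory.standard
attribute [local instance] homModuleA

section Local

variable {B : Type u} [CommRing B] [IsNoetherianRing B] [IsLocalRing B] {ω : Dual.D B}

/-- for `ω[n]` normalized, `H^i(ω) ≠ 0` forces `n - dim B ≤ i ≤ n` -/
theorem range_of_nontrivial_HD (n : ℤ) (hN : Norm (ω⟦n⟧)) (d : ℕ) (hd : ringKrullDim B = d)
    (i : ℤ) (h : Nontrivial (Dual.HD B ω i)) : n - d ≤ i ∧ i ≤ n := by
  have h1 : ¬ Subsingleton (T ω i B) := fun hs =>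
    not_subsingleton_iff_nontrivial.mpr h ((subsingleton_T_self_iff ω i).mp hs)
  have h2 : Nontrivial (T (ω⟦n⟧) (i - n) B) := by
    rw [← not_subsingleton_iff_nontrivial]
    intro hs
    apply h1
    have e := TShiftEquiv ω n (i - n) B
    have hni : n + (i - n) = i := by ring
    rw [hni] at e
    exact e.symm.toEquiv.subsingleton
  have hd' : Module.supportDim B B = d := by
    rw [Module.supportDim_self_eq_ringKrullDim, hd]
  have := (range_and_supportDim hN B d hd' (i - n)).1 h2
  omega

/-- for `ω[n]` normalized, `Ext^i(M, ω) = 0` for `i > n` and finite `M` -/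
theorem subsingleton_T_of_gt (n : ℤ) (hN : Norm (ω⟦n⟧)) (M : Type u) [AddCommGroup M]
    [Module B M] [Module.Finite B M] (i : ℤ) (hi : n < i) : Subsingleton (T ω i M) := by
  have h1 : Subsingleton (T (ω⟦n⟧) (i - n) M) := pos_vanish hN M (i - n) (by omega)
  have e := TShiftEquiv ω n (i - n) M
  have hni : n + (i - n) = i := by ring
  rw [hni] at e
  exact e.symm.toEquiv.subsingleton

end Local

section Nonzero

variable {B : Type u} [CommRing B] [Nontrivial B] {ω : Dual.D B}

/-- a dualizing complex over a nonzero ring has a nonzero cohomology module -/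
theorem exists_nontrivial_HD (hω : Dual.IsDualizing B ω) : ∃ i : ℤ, Nontrivial (Dual.HD B ω i) := by
  by_contra hcon
  push Not at hcon
  have hsub : ∀ i : ℤ, Subsingleton (Dual.HD B ω i) := hcon
  have hGE : ω.IsGE 1 := isGE_of_vanishing ω 1 (fun i _ => hsub i)
  have hLE : ω.IsLE 0 := isLE_of_vanishing ω 0 (fun i _ => hsub i)
  have hz : IsZero ω := DerivedCategory.TStructure.t.isZero ω 0 1
  have h1 : (1 : B) • 𝟙 ω = (0 : B) • 𝟙 ω := hz.eq_of_src _ _
  exact one_ne_zero (hω.toEnd_bijective.1 h1)

end Nonzero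

section Global

variable {A : Type u} [CommRing A] [IsNoetherianRing A]

theorem mem_support_iff_nontrivial_tensor (M : Type u) [AddCommGroup M] [Module A M]
    (p : PrimeSpectrum A) :
    p ∈ Module.support A M ↔ Nontrivial (Localization.AtPrime p.asIdeal ⊗[A] M) := by
  rw [Module.mem_support_iff]
  exact (LocalizedModule.equivTensorProduct p.asIdeal.primeCompl M).nontrivial_congr

/-- the dimension of a localization is bounded by the dimension of the ring -/
theorem exists_dim_bound (hdim : ringKrullDim A < ⊤) :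
    ∃ d' : ℕ, ∀ (p : Ideal A) [p.IsPrime] (d : ℕ),
      ringKrullDim (Localization.AtPrime p) = d → d ≤ d' := by
  obtain ⟨d', hd'⟩ : ∃ d' : ℕ, ringKrullDim A ≤ d' := by
    cases h : ringKrullDim A with
    | bot => exact ⟨0, bot_le⟩
    | coe x =>
      cases x with
      | top => rw [h] at hdim; exact absurd hdim (lt_irrefl _)
      | coe d => exact ⟨d, le_refl _⟩
  refine ⟨d', fun p _ d hd => ?_⟩
  have h1 : ringKrullDim (Localization.AtPrime p) = p.height :=
    IsLocalization.AtPrime.ringKrullDim_eq_height p (Localization.AtPrime p)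
  have h2 : (p.height : WithBot ℕ∞) ≤ ringKrullDim A :=
    Ideal.height_le_ringKrullDim_of_ne_top Ideal.IsPrime.ne_top'
  have h3 : ((d : ℕ) : WithBot ℕ∞) ≤ ((d' : ℕ) : WithBot ℕ∞) := by
    rw [← hd, h1]
    exact h2.trans hd'
  exact_mod_cast h3

/-- **Pointwise dualizing complexes** over a Noetherian ring of finite Krull dimension are
dualizing. -/
theorem isDualizing_of_pointwise (hdim : ringKrullDim A < ⊤) (R : Dual.D A)
    (hfin : ∀ i : ℤ, Module.Finite A (Dual.HD A R i)) (a : ℤ) (hGE : R.IsGE a)
    (hloc : ∀ (p : Ideal A) [p.IsPrime],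
      Dual.IsDualizing (Localization.AtPrime p) ((LB A (Localization.AtPrime p)).obj R)) :
    Dual.IsDualizing A R := by
  obtain ⟨d', hd'⟩ := exists_dim_bound hdim
  -- the normalizing shifts
  have hnorm : ∀ (p : Ideal A) [p.IsPrime], ∃ n : ℤ,
      Norm (((LB A (Localization.AtPrime p)).obj R)⟦n⟧) := fun p _ => by
    haveI : IsNoetherianRing (Localization.AtPrime p) :=
      IsLocalization.isNoetherianRing p.primeCompl _ inferInstance
    obtain ⟨n, hn, -⟩ := exists_norm_shift (hloc p)
    exact ⟨n, hn⟩
  -- a nonzero cohomology module at each prime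
  have hnz : ∀ q : minimalPrimes A, ∃ i : ℤ,
      (⟨q.1, q.2.1.1⟩ : PrimeSpectrum A) ∈ Module.support A (Dual.HD A R i) := fun q => by
    haveI : q.1.IsPrime := q.2.1.1
    obtain ⟨i, hi⟩ := exists_nontrivial_HD (hloc q.1)
    refine ⟨i, ?_⟩
    rw [mem_support_iff_nontrivial_tensor]
    exact (HD_LB_equiv (B := Localization.AtPrime q.1) R i).symm.toEquiv.nontrivial
  choose iq hiq using hnz
  haveI : Finite (minimalPrimes A) := (minimalPrimes.finite_of_isNoetherianRing A).to_subtype
  obtain ⟨I₀, hI₀⟩ := (Set.finite_range iq).bddAbove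
  -- the uniform bound
  have hbound : ∀ (p : Ideal A) [p.IsPrime] (n : ℤ),
      Norm (((LB A (Localization.AtPrime p)).obj R)⟦n⟧) → n ≤ I₀ + d' := by
    intro p _ n hN
    haveI : IsNoetherianRing (Localization.AtPrime p) :=
      IsLocalization.isNoetherianRing p.primeCompl _ inferInstance
    obtain ⟨q, hq, hqp⟩ := Ideal.exists_minimalPrimes_le (bot_le : (⊥ : Ideal A) ≤ p)
    have hsupp : (⟨p, inferInstance⟩ : PrimeSpectrum A) ∈
        Module.support A (Dual.HD A R (iq ⟨q, hq⟩)) :=
      Module.mem_support_mono (p := ⟨q, hq.1.1⟩) hqp (hiq ⟨q, hq⟩)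
    rw [mem_support_iff_nontrivial_tensor] at hsupp
    have hnt : Nontrivial (Dual.HD (Localization.AtPrime p)
        ((LB A (Localization.AtPrime p)).obj R) (iq ⟨q, hq⟩)) :=
      (HD_LB_equiv (B := Localization.AtPrime p) R (iq ⟨q, hq⟩)).toEquiv.nontrivial
    obtain ⟨d, hd⟩ := exists_ringKrullDim_eq_nat (A := Localization.AtPrime p)
    have h1 := (range_of_nontrivial_HD n hN d hd _ hnt).1
    have h2 : d ≤ d' := hd' p d hd
    have h3 : iq ⟨q, hq⟩ ≤ I₀ := hI₀ ⟨_, rfl⟩
    omega
  -- boundedness above
  have hvan : ∀ i : ℤ, I₀ + d' < i → Subsingleton (Dual.HD A R i) := by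
    intro i hi
    refine subsingleton_of_forall_maximal_tensor (R := A) _ ?_
    intro m hm
    haveI : IsNoetherianRing (Localization.AtPrime m) :=
      IsLocalization.isNoetherianRing m.primeCompl _ inferInstance
    obtain ⟨n, hN⟩ := hnorm m
    by_contra hcon
    rw [not_subsingleton_iff_nontrivial] at hcon
    have hnt : Nontrivial (Dual.HD (Localization.AtPrime m)
        ((LB A (Localization.AtPrime m)).obj R) i) :=
      (HD_LB_equiv (B := Localization.AtPrime m) R i).toEquiv.nontrivial
    obtain ⟨d, hd⟩ := exists_ringKrullDim_eq_nat (A := Localization.AtPrime m)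
    have h1 := (range_of_nontrivial_HD n hN d hd _ hnt).2
    have h2 := hbound m n hN
    omega
  have hLE : R.IsLE (I₀ + d') := isLE_of_vanishing R _ hvan
  refine Groth.Agent.H28.DualLocGlob.isDualizing_of_maximal R a (I₀ + d') hGE hLE hfin
    ⟨a, I₀ + d', ?_⟩ (fun m _ => hloc m)
  refine fun M _ _ i hi => subsingleton_of_cyclic R a (I₀ + d') ?_ M i hi
  intro I i hi
  rcases hi with hi | hi
  · exact subsingleton_T_of_isGE R a hGE (A ⧸ I) i hi
  · refine subsingleton_of_forall_maximal_tensor (R := A) _ ?_
    intro m hm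
    haveI : IsNoetherianRing (Localization.AtPrime m) :=
      IsLocalization.isNoetherianRing m.primeCompl _ inferInstance
    obtain ⟨n, hN⟩ := hnorm m
    have hn := hbound m n hN
    have h1 : BC (B := Localization.AtPrime m) ((S0 A).obj (ModuleCat.of A (A ⧸ I))) (R⟦i⟧) :=
      BC_single_of_bounded (ModuleCat.of A (A ⧸ I)) R a (I₀ + d') hGE hLE i
    haveI : Module.Finite (Localization.AtPrime m)
        ((F0 A (Localization.AtPrime m)).obj (ModuleCat.of A (A ⧸ I))) :=
      Groth.Agent.H35.LT.finite_extendScalars (algebraMap A (Localization.AtPrime m)) _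
    have h2 : Subsingleton (T ((LB A (Localization.AtPrime m)).obj R) i
        ((F0 A (Localization.AtPrime m)).obj (ModuleCat.of A (A ⧸ I)))) :=
      subsingleton_T_of_gt n hN _ i (by omega)
    have h3 : Subsingleton ((LB A (Localization.AtPrime m)).obj
        ((S0 A).obj (ModuleCat.of A (A ⧸ I))) ⟶
        (LB A (Localization.AtPrime m)).obj (R⟦i⟧)) :=
      subsingleton_hom_of_iso (eps _).symm
        (((LB A (Localization.AtPrime m)).commShiftIso i).app _).symm h2
    exact h1.1.subsingleton

end Global

end Groth.Agent.H28.DualPointwise
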