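import Mathlib
import Groth.Prelude.Def_Disc
import Groth.Agent.H28.RestrAdj

/-!
# `H⁰` of the right adjoint of restriction of scalars is `Hom_A(S, A)` (helper28)

* `homEquivHD` : `Hom_{D(B)}(B[0], X) ≃ₗ[B] H⁰(X)`.
* `nonempty_HD_rightAdjoint_equiv_omega` : `H⁰(R'(A[0])) ≃ₗ[S] ω_{S/A} = Hom_A(S, A)` for any right
  adjoint `R'` of `restrictD (A → S)`, `S`-linearly for the action through the argument.
-/

set_option autoImplicit false
set_option linter.style.haveILetI false
universe u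
open CategoryTheory Pretriangulated Limits DerivedCategory

namespace Groth.Agent.H28.OmegaH0

attribute [local instance] HasDerivedCategory.standard

section HomHD

variable {B : Type u} [CommRing B]

/-- `Hom(B[0], (Q E)[n]) ≃ₗ[B] Hⁿ(E)` -/
noncomputable def homCxEquiv (E : DRing.Cx B) (n : ℤ) :
    (Dual.inD B B ⟶ (DRing.toD E)⟦n⟧) ≃ₗ[B] E.homology n :=
  let e0 : (Dual.inD B B ⟶ (DRing.toD E)⟦n⟧) ≃ₗ[B] (ModuleCat.of B B ⟶ E.homology n) :=
    LinearEquiv.ofBijective (ExtFinite.relMap E n)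
      ⟨ExtFinite.relMap_injective E n, RestrAdj.relMap_surjective E n⟩
  let e1 : (ModuleCat.of B B ⟶ E.homology n) ≃ₗ[B] (B →ₗ[B] E.homology n) :=
    ModuleCat.homLinearEquiv (S := B)
  let e2 : (B →ₗ[B] E.homology n) ≃ₗ[B] E.homology n := LinearMap.ringLmapEquivSelf B B _
  e0.trans (e1.trans e2)

/-- postcomposition with an isomorphism, as a linear equivalence -/
noncomputable def homCongrRight {X Y Y' : Dual.D B} (e : Y ≅ Y') : (X ⟶ Y) ≃ₗ[B] (X ⟶ Y') where
  toFun f := f ≫ e.hom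
  invFun g := g ≫ e.inv
  map_add' f g := Preadditive.add_comp _ _ _ _ _ _
  map_smul' b f := Linear.smul_comp _ _ _ _ _ _
  left_inv f := by simp
  right_inv g := by simp

/-- `Hom(B[0], X[i]) ≃ₗ[B] Hⁱ(X)` -/
noncomputable def homShiftEquivHD (X : Dual.D B) (i : ℤ) :
    (Dual.inD B B ⟶ X⟦i⟧) ≃ₗ[B] Dual.HD B X i :=
  let E := Q.objPreimage X
  let e : Q.obj E ≅ X := Q.objObjPreimageIso X
  let i1 : (DerivedCategory.homologyFunctor (ModuleCat.{u} B) i).obj X ≅ E.homology i :=
    (DerivedCategory.homologyFunctor (ModuleCat.{u} B) i).mapIso e.symm ≪≫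
      (DerivedCategory.homologyFunctorFactors (ModuleCat.{u} B) i).app E
  (homCongrRight ((shiftFunctor (Dual.D B) i).mapIso e.symm)).trans
    ((homCxEquiv E i).trans i1.toLinearEquiv.symm)

/-- `Hom(B[0], X) ≃ₗ[B] H⁰(X)` -/
noncomputable def homEquivHD (X : Dual.D B) : (Dual.inD B B ⟶ X) ≃ₗ[B] Dual.HD B X 0 :=
  (homCongrRight ((shiftFunctorZero (Dual.D B) ℤ).app X).symm).trans (homShiftEquivHD X 0)

end HomHD

section Omega

variable {A S : Type u} [CommRing A] [CommRing S] [Algebra A S]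

lemma restrictOfIso_natural (b : S) :
    (ModuleCat.restrictScalars.{u} (algebraMap A S)).map (b • 𝟙 (ModuleCat.of S S)) ≫
      (RestrAdj.restrictOfIso (A := A) (B := S)).hom =
    (RestrAdj.restrictOfIso (A := A) (B := S)).hom ≫
      ModuleCat.ofHom (LinearMap.mulLeft A b) := by
  ext x
  rfl

lemma restrictD_inD_iso_natural (b : S) :
    (DRing.restrictD (algebraMap A S)).map (b • 𝟙 (Dual.inD S S)) ≫
      (RestrAdj.restrictD_inD_iso (A := A) (B := S)).hom =
    (RestrAdj.restrictD_inD_iso (A := A) (B := S)).hom ≫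
      (DerivedCategory.singleFunctor (ModuleCat.{u} A) 0).map
        (ModuleCat.ofHom (LinearMap.mulLeft A b)) := by
  have h1 : b • 𝟙 (Dual.inD S S) =
      (DerivedCategory.singleFunctor (ModuleCat.{u} S) 0).map (b • 𝟙 (ModuleCat.of S S)) := by
    rw [Functor.map_smul, CategoryTheory.Functor.map_id]
  have h2 := ((ModuleCat.restrictScalars.{u} (algebraMap A S)).mapDerivedCategorySingleFunctor
    0).hom.naturality (b • 𝟙 (ModuleCat.of S S))
  unfold RestrAdj.restrictD_inD_iso
  rw [h1]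
  simp only [Iso.trans_hom, Iso.app_hom, Functor.mapIso_hom, Category.assoc]
  simp only [Functor.comp_map] at h2
  erw [reassoc_of% h2]
  rw [← Functor.map_comp, ← Functor.map_comp, restrictOfIso_natural]

variable (R' : Dual.D A ⥤ Dual.D S) (adjR : DRing.restrictD (algebraMap A S) ⊣ R')

/-- the map `ω_{S/A} → Hom_{D(S)}(S[0], R'(A[0]))` -/
noncomputable def omegaMap : Disc.Omega A S →ₗ[S] (Dual.inD S S ⟶ R'.obj (Dual.inD A A)) where
  toFun ω := adjR.homEquiv _ _ ((RestrAdj.restrictD_inD_iso (A := A) (B := S)).hom ≫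
    (DerivedCategory.singleFunctor (ModuleCat.{u} A) 0).map (ModuleCat.ofHom ω.toLinearMap))
  map_add' ω ω' := by
    rw [Disc.Omega.add_toLinearMap, ModuleCat.ofHom_add, Functor.map_add, Preadditive.comp_add]
    exact (adjR.homAddEquiv _ _).map_add _ _
  map_smul' b ω := by
    have h1 : ModuleCat.ofHom (b • ω).toLinearMap =
        ModuleCat.ofHom (LinearMap.mulLeft A b) ≫ ModuleCat.ofHom ω.toLinearMap := rfl
    have h2 : ∀ f : Dual.inD S S ⟶ R'.obj (Dual.inD A A), b • f = (b • 𝟙 _) ≫ f := fun f => by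
      rw [Linear.smul_comp, Category.id_comp]
    rw [RingHom.id_apply, h2, ← Adjunction.homEquiv_naturality_left, h1, Functor.map_comp,
      ← Category.assoc, ← restrictD_inD_iso_natural, Category.assoc]

lemma omegaMap_bijective : Function.Bijective (omegaMap R' adjR) := by
  have hb1 : Function.Bijective (fun ω : Disc.Omega A S =>
      (ModuleCat.ofHom ω.toLinearMap : ModuleCat.of A S ⟶ ModuleCat.of A A)) := by
    constructor
    · intro ω ω' h
      have h' : ModuleCat.ofHom ω.toLinearMap = ModuleCat.ofHom ω'.toLinearMap := h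
      exact Disc.Omega.ext (congrArg ModuleCat.Hom.hom h')
    · intro g
      exact ⟨⟨g.hom⟩, rfl⟩
  have hb2 : Function.Bijective (fun g : ModuleCat.of A S ⟶ ModuleCat.of A A =>
      (DerivedCategory.singleFunctor (ModuleCat.{u} A) 0).map g) :=
    ⟨(DerivedCategory.singleFunctor (ModuleCat.{u} A) 0).map_injective,
      (DerivedCategory.singleFunctor (ModuleCat.{u} A) 0).map_surjective⟩
  have hb3 : Function.Bijective (fun g : Dual.inD A S ⟶ Dual.inD A A =>
      (RestrAdj.restrictD_inD_iso (A := A) (B := S)).hom ≫ g) := by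
    constructor
    · intro g g' h
      exact (cancel_epi _).1 h
    · intro g
      exact ⟨(RestrAdj.restrictD_inD_iso (A := A) (B := S)).inv ≫ g, by simp⟩
  have hb4 := (adjR.homEquiv (Dual.inD S S) (Dual.inD A A)).bijective
  exact hb4.comp (hb3.comp (hb2.comp hb1))

/-- `ω_{S/A} ≃ₗ[S] H⁰(R'(A[0]))` -/
theorem nonempty_omega_equiv_hom (R' : Dual.D A ⥤ Dual.D S)
    (adjR : DRing.restrictD (algebraMap A S) ⊣ R') :
    Nonempty (Disc.Omega A S ≃ₗ[S] (Dual.inD S S ⟶ R'.obj (Dual.inD A A))) :=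
  ⟨LinearEquiv.ofBijective (omegaMap R' adjR) (omegaMap_bijective R' adjR)⟩

/-- `H⁰(R'(A[0])) ≃ₗ[S] ω_{S/A}` for any right adjoint `R'` of restriction of scalars -/
theorem nonempty_HD_rightAdjoint_equiv_omega (R' : Dual.D A ⥤ Dual.D S)
    (adjR : DRing.restrictD (algebraMap A S) ⊣ R') :
    Nonempty (Dual.HD S (R'.obj (Dual.inD A A)) 0 ≃ₗ[S] Disc.Omega A S) := by
  obtain ⟨e⟩ := nonempty_omega_equiv_hom R' adjR
  exact ⟨(homEquivHD _).symm.trans e.symm⟩

end Omega

end Groth.Agent.H28.OmegaH0
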