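import Mathlib
import Groth.Agent.H2.DualCx.PLocalSkGen
import Groth.Agent.H2.DualCx.LocalCM
import Groth.Agent.H2.DualCx.ModuleDualizing
import Groth.Agent.H26.FlatBCDual2
import Groth.Agent.H28.DualPointwise
import Groth.Agent.H28.OmegaH0
import Groth.Agent.H33.BrownGA.GenSingle

/-!
# Cohen–Macaulay + equidimensional iff the dualizing complex is a shifted module (helper28; S11361)

`B` Noetherian with a dualizing complex `ω` whose codimension function is `q ↦ -dim B/q`
(e.g. `ω` normalized at every maximal ideal).  Then `ω` has cohomology only in degree `-d` iff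
`B` is Cohen–Macaulay and every minimal prime has coheight `d`.
-/

set_option autoImplicit false
set_option linter.style.haveILetI false
set_option linter.unusedSectionVars false
universe u
open CategoryTheory Limits Pretriangulated DerivedCategory TensorProduct

namespace Groth.Agent.H28.CMFibre

attribute [local instance] HasDerivedCategory.standard

open Groth.Agent.H26.FlatBCHom Groth.Agent.H26.FlatBCDual Groth.Agent.H2.DualCx

variable {B : Type u} [CommRing B] [IsNoetherianRing B] {ω : Dual.D B}
  (hω : Dual.IsDualizing B ω)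

/-- support of `H^k(ω)` in terms of the localized complex -/
theorem mem_support_HD_iff (K : Dual.D B) (Q : PrimeSpectrum B) (k : ℤ) :
    Q ∈ Module.support B (Dual.HD B K k) ↔
      Nontrivial (Dual.HD (Localization.AtPrime Q.asIdeal)
        ((LB B (Localization.AtPrime Q.asIdeal)).obj K) k) := by
  rw [DualPointwise.mem_support_iff_nontrivial_tensor]
  exact (HD_LB_equiv (B := Localization.AtPrime Q.asIdeal) K k).symm.toEquiv.nontrivial_congr

include hω in
/-- every prime lies in the support of some cohomology module of a dualizing complex -/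
theorem exists_mem_support_HD (Q : PrimeSpectrum B) :
    ∃ k : ℤ, Q ∈ Module.support B (Dual.HD B ω k) := by
  by_contra hcon
  push Not at hcon
  haveI : IsNoetherianRing (Localization.AtPrime Q.asIdeal) :=
    IsLocalization.isNoetherianRing Q.asIdeal.primeCompl _ inferInstance
  have hωQ : Dual.IsDualizing (Localization.AtPrime Q.asIdeal)
      ((LB B (Localization.AtPrime Q.asIdeal)).obj ω) :=
    isDualizing_LB_localization Q.asIdeal.primeCompl _ hω
  have hH : ∀ j : ℤ, IsZero ((DerivedCategory.homologyFunctor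
      (ModuleCat.{u} (Localization.AtPrime Q.asIdeal)) j).obj
      ((LB B (Localization.AtPrime Q.asIdeal)).obj ω)) := by
    intro j
    have h1 := hcon j
    rw [mem_support_HD_iff, not_nontrivial_iff_subsingleton] at h1
    exact @ModuleCat.isZero_of_subsingleton _ _ _ h1
  have hz : IsZero ((LB B (Localization.AtPrime Q.asIdeal)).obj ω) :=
    Groth.Agent.H33.BrownGA.isZero_of_isZero_homology _ hH
  have h1 : (1 : Localization.AtPrime Q.asIdeal) • 𝟙 ((LB B (Localization.AtPrime Q.asIdeal)).obj ω)
      = (0 : Localization.AtPrime Q.asIdeal) • 𝟙 _ := hz.eq_of_src _ _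
  exact one_ne_zero (hωQ.toEnd_bijective.1 h1)

include hω in
/-- at a minimal prime, only the degree `topDeg` cohomology of `ω` survives -/
theorem eq_topDeg_of_mem_support_HD (Q : PrimeSpectrum B) (hQ : Q.asIdeal ∈ minimalPrimes B)
    (k : ℤ) (h : Q ∈ Module.support B (Dual.HD B ω k)) : k = topDeg hω Q := by
  have h' : Q ∈ Module.support B (T ω k B) := by
    rw [(OmegaH0.homShiftEquivHD ω k).support_eq]
    exact h
  have h1 := le_topDeg hω Q B k h'
  have h2 := le_supportDim_of_mem_support_T hω B Q k h'
  have h3 : Module.supportDim (Localization.AtPrime Q.asIdeal)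
      (LocalizedModule Q.asIdeal.primeCompl B) = 0 := by
    rw [Module.supportDim_eq_of_equiv (localizedSelfEquiv Q.asIdeal),
      Module.supportDim_self_eq_ringKrullDim,
      IsLocalization.AtPrime.ringKrullDim_eq_height Q.asIdeal,
      Ideal.height_eq_zero_iff.mpr hQ]
    rfl
  rw [h3] at h2
  have h4 : (topDeg hω Q - k).toNat = 0 := by
    have : (((topDeg hω Q - k).toNat : ℕ) : WithBot ℕ∞) ≤ ((0 : ℕ) : WithBot ℕ∞) := h2
    exact_mod_cast Nat.le_zero.mp (by exact_mod_cast this)
  omega

include hω in
/-- **(G1)** if `ω` has cohomology only in degree `-d`, then `B` is Cohen–Macaulay and every minimal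
prime has coheight `d` -/
theorem isCohenMacaulayRing_and_coheight_of_single_degree
    (hcoh : ∀ q : PrimeSpectrum B, ∃ c : ℕ, Order.coheight q = c ∧ topDeg hω q = -(c : ℤ))
    (d : ℕ) (h : ∀ i : ℤ, i ≠ -(d : ℤ) → Subsingleton (Dual.HD B ω i)) :
    LocCoh.IsCohenMacaulayRing B ∧ ∀ Q : PrimeSpectrum B, Q.asIdeal ∈ minimalPrimes B →
      Order.coheight Q = (d : ℕ∞) := by
  refine ⟨⟨fun p hp => ?_⟩, fun Q hQ => ?_⟩
  · haveI : IsNoetherianRing (Localization.AtPrime p) :=
      IsLocalization.isNoetherianRing p.primeCompl _ inferInstance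
    exact isCohenMacaulayLocalRing_of_single_degree
      (isDualizing_LB_localization p.primeCompl _ hω) (-(d : ℤ))
      (fun i hi => subsingleton_HD_LB ω i (h i hi))
  · obtain ⟨k, hk⟩ := exists_mem_support_HD hω Q
    have hkd : k = -(d : ℤ) := by
      by_contra hne
      haveI := h k hne
      rw [Module.support_eq_empty] at hk
      exact hk
    have hkt := eq_topDeg_of_mem_support_HD hω Q hQ k hk
    obtain ⟨c, hc1, hc2⟩ := hcoh Q
    have : c = d := by omega
    rw [hc1, this]

include hω in
/-- **(G2)** if `B` is Cohen–Macaulay and every minimal prime has coheight `d`, then `ω` has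
cohomology only in degree `-d` -/
theorem subsingleton_HD_of_isCohenMacaulayRing
    (hcoh : ∀ q : PrimeSpectrum B, ∃ c : ℕ, Order.coheight q = c ∧ topDeg hω q = -(c : ℤ))
    (d : ℕ) (hCM : LocCoh.IsCohenMacaulayRing B)
    (hd : ∀ Q : PrimeSpectrum B, Q.asIdeal ∈ minimalPrimes B → Order.coheight Q = (d : ℕ∞))
    (i : ℤ) (hi : i ≠ -(d : ℤ)) : Subsingleton (Dual.HD B ω i) := by
  by_contra hne
  rw [not_subsingleton_iff_nontrivial] at hne
  obtain ⟨p, hp⟩ := Module.nonempty_support_of_nontrivial (R := B) (M := Dual.HD B ω i)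
  obtain ⟨Q₀, hQ₀, hQp⟩ := Ideal.exists_minimalPrimes_le (bot_le : (⊥ : Ideal B) ≤ p.asIdeal)
  haveI : Q₀.IsPrime := hQ₀.1.1
  let Q : PrimeSpectrum B := ⟨Q₀, inferInstance⟩
  have hQmin : Q.asIdeal ∈ minimalPrimes B := hQ₀
  obtain ⟨k, hk⟩ := exists_mem_support_HD hω Q
  have hkt := eq_topDeg_of_mem_support_HD hω Q hQmin k hk
  obtain ⟨c, hc1, hc2⟩ := hcoh Q
  have hcd : c = d := by
    have := hd Q hQmin
    rw [hc1] at this
    exact_mod_cast this
  have hkd : k = -(d : ℤ) := by omega
  rw [hkd] at hk
  have hpd : p ∈ Module.support B (Dual.HD B ω (-(d : ℤ))) :=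
    Module.mem_support_mono (show Q ≤ p from hQp) hk
  rw [mem_support_HD_iff] at hp hpd
  haveI : IsNoetherianRing (Localization.AtPrime p.asIdeal) :=
    IsLocalization.isNoetherianRing p.asIdeal.primeCompl _ inferInstance
  have hCMp := hCM.isCohenMacaulayLocalRing_localization p.asIdeal
  exact hi (eq_of_nontrivial_HD_of_isCohenMacaulay
    (isDualizing_LB_localization p.asIdeal.primeCompl _ hω) hCMp.supportDim_eq_depth i _ hp hpd)

end Groth.Agent.H28.CMFibre
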