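import Mathlib
import Groth.Agent.H28.CMFibre1
import Groth.Agent.H26.ShriekFieldDim

/-!
# The field case of the CM criterion (helper28; S11361)

For `B` of finite type over a field `k`, `B` is Cohen–Macaulay and equidimensional of dimension `d`
iff `φ^!(k)` has cohomology only in degree `-d`.
-/

set_option autoImplicit false
set_option linter.style.haveILetI false
set_option linter.unusedSectionVars false
universe u
open CategoryTheory Limits Pretriangulated DerivedCategory TensorProduct

namespace Groth.Agent.H28.CMFibre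

attribute [local instance] HasDerivedCategory.standard

open Groth.Agent.H26.FlatBCHom Groth.Agent.H26.FlatBCDual Groth.Agent.H2.DualCx

variable (k B : Type u) [Field k] [CommRing B] [Algebra k B] [IsNoetherianRing B]

/-- **field case**: `B` is CM and equidimensional of dimension `d` iff `φ^!(k)` is concentrated in
degree `-d`. -/
theorem field_case (m : ℕ) (ψ : MvPolynomial (Fin m) k →ₐ[k] B)
    (hψ : Function.Surjective ψ) [DRing.HasLBaseChange (algebraMap k (MvPolynomial (Fin m) k))]
    (Rψ : Dual.D (MvPolynomial (Fin m) k) ⥤ Dual.D B) (adj : DRing.restrictD ψ.toRingHom ⊣ Rψ)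
    (d : ℕ) :
    (LocCoh.IsCohenMacaulayRing B ∧ ∀ Q : PrimeSpectrum B, Q.asIdeal ∈ minimalPrimes B →
      Order.coheight Q = (d : ℕ∞)) ↔
    ∀ i : ℤ, i ≠ -(d : ℤ) →
      Subsingleton (Dual.HD B (Dual2.shriekVia m Rψ (Dual.inD k k)) i) := by
  have hω : Dual.IsDualizing B (Dual2.shriekVia m Rψ (Dual.inD k k)) :=
    Groth.Agent.S1782.result k B m ψ hψ Rψ adj (Dual.inD k k)
      (Groth.Agent.H28.ShriekFibre.isDualizing_inD_field k)
  have eW := (lbcIso (A := k) (B := MvPolynomial (Fin m) k)).app (Dual.inD k k)
  have hnorm : ∀ (M : Ideal B) (_ : M.IsMaximal) (i : ℤ), i ≠ 0 →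
      Subsingleton (Dual.inD B (B ⧸ M) ⟶ (Dual2.shriekVia m Rψ (Dual.inD k k))⟦i⟧) := by
    intro M hM i hi
    have hm : M.comap (algebraMap k B) = IsLocalRing.maximalIdeal k := by
      rw [IsLocalRing.maximalIdeal_eq_bot]
      rcases Ideal.eq_bot_or_top (M.comap (algebraMap k B)) with h | h
      · exact h
      · exact absurd h (Ideal.comap_ne_top _ (Ideal.IsPrime.ne_top inferInstance))
    exact subsingleton_T_shriek_of_normalized m ψ hψ Rψ adj M hm (Dual.inD k k)
      (Groth.Agent.H28.ShriekFibre.isDualizing_inD_field k)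
      (Groth.Agent.H26.ShriekFieldDim.isNormalized_inD_field k) _ eW i hi
  have hcoh := exists_coheight_eq_of_normalized hω hnorm
  constructor
  · rintro ⟨hCM, hd⟩ i hi
    exact subsingleton_HD_of_isCohenMacaulayRing hω hcoh d hCM hd i hi
  · intro h
    exact isCohenMacaulayRing_and_coheight_of_single_degree hω hcoh d h

end Groth.Agent.H28.CMFibre
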