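import Groth.Agent.H28.PCohPerf2
import Groth.Agent.H28.PCohLBC

/-!
# Pseudo-coherent complexes over a local ring: Nakayama and the fibre criterion
-/

set_option autoImplicit false

universe u

open CategoryTheory CategoryTheory.Limits

open scoped ZeroObject

namespace Groth.Agent.H28.PCohLocal

open Groth.Agent.H28 Groth.Agent.H28.PCohCore Groth.Agent.H28.PCohDer Groth.Agent.H28.PCohSum
  Groth.Agent.H28.PCohDev Groth.Agent.H28.PCohSES Groth.Agent.H28.PCohTri
  Groth.Agent.H28.PCohRing DerivedCategory Groth.Agent.H35 Groth.Agent.H35.LT Groth.Agent.H35.KF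

attribute [local instance] HasDerivedCategory.standard

section LinearAlgebra

variable {R : Type u} [CommRing R] [IsLocalRing R]

variable (R) in
/-- the canonical algebra structure on the residue field -/
abbrev resAlg : Algebra R (IsLocalRing.ResidueField R) := inferInstance

/-- Nakayama: surjectivity can be tested modulo the maximal ideal -/
lemma surjective_of_surjective_lTensor (alg : Algebra R (IsLocalRing.ResidueField R))
    (h : alg = resAlg R) {N N' : Type u} [AddCommGroup N] [Module R N] [AddCommGroup N']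
    [Module R N'] [Module.Finite R N'] (l : N →ₗ[R] N') :
    letI := alg
    Function.Surjective (l.lTensor (IsLocalRing.ResidueField R)) → Function.Surjective l := by
  subst h
  intro hs
  rw [← LinearMap.range_eq_top, ← IsLocalRing.map_tensorProduct_mk_eq_top (R := R), eq_top_iff]
  rintro y -
  obtain ⟨x, rfl⟩ := hs y
  obtain ⟨x', rfl⟩ := TensorProduct.mk_surjective R N (IsLocalRing.ResidueField R)
    Ideal.Quotient.mk_surjective x
  exact ⟨l x', ⟨x', rfl⟩, rfl⟩

/-- a map from a finite module to a finite free module which is injective modulo the maximal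
ideal is a split injection -/
lemma exists_retraction_of_injective_lTensor (alg : Algebra R (IsLocalRing.ResidueField R))
    (h : alg = resAlg R) {N N' : Type u} [AddCommGroup N] [Module R N] [AddCommGroup N']
    [Module R N'] [Module.Finite R N] [Module.Finite R N'] [Module.Free R N'] (l : N →ₗ[R] N') :
    letI := alg
    Function.Injective (l.lTensor (IsLocalRing.ResidueField R)) →
      ∃ l' : N' →ₗ[R] N, l' ∘ₗ l = LinearMap.id := by
  subst h
  exact (IsLocalRing.split_injective_iff_lTensor_residueField_injective l).mpr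

lemma resAlg_eq : (IsLocalRing.residue R).toAlgebra = resAlg R :=
  Algebra.algebra_ext _ _ (fun _ => rfl)

lemma surjective_of_surjective_extendScalars {N N' : ModuleCat.{u} R} [Module.Finite R N']
    (g : N ⟶ N')
    (h : Function.Surjective
      ((ModuleCat.extendScalars.{u, u, u} (IsLocalRing.residue R)).map g).hom) :
    Function.Surjective g.hom :=
  surjective_of_surjective_lTensor (IsLocalRing.residue R).toAlgebra resAlg_eq g.hom h

lemma exists_retraction_of_injective_extendScalars {N N' : ModuleCat.{u} R} [Module.Finite R N]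
    [Module.Finite R N'] [Module.Free R N'] (g : N ⟶ N')
    (h : Function.Injective
      ((ModuleCat.extendScalars.{u, u, u} (IsLocalRing.residue R)).map g).hom) :
    ∃ r : N' ⟶ N, g ≫ r = 𝟙 N := by
  obtain ⟨l', hl'⟩ := exists_retraction_of_injective_lTensor (IsLocalRing.residue R).toAlgebra
    resAlg_eq g.hom h
  exact ⟨ModuleCat.ofHom l', ModuleCat.hom_ext hl'⟩

end LinearAlgebra

section ChainLevel

variable {A B : Type u} [CommRing A] [CommRing B] (φ : A →+* B)

/-- exactness of `E ⊗ B` in degree `j` implies that `E^j / im d ⊗ B ⟶ E^{j+1} ⊗ B` is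
injective -/
lemma injective_extendScalars_fromOpcycles (E : CochainComplex (ModuleCat.{u} A) ℤ) (i j k : ℤ)
    (hij : i + 1 = j) (hjk : j + 1 = k) (h : ((extCx φ).obj E).ExactAt j) :
    Function.Injective
      ((ModuleCat.extendScalars.{u, u, u} φ).map (E.fromOpcycles j k)).hom := by
  set F := ModuleCat.extendScalars.{u, u, u} φ
  rw [HomologicalComplex.exactAt_iff' _ i j k (by simp; omega) (by simp [hjk]),
    ShortComplex.ShortExact.moduleCat_exact_iff_function_exact] at h
  have hex : Function.Exact (F.map (E.d i j)).hom (F.map (E.d j k)).hom := h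
  have hp : Function.Surjective (F.map (E.pOpcycles j)).hom := by
    rw [← ModuleCat.epi_iff_surjective]
    infer_instance
  rw [injective_iff_map_eq_zero]
  intro z hz
  obtain ⟨y, rfl⟩ := hp z
  have h1 : (F.map (E.d j k)).hom y = 0 := by
    rw [← E.p_fromOpcycles j k, F.map_comp]
    exact hz
  obtain ⟨x, rfl⟩ := (hex y).mp h1
  have h2 : F.map (E.d i j) ≫ F.map (E.pOpcycles j) = 0 := by
    rw [← F.map_comp, E.d_pOpcycles, F.map_zero]
  have h3 := congrArg (fun f => f.hom x) h2
  exact h3

end ChainLevel

section General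

variable {A B : Type u} [CommRing A] [CommRing B] (φ : A →+* B) [DRing.HasLBaseChange φ]

/-- derived base change of an object acyclic in degrees `≥ m` is acyclic in degrees `≥ m` -/
lemma isZero_homology_LBaseChange_of_acyclic (Y : Dual.D A) (m : ℤ)
    (hY : ∀ i : ℤ, m ≤ i → IsZero ((DerivedCategory.homologyFunctor (ModuleCat.{u} A) i).obj Y))
    (i : ℤ) (hi : m ≤ i) :
    IsZero ((DerivedCategory.homologyFunctor (ModuleCat.{u} B) i).obj
      ((DRing.LBaseChange φ).obj Y)) := by
  have : Y.IsLE (m - 1) := by
    rw [DerivedCategory.isLE_iff]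
    intro i hi
    exact hY i (by omega)
  obtain ⟨P, hP, hPd, ⟨e⟩⟩ := exists_iso_Q_obj_projective Y (m - 1)
  have hPz : ∀ i : ℤ, m - 1 < i → IsZero (P.X i) := fun i hi =>
    P.isZero_of_isStrictlyLE (m - 1) i hi
  have hPK : IsKFlat P := isKFlat_of_bounded_flat P (m - 1) hPz (fun i => by
    have : Module.Projective A (P.X i) :=
      (IsProjective.iff_projective (R := A) (P.X i)).mpr (hP i)
    infer_instance)
  have hz : IsZero (((extCx φ).obj P).X i) :=
    (ModuleCat.extendScalars.{u, u, u} φ).map_isZero (hPz i (by omega))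
  exact IsZero.of_iso (isZero_homology_of_isZero_X _ i hz)
    ((DerivedCategory.homologyFunctor (ModuleCat.{u} B) i).mapIso
      ((DRing.LBaseChange φ).mapIso e.symm ≪≫ LBaseChangeIso φ P hPK) ≪≫ homologyQIso _ i)

/-- the cohomology of the derived base change of a K-flat complex -/
noncomputable def homologyLBaseChangeIso (E : CochainComplex (ModuleCat.{u} A) ℤ)
    (hE : IsKFlat E) (i : ℤ) :
    (DerivedCategory.homologyFunctor (ModuleCat.{u} B) i).obj
      ((DRing.LBaseChange φ).obj (Q.obj E)) ≅ ((extCx φ).obj E).homology i :=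
  (DerivedCategory.homologyFunctor (ModuleCat.{u} B) i).mapIso (LBaseChangeIso φ E hE) ≪≫
    homologyQIso _ i

lemma isKFlat_of_finFree (E : CochainComplex (ModuleCat.{u} A) ℤ) (b : ℤ)
    (hb : ∀ i : ℤ, b < i → IsZero (E.X i)) (hE : ∀ i : ℤ, finProj A (E.X i)) : IsKFlat E :=
  isKFlat_of_bounded_flat E b hb (fun i => by
    have := (hE i).2
    infer_instance)

end General

section LocalChain

variable {R : Type u} [CommRing R] [IsLocalRing R]

/-- Nakayama in the top degree of a complex -/
lemma exactAt_of_exactAt_extCx_top (E : CochainComplex (ModuleCat.{u} R) ℤ) (t : ℤ)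
    (hz : IsZero (E.X (t + 1))) (hfin : Module.Finite R (E.X t))
    (h : ((extCx (IsLocalRing.residue R)).obj E).ExactAt t) : E.ExactAt t := by
  rw [HomologicalComplex.exactAt_iff' _ (t - 1) t (t + 1) (by simp) (by simp)] at h ⊢
  have hg : (E.sc' (t - 1) t (t + 1)).g = 0 := hz.eq_of_tgt _ _
  have hg' : (((extCx (IsLocalRing.residue R)).obj E).sc' (t - 1) t (t + 1)).g = 0 :=
    ((ModuleCat.extendScalars.{u, u, u} (IsLocalRing.residue R)).map_isZero hz).eq_of_tgt _ _
  rw [ShortComplex.exact_iff_epi _ hg]
  rw [ShortComplex.exact_iff_epi _ hg'] at h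
  have h' : Epi ((ModuleCat.extendScalars.{u, u, u} (IsLocalRing.residue R)).map
    (E.d (t - 1) t)) := h
  rw [ModuleCat.epi_iff_surjective] at h'
  exact (ModuleCat.epi_iff_surjective _).mpr
    (surjective_of_surjective_extendScalars (N' := E.X t) (E.d (t - 1) t) h')

variable [DRing.HasLBaseChange (IsLocalRing.residue R)]

/-- Nakayama's lemma for pseudo-coherent complexes over a local ring: the vanishing of the
cohomology of the derived fibre in degrees `> b` implies that of the complex -/
theorem isZero_homology_of_isZero_homology_fibre (Y : Dual.D R)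
    (hpc : ∀ j : ℤ, IsNPC (finFree R) j Y) (b : ℤ)
    (h0 : ∀ i : ℤ, b < i → IsZero ((DerivedCategory.homologyFunctor
      (ModuleCat.{u} (IsLocalRing.ResidueField R)) i).obj
        ((DRing.LBaseChange (IsLocalRing.residue R)).obj Y))) :
    ∀ i : ℤ, b < i → IsZero ((DerivedCategory.homologyFunctor (ModuleCat.{u} R) i).obj Y) := by
  obtain ⟨E₀, ⟨⟨c, hc⟩, -⟩, ⟨e₀⟩⟩ := id (hpc 0)
  have hc' : ∀ i : ℤ, c < i → IsZero ((DerivedCategory.homologyFunctor (ModuleCat.{u} R) i).obj Y) :=
    fun i hi => IsZero.of_iso (isZero_homology_of_isZero_X E₀ i (hc i hi))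
      ((DerivedCategory.homologyFunctor _ i).mapIso e₀.symm ≪≫ homologyQIso E₀ i)
  have key : ∀ (n : ℕ) (i : ℤ), c - n < i → b < i →
      IsZero ((DerivedCategory.homologyFunctor (ModuleCat.{u} R) i).obj Y) := by
    intro n
    induction n with
    | zero =>
      intro i hi _
      exact hc' i (by simpa using hi)
    | succ n ih =>
      intro t ht hbt
      by_cases htn : c - n < t
      · exact ih t htn hbt
      · have hac : ∀ j : ℤ, t + 1 ≤ j →
            IsZero ((DerivedCategory.homologyFunctor (ModuleCat.{u} R) j).obj Y) := fun j hj =>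
          ih j (by push_cast at ht; omega) (by omega)
        obtain ⟨E, hE, hz, ⟨e⟩⟩ := PCohTower.exists_strictPCAll_iso (hql_finFree R) (finFree_prod R)
          (hqs_finFree R) (t + 1) Y hpc hac
        have hEK : IsKFlat E := isKFlat_of_finFree E t (fun i hi => hz i (by omega))
          (fun i => finFree_le_finProj R _ (hE.2 i))
        have h1 : ((extCx (IsLocalRing.residue R)).obj E).ExactAt t := by
          rw [HomologicalComplex.exactAt_iff_isZero_homology]
          exact IsZero.of_iso (h0 t hbt)
            ((homologyLBaseChangeIso (IsLocalRing.residue R) E hEK t).symm ≪≫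
              (DerivedCategory.homologyFunctor _ t).mapIso
                ((DRing.LBaseChange (IsLocalRing.residue R)).mapIso e))
        have h2 : E.ExactAt t :=
          exactAt_of_exactAt_extCx_top E t (hz (t + 1) le_rfl) (hE.2 t).1 h1
        rw [HomologicalComplex.exactAt_iff_isZero_homology] at h2
        exact IsZero.of_iso h2
          ((DerivedCategory.homologyFunctor _ t).mapIso e.symm ≪≫ homologyQIso E t)
  intro i hi
  exact key (c - i + 1).toNat i (by omega) hi

/-- all cohomology zero implies zero -/
lemma isZero_of_forall_isZero_homology {C : Type*} [Category C] [Abelian C]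
    [HasDerivedCategory C] (Y : DerivedCategory C)
    (h : ∀ i : ℤ, IsZero ((DerivedCategory.homologyFunctor C i).obj Y)) : IsZero Y := by
  have h1 : Y.IsLE 0 := (DerivedCategory.isLE_iff Y 0).mpr (fun i _ => h i)
  have h2 : Y.IsGE 1 := (DerivedCategory.isGE_iff Y 1).mpr (fun i _ => h i)
  exact DerivedCategory.TStructure.t.isZero Y 0 1

/-- the fibre criterion over a local ring: a pseudo-coherent complex whose derived fibre is
acyclic in degrees `< a` is represented by a bounded complex of finite projective modules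
vanishing in degrees `< a - 1` -/
theorem exists_finProj_rep_of_fibre_vanishing_below (K : Dual.D R)
    (hpc : ∀ j : ℤ, IsNPC (finFree R) j K) (a : ℤ)
    (h : ∀ i : ℤ, i < a → IsZero ((DerivedCategory.homologyFunctor
      (ModuleCat.{u} (IsLocalRing.ResidueField R)) i).obj
        ((DRing.LBaseChange (IsLocalRing.residue R)).obj K))) :
    ∃ (G : DRing.Cx R) (b : ℤ), DRing.VanishesOutside G (a - 1) b ∧
      DRing.TermwiseFiniteProjective G ∧ Nonempty (DRing.toD G ≅ K) := by
  -- Step 1: a bounded above finite free representative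
  obtain ⟨E₀, ⟨⟨c, hc⟩, -⟩, ⟨e₀⟩⟩ := id (hpc 0)
  have hac : ∀ j : ℤ, c + 1 ≤ j →
      IsZero ((DerivedCategory.homologyFunctor (ModuleCat.{u} R) j).obj K) :=
    fun i hi => IsZero.of_iso (isZero_homology_of_isZero_X E₀ i (hc i (by omega)))
      ((DerivedCategory.homologyFunctor _ i).mapIso e₀.symm ≪≫ homologyQIso E₀ i)
  obtain ⟨E, hE, hz, ⟨e⟩⟩ := PCohTower.exists_strictPCAll_iso (hql_finFree R) (finFree_prod R)
    (hqs_finFree R) (c + 1) K hpc hac
  have hEK : IsKFlat E := isKFlat_of_finFree E c (fun i hi => hz i (by omega))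
    (fun i => finFree_le_finProj R _ (hE.2 i))
  set φ := IsLocalRing.residue R with hφ
  -- Step 2: exactness of the fibre below `a`
  have hFE : ∀ i : ℤ, i < a → ((extCx φ).obj E).ExactAt i := by
    intro i hi
    rw [HomologicalComplex.exactAt_iff_isZero_homology]
    exact IsZero.of_iso (h i hi) ((homologyLBaseChangeIso φ E hEK i).symm ≪≫
      (DerivedCategory.homologyFunctor _ i).mapIso ((DRing.LBaseChange φ).mapIso e))
  -- Step 3: the retraction
  have hinj := injective_extendScalars_fromOpcycles φ E (a - 2) (a - 1) a (by omega) (by omega)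
    (hFE (a - 1) (by omega))
  haveI : Module.Finite R (E.X (a - 1)) := (hE.2 (a - 1)).1
  haveI : Module.Finite R (E.opcycles (a - 1)) :=
    Module.Finite.of_surjective (E.pOpcycles (a - 1)).hom
      ((ModuleCat.epi_iff_surjective _).mp inferInstance)
  haveI : Module.Finite R (E.X a) := (hE.2 a).1
  haveI : Module.Free R (E.X a) := (hE.2 a).2
  obtain ⟨r, hr⟩ := exists_retraction_of_injective_extendScalars (E.fromOpcycles (a - 1) a) hinj
  have hNproj : Module.Projective R (E.opcycles (a - 1)) :=
    Module.Projective.of_split (E.fromOpcycles (a - 1) a).hom r.hom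
      (LinearMap.ext fun x => congrArg (fun f => f.hom x) hr)
  -- Step 4: the canonical truncation
  have hGfin : ∀ i : ℤ, finProj R ((E.truncGE (a - 1)).X i) := by
    intro i
    by_cases h1 : i < a - 1
    · exact (finProj R).prop_of_isZero ((E.truncGE (a - 1)).isZero_of_isStrictlyGE (a - 1) i h1)
    · by_cases h3 : i = a - 1
      · subst h3
        exact (finProj R).prop_of_iso (E.truncGEXIsoOpcycles (a - 1)).symm ⟨inferInstance, hNproj⟩
      · exact (finProj R).prop_of_iso (E.truncGEXIso (a - 1) i (by omega)).symm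
          (finFree_le_finProj R _ (hE.2 i))
  have hGz : DRing.VanishesOutside (E.truncGE (a - 1)) (a - 1) (max c (a - 1)) := by
    intro i hi
    rcases hi with hi | hi
    · exact (E.truncGE (a - 1)).isZero_of_isStrictlyGE (a - 1) i hi
    · have h1 : c < i := lt_of_le_of_lt (le_max_left _ _) hi
      have h2 : a - 1 < i := lt_of_le_of_lt (le_max_right _ _) hi
      exact IsZero.of_iso (hz i (by omega)) (E.truncGEXIso (a - 1) i h2)
  have hGK : IsKFlat (E.truncGE (a - 1)) := isKFlat_of_finFree _ (max c (a - 1))
    (fun i hi => hGz i (Or.inr hi)) hGfin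
  -- Step 5: the triangle
  have hT := mapTriangle_mappingCone_distinguished (E.πTruncGE (a - 1))
  set T := Q.mapTriangle.obj (CochainComplex.mappingCone.triangle (E.πTruncGE (a - 1))) with hTdef
  have hmor : T.mor₁ = Q.map (E.πTruncGE (a - 1)) := rfl
  -- Step 6: the cone is pseudo-coherent
  have hZpc : ∀ j : ℤ, IsNPC (finFree R) j T.obj₃ := fun j =>
    isNPC_obj₃ _ (hql_finFree R) (finFree_prod R) (hqs_finFree R) T hT
      (IsNPC.of_iso _ (hpc (j + 1)) e.symm)
      (PCohPerf.isNPC_of_finProj_rep R _ (max c (a - 1)) (fun i hi => hGz i (Or.inr hi)) hGfin j)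
  -- Step 7: the cone is acyclic in degrees `≥ a - 1`
  have hqi : ∀ i : ℤ, a - 1 ≤ i →
      IsIso ((DerivedCategory.homologyFunctor (ModuleCat.{u} R) i).map T.mor₁) := by
    intro i hi
    have h1 : QuasiIsoAt (E.πTruncGE (a - 1)) i := E.quasiIsoAt_πTruncGE (a - 1) i hi
    rw [hmor]
    exact (isIso_homologyMap_iff _ i).mp ((quasiIsoAt_iff_isIso_homologyMap _ i).mp h1)
  have hZac : ∀ i : ℤ, a - 1 ≤ i →
      IsZero ((DerivedCategory.homologyFunctor (ModuleCat.{u} R) i).obj T.obj₃) := by
    intro i hi
    have := hqi i hi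
    have := hqi (i + 1) (by omega)
    exact (isZero_homology_obj₃_iff T hT i (i + 1) rfl).mpr ⟨inferInstance, inferInstance⟩
  -- Step 8: the derived fibre of the cone is acyclic
  obtain ⟨T', hT', ⟨e₁⟩, ⟨e₂⟩, ⟨e₃⟩⟩ := LDerivTri.exists_distTriang (hyp R)
    (ModuleCat.extendScalars.{u, u, u} φ) (kfAcyclic_extendScalars φ) _ hT
  have hLZ : ∀ i : ℤ, IsZero ((DerivedCategory.homologyFunctor
      (ModuleCat.{u} (IsLocalRing.ResidueField R)) i).obj
        ((DRing.LBaseChange φ).obj T.obj₃)) := by
    intro i
    by_cases hi : a - 1 ≤ i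
    · exact isZero_homology_LBaseChange_of_acyclic φ _ (a - 1) hZac i hi
    · refine IsZero.of_iso ?_ ((DerivedCategory.homologyFunctor _ i).mapIso e₃.symm)
      refine (isZero_homology_obj₃_iff T' hT' i (i + 1) rfl).mpr ⟨?_, ?_⟩
      · have hzX : IsZero (((extCx φ).obj (E.truncGE (a - 1))).X i) :=
          (ModuleCat.extendScalars.{u, u, u} φ).map_isZero (hGz i (Or.inl (by omega)))
        have hz2 : IsZero ((DerivedCategory.homologyFunctor _ i).obj T'.obj₂) :=
          IsZero.of_iso (isZero_homology_of_isZero_X _ i hzX)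
            ((DerivedCategory.homologyFunctor _ i).mapIso e₂ ≪≫
              homologyLBaseChangeIso φ (E.truncGE (a - 1)) hGK i)
        exact hz2.epi _
      · have hz1 : IsZero ((DerivedCategory.homologyFunctor _ (i + 1)).obj T'.obj₁) :=
          IsZero.of_iso (h (i + 1) (by omega))
            ((DerivedCategory.homologyFunctor _ (i + 1)).mapIso
              (e₁ ≪≫ (DRing.LBaseChange φ).mapIso e))
        exact hz1.mono _
  -- Step 9: the cone vanishes
  have hZ0 : IsZero T.obj₃ :=
    isZero_of_forall_isZero_homology _ (fun i =>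
      isZero_homology_of_isZero_homology_fibre T.obj₃ hZpc (i - 1) (fun j _ => hLZ j) i (by omega))
  have hiso : IsIso T.mor₁ := (T.isZero₃_iff_isIso₁ hT).mp hZ0
  exact ⟨E.truncGE (a - 1), max c (a - 1), hGz, hGfin, ⟨(asIso T.mor₁).symm ≪≫ e⟩⟩

end LocalChain

end Groth.Agent.H28.PCohLocal
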