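import Mathlib
import Groth.Agent.H35.LTensorAssoc
import Groth.Agent.H35.TorAmpGlDim
import Groth.Agent.H35.TorAmpD
import Groth.Agent.H35.RestrictFlat
import Groth.Agent.H28.PCohLocal

/-!
# Tor amplitude over `B` from fibrewise information along a flat map `A → B` (helper28)

If `A → B` is a ring map, `E` a bounded above complex of flat `B`-modules, `N` an `A`-module such
that `E|_A ⊗_A N` is exact outside `[a, b]`, and `B ⊗_A N` is (the underlying module of) a
`B`-algebra `C` of global dimension `≤ d`, then `E ⊗_B k` is exact outside `[a - d, b]` for every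
`C`-algebra `k`.
-/

set_option autoImplicit false

universe u

open CategoryTheory CategoryTheory.Limits MonoidalCategory

namespace Groth.Agent.H28.FibreGlDim

open HomologicalComplex DerivedCategory Groth.Agent.H35 Groth.Agent.H35.KF Groth.Agent.H35.KFBC
  Groth.Agent.H35.LT

attribute [local instance] HasDerivedCategory.standard

section Assoc

variable {R R' : Type u} [CommRing R] [CommRing R'] (φ : R →+* R')

/-- `restrict X ⊗_R N ≅ restrict (X ⊗_{R'} (R' ⊗_R N))`, naturally in `X`. -/
noncomputable def restrictTensIso (N : ModuleCat.{u} R) :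
    ModuleCat.restrictScalars φ ⋙ tensorRight N ≅
      tensorRight ((ModuleCat.extendScalars.{u, u, u} φ).obj N) ⋙ ModuleCat.restrictScalars φ :=
  NatIso.ofComponents (fun X => asIso (proj φ X N)) (fun {X X'} f => by
    dsimp
    exact proj_naturality_left φ f N)

lemma tensExactAt_resL_iff (T : CochainComplex (ModuleCat.{u} R') ℤ) (N : ModuleCat.{u} R)
    (i : ℤ) :
    TensExactAt (resL φ T) N i ↔
      TensExactAt T ((ModuleCat.extendScalars.{u, u, u} φ).obj N) i := by
  have h1 : TensExactAt T ((ModuleCat.extendScalars.{u, u, u} φ).obj N) i ↔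
      ((T.sc' (i - 1) i (i + 1)).map
        (tensorRight ((ModuleCat.extendScalars.{u, u, u} φ).obj N) ⋙
          ModuleCat.restrictScalars φ)).Exact :=
    (exact_map_restrictScalars_iff φ _).symm
  rw [h1]
  exact ShortComplex.exact_iff_of_iso
    ((T.sc' (i - 1) i (i + 1)).mapNatIso (restrictTensIso φ N))

end Assoc

section Main

variable {A B C k : Type u} [CommRing A] [CommRing B] [CommRing C] [CommRing k]

/-- the main transfer lemma -/
theorem exactAt_extCx_of_fibre (φ : A →+* B) (ψ : B →+* C) (χ : C →+* k) (π : B →+* k)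
    (hπ : π = χ.comp ψ) (N : ModuleCat.{u} A)
    (eN : BA ψ ≅ (ModuleCat.extendScalars.{u, u, u} φ).obj N) (d : ℕ)
    (hgl : ∀ M : ModuleCat.{u} C, HasProjectiveDimensionLT M (d + 1))
    (E : CochainComplex (ModuleCat.{u} B) ℤ) (c : ℤ) (hc : ∀ i : ℤ, c < i → IsZero (E.X i))
    (hfl : ∀ i : ℤ, Module.Flat B (E.X i)) (a b : ℤ)
    (hex : ∀ i : ℤ, (i < a ∨ b < i) → TensExactAt (resL φ E) N i) (i : ℤ)
    (hi : i < a - d ∨ b < i) :
    ((extCx π).obj E).ExactAt i := by
  -- the fibre complex over `C`
  have hQex : ∀ j : ℤ, (j < a ∨ b < j) → ((extCx ψ).obj E).ExactAt j := fun j hj =>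
    (exactAt_map_extendScalars_iff ψ E j).2
      ((tensExactAt_iff_of_iso E eN j).2 ((tensExactAt_resL_iff φ E N j).1 (hex j hj)))
  have hQtor : DRing.HasTorAmplitudeIn C (a - d) b (Q.obj ((extCx ψ).obj E)) := by
    refine hasTorAmplitudeIn_of_globalDimension d hgl _ a b (fun j hj => ?_)
    have h1 := hQex j hj
    rw [HomologicalComplex.exactAt_iff_isZero_homology] at h1
    exact ModuleCat.subsingleton_of_isZero
      (IsZero.of_iso h1 (Groth.Agent.H28.PCohDer.homologyQIso _ j))
  have hv : TorVanishing ((extCx ψ).obj E) (a - d) b :=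
    torVanishing_of_hasTorAmplitudeIn _ _ _ hQtor ((extCx ψ).obj E) c
      (fun j hj => (ModuleCat.extendScalars.{u, u, u} ψ).map_isZero (hc j hj))
      (fun j => by
        have := hfl j
        exact flat_extendScalars ψ (E.X j)) (Iso.refl _)
  rw [exactAt_map_extendScalars_iff π E i]
  have e : BA π ≅ (ModuleCat.restrictScalars ψ).obj (BA χ) :=
    ModuleCat.restrictScalarsComp'App ψ χ π hπ (ModuleCat.of k k)
  rw [tensExactAt_iff_of_iso E e i, ← tensExactAt_extCx_iff ψ E (BA χ) i]
  exact hv (BA χ) i hi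

end Main

end Groth.Agent.H28.FibreGlDim
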