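import Mathlib
import Groth.Agent.H28.FibreGlDim

set_option autoImplicit false
universe u
open CategoryTheory CategoryTheory.Limits MonoidalCategory TensorProduct

namespace Groth.Agent.H28.FibreGlDim2

open HomologicalComplex DerivedCategory Groth.Agent.H35 Groth.Agent.H35.KF Groth.Agent.H35.KFBC
  Groth.Agent.H35.LT

attribute [local instance] HasDerivedCategory.standard

variable {A B : Type u} [CommRing A] [CommRing B] [Algebra A B]

/-- the identity of `B`, as an `A`-linear equivalence onto `B` with scalars restricted -/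
noncomputable def idBA : B ≃ₗ[A] (BA (algebraMap A B) : Type u) :=
  { AddEquiv.refl B with
    map_smul' := fun r b => by
      change r • b = algebraMap A B r * b
      exact Algebra.smul_def r b }

variable (κ : Type u) [CommRing κ] [Algebra A κ]

/-- the ring map `B → κ ⊗_A B` -/
noncomputable abbrev inclR : B →+* κ ⊗[A] B :=
  (Algebra.TensorProduct.includeRight : B →ₐ[A] κ ⊗[A] B).toRingHom

/-- `κ ⊗_A B ≃ B ⊗_A κ` additively -/
noncomputable def swapAdd :
    (κ ⊗[A] B) ≃+ ((ModuleCat.extendScalars.{u, u, u} (algebraMap A B)).obj (ModuleCat.of A κ) : Type u) :=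
  ((TensorProduct.congr (LinearEquiv.refl A κ) (idBA (A := A) (B := B))).toAddEquiv).trans
    (swapEquiv (algebraMap A B) (ModuleCat.of A κ))

lemma swapAdd_tmul (x : κ) (b : B) :
    swapAdd (A := A) (B := B) κ (x ⊗ₜ b) =
      TensorProduct.tmul A (M := (BA (algebraMap A B) : Type u)) (N := (ModuleCat.of A κ : Type u))
        b x := rfl

lemma swapAdd_smul (r : B) (z : κ ⊗[A] B) :
    swapAdd (A := A) (B := B) κ (inclR (A := A) (B := B) κ r * z) =
      r • swapAdd (A := A) (B := B) κ z := by
  induction z using TensorProduct.induction_on with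
  | zero => simp
  | tmul x b =>
    have h1 : inclR (A := A) (B := B) κ r * (x ⊗ₜ[A] b) = x ⊗ₜ[A] (r * b) := by
      change ((1 : κ) ⊗ₜ[A] r) * (x ⊗ₜ[A] b) = _
      rw [Algebra.TensorProduct.tmul_mul_tmul, one_mul]
    rw [h1, swapAdd_tmul, swapAdd_tmul]
    exact (ModuleCat.ExtendScalars.smul_tmul (f := algebraMap A B) (M := ModuleCat.of A κ) r b x).symm
  | add z w hz hw => rw [mul_add, map_add, map_add, smul_add, hz, hw]

/-- `κ ⊗_A B` as a `B`-module is the extension of scalars of `κ` -/
noncomputable def eN :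
    BA (inclR (A := A) (B := B) κ) ≅
      (ModuleCat.extendScalars.{u, u, u} (algebraMap A B)).obj (ModuleCat.of A κ) :=
  (AddEquiv.toLinearEquiv (M := ↑(BA (inclR (A := A) (B := B) κ)))
    (M₂ := ↑((ModuleCat.extendScalars.{u, u, u} (algebraMap A B)).obj (ModuleCat.of A κ)))
    (swapAdd (A := A) (B := B) κ) (fun r z => swapAdd_smul κ r z)).toModuleIso

section Fibre

variable (m : Ideal B) [hm : m.IsMaximal]

/-- the map `κ(m ∩ A) → B/m` -/
noncomputable def resToQuot : (m.comap (algebraMap A B)).ResidueField →ₐ[A] B ⧸ m :=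
  Ideal.ResidueField.liftₐ (m.comap (algebraMap A B)) (Algebra.ofId A (B ⧸ m))
    (fun x hx => by
      rw [RingHom.mem_ker]
      change algebraMap A (B ⧸ m) x = 0
      rw [IsScalarTower.algebraMap_apply A B (B ⧸ m), Ideal.Quotient.algebraMap_eq,
        Ideal.Quotient.eq_zero_iff_mem]
      exact hx)
    (fun x hx => by
      let := Ideal.Quotient.field m
      change IsUnit (algebraMap A (B ⧸ m) x)
      rw [isUnit_iff_ne_zero]
      intro h
      rw [IsScalarTower.algebraMap_apply A B (B ⧸ m), Ideal.Quotient.algebraMap_eq,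
        Ideal.Quotient.eq_zero_iff_mem] at h
      exact hx h)

/-- the map `κ(m ∩ A) ⊗_A B → B/m` -/
noncomputable def fibreToQuot : (m.comap (algebraMap A B)).ResidueField ⊗[A] B →+* B ⧸ m :=
  (Algebra.TensorProduct.lift (resToQuot m) (IsScalarTower.toAlgHom A B (B ⧸ m))
    (fun _ _ => Commute.all _ _)).toRingHom

lemma mk_eq_comp : Ideal.Quotient.mk m =
    (fibreToQuot (A := A) m).comp (inclR (A := A) (B := B) (m.comap (algebraMap A B)).ResidueField) := by
  ext x
  change _ = (Algebra.TensorProduct.lift (resToQuot m) (IsScalarTower.toAlgHom A B (B ⧸ m))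
    (fun _ _ => Commute.all _ _)) ((1 : (m.comap (algebraMap A B)).ResidueField) ⊗ₜ[A] x)
  rw [Algebra.TensorProduct.lift_tmul, map_one, one_mul]
  rfl

/-- the key vanishing for S7035 -/
theorem subsingleton_fibre_of_glDim [Module.Flat A B] (d : ℕ)
    (hgl : ∀ M : ModuleCat.{u} ((m.comap (algebraMap A B)).ResidueField ⊗[A] B),
      HasProjectiveDimensionLT M (d + 1))
    [DRing.HasLBaseChange (Ideal.Quotient.mk m)] (a b : ℤ) (K : Dual.D B)
    (hK : DRing.IsPseudoCoherent' B K)
    (hKa : DRing.HasTorAmplitudeIn A a b ((DRing.restrictD (algebraMap A B)).obj K))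
    (i : ℤ) (hi : i < a - d ∨ b < i) :
    Subsingleton (Dual.HD (B ⧸ m) ((DRing.LBaseChange (Ideal.Quotient.mk m)).obj K) i) := by
  obtain ⟨E, c, hc, hff, ⟨e⟩⟩ := hK
  have hfl : ∀ j : ℤ, Module.Flat B (E.X j) := fun j => by
    have := (hff j).2
    infer_instance
  have hEK : IsKFlat E := isKFlat_of_bounded_flat E c hc hfl
  have hex : TorVanishing (resL (algebraMap A B) E) a b :=
    torVanishing_of_hasTorAmplitudeIn _ a b hKa (resL (algebraMap A B) E) c
      (fun j hj => (ModuleCat.restrictScalars (algebraMap A B)).map_isZero (hc j hj))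
      (fun j => by
        have := hfl j
        exact flat_restrictScalars_of_flat (E.X j))
      (((ModuleCat.restrictScalars (algebraMap A B)).mapDerivedCategoryFactors.app E).symm ≪≫
        (DRing.restrictD (algebraMap A B)).mapIso e)
  have key := Groth.Agent.H28.FibreGlDim.exactAt_extCx_of_fibre (algebraMap A B)
    (inclR (A := A) (B := B) (m.comap (algebraMap A B)).ResidueField) (fibreToQuot (A := A) m)
    (Ideal.Quotient.mk m) (mk_eq_comp m) (ModuleCat.of A (m.comap (algebraMap A B)).ResidueField)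
    (eN _) d hgl E c hc hfl a b (fun j hj => hex _ j hj) i hi
  rw [HomologicalComplex.exactAt_iff_isZero_homology] at key
  exact ModuleCat.subsingleton_of_isZero (IsZero.of_iso key
    ((DerivedCategory.homologyFunctor _ i).mapIso ((DRing.LBaseChange (Ideal.Quotient.mk m)).mapIso
      e.symm) ≪≫ Groth.Agent.H28.PCohLocal.homologyLBaseChangeIso (Ideal.Quotient.mk m) E hEK i))

end Fibre

end Groth.Agent.H28.FibreGlDim2
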