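import Mathlib
import Groth.Agent.H35.TorNilpMain
import Groth.Agent.H35.TorDimAmp
import Groth.Agent.H35.TorAmpD
import Groth.Agent.H28.PCohLocal

/-!
# Gluing flatness from `R_f` and `R/f` (helper28)
-/

set_option autoImplicit false

universe u

open CategoryTheory CategoryTheory.Limits MonoidalCategory TensorProduct

namespace Groth.Agent.H28.FlatGlue

open HomologicalComplex DerivedCategory Groth.Agent.H35 Groth.Agent.H35.KF Groth.Agent.H35.LT

attribute [local instance] HasDerivedCategory.standard

variable {R : Type u} [CommRing R]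

section Connecting

/-- the connecting-homomorphism half of the long exact sequence for `N ↦ H^i(P ⊗ N)` -/
theorem tensExactAt_of_shortExact_left (P : CochainComplex (ModuleCat.{u} R) ℤ)
    (hP : ∀ p, Module.Flat R (P.X p)) (S : ShortComplex (ModuleCat.{u} R)) (hS : S.ShortExact)
    (i : ℤ) (h₃ : TensExactAt P S.X₃ (i - 1)) (h₂ : TensExactAt P S.X₂ i) :
    TensExactAt P S.X₁ i := by
  rw [← exactAt_map_tensorRight_iff, exactAt_iff_isZero_homology] at h₂ h₃ ⊢
  have hS' := shortExact_map_tCx P hP S hS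
  exact (hS'.homology_exact₁ (i - 1) i (by simp)).isZero_of_both_zeros (h₃.eq_of_src _ _)
    (h₂.eq_of_tgt _ _)

end Connecting

section Torsion

variable (f : R)

/-- directed-union step: `H^i(P ⊗ T) = 0` for `f`-power torsion `T` as soon as it holds for the
modules killed by a power of `f` -/
theorem tensExactAt_of_powerTorsion (P : CochainComplex (ModuleCat.{u} R) ℤ)
    (hP : ∀ p, Module.Flat R (P.X p)) (i : ℤ)
    (h : ∀ (n : ℕ) (N : ModuleCat.{u} R), (∀ x : N, f ^ n • x = 0) → TensExactAt P N i)
    (T : Type u) [AddCommGroup T] [Module R T] (hT : ∀ x : T, ∃ n : ℕ, f ^ n • x = 0) :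
    TensExactAt P (ModuleCat.of R T) i := by
  rw [tensExactAt_iff_function_exact P T (i - 1) i (i + 1) (by simp) (by simp)]
  -- the submodules killed by `f ^ n`
  let Tn : ℕ → Submodule R T := fun n => Submodule.torsionBy R T (f ^ n)
  have hmono : ∀ {n m : ℕ}, n ≤ m → Tn n ≤ Tn m := by
    intro n m hnm x hx
    rw [Submodule.mem_torsionBy_iff] at hx ⊢
    obtain ⟨k, rfl⟩ := Nat.exists_eq_add_of_le hnm
    rw [pow_add, mul_comm, mul_smul, hx, smul_zero]
  have hex : ∀ n : ℕ, Function.Exact (LinearMap.rTensor (Tn n) (P.d (i - 1) i).hom)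
      (LinearMap.rTensor (Tn n) (P.d i (i + 1)).hom) := by
    intro n
    rw [← tensExactAt_iff_function_exact P (Tn n) (i - 1) i (i + 1) (by simp) (by simp)]
    exact h n (ModuleCat.of R (Tn n)) (fun x => Subtype.ext (by
      have := x.2
      rw [Submodule.mem_torsionBy_iff] at this
      exact this))
  -- every tensor comes from some `Tn n`
  have hrange : ∀ (j : ℤ) (z : (P.X j : Type u) ⊗[R] T), ∃ (n : ℕ) (z' : (P.X j : Type u) ⊗[R] Tn n),
      LinearMap.lTensor (P.X j) (Tn n).subtype z' = z := by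
    intro j z
    induction z using TensorProduct.induction_on with
    | zero => exact ⟨0, 0, map_zero _⟩
    | tmul p t =>
      obtain ⟨n, hn⟩ := hT t
      exact ⟨n, p ⊗ₜ ⟨t, (Submodule.mem_torsionBy_iff _ _).2 hn⟩, rfl⟩
    | add z w hz hw =>
      obtain ⟨n, z', hz'⟩ := hz
      obtain ⟨m, w', hw'⟩ := hw
      refine ⟨max n m, LinearMap.lTensor (P.X j) (Submodule.inclusion (hmono (le_max_left n m))) z' +
        LinearMap.lTensor (P.X j) (Submodule.inclusion (hmono (le_max_right n m))) w', ?_⟩
      rw [map_add, ← hz', ← hw', ← LinearMap.comp_apply, ← LinearMap.comp_apply,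
        ← LinearMap.lTensor_comp, ← LinearMap.lTensor_comp]
      rfl
  intro z
  constructor
  · intro hz
    obtain ⟨n, z', rfl⟩ := hrange i z
    have hinj : Function.Injective (LinearMap.lTensor (P.X (i + 1)) (Tn n).subtype) := by
      have := hP (i + 1)
      exact Module.Flat.lTensor_preserves_injective_linearMap (M := P.X (i + 1)) _
        (Tn n).injective_subtype
    have hz' : LinearMap.rTensor (Tn n) (P.d i (i + 1)).hom z' = 0 := by
      apply hinj
      rw [map_zero, ← LinearMap.comp_apply, LinearMap.lTensor_comp_rTensor,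
        ← LinearMap.rTensor_comp_lTensor, LinearMap.comp_apply]
      exact hz
    obtain ⟨w', rfl⟩ := (hex n z').1 hz'
    refine ⟨LinearMap.lTensor (P.X (i - 1)) (Tn n).subtype w', ?_⟩
    rw [← LinearMap.comp_apply, LinearMap.rTensor_comp_lTensor, ← LinearMap.lTensor_comp_rTensor,
      LinearMap.comp_apply]
  · rintro ⟨w, rfl⟩
    rw [← LinearMap.comp_apply, ← LinearMap.rTensor_comp]
    have : (P.d i (i + 1)).hom ∘ₗ (P.d (i - 1) i).hom = 0 := by
      rw [← ModuleCat.hom_comp, P.d_comp_d, ModuleCat.hom_zero]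
    rw [this, LinearMap.rTensor_zero, LinearMap.zero_apply]

end Torsion

section Glue

variable (f : R)

/-- the `f`-power torsion submodule -/
def powTorsion (N : Type u) [AddCommGroup N] [Module R N] : Submodule R N where
  carrier := {x | ∃ n : ℕ, f ^ n • x = 0}
  add_mem' := by
    rintro x y ⟨n, hn⟩ ⟨m, hm⟩
    refine ⟨n + m, ?_⟩
    have h1 : (f ^ n * f ^ m) • x = 0 := by rw [mul_comm, mul_smul, hn, smul_zero]
    have h2 : (f ^ n * f ^ m) • y = 0 := by rw [mul_smul, hm, smul_zero]
    rw [smul_add, pow_add, h1, h2, add_zero]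
  zero_mem' := ⟨0, smul_zero _⟩
  smul_mem' := by
    rintro a x ⟨n, hn⟩
    exact ⟨n, by rw [smul_comm, hn, smul_zero]⟩

/-- a short exact sequence from a submodule -/
lemma shortExact_of_submodule {N : Type u} [AddCommGroup N] [Module R N] (N' : Submodule R N) :
    (ShortComplex.mk (ModuleCat.ofHom N'.subtype) (ModuleCat.ofHom N'.mkQ) (by
      ext x
      simp)).ShortExact :=
  { exact := (ShortComplex.ShortExact.moduleCat_exact_iff_function_exact _).2
      (LinearMap.exact_subtype_mkQ N')
    mono_f := (ModuleCat.mono_iff_injective _).2 N'.injective_subtype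
    epi_g := (ModuleCat.epi_iff_surjective _).2 N'.mkQ_surjective }

/-- a short exact sequence from an injective linear map -/
lemma shortExact_of_injective {N L : Type u} [AddCommGroup N] [Module R N] [AddCommGroup L]
    [Module R L] (ι : N →ₗ[R] L) (hι : Function.Injective ι) :
    (ShortComplex.mk (ModuleCat.ofHom ι) (ModuleCat.ofHom (LinearMap.range ι).mkQ) (by
      ext x
      simp)).ShortExact :=
  { exact := (ShortComplex.ShortExact.moduleCat_exact_iff_function_exact _).2
      (LinearMap.exact_map_mkQ_range ι)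
    mono_f := (ModuleCat.mono_iff_injective _).2 hι
    epi_g := (ModuleCat.epi_iff_surjective _).2 (LinearMap.range ι).mkQ_surjective }

/-- the localization of a module, as the restriction of scalars of a module over the localization -/
noncomputable def localizedIso (N : Type u) [AddCommGroup N] [Module R N] :
    (ModuleCat.restrictScalars (algebraMap R (Localization.Away f))).obj
      (ModuleCat.of (Localization.Away f) (LocalizedModule (Submonoid.powers f) N)) ≅
      ModuleCat.of R (LocalizedModule (Submonoid.powers f) N) :=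
  (AddEquiv.toLinearEquiv
    (M := ↑((ModuleCat.restrictScalars (algebraMap R (Localization.Away f))).obj
      (ModuleCat.of (Localization.Away f) (LocalizedModule (Submonoid.powers f) N))))
    (M₂ := ↑(ModuleCat.of R (LocalizedModule (Submonoid.powers f) N)))
    (AddEquiv.refl (LocalizedModule (Submonoid.powers f) N))
    (fun a x => algebraMap_smul (Localization.Away f) a
      (show LocalizedModule (Submonoid.powers f) N from x))).toModuleIso

/-- gluing: vanishing of `H^i(P ⊗ -)` below degree `0` can be tested on modules over `R_f` and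
over `R/f` -/
theorem tensExactAt_of_away_and_quotient (P : CochainComplex (ModuleCat.{u} R) ℤ)
    (hP : ∀ p, Module.Flat R (P.X p))
    (hA : ∀ (L : ModuleCat.{u} (Localization.Away f)) (i : ℤ), i < 0 →
      TensExactAt ((extCx (algebraMap R (Localization.Away f))).obj P) L i)
    (hB : ∀ (L : ModuleCat.{u} (R ⧸ Ideal.span ({f} : Set R))) (i : ℤ), i < 0 →
      TensExactAt ((extCx (Ideal.Quotient.mk (Ideal.span ({f} : Set R)))).obj P) L i)
    (N : ModuleCat.{u} R) (i : ℤ) (hi : i < 0) : TensExactAt P N i := by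
  -- modules killed by a power of `f`
  have hkilled : ∀ (n : ℕ) (N : ModuleCat.{u} R), (∀ x : N, f ^ n • x = 0) →
      ∀ i : ℤ, i < 0 → TensExactAt P N i := by
    intro n N hN
    refine induction_killed_by_pow (Ideal.span ({f} : Set R))
      (fun N => ∀ i : ℤ, i < 0 → TensExactAt P N i) ?_ ?_ n N ?_
    · intro N' hN' i hi
      obtain ⟨M', ⟨eM⟩⟩ := exists_restrictScalars_iso_of_killed _ N' hN'
      rw [← tensExactAt_iff_of_iso P eM i, ← tensExactAt_extCx_iff]
      exact hB M' i hi
    · intro S hS h₁ h₃ i hi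
      exact tensExactAt_of_shortExact P hP S hS i (h₁ i hi) (h₃ i hi)
    · intro a ha x
      rw [Ideal.span_singleton_pow, Ideal.mem_span_singleton'] at ha
      obtain ⟨r, rfl⟩ := ha
      rw [mul_smul, hN, smul_zero]
  -- `f`-power torsion modules
  have htors : ∀ (T : Type u) [AddCommGroup T] [Module R T], (∀ x : T, ∃ n : ℕ, f ^ n • x = 0) →
      ∀ i : ℤ, i < 0 → TensExactAt P (ModuleCat.of R T) i := by
    intro T _ _ hT i hi
    exact tensExactAt_of_powerTorsion f P hP i (fun n N hN => hkilled n N hN i hi) T hT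
  -- modules over the localization
  have hloc : ∀ (L : ModuleCat.{u} (Localization.Away f)) (i : ℤ), i < 0 →
      TensExactAt P ((ModuleCat.restrictScalars (algebraMap R (Localization.Away f))).obj L) i :=
    fun L i hi => (tensExactAt_extCx_iff _ P L i).1 (hA L i hi)
  -- the general case
  let T : Submodule R N := powTorsion f N
  have hS₁ := shortExact_of_submodule T
  refine tensExactAt_of_shortExact P hP _ hS₁ i
    (htors T (fun x => by
      obtain ⟨n, hn⟩ := x.2
      exact ⟨n, Subtype.ext hn⟩) i hi) ?_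
  -- the torsion free quotient
  have htf : ∀ (k : ℕ) (y : N ⧸ T), f ^ k • y = 0 → y = 0 := by
    intro k y hy
    obtain ⟨x, rfl⟩ := T.mkQ_surjective y
    rw [← map_smul, Submodule.mkQ_apply, Submodule.Quotient.mk_eq_zero] at hy
    obtain ⟨n, hn⟩ := hy
    rw [Submodule.mkQ_apply, Submodule.Quotient.mk_eq_zero]
    exact ⟨n + k, by rw [pow_add, mul_smul, hn]⟩
  let ι : (N ⧸ T) →ₗ[R] LocalizedModule (Submonoid.powers f) (N ⧸ T) :=
    LocalizedModule.mkLinearMap (Submonoid.powers f) (N ⧸ T)
  have hι : Function.Injective ι := by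
    rw [injective_iff_map_eq_zero]
    intro y hy
    obtain ⟨⟨c, k, rfl⟩, hc⟩ := (IsLocalizedModule.eq_zero_iff (Submonoid.powers f) ι).1 hy
    exact htf k y hc
  have hS₂ := shortExact_of_injective ι hι
  refine tensExactAt_of_shortExact_left P hP _ hS₂ i ?_ ?_
  · refine htors _ (fun c => ?_) (i - 1) (by omega)
    obtain ⟨l, rfl⟩ := (LinearMap.range ι).mkQ_surjective c
    obtain ⟨⟨m, ⟨s, k, rfl⟩⟩, hm⟩ := IsLocalizedModule.surj (Submonoid.powers f) ι l
    refine ⟨k, ?_⟩
    rw [← map_smul, Submodule.mkQ_apply, Submodule.Quotient.mk_eq_zero]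
    exact ⟨m, hm.symm⟩
  · change TensExactAt P (ModuleCat.of R (LocalizedModule (Submonoid.powers f) (N ⧸ T))) i
    rw [← tensExactAt_iff_of_iso P (localizedIso f (N ⧸ T)) i]
    exact hloc _ i hi

end Glue

section Derived

variable (f : R)

/-- S12899 in tor-amplitude form -/
theorem exists_flat_module_iso (M : Dual.D R)
    [DRing.HasLBaseChange (algebraMap R (Localization.Away f))]
    [DRing.HasLBaseChange (Ideal.Quotient.mk (Ideal.span ({f} : Set R)))]
    (h1 : ∀ i : ℤ, 0 < i → Subsingleton (Dual.HD R M i))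
    (h2 : DRing.HasTorAmplitudeIn (Localization.Away f) 0 0
      ((DRing.LBaseChange (algebraMap R (Localization.Away f))).obj M))
    (h3 : DRing.HasTorAmplitudeIn (R ⧸ Ideal.span ({f} : Set R)) 0 0
      ((DRing.LBaseChange (Ideal.Quotient.mk (Ideal.span ({f} : Set R)))).obj M)) :
    ∃ (N : Type u) (_ : AddCommGroup N) (_ : Module R N),
      Module.Flat R N ∧ Nonempty (M ≅ Dual.inD R N) := by
  obtain ⟨P, hPb, hPproj, ⟨e⟩⟩ := Groth.Agent.H35.exists_projective_rep M 0
    (fun n hn => by
      have := h1 n hn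
      exact ModuleCat.isZero_of_subsingleton _)
  have hPfl : ∀ i, Module.Flat R (P.X i) := fun i => by
    have := hPproj i
    infer_instance
  have hPK : IsKFlat P := isKFlat_of_bounded_flat P 0 hPb hPfl
  have hv : ∀ {B : Type u} [CommRing B] (φ : R →+* B) [DRing.HasLBaseChange φ],
      DRing.HasTorAmplitudeIn B 0 0 ((DRing.LBaseChange φ).obj M) →
        TorVanishing ((extCx φ).obj P) 0 0 := by
    intro B _ φ _ h
    exact torVanishing_of_hasTorAmplitudeIn _ 0 0 h ((extCx φ).obj P) 0
      (fun j hj => (ModuleCat.extendScalars.{u, u, u} φ).map_isZero (hPb j hj))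
      (fun j => by
        have := hPfl j
        exact flat_extendScalars φ (P.X j))
      ((LBaseChangeIso φ P hPK).symm ≪≫ (DRing.LBaseChange φ).mapIso e)
  have main := tensExactAt_of_away_and_quotient f P hPfl
    (fun L i hi => hv _ h2 L i (Or.inl hi)) (fun L i hi => hv _ h3 L i (Or.inl hi))
  have hvP : TorVanishing P 0 0 := fun N i hi =>
    hi.elim (main N i) (fun hi => tensExactAt_of_isZero P N i (hPb i hi))
  obtain ⟨E, hE, hEfl, ⟨e'⟩⟩ := hasTorAmplitudeIn_of_torVanishing M 0 0 P 0 hPb hPfl e hvP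
  have : E.IsStrictlyGE 0 := (CochainComplex.isStrictlyGE_iff E 0).2 (fun i hi => hE i (Or.inl hi))
  have : E.IsStrictlyLE 0 := (CochainComplex.isStrictlyLE_iff E 0).2 (fun i hi => hE i (Or.inr hi))
  obtain ⟨M₀, ⟨ψ⟩⟩ := CochainComplex.exists_iso_single E 0
  have e₀ : E.X 0 ≅ M₀ := (HomologicalComplex.eval _ _ 0).mapIso ψ ≪≫
    HomologicalComplex.singleObjXSelf (ComplexShape.up ℤ) 0 M₀
  have hM₀ : Module.Flat R M₀ := by
    have := hEfl 0
    exact Module.Flat.of_linearEquiv e₀.toLinearEquiv.symm
  refine ⟨M₀, inferInstance, inferInstance, hM₀, ⟨e'.symm ≪≫ Q.mapIso ψ ≪≫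
    ((DerivedCategory.singleFunctorIsoCompQ (ModuleCat.{u} R) 0).app M₀).symm⟩⟩

/-- a flat module in degree `0` has tor amplitude in `[0, 0]` -/
theorem hasTorAmplitudeIn_zero_of_flat {B : Type u} [CommRing B] (K : Dual.D B)
    (h : ∃ (N : Type u) (_ : AddCommGroup N) (_ : Module B N),
      Module.Flat B N ∧ Nonempty (K ≅ Dual.inD B N)) : DRing.HasTorAmplitudeIn B 0 0 K := by
  obtain ⟨N, _, _, hN, ⟨e⟩⟩ := h
  have h0 := (hasTorDimLE_iff_hasTorAmplitudeIn (R := B) N 0).1
    ((hasTorDimLE_zero_iff_flat (R := B) N).2 hN)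
  have h1 : DRing.HasTorAmplitudeIn B 0 0 (Dual.inD B N) := by simpa using h0
  exact hasTorAmplitudeIn_of_iso e.symm 0 0 h1

end Derived

end Groth.Agent.H28.FlatGlue
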