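import Mathlib
import Groth.Agent.H28.DualFinite

/-!
# `R(ω)` for a quotient by a nonzerodivisor: the triangle `R(ω)|_A → ω → ω` (helper28)
-/

set_option autoImplicit false
universe u
open CategoryTheory Pretriangulated Limits DerivedCategory Opposite

namespace Groth.Agent.H28.DualQuot

attribute [local instance] HasDerivedCategory.standard

variable {A : Type u} [CommRing A]

/-- the short exact sequence `0 → A → A → A/f → 0` -/
noncomputable def quotSC (f : A) : ShortComplex (ModuleCat.{u} A) :=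
  ShortComplex.mk
    (ModuleCat.ofHom (LinearMap.lsmul A A f) : ModuleCat.of A A ⟶ ModuleCat.of A A)
    (ModuleCat.ofHom (Algebra.linearMap A (A ⧸ Ideal.span {f})) :
      ModuleCat.of A A ⟶ ModuleCat.of A (A ⧸ Ideal.span {f}))
    (by
      ext
      change (algebraMap A (A ⧸ Ideal.span {f})) (f • (1 : A)) = 0
      rw [smul_eq_mul, mul_one]
      exact Ideal.Quotient.eq_zero_iff_mem.2 (Ideal.mem_span_singleton_self f))

lemma quotSC_shortExact (f : A) (hf : f ∈ nonZeroDivisors A) : (quotSC f).ShortExact := by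
  refine ShortComplex.ShortExact.mk' ?_ ?_ ?_
  · rw [ShortComplex.moduleCat_exact_iff]
    intro x hx
    have h1 : (algebraMap A (A ⧸ Ideal.span {f})) (show A from x) = 0 := hx
    have h2 : (show A from x) ∈ Ideal.span {f} := Ideal.Quotient.eq_zero_iff_mem.1 h1
    obtain ⟨y, hy⟩ := Ideal.mem_span_singleton'.1 h2
    refine ⟨y, ?_⟩
    change f * y = (show A from x)
    rw [mul_comm, hy]
  · rw [ModuleCat.mono_iff_injective]
    intro x y hxy
    have h1 : f * (show A from x) = f * (show A from y) := hxy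
    exact (mul_cancel_left_mem_nonZeroDivisors hf).1 h1
  · rw [ModuleCat.epi_iff_surjective]
    exact (Ideal.Quotient.mk_surjective : Function.Surjective (Ideal.Quotient.mk (Ideal.span {f})))

/-- a bounded injective model of a dualizing complex -/
lemma exists_injective_model (ω : Dual.D A) (hω : Dual.IsDualizing A ω) :
    ∃ (I : DRing.Cx A) (a b : ℤ), DRing.VanishesOutside I a b ∧
      (∀ p : ℤ, Module.Injective A (I.X p)) ∧ I.IsKInjective ∧ Nonempty (Q.obj I ≅ ω) := by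
  obtain ⟨a, b, hab⟩ := hω.finite_injective_dimension
  have hamp : DRing.HasInjAmplitudeIn A a b ω :=
    Groth.Agent.H35.hasInjAmplitudeIn_of_ext_vanishing ω a b (fun J i hi => hab (A ⧸ J) i hi)
  obtain ⟨I, hI, hinj, ⟨e⟩⟩ := hamp
  exact ⟨I, a, b, hI, hinj,
    Groth.Agent.H35.isKInjective_of_vanishesBelow A I a (fun j hj => hI j (Or.inl hj)) hinj, ⟨e⟩⟩

lemma EcMap_lsmul (I : DRing.Cx A) (f : A) :
    Bidual.EcMap I (ModuleCat.ofHom (LinearMap.lsmul A A f) : ModuleCat.of A A ⟶ ModuleCat.of A A) =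
      f • 𝟙 _ := by
  ext p φ
  have h : ∀ ψ : ModuleCat.of A A ⟶ I.X p,
      (ModuleCat.ofHom (LinearMap.lsmul A A f) : ModuleCat.of A A ⟶ ModuleCat.of A A) ≫ ψ =
        f • ψ := by
    intro ψ
    ext
    change ψ.hom (f • (1 : A)) = f • ψ.hom (1 : A)
    rw [map_smul]
  exact h φ

/-- S8941 -/
theorem exists_triangle (ω : Dual.D A) (hω : Dual.IsDualizing A ω) (f : A)
    (hf : f ∈ nonZeroDivisors A) (R : Dual.D A ⥤ Dual.D (A ⧸ Ideal.span {f}))
    (adj : DRing.restrictD (algebraMap A (A ⧸ Ideal.span {f})) ⊣ R) :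
    ∃ (u : (DRing.restrictD (algebraMap A (A ⧸ Ideal.span {f}))).obj (R.obj ω) ⟶ ω)
      (w : ω ⟶ ((DRing.restrictD (algebraMap A (A ⧸ Ideal.span {f}))).obj (R.obj ω))⟦(1 : ℤ)⟧),
      Triangle.mk u (f • 𝟙 ω) w ∈ distTriang (Dual.D A) := by
  obtain ⟨I, a, b, hI, hinj, hKI, ⟨e⟩⟩ := exists_injective_model ω hω
  let S := quotSC f
  have hS : S.ShortExact := quotSC_shortExact f hf
  let m₁ : Q.obj (Bidual.Ec I (ModuleCat.of A (A ⧸ Ideal.span {f}))) ⟶
      Q.obj (Bidual.Ec I (ModuleCat.of A A)) := Q.map (Bidual.EcMap I S.g)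
  let m₂ : Q.obj (Bidual.Ec I (ModuleCat.of A A)) ⟶ Q.obj (Bidual.Ec I (ModuleCat.of A A)) :=
    Q.map (Bidual.EcMap I S.f)
  let m₃ : Q.obj (Bidual.Ec I (ModuleCat.of A A)) ⟶
      (Q.obj (Bidual.Ec I (ModuleCat.of A (A ⧸ Ideal.span {f}))))⟦(1 : ℤ)⟧ := Bidual.δ I S hS hinj
  have hT : Triangle.mk m₁ m₂ m₃ ∈ distTriang (Dual.D A) := Bidual.tri_dist I S hS hinj
  have := Bidual.isIso_ev_one I
  let α : (DRing.restrictD (algebraMap A (A ⧸ Ideal.span {f}))).obj (R.obj ω) ≅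
      Q.obj (Bidual.Ec I (ModuleCat.of A (A ⧸ Ideal.span {f}))) :=
    (DRing.restrictD (algebraMap A (A ⧸ Ideal.span {f}))).mapIso
      (R.mapIso e.symm ≪≫ CoextModel.RIso I R adj) ≪≫ CoextModel.restrZhIso I
  let β : ω ≅ Q.obj (Bidual.Ec I (ModuleCat.of A A)) :=
    e.symm ≪≫ (asIso (Q.map (Bidual.ev I (ModuleCat.of A A) (1 : A)))).symm
  have hmor₂ : m₂ = f • 𝟙 _ := by
    have h1 : Q.map (Bidual.EcMap I (ModuleCat.ofHom (LinearMap.lsmul A A f) :
        ModuleCat.of A A ⟶ ModuleCat.of A A)) = f • 𝟙 _ := by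
      rw [EcMap_lsmul, Functor.map_smul, CategoryTheory.Functor.map_id]
    exact h1
  refine ⟨α.hom ≫ m₁ ≫ β.inv, β.hom ≫ m₃ ≫ (α.inv)⟦(1 : ℤ)⟧', ?_⟩
  refine isomorphic_distinguished _ hT _ (Triangle.isoMk _ _ α β β ?_ ?_ ?_)
  · change (α.hom ≫ m₁ ≫ β.inv) ≫ β.hom = α.hom ≫ m₁
    rw [Category.assoc, Category.assoc, Iso.inv_hom_id, Category.comp_id]
  · change (f • 𝟙 ω) ≫ β.hom = β.hom ≫ m₂
    rw [hmor₂, Linear.smul_comp, Linear.comp_smul, Category.id_comp, Category.comp_id]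
  · change (β.hom ≫ m₃ ≫ (α.inv)⟦(1 : ℤ)⟧') ≫ (α.hom)⟦(1 : ℤ)⟧' = β.hom ≫ m₃
    rw [Category.assoc, Category.assoc, ← Functor.map_comp, Iso.inv_hom_id,
      CategoryTheory.Functor.map_id, Category.comp_id]

end Groth.Agent.H28.DualQuot
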