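import Mathlib
import Groth.Agent.H35.DerHomInj
import Groth.Agent.H28.Bidual

/-!
# Cohomology of `Hom_A(M, J•)` for a K-injective complex `J` (helper28)

`H^j(Hom_A(M, J)) ≃ Hom_{D(A)}(M[0], (Q J)[j])`; consequently if these vanish for `j ≠ 0`,
`Q(Hom_A(M, J)) ≅ Hom_D(M[0], Q J)[0]`.
-/

set_option autoImplicit false
universe u
open CategoryTheory Pretriangulated Limits DerivedCategory Opposite
open CochainComplex HomComplex

namespace Groth.Agent.H28.EcHom

attribute [local instance] HasDerivedCategory.standard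

open Groth.Agent.H35

variable {A : Type u} [CommRing A] (J : DRing.Cx A) (M : ModuleCat.{u} A)

section CocycleHom

variable {K L : CochainComplex (ModuleCat.{u} A) ℤ} {n : ℤ}

lemma cocycleHom_add (x y : Cocycle K L n) :
    cocycleHom (x + y) = cocycleHom x + cocycleHom y := by
  simp only [cocycleHom, map_add, Functor.map_add, Preadditive.add_comp]

end CocycleHom

lemma singleHom_add' (n : ℤ) (g g' : M ⟶ J.X n) (hg : g ≫ J.d n (n + 1) = 0)
    (hg' : g' ≫ J.d n (n + 1) = 0) (hgg' : (g + g') ≫ J.d n (n + 1) = 0) :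
    singleHom J n (g + g') hgg' = singleHom J n g hg + singleHom J n g' hg' := by
  rw [singleHom, singleHom, singleHom, ← cocycleHom_add, Cocycle.fromSingleMk_add]

lemma singleHom_precomp' (n : ℤ) {M' : ModuleCat.{u} A} (u : M' ⟶ M) (g : M ⟶ J.X n)
    (hg : g ≫ J.d n (n + 1) = 0) (hug : (u ≫ g) ≫ J.d n (n + 1) = 0) :
    singleHom J n (u ≫ g) hug =
      Q.map ((CochainComplex.singleFunctor (ModuleCat.{u} A) 0).map u) ≫ singleHom J n g hg := by
  rw [singleHom, singleHom, ← cocycleHom_precomp, Cocycle.fromSingleMk_precomp]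

lemma singleHom_smul' (n : ℤ) (a : A) (g : M ⟶ J.X n) (hg : g ≫ J.d n (n + 1) = 0)
    (hag : (a • g) ≫ J.d n (n + 1) = 0) :
    singleHom J n (a • g) hag = a • singleHom J n g hg := by
  have key : ∀ (g' : M ⟶ J.X n) (h' : g' ≫ J.d n (n + 1) = 0), g' = (a • 𝟙 M) ≫ g →
      singleHom J n g' h' = a • singleHom J n g hg := by
    rintro g' h' rfl
    rw [singleHom_precomp' J M n (a • 𝟙 M) g hg h', Functor.map_smul, Functor.map_smul,
      CategoryTheory.Functor.map_id, CategoryTheory.Functor.map_id, Linear.smul_comp,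
      Category.id_comp]
  exact key _ hag (by rw [Linear.smul_comp, Category.id_comp])

/-- the class map on cocycles -/
noncomputable def cycMap (j : ℤ) :
    LinearMap.ker ((Bidual.Ec J M).sc' (j - 1) j (j + 1)).g.hom →ₗ[A]
      (Q.obj ((CochainComplex.singleFunctor (ModuleCat.{u} A) 0).obj M) ⟶ (Q.obj J)⟦j⟧) where
  toFun φ := singleHom J j (show M ⟶ J.X j from φ.1) (LinearMap.mem_ker.1 φ.2)
  map_add' φ ψ := singleHom_add' J M j _ _ _ _ _
  map_smul' a φ := singleHom_smul' J M j a _ _ _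

lemma cycMap_surjective [J.IsKInjective] (j : ℤ) : Function.Surjective (cycMap J M j) := by
  intro φ
  obtain ⟨g, hg, h⟩ := singleHom_surjective_of_isKInjective J j φ
  exact ⟨⟨g, LinearMap.mem_ker.2 hg⟩, h⟩

lemma cycMap_eq_zero_iff [J.IsKInjective] (i j : ℤ) (hij : i + 1 = j)
    (φ : LinearMap.ker ((Bidual.Ec J M).sc' (j - 1) j (j + 1)).g.hom) :
    cycMap J M j φ = 0 ↔ ∃ h : M ⟶ J.X i, h ≫ J.d i j = (show M ⟶ J.X j from φ.1) :=
  singleHom_eq_zero_iff_of_isKInjective' J j i hij _ _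

/-- `H^j(Hom_A(M, J)) ≃ Hom_{D(A)}(M[0], (Q J)[j])` -/
theorem nonempty_homology_equiv [J.IsKInjective] (j : ℤ) :
    Nonempty (((Bidual.Ec J M).homology j : ModuleCat.{u} A) ≃ₗ[A]
      (Q.obj ((CochainComplex.singleFunctor (ModuleCat.{u} A) 0).obj M) ⟶ (Q.obj J)⟦j⟧)) := by
  let S := (Bidual.Ec J M).sc' (j - 1) j (j + 1)
  let e₁ : (Bidual.Ec J M).homology j ≅ S.homology :=
    ShortComplex.homologyMapIso ((Bidual.Ec J M).isoSc' (j - 1) j (j + 1) (by simp) (by simp))
  let e₂ : S.homology ≅ ModuleCat.of A (LinearMap.ker S.g.hom ⧸ LinearMap.range S.moduleCatToCycles) :=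
    S.moduleCatHomologyIso
  have hker : LinearMap.range S.moduleCatToCycles = LinearMap.ker (cycMap J M j) := by
    ext φ
    rw [LinearMap.mem_ker, cycMap_eq_zero_iff J M (j - 1) j (by omega)]
    constructor
    · rintro ⟨h, rfl⟩
      exact ⟨h, rfl⟩
    · rintro ⟨h, hh⟩
      exact ⟨h, Subtype.ext hh⟩
  let e₃ : (LinearMap.ker S.g.hom ⧸ LinearMap.range S.moduleCatToCycles) ≃ₗ[A]
      (Q.obj ((CochainComplex.singleFunctor (ModuleCat.{u} A) 0).obj M) ⟶ (Q.obj J)⟦j⟧) :=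
    (Submodule.quotEquivOfEq _ _ hker).trans
      ((cycMap J M j).quotKerEquivOfSurjective (cycMap_surjective J M j))
  exact ⟨((e₁ ≪≫ e₂).toLinearEquiv).trans e₃⟩

/-- if `Hom_D(M[0], (Q J)[j]) = 0` for `j ≠ 0`, then `Q(Hom_A(M, J))` is the module
`Hom_D(M[0], (Q J)[0])` placed in degree `0` -/
theorem exists_iso_inD [J.IsKInjective] (H : Type u) [AddCommGroup H] [Module A H]
    (hvan : ∀ j : ℤ, j ≠ 0 → Subsingleton
      (Q.obj ((CochainComplex.singleFunctor (ModuleCat.{u} A) 0).obj M) ⟶ (Q.obj J)⟦j⟧))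
    (e0 : (Q.obj ((CochainComplex.singleFunctor (ModuleCat.{u} A) 0).obj M) ⟶
      (Q.obj J)⟦(0 : ℤ)⟧) ≃ₗ[A] H) :
    Nonempty (Q.obj (Bidual.Ec J M) ≅ Dual.inD A H) := by
  let X : Dual.D A := Q.obj (Bidual.Ec J M)
  have hz : ∀ j : ℤ, j ≠ 0 → IsZero ((DerivedCategory.homologyFunctor (ModuleCat.{u} A) j).obj X) := by
    intro j hj
    obtain ⟨e⟩ := nonempty_homology_equiv J M j
    have := hvan j hj
    have h1 : Subsingleton ((Bidual.Ec J M).homology j : ModuleCat.{u} A) := e.toEquiv.subsingleton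
    have h2 : IsZero ((Bidual.Ec J M).homology j) := ModuleCat.isZero_of_subsingleton _
    exact IsZero.of_iso h2
      ((DerivedCategory.homologyFunctorFactors (ModuleCat.{u} A) j).app (Bidual.Ec J M))
  have hge : X.IsGE 0 := (DerivedCategory.isGE_iff X 0).2 (fun i hi => hz i (by omega))
  have hle : X.IsLE 0 := (DerivedCategory.isLE_iff X 0).2 (fun i hi => hz i (by omega))
  obtain ⟨Y, ⟨e⟩⟩ := exists_iso_singleFunctor_obj_of_isGE_of_isLE X 0
  obtain ⟨e'⟩ := nonempty_homology_equiv J M 0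
  let eY : Y ≅ ModuleCat.of A H :=
    ((DerivedCategory.singleFunctorCompHomologyFunctorIso (ModuleCat.{u} A) 0).app Y).symm ≪≫
      (DerivedCategory.homologyFunctor (ModuleCat.{u} A) 0).mapIso e.symm ≪≫
      (DerivedCategory.homologyFunctorFactors (ModuleCat.{u} A) 0).app (Bidual.Ec J M) ≪≫
      (e'.trans e0).toModuleIso
  exact ⟨e ≪≫ (DerivedCategory.singleFunctor (ModuleCat.{u} A) 0).mapIso eY⟩

end Groth.Agent.H28.EcHom
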