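import Mathlib
import Groth.Agent.H28.EcHom
import Groth.Agent.H28.DualQuot
import Groth.Agent.H28.DualFinLen2

/-!
# The triangle `R(ω)|_A → ω → Hom_A(I, E)[0]` for a finite length ideal `I` (helper28; S8945)
-/

set_option autoImplicit false
universe u
open CategoryTheory Pretriangulated Limits DerivedCategory Opposite IsLocalRing

namespace Groth.Agent.H28.DualIdeal

attribute [local instance] HasDerivedCategory.standard

variable {A : Type u} [CommRing A]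

/-- the short exact sequence `0 → I → A → A/I → 0` -/
noncomputable def idealSC (I : Ideal A) : ShortComplex (ModuleCat.{u} A) :=
  ShortComplex.mk
    (ModuleCat.ofHom (Submodule.subtype I) : ModuleCat.of A I ⟶ ModuleCat.of A A)
    (ModuleCat.ofHom (Algebra.linearMap A (A ⧸ I)) :
      ModuleCat.of A A ⟶ ModuleCat.of A (A ⧸ I))
    (by
      ext x
      exact Ideal.Quotient.eq_zero_iff_mem.2 x.2)

lemma idealSC_shortExact (I : Ideal A) : (idealSC I).ShortExact := by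
  refine ShortComplex.ShortExact.mk' ?_ ?_ ?_
  · rw [ShortComplex.moduleCat_exact_iff]
    intro x hx
    have h1 : (algebraMap A (A ⧸ I)) (show A from x) = 0 := hx
    have h2 : (show A from x) ∈ I := Ideal.Quotient.eq_zero_iff_mem.1 h1
    exact ⟨⟨x, h2⟩, rfl⟩
  · rw [ModuleCat.mono_iff_injective]
    exact Subtype.val_injective
  · rw [ModuleCat.epi_iff_surjective]
    exact (Ideal.Quotient.mk_surjective : Function.Surjective (Ideal.Quotient.mk I))

variable [IsLocalRing A] [IsNoetherianRing A]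

/-- S8945 -/
theorem exists_triangle (ω : Dual.D A) (hω : Dual.IsDualizing A ω) (hn : Dual.IsNormalized A ω)
    (I : Ideal A) (hIl : IsFiniteLength A I)
    (E : Type u) [AddCommGroup E] [Module A E] (e : ResidueField A →ₗ[A] E)
    (he : InjHull.IsInjectiveHull e) (R : Dual.D A ⥤ Dual.D (A ⧸ I))
    (adj : DRing.restrictD (algebraMap A (A ⧸ I)) ⊣ R) :
    ∃ (u : (DRing.restrictD (algebraMap A (A ⧸ I))).obj (R.obj ω) ⟶ ω)
      (v : ω ⟶ Dual.inD A (I →ₗ[A] E))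
      (w : Dual.inD A (I →ₗ[A] E) ⟶
        ((DRing.restrictD (algebraMap A (A ⧸ I))).obj (R.obj ω))⟦(1 : ℤ)⟧),
      Triangle.mk u v w ∈ distTriang (Dual.D A) := by
  obtain ⟨J, a, b, hJ, hinj, hKI, ⟨ε⟩⟩ := DualQuot.exists_injective_model ω hω
  let S := idealSC I
  have hS : S.ShortExact := idealSC_shortExact I
  let m₁ : Q.obj (Bidual.Ec J (ModuleCat.of A (A ⧸ I))) ⟶
      Q.obj (Bidual.Ec J (ModuleCat.of A A)) := Q.map (Bidual.EcMap J S.g)
  let m₂ : Q.obj (Bidual.Ec J (ModuleCat.of A A)) ⟶ Q.obj (Bidual.Ec J (ModuleCat.of A I)) :=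
    Q.map (Bidual.EcMap J S.f)
  let m₃ : Q.obj (Bidual.Ec J (ModuleCat.of A I)) ⟶
      (Q.obj (Bidual.Ec J (ModuleCat.of A (A ⧸ I))))⟦(1 : ℤ)⟧ := Bidual.δ J S hS hinj
  have hT : Triangle.mk m₁ m₂ m₃ ∈ distTriang (Dual.D A) := Bidual.tri_dist J S hS hinj
  have := Bidual.isIso_ev_one J
  let α : (DRing.restrictD (algebraMap A (A ⧸ I))).obj (R.obj ω) ≅
      Q.obj (Bidual.Ec J (ModuleCat.of A (A ⧸ I))) :=
    (DRing.restrictD (algebraMap A (A ⧸ I))).mapIso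
      (R.mapIso ε.symm ≪≫ CoextModel.RIso J R adj) ≪≫ CoextModel.restrZhIso J
  let β : ω ≅ Q.obj (Bidual.Ec J (ModuleCat.of A A)) :=
    ε.symm ≪≫ (asIso (Q.map (Bidual.ev J (ModuleCat.of A A) (1 : A)))).symm
  -- the third vertex
  let eS : Q.obj ((CochainComplex.singleFunctor (ModuleCat.{u} A) 0).obj (ModuleCat.of A I)) ≅
      Dual.inD A I :=
    ((DerivedCategory.singleFunctorIsoCompQ (ModuleCat.{u} A) 0).app (ModuleCat.of A I)).symm
  have hvan : ∀ j : ℤ, j ≠ 0 → Subsingleton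
      (Q.obj ((CochainComplex.singleFunctor (ModuleCat.{u} A) 0).obj (ModuleCat.of A I)) ⟶
        (Q.obj J)⟦j⟧) := by
    intro j hj
    have h1 : Subsingleton (Dual.inD A I ⟶ ω⟦j⟧) :=
      Groth.Agent.H2.DualCx.subsingleton_of_isFiniteLength
        (Groth.Agent.H2.DualCx.norm_of_isDualizing hω hn) j hj I hIl
    exact CoextModel.subsingleton_hom_of_iso eS.symm
      ((shiftFunctor (Dual.D A) j).mapIso ε.symm) h1
  obtain ⟨e1⟩ := DualFinLen.nonempty_linearEquiv_of_isFiniteLength ω hω hn E e he I hIl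
  let e0 : (Q.obj ((CochainComplex.singleFunctor (ModuleCat.{u} A) 0).obj (ModuleCat.of A I)) ⟶
      (Q.obj J)⟦(0 : ℤ)⟧) ≃ₗ[A] (I →ₗ[A] E) :=
    (Linear.homCongr A eS ((shiftFunctorZero (Dual.D A) ℤ).app (Q.obj J) ≪≫ ε)).trans e1
  obtain ⟨γ⟩ := EcHom.exists_iso_inD J (ModuleCat.of A I) (I →ₗ[A] E) hvan e0
  refine ⟨α.hom ≫ m₁ ≫ β.inv, β.hom ≫ m₂ ≫ γ.hom, γ.inv ≫ m₃ ≫ (α.inv)⟦(1 : ℤ)⟧', ?_⟩
  refine isomorphic_distinguished _ hT _ (Triangle.isoMk _ _ α β γ.symm ?_ ?_ ?_)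
  · change (α.hom ≫ m₁ ≫ β.inv) ≫ β.hom = α.hom ≫ m₁
    rw [Category.assoc, Category.assoc, Iso.inv_hom_id, Category.comp_id]
  · change (β.hom ≫ m₂ ≫ γ.hom) ≫ γ.inv = β.hom ≫ m₂
    rw [Category.assoc, Category.assoc, Iso.hom_inv_id, Category.comp_id]
  · change (γ.inv ≫ m₃ ≫ (α.inv)⟦(1 : ℤ)⟧') ≫ (α.hom)⟦(1 : ℤ)⟧' = γ.inv ≫ m₃
    rw [Category.assoc, Category.assoc, ← Functor.map_comp, Iso.inv_hom_id,
      CategoryTheory.Functor.map_id, Category.comp_id]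

end Groth.Agent.H28.DualIdeal
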