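import Mathlib
import Groth.Agent.H28.DualIdeal

/-!
# The triangle `R(W)|_A --counit--> W --> Q(Hom_A(X₁, J))` (helper28)
-/

set_option autoImplicit false
universe u
open CategoryTheory Pretriangulated Limits DerivedCategory Opposite IsLocalRing

namespace Groth.Agent.H28.CounitTri

attribute [local instance] HasDerivedCategory.standard

open CoextModel

variable {A : Type u} [CommRing A] (I : Ideal A) (J : DRing.Cx A) [J.IsKInjective]

/-- the counit of the explicit model is evaluation at `1` -/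
lemma counit_eq :
    (adj' (A := A) (B := A ⧸ I)).counit.app (Wh J) ≫ (qc A J).hom =
      (restrZhIso (B := A ⧸ I) J).hom ≫ Q.map (Bidual.ev J (ModuleCat.of A (A ⧸ I)) (1 : A ⧸ I)) := by
  have h := psi_smul (B := A ⧸ I) J (1 : A ⧸ I)
  rw [one_smul, CategoryTheory.Functor.map_id, Category.id_comp] at h
  have h2 : (adj' (A := A) (B := A ⧸ I)).counit.app (Wh J) =
      (DRing.restrictD (algebraMap A (A ⧸ I))).map (inv (uh (B := A ⧸ I) J)) ≫
        (fhIso (B := A ⧸ I) J).hom ≫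
        Qh.map ((Kq A).map ((iota (B := A ⧸ I) J).hom ≫
          Bidual.ev J (ModuleCat.of A (A ⧸ I)) (1 : A ⧸ I))) := by
    rw [← h, Iso.hom_inv_id_assoc, ← Functor.map_comp_assoc, IsIso.inv_hom_id,
      CategoryTheory.Functor.map_id, Category.id_comp]
  have n1 := (DerivedCategory.quotientCompQhIso (ModuleCat.{u} A)).hom.naturality
    ((iota (B := A ⧸ I) J).hom ≫ Bidual.ev J (ModuleCat.of A (A ⧸ I)) (1 : A ⧸ I))
  simp only [Functor.comp_map] at n1
  rw [h2]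
  simp only [restrZhIso, Iso.trans_hom, Functor.mapIso_hom, Iso.symm_hom, asIso_inv,
    Category.assoc, Iso.app_hom]
  erw [n1]
  rw [Functor.map_comp]

/-- the comparison `W ≅ Q(Hom_A(A, J))` -/
noncomputable def betaIso : Wh J ≅ Q.obj (Bidual.Ec J (ModuleCat.of A A)) :=
  have := Bidual.isIso_ev_one J
  qc A J ≪≫ (asIso (Q.map (Bidual.ev J (ModuleCat.of A A) (1 : A)))).symm

/-- the triangle `R(W)|_A --counit--> W --> Q(Hom_A(X₁, J))` attached to a short exact sequence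
`0 → X₁ → A → A/I → 0` -/
theorem exists_triangle (X₁ : ModuleCat.{u} A) (i : X₁ ⟶ ModuleCat.of A A)
    (zero : i ≫ (ModuleCat.ofHom (Algebra.linearMap A (A ⧸ I)) :
      ModuleCat.of A A ⟶ ModuleCat.of A (A ⧸ I)) = 0)
    (hS : (ShortComplex.mk i (ModuleCat.ofHom (Algebra.linearMap A (A ⧸ I)) :
      ModuleCat.of A A ⟶ ModuleCat.of A (A ⧸ I)) zero).ShortExact)
    (hinj : ∀ p : ℤ, Module.Injective A (J.X p)) :
    ∃ (w : Q.obj (Bidual.Ec J X₁) ⟶
        ((DRing.restrictD (algebraMap A (A ⧸ I))).obj (Zh (B := A ⧸ I) J))⟦(1 : ℤ)⟧),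
      Triangle.mk ((adj' (A := A) (B := A ⧸ I)).counit.app (Wh J))
        ((betaIso J).hom ≫ Q.map (Bidual.EcMap J i)) w ∈ distTriang (Dual.D A) := by
  let S := ShortComplex.mk i (ModuleCat.ofHom (Algebra.linearMap A (A ⧸ I)) :
      ModuleCat.of A A ⟶ ModuleCat.of A (A ⧸ I)) zero
  let m₁ : Q.obj (Bidual.Ec J (ModuleCat.of A (A ⧸ I))) ⟶
      Q.obj (Bidual.Ec J (ModuleCat.of A A)) := Q.map (Bidual.EcMap J S.g)
  let m₂ : Q.obj (Bidual.Ec J (ModuleCat.of A A)) ⟶ Q.obj (Bidual.Ec J X₁) :=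
    Q.map (Bidual.EcMap J S.f)
  let m₃ : Q.obj (Bidual.Ec J X₁) ⟶
      (Q.obj (Bidual.Ec J (ModuleCat.of A (A ⧸ I))))⟦(1 : ℤ)⟧ := Bidual.δ J S hS hinj
  have hT : Triangle.mk m₁ m₂ m₃ ∈ distTriang (Dual.D A) := Bidual.tri_dist J S hS hinj
  have := Bidual.isIso_ev_one J
  let α := restrZhIso (B := A ⧸ I) J
  let β := betaIso J
  refine ⟨m₃ ≫ (α.inv)⟦(1 : ℤ)⟧', ?_⟩
  refine isomorphic_distinguished _ hT _ (Triangle.isoMk _ _ α β (Iso.refl _) ?_ ?_ ?_)
  · change (adj' (A := A) (B := A ⧸ I)).counit.app (Wh J) ≫ β.hom = α.hom ≫ m₁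
    have h1 : m₁ ≫ Q.map (Bidual.ev J (ModuleCat.of A A) (1 : A)) =
        Q.map (Bidual.ev J (ModuleCat.of A (A ⧸ I)) (1 : A ⧸ I)) := by
      change Q.map (Bidual.EcMap J S.g) ≫ Q.map (Bidual.ev J (ModuleCat.of A A) (1 : A)) = _
      rw [← Functor.map_comp, Bidual.EcMap_ev]
      congr 2
    rw [← cancel_mono (Q.map (Bidual.ev J (ModuleCat.of A A) (1 : A))), Category.assoc,
      Category.assoc, h1, ← counit_eq]
    simp [β, betaIso]
  · change ((betaIso J).hom ≫ Q.map (Bidual.EcMap J i)) ≫ 𝟙 _ = β.hom ≫ m₂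
    rw [Category.comp_id]
  · change (m₃ ≫ (α.inv)⟦(1 : ℤ)⟧') ≫ (α.hom)⟦(1 : ℤ)⟧' = 𝟙 _ ≫ m₃
    rw [Category.assoc, ← Functor.map_comp, Iso.inv_hom_id, CategoryTheory.Functor.map_id,
      Category.comp_id, Category.id_comp]

end Groth.Agent.H28.CounitTri
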