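import Mathlib
import Groth.Agent.H2.MatlisEnd

/-!
# A finite length ideal whose quotient has positive depth (helper28)
-/

set_option autoImplicit false
universe u
open IsLocalRing

namespace Groth.Agent.H28.FinLenIdeal

variable {A : Type u} [CommRing A] [IsLocalRing A] [IsNoetherianRing A]

lemma isArtinian_residue : IsArtinian A (A ⧸ maximalIdeal A) := by
  have h := Groth.Agent.H2.MatlisEnd.isFiniteLength_quotient_pow (R := A) 1
  rw [pow_one] at h
  exact (isFiniteLength_iff_isNoetherian_isArtinian.1 h).2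

/-- adding to a finite length ideal an element of its socle keeps finite length -/
lemma isFiniteLength_sup_span (I : Ideal A) (hI : IsFiniteLength A I) (x : A)
    (hx : ∀ a ∈ maximalIdeal A, a * x ∈ I) : IsFiniteLength A ↥(I ⊔ Ideal.span {x}) := by
  rw [isFiniteLength_iff_isNoetherian_isArtinian]
  refine ⟨inferInstance, ?_⟩
  have hIart : IsArtinian A ↥I := (isFiniteLength_iff_isNoetherian_isArtinian.1 hI).2
  let J : Ideal A := I ⊔ Ideal.span {x}
  let f : ↥I →ₗ[A] ↥J := Submodule.inclusion le_sup_left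
  let xb : A ⧸ I := Ideal.Quotient.mk I x
  have hker : maximalIdeal A ≤ LinearMap.ker (LinearMap.toSpanSingleton A (A ⧸ I) xb) := by
    intro a ha
    rw [LinearMap.mem_ker, LinearMap.toSpanSingleton_apply]
    change a • Ideal.Quotient.mk I x = 0
    rw [Algebra.smul_def]
    change Ideal.Quotient.mk I a * Ideal.Quotient.mk I x = 0
    rw [← map_mul]
    exact Ideal.Quotient.eq_zero_iff_mem.2 (hx a ha)
  let φ : (A ⧸ maximalIdeal A) →ₗ[A] (A ⧸ I) :=
    Submodule.liftQ (maximalIdeal A) (LinearMap.toSpanSingleton A (A ⧸ I) xb) hker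
  have := isArtinian_residue (A := A)
  have hP : IsArtinian A (LinearMap.range φ) := inferInstance
  have hJle : ∀ j : ↥J, (Submodule.mkQ I) (j : A) ∈ LinearMap.range φ := by
    rintro ⟨j, hj⟩
    obtain ⟨i, hi, y, hy, rfl⟩ := Submodule.mem_sup.1 hj
    obtain ⟨a, rfl⟩ := Ideal.mem_span_singleton'.1 hy
    refine ⟨Submodule.Quotient.mk a, ?_⟩
    change (LinearMap.toSpanSingleton A (A ⧸ I) xb) a = Submodule.mkQ I (i + a * x)
    rw [LinearMap.toSpanSingleton_apply, map_add]
    have h0 : Submodule.mkQ I i = 0 := (Submodule.Quotient.mk_eq_zero I).2 hi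
    rw [h0, zero_add]
    change a • Ideal.Quotient.mk I x = Ideal.Quotient.mk I (a * x)
    rw [Algebra.smul_def, map_mul]
    rfl
  let g : ↥J →ₗ[A] LinearMap.range φ :=
    ((Submodule.mkQ I).comp J.subtype).codRestrict (LinearMap.range φ) hJle
  refine isArtinian_of_range_eq_ker f g ?_
  ext ⟨j, hj⟩
  constructor
  · rintro ⟨⟨i, hi⟩, h⟩
    have hij : i = j := congrArg Subtype.val h
    rw [LinearMap.mem_ker]
    apply Subtype.ext
    change Submodule.mkQ I j = 0
    rw [← hij]
    exact (Submodule.Quotient.mk_eq_zero I).2 hi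
  · intro h
    rw [LinearMap.mem_ker] at h
    have h1 : Submodule.mkQ I j = 0 := congrArg Subtype.val h
    have hjI : j ∈ I := (Submodule.Quotient.mk_eq_zero I).1 h1
    exact ⟨⟨j, hjI⟩, rfl⟩

/-- in a Noetherian local ring of positive dimension there is a finite length ideal `I ≤ 𝔪`
such that some element of `𝔪` is regular on `A ⧸ I` -/
theorem exists_ideal (hdim : ¬ ringKrullDim A ≤ 0) :
    ∃ I : Ideal A, I ≤ maximalIdeal A ∧ IsFiniteLength A I ∧
      ∃ r ∈ maximalIdeal A, IsSMulRegular (A ⧸ I) r := by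
  let F : Set (Ideal A) := {I | IsFiniteLength A I}
  have hne : F.Nonempty := ⟨⊥, IsFiniteLength.of_subsingleton⟩
  have hwf : WellFounded ((· > ·) : Ideal A → Ideal A → Prop) :=
    (isNoetherian_iff'.1 (inferInstance : IsNoetherian A A)).wf
  obtain ⟨I, hIF, hmax⟩ := hwf.has_min F hne
  have hIfl : IsFiniteLength A I := hIF
  have hItop : I ≠ ⊤ := by
    rintro rfl
    apply hdim
    have h1 : IsFiniteLength A A := hIfl.of_surjective (f := (Submodule.topEquiv : _ ≃ₗ[A] A).toLinearMap)
      (Submodule.topEquiv : _ ≃ₗ[A] A).surjective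
    have h2 : IsArtinianRing A := (isArtinianRing_iff_isFiniteLength A).2 h1
    have h3 : Ring.KrullDimLE 0 A := inferInstance
    exact (Ring.krullDimLE_iff).1 h3
  have hIm : I ≤ maximalIdeal A := IsLocalRing.le_maximalIdeal hItop
  have claim : ∀ x : A, (∀ a ∈ maximalIdeal A, a * x ∈ I) → x ∈ I := by
    intro x hx
    have hJ : (I ⊔ Ideal.span {x}) ∈ F := isFiniteLength_sup_span I hIfl x hx
    have h1 : ¬ (I ⊔ Ideal.span {x} > I) := hmax _ hJ
    have h2 : I ⊔ Ideal.span {x} = I := by
      by_contra hne'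
      exact h1 (lt_of_le_of_ne le_sup_left (Ne.symm hne'))
    rw [← h2]
    exact Ideal.mem_sup_right (Ideal.mem_span_singleton_self x)
  refine ⟨I, hIm, hIfl, ?_⟩
  have hsub : Subsingleton ((A ⧸ maximalIdeal A) →ₗ[A] (A ⧸ I)) := by
    refine ⟨fun φ ψ => ?_⟩
    have hz : ∀ χ : (A ⧸ maximalIdeal A) →ₗ[A] (A ⧸ I), χ = 0 := by
      intro χ
      obtain ⟨x, hx⟩ := Ideal.Quotient.mk_surjective (χ (1 : A ⧸ maximalIdeal A))
      have hxI : x ∈ I := by
        apply claim
        intro a ha
        rw [← Ideal.Quotient.eq_zero_iff_mem, map_mul, hx]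
        have h1 : a • (1 : A ⧸ maximalIdeal A) = 0 := by
          rw [Algebra.smul_def, mul_one]
          exact Ideal.Quotient.eq_zero_iff_mem.2 ha
        have h2 : χ (a • (1 : A ⧸ maximalIdeal A)) = a • χ 1 := map_smul χ a 1
        rw [h1, map_zero, Algebra.smul_def] at h2
        exact h2.symm
      have h1 : χ (1 : A ⧸ maximalIdeal A) = 0 := by
        rw [← hx]
        exact Ideal.Quotient.eq_zero_iff_mem.2 hxI
      ext
      simpa using h1
    rw [hz φ, hz ψ]
  obtain ⟨r, hr, hreg⟩ := (IsSMulRegular.subsingleton_linearMap_iff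
    (R := A) (M := A ⧸ I) (N := A ⧸ maximalIdeal A)).1 hsub
  refine ⟨r, ?_, hreg⟩
  rwa [Ideal.annihilator_quotient] at hr

end Groth.Agent.H28.FinLenIdeal
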