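import Mathlib
import Groth.Agent.H28.CounitTri
import Groth.Agent.H2.MatlisLength
import Groth.Agent.H28.FinLenIdeal
import Groth.Agent.H28.DualShift

/-!
# Uniqueness of dualizing complexes over a local ring (helper28; S1747)
-/

set_option autoImplicit false
universe u
open CategoryTheory Pretriangulated Limits DerivedCategory Opposite IsLocalRing

namespace Groth.Agent.H28.DualUnique

attribute [local instance] HasDerivedCategory.standard

open CoextModel

section Formal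

variable {A : Type u} [CommRing A] [IsLocalRing A] (I : Ideal A)

/-- abbreviations: restriction along `A → A/I` and its right adjoint -/
noncomputable abbrev Lq : Dual.D (A ⧸ I) ⥤ Dual.D A := DRing.restrictD (algebraMap A (A ⧸ I))
noncomputable abbrev Rq : Dual.D A ⥤ Dual.D (A ⧸ I) := RRc (A := A) (B := A ⧸ I)
noncomputable abbrev adjq : Lq I ⊣ Rq I := adj' (A := A) (B := A ⧸ I)

/-- the lifting property -/
def Lifts (ω ω' : Dual.D A) : Prop :=
  ∀ g : (Lq I).obj ((Rq I).obj ω) ⟶ ω', ∃ h : ω ⟶ ω', g = (adjq I).counit.app ω ≫ h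

omit [IsLocalRing A] in
lemma isIso_smul_id_of_isUnit {X : Dual.D A} (a : A) (ha : IsUnit a) : IsIso (a • 𝟙 X) := by
  obtain ⟨u, rfl⟩ := ha
  refine ⟨⟨(↑u⁻¹ : A) • 𝟙 X, ?_, ?_⟩⟩
  · rw [Linear.smul_comp, Linear.comp_smul, Category.id_comp, ← mul_smul, Units.mul_inv, one_smul]
  · rw [Linear.smul_comp, Linear.comp_smul, Category.id_comp, ← mul_smul, Units.inv_mul, one_smul]

/-- key step: an endomorphism `a • 𝟙` of `ω` fixing the counit is an isomorphism -/
lemma isUnit_of_counit_comp (hI : I ≤ maximalIdeal A) (ω : Dual.D A)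
    (hinj : Function.Injective (fun b : A ⧸ I => b • 𝟙 ((Rq I).obj ω)))
    (a : A) (h : (adjq I).counit.app ω ≫ (a • 𝟙 ω) = (adjq I).counit.app ω) : IsUnit a := by
  by_contra hna
  have ha : a ∈ maximalIdeal A := hna
  have hu : IsUnit (1 - a) := by
    by_contra h1
    have h2 : (1 - a) ∈ maximalIdeal A := h1
    have h3 : (1 : A) ∈ maximalIdeal A := by
      have := (maximalIdeal A).add_mem h2 ha
      simpa using this
    exact (maximalIdeal.isMaximal A).ne_top ((maximalIdeal A).eq_top_iff_one.2 h3)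
  have h0 : (1 - a) • (adjq I).counit.app ω = 0 := by
    rw [sub_smul, one_smul, sub_eq_zero]
    rw [Linear.comp_smul] at h
    erw [Category.comp_id] at h
    exact h.symm
  have hc : (adjq I).counit.app ω = 0 := by
    obtain ⟨u, hu'⟩ := hu
    have : (↑u⁻¹ : A) • ((1 - a) • (adjq I).counit.app ω) = 0 := by rw [h0, smul_zero]
    rwa [← mul_smul, ← hu', Units.inv_mul, one_smul] at this
  have hid : 𝟙 ((Rq I).obj ω) = 0 := by
    have h1 : ((adjq I).homEquiv _ _).symm (𝟙 ((Rq I).obj ω)) = ((adjq I).homEquiv _ _).symm 0 := by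
      rw [Adjunction.homEquiv_counit, Adjunction.homEquiv_counit, CategoryTheory.Functor.map_id,
        Category.id_comp, Functor.map_zero, zero_comp, hc]
    exact ((adjq I).homEquiv _ _).symm.injective h1
  have h10 : (1 : A ⧸ I) = 0 := by
    apply hinj
    change (1 : A ⧸ I) • 𝟙 ((Rq I).obj ω) = (0 : A ⧸ I) • 𝟙 ((Rq I).obj ω)
    rw [one_smul, zero_smul, hid]
  have hI1 : (1 : A) ∈ I := Ideal.Quotient.eq_zero_iff_mem.1 h10
  exact (maximalIdeal.isMaximal A).ne_top ((maximalIdeal A).eq_top_iff_one.2 (hI hI1))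

/-- the formal uniqueness lemma -/
theorem nonempty_iso_of_lifts (hI : I ≤ maximalIdeal A) (ω ω' : Dual.D A)
    (hend : Function.Surjective (fun a : A => a • 𝟙 ω))
    (hend' : Function.Surjective (fun a : A => a • 𝟙 ω'))
    (hinj : Function.Injective (fun b : A ⧸ I => b • 𝟙 ((Rq I).obj ω)))
    (hinj' : Function.Injective (fun b : A ⧸ I => b • 𝟙 ((Rq I).obj ω')))
    (θ : (Rq I).obj ω ≅ (Rq I).obj ω') (hl : Lifts I ω ω') (hl' : Lifts I ω' ω) :
    Nonempty (ω ≅ ω') := by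
  obtain ⟨φ, hφ⟩ := hl ((Lq I).map θ.hom ≫ (adjq I).counit.app ω')
  obtain ⟨ψ, hψ⟩ := hl' ((Lq I).map θ.inv ≫ (adjq I).counit.app ω)
  have h1 : (adjq I).counit.app ω ≫ (φ ≫ ψ) = (adjq I).counit.app ω := by
    rw [← Category.assoc, ← hφ, Category.assoc, ← hψ, ← Functor.map_comp_assoc, Iso.hom_inv_id,
      CategoryTheory.Functor.map_id, Category.id_comp]
  have h2 : (adjq I).counit.app ω' ≫ (ψ ≫ φ) = (adjq I).counit.app ω' := by
    rw [← Category.assoc, ← hψ, Category.assoc, ← hφ, ← Functor.map_comp_assoc, Iso.inv_hom_id,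
      CategoryTheory.Functor.map_id, Category.id_comp]
  obtain ⟨a, ha⟩ := hend (φ ≫ ψ)
  obtain ⟨a', ha'⟩ := hend' (ψ ≫ φ)
  have ha1 : a • 𝟙 ω = φ ≫ ψ := ha
  have ha1' : a' • 𝟙 ω' = ψ ≫ φ := ha'
  have hu : IsUnit a := isUnit_of_counit_comp I hI ω hinj a (by rw [ha1, h1])
  have hu' : IsUnit a' := isUnit_of_counit_comp I hI ω' hinj' a' (by rw [ha1', h2])
  have i1 : IsIso (φ ≫ ψ) := ha1 ▸ isIso_smul_id_of_isUnit a hu
  have i2 : IsIso (ψ ≫ φ) := ha1' ▸ isIso_smul_id_of_isUnit a' hu'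
  -- φ has a right inverse and a left inverse
  let r : ω' ⟶ ω := ψ ≫ inv (φ ≫ ψ)
  let l : ω' ⟶ ω := inv (ψ ≫ φ) ≫ ψ
  have hr : φ ≫ r = 𝟙 ω := by
    change φ ≫ ψ ≫ inv (φ ≫ ψ) = 𝟙 ω
    rw [← Category.assoc, IsIso.hom_inv_id]
  have hlφ : l ≫ φ = 𝟙 ω' := by
    change (inv (ψ ≫ φ) ≫ ψ) ≫ φ = 𝟙 ω'
    rw [Category.assoc, IsIso.inv_hom_id]
  have hlr : l = r := by
    have e1 : l ≫ (φ ≫ r) = (l ≫ φ) ≫ r := (Category.assoc l φ r).symm
    rw [hr, hlφ, Category.comp_id, Category.id_comp] at e1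
    exact e1
  have hrφ : r ≫ φ = 𝟙 ω' := by rw [← hlr]; exact hlφ
  exact ⟨⟨φ, r, hr, hrφ⟩⟩

/-- transport of the lifting property along an isomorphism -/
lemma lifts_of_iso {ω W ω' : Dual.D A} (e : ω ≅ W) (h : Lifts I W ω') : Lifts I ω ω' := by
  intro g
  obtain ⟨h', hh'⟩ := h ((Lq I).map ((Rq I).map e.inv) ≫ g)
  refine ⟨e.hom ≫ h', ?_⟩
  have nat := (adjq I).counit.naturality e.hom
  simp only [Functor.comp_map, Functor.id_map] at nat
  rw [← Category.assoc, ← nat, Category.assoc, ← hh', ← Functor.map_comp_assoc,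
    ← Functor.map_comp, Iso.hom_inv_id, CategoryTheory.Functor.map_id,
    CategoryTheory.Functor.map_id, Category.id_comp]

end Formal

section Steps

variable {A : Type u} [CommRing A] [IsLocalRing A] [IsNoetherianRing A]

/-- `Q(Hom_A(I, J)) ≅ Hom_A(I, E)[0]` for a finite length ideal `I` and an injective model `J` of a
normalized dualizing complex -/
lemma exists_iso_third (ω : Dual.D A) (hω : Dual.IsDualizing A ω) (hn : Dual.IsNormalized A ω)
    (I : Ideal A) (hIl : IsFiniteLength A I)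
    (E : Type u) [AddCommGroup E] [Module A E] (e : ResidueField A →ₗ[A] E)
    (he : InjHull.IsInjectiveHull e) (J : DRing.Cx A) [J.IsKInjective] (ε : Q.obj J ≅ ω) :
    Nonempty (Q.obj (Bidual.Ec J (ModuleCat.of A I)) ≅ Dual.inD A (I →ₗ[A] E)) := by
  let eS : Q.obj ((CochainComplex.singleFunctor (ModuleCat.{u} A) 0).obj (ModuleCat.of A I)) ≅
      Dual.inD A I :=
    ((DerivedCategory.singleFunctorIsoCompQ (ModuleCat.{u} A) 0).app (ModuleCat.of A I)).symm
  have hvan : ∀ j : ℤ, j ≠ 0 → Subsingleton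
      (Q.obj ((CochainComplex.singleFunctor (ModuleCat.{u} A) 0).obj (ModuleCat.of A I)) ⟶
        (Q.obj J)⟦j⟧) := by
    intro j hj
    have h1 : Subsingleton (Dual.inD A I ⟶ ω⟦j⟧) :=
      Groth.Agent.H2.DualCx.subsingleton_of_isFiniteLength
        (Groth.Agent.H2.DualCx.norm_of_isDualizing hω hn) j hj I hIl
    exact CoextModel.subsingleton_hom_of_iso eS.symm
      ((shiftFunctor (Dual.D A) j).mapIso ε.symm) h1
  obtain ⟨e1⟩ := DualFinLen.nonempty_linearEquiv_of_isFiniteLength ω hω hn E e he I hIl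
  let e0 : (Q.obj ((CochainComplex.singleFunctor (ModuleCat.{u} A) 0).obj (ModuleCat.of A I)) ⟶
      (Q.obj J)⟦(0 : ℤ)⟧) ≃ₗ[A] (I →ₗ[A] E) :=
    (Linear.homCongr A eS ((shiftFunctorZero (Dual.D A) ℤ).app (Q.obj J) ≪≫ ε)).trans e1
  exact EcHom.exists_iso_inD J (ModuleCat.of A I) (I →ₗ[A] E) hvan e0

/-- lifting through the counit for a finite length ideal -/
theorem lifts_of_isFiniteLength (I : Ideal A) (hIl : IsFiniteLength A I) (ω ω' : Dual.D A)
    (hω : Dual.IsDualizing A ω) (hn : Dual.IsNormalized A ω)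
    (hω' : Dual.IsDualizing A ω') (hn' : Dual.IsNormalized A ω') : Lifts I ω ω' := by
  obtain ⟨J, a, b, hJ, hinj, hKI, ⟨ε⟩⟩ := DualQuot.exists_injective_model ω hω
  refine lifts_of_iso I (ε.symm ≪≫ (qc A J).symm) ?_
  intro g
  obtain ⟨w, hT⟩ := CounitTri.exists_triangle I J (ModuleCat.of A I) (DualIdeal.idealSC I).f
    (DualIdeal.idealSC I).zero (DualIdeal.idealSC_shortExact I) hinj
  obtain ⟨E, _, _, fE, hfE⟩ := Groth.Agent.H2.exists_isInjectiveHull (R := A) (ResidueField A)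
  obtain ⟨γ⟩ := exists_iso_third ω hω hn I hIl E fE hfE J ε
  have hH : IsFiniteLength A (I →ₗ[A] E) := by
    rw [← Module.length_ne_top_iff, Groth.Agent.H2.MatlisLength.length_dual_eq fE hfE hIl,
      Module.length_ne_top_iff]
    exact hIl
  have h1 : Subsingleton (Dual.inD A (I →ₗ[A] E) ⟶ ω'⟦(1 : ℤ)⟧) :=
    Groth.Agent.H2.DualCx.subsingleton_of_isFiniteLength
      (Groth.Agent.H2.DualCx.norm_of_isDualizing hω' hn') 1 (by decide) (I →ₗ[A] E) hH
  have h2 : Subsingleton ((Dual.inD A (I →ₗ[A] E))⟦(-1 : ℤ)⟧ ⟶ ω') :=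
    DualFinite.subsingleton_shift_left (-1) 1 (by norm_num) h1
  have h₃ : Subsingleton ((Q.obj (Bidual.Ec J (ModuleCat.of A I)))⟦(-1 : ℤ)⟧ ⟶ ω') :=
    CoextModel.subsingleton_hom_of_iso ((shiftFunctor (Dual.D A) (-1 : ℤ)).mapIso γ.symm)
      (Iso.refl _) h2
  exact Bidual.exists_fac_obj₁ ω' _ hT h₃ g

/-- lifting through the counit for a principal ideal generated by a nonzerodivisor, given that
the two restrictions agree -/
theorem lifts_of_nonZeroDivisor (f : A) (hfm : f ∈ maximalIdeal A) (hf : f ∈ nonZeroDivisors A)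
    (ω ω' : Dual.D A) (hω : Dual.IsDualizing A ω) (hω' : Dual.IsDualizing A ω')
    (θ : (Rq (Ideal.span {f})).obj ω ≅ (Rq (Ideal.span {f})).obj ω') :
    Lifts (Ideal.span {f}) ω ω' := by
  obtain ⟨J, a, b, hJ, hinj, hKI, ⟨ε⟩⟩ := DualQuot.exists_injective_model ω hω
  let e : ω ≅ Wh J := ε.symm ≪≫ (qc A J).symm
  refine lifts_of_iso _ e ?_
  intro g
  obtain ⟨w, hT⟩ := CounitTri.exists_triangle (Ideal.span {f}) J (ModuleCat.of A A)
    (ModuleCat.ofHom (LinearMap.lsmul A A f) : ModuleCat.of A A ⟶ ModuleCat.of A A)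
    (DualQuot.quotSC f).zero (DualQuot.quotSC_shortExact f hf) hinj
  let β := CounitTri.betaIso J
  have hv : (β.hom ≫ Q.map (Bidual.EcMap J (ModuleCat.ofHom (LinearMap.lsmul A A f) :
      ModuleCat.of A A ⟶ ModuleCat.of A A))) = f • β.hom := by
    have h1 : Q.map (Bidual.EcMap J (ModuleCat.ofHom (LinearMap.lsmul A A f) :
        ModuleCat.of A A ⟶ ModuleCat.of A A)) = f • 𝟙 _ := by
      rw [DualQuot.EcMap_lsmul, Functor.map_smul, CategoryTheory.Functor.map_id]
    rw [h1, Linear.comp_smul, Category.comp_id]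
  -- the restriction of `R ω` has no maps of degree one to `ω'`
  have hRω := DualFinite.isDualizing_rightAdjoint (Rq (Ideal.span {f})) (adjq (Ideal.span {f})) ω hω
  have hX : Subsingleton (((Lq (Ideal.span {f})).obj (Zh (B := A ⧸ Ideal.span {f}) J))⟦(-1 : ℤ)⟧ ⟶ ω') := by
    have h1 : Subsingleton (((Rq (Ideal.span {f})).obj ω)⟦(-1 : ℤ)⟧ ⟶ (Rq (Ideal.span {f})).obj ω) :=
      DualFinite.subsingleton_shift_left (-1) 1 (by norm_num)
        (hRω.ext_self_subsingleton 1 (by decide))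
    have h2 : Subsingleton ((Zh (B := A ⧸ Ideal.span {f}) J)⟦(-1 : ℤ)⟧ ⟶
        (Rq (Ideal.span {f})).obj ω') :=
      CoextModel.subsingleton_hom_of_iso
        ((shiftFunctor (Dual.D (A ⧸ Ideal.span {f})) (-1 : ℤ)).mapIso
          ((Rq (Ideal.span {f})).mapIso e)) θ h1
    have h3 : Subsingleton ((Lq (Ideal.span {f})).obj ((Zh (B := A ⧸ Ideal.span {f}) J)⟦(-1 : ℤ)⟧) ⟶ ω') :=
      ((adjq (Ideal.span {f})).homEquiv _ _).subsingleton
    exact CoextModel.subsingleton_hom_of_iso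
      (((Lq (Ideal.span {f})).commShiftIso (-1 : ℤ)).app _) (Iso.refl _) h3
  -- Nakayama
  have hfin : Module.Finite A ((Wh J)⟦(-1 : ℤ)⟧ ⟶ ω') := by
    obtain ⟨a', b', hab'⟩ := hω'.finite_injective_dimension
    have hamp : DRing.HasInjAmplitudeIn A a' b' ω' :=
      Groth.Agent.H35.hasInjAmplitudeIn_of_ext_vanishing ω' a' b' (fun K i hi => hab' (A ⧸ K) i hi)
    have hfW : ∀ q : ℤ, Module.Finite A (Dual.HD A (Wh J) q) := by
      intro q
      have := hω.finite_cohomology q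
      exact Module.Finite.equiv
        ((DerivedCategory.homologyFunctor (ModuleCat.{u} A) q).mapIso e).toLinearEquiv
    exact ExtFinite.finite_hom_shift_left (-1) 1 (by norm_num)
      (ExtFinite.finite_hom_of_injAmp (Wh J) ω' hfW hω'.finite_cohomology a' b' hamp 1)
  have hdiv : ∀ x : (Wh J)⟦(-1 : ℤ)⟧ ⟶ ω', ∃ y : (Wh J)⟦(-1 : ℤ)⟧ ⟶ ω', x = f • y := by
    intro x
    have hT' := Triangle.shift_distinguished _ hT (-1)
    obtain ⟨y, hy⟩ := Triangle.yoneda_exact₂ _ hT' x (hX.elim _ _)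
    let y' : (Q.obj (Bidual.Ec J (ModuleCat.of A A)))⟦(-1 : ℤ)⟧ ⟶ ω' := y
    have hy' : x = (((-1 : ℤ).negOnePow : ℤˣ) • (shiftFunctor (Dual.D A) (-1 : ℤ)).map
      (β.hom ≫ Q.map (Bidual.EcMap J (ModuleCat.ofHom (LinearMap.lsmul A A f) :
        ModuleCat.of A A ⟶ ModuleCat.of A A)))) ≫ y' := hy
    refine ⟨-((β.hom)⟦(-1 : ℤ)⟧' ≫ y'), ?_⟩
    rw [hy', hv, Functor.map_smul]
    have hneg : ∀ t : (Wh J)⟦(-1 : ℤ)⟧ ⟶ (Q.obj (Bidual.Ec J (ModuleCat.of A A)))⟦(-1 : ℤ)⟧,
        ((-1 : ℤ).negOnePow : ℤˣ) • t = -t := by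
      intro t
      simp
    rw [hneg, Preadditive.neg_comp, Linear.smul_comp, smul_neg]
  have hzero : ∀ x : (Wh J)⟦(-1 : ℤ)⟧ ⟶ ω', x = 0 := by
    have htop : (⊤ : Submodule A ((Wh J)⟦(-1 : ℤ)⟧ ⟶ ω')) = ⊥ := by
      refine Submodule.eq_bot_of_le_smul_of_le_jacobson_bot (Ideal.span {f}) ⊤
        (Module.Finite.fg_top) ?_ ?_
      · intro x _
        obtain ⟨y, rfl⟩ := hdiv x
        exact Submodule.smul_mem_smul (Ideal.mem_span_singleton_self f) Submodule.mem_top
      · rw [Ideal.span_le, Set.singleton_subset_iff]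
        exact IsLocalRing.maximalIdeal_le_jacobson _ hfm
    intro x
    have : x ∈ (⊤ : Submodule A ((Wh J)⟦(-1 : ℤ)⟧ ⟶ ω')) := Submodule.mem_top
    rw [htop] at this
    exact (Submodule.mem_bot A).1 this
  have h₃ : Subsingleton ((Q.obj (Bidual.Ec J (ModuleCat.of A A)))⟦(-1 : ℤ)⟧ ⟶ ω') := by
    have h1 : Subsingleton ((Wh J)⟦(-1 : ℤ)⟧ ⟶ ω') := ⟨fun x y => by rw [hzero x, hzero y]⟩
    exact CoextModel.subsingleton_hom_of_iso ((shiftFunctor (Dual.D A) (-1 : ℤ)).mapIso β)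
      (Iso.refl _) h1
  exact Bidual.exists_fac_obj₁ ω' _ hT h₃ g

end Steps

section Induction

/-- uniqueness of normalized dualizing complexes in dimension `≤ n` -/
def U (n : ℕ) : Prop :=
  ∀ (A : Type u) [CommRing A] [IsLocalRing A] [IsNoetherianRing A],
    ringKrullDim A ≤ n → ∀ ω ω' : Dual.D A, Dual.IsDualizing A ω → Dual.IsNormalized A ω →
      Dual.IsDualizing A ω' → Dual.IsNormalized A ω' → Nonempty (ω ≅ ω')

lemma le_of_add_one_le (x : WithBot ℕ∞) (m : ℕ) (h : x + 1 ≤ ((m : ℕ) : WithBot ℕ∞) + 1) :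
    x ≤ ((m : ℕ) : WithBot ℕ∞) := by
  induction x using WithBot.recBotCoe with
  | bot => exact bot_le
  | coe x =>
    have h' : (x + 1 : ℕ∞) ≤ ((m : ℕ∞) + 1 : ℕ∞) := by exact_mod_cast h
    have h2 : x ≤ (m : ℕ∞) := (ENat.add_le_add_iff_right (ENat.one_ne_top)).1 h'
    exact_mod_cast h2

variable {A : Type u} [CommRing A] [IsLocalRing A] [IsNoetherianRing A]

lemma nontrivial_quot (I : Ideal A) (hI : I ≤ maximalIdeal A) : Nontrivial (A ⧸ I) := by
  apply Ideal.Quotient.nontrivial_iff.2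
  rintro rfl
  exact (IsLocalRing.maximalIdeal.isMaximal A).ne_top (top_le_iff.1 hI)

lemma isLocalRing_quot (I : Ideal A) (hI : I ≤ maximalIdeal A) : IsLocalRing (A ⧸ I) := by
  have := nontrivial_quot I hI
  exact IsLocalRing.of_surjective' (Ideal.Quotient.mk _) Ideal.Quotient.mk_surjective

lemma isLocalHom_quot (I : Ideal A) (hI : I ≤ maximalIdeal A) :
    IsLocalHom (algebraMap A (A ⧸ I)) := by
  have := nontrivial_quot I hI
  exact IsLocalHom.of_surjective (Ideal.Quotient.mk _) Ideal.Quotient.mk_surjective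

/-- the base case -/
theorem base (h0 : ringKrullDim A ≤ 0) (ω ω' : Dual.D A) (hω : Dual.IsDualizing A ω)
    (hn : Dual.IsNormalized A ω) (hω' : Dual.IsDualizing A ω') (hn' : Dual.IsNormalized A ω') :
    Nonempty (ω ≅ ω') := by
  have h0' : ringKrullDim A = 0 := le_antisymm h0 ringKrullDim_nonneg_of_nontrivial
  obtain ⟨E, _, _, fE, hfE⟩ := Groth.Agent.H2.exists_isInjectiveHull (R := A) (ResidueField A)
  obtain ⟨e⟩ := Groth.Agent.H2.DualCx.iso_injectiveHull_of_dim_zero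
    (Groth.Agent.H2.DualCx.norm_of_isDualizing hω hn) h0' hω.toEnd_bijective E fE hfE
  obtain ⟨e'⟩ := Groth.Agent.H2.DualCx.iso_injectiveHull_of_dim_zero
    (Groth.Agent.H2.DualCx.norm_of_isDualizing hω' hn') h0' hω'.toEnd_bijective E fE hfE
  exact ⟨e ≪≫ e'.symm⟩

/-- descent of the isomorphism along a quotient, given the lifting properties -/
theorem of_quot (I : Ideal A) (hI : I ≤ maximalIdeal A) (ω ω' : Dual.D A)
    (hω : Dual.IsDualizing A ω) (hω' : Dual.IsDualizing A ω')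
    (θ : (Rq I).obj ω ≅ (Rq I).obj ω') (hl : Lifts I ω ω') (hl' : Lifts I ω' ω) :
    Nonempty (ω ≅ ω') := by
  have hR := DualFinite.isDualizing_rightAdjoint (Rq I) (adjq I) ω hω
  have hR' := DualFinite.isDualizing_rightAdjoint (Rq I) (adjq I) ω' hω'
  exact nonempty_iso_of_lifts I hI ω ω' hω.toEnd_bijective.2 hω'.toEnd_bijective.2
    hR.toEnd_bijective.1 hR'.toEnd_bijective.1 θ hl hl'

/-- the positive depth step -/
theorem step_regular (m : ℕ) (ih : U.{u} m) (hdim : ringKrullDim A ≤ (m + 1 : ℕ))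
    (f : A) (hfm : f ∈ maximalIdeal A) (hf : f ∈ nonZeroDivisors A) (ω ω' : Dual.D A)
    (hω : Dual.IsDualizing A ω) (hn : Dual.IsNormalized A ω)
    (hω' : Dual.IsDualizing A ω') (hn' : Dual.IsNormalized A ω') : Nonempty (ω ≅ ω') := by
  have hI : Ideal.span {f} ≤ maximalIdeal A := by
    rw [Ideal.span_le, Set.singleton_subset_iff]
    exact hfm
  have := nontrivial_quot _ hI
  have := isLocalRing_quot _ hI
  have := isLocalHom_quot _ hI
  have hR := DualFinite.isDualizing_rightAdjoint (Rq (Ideal.span {f})) (adjq _) ω hω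
  have hR' := DualFinite.isDualizing_rightAdjoint (Rq (Ideal.span {f})) (adjq _) ω' hω'
  have hnR := DualFinite.isNormalized_rightAdjoint (Rq (Ideal.span {f})) (adjq _) ω hn
  have hnR' := DualFinite.isNormalized_rightAdjoint (Rq (Ideal.span {f})) (adjq _) ω' hn'
  have hdimB : ringKrullDim (A ⧸ Ideal.span {f}) ≤ m := by
    have h1 := ringKrullDim_quotient_succ_le_of_nonZeroDivisor hf
    have h2 : ringKrullDim (A ⧸ Ideal.span {f}) + 1 ≤ ((m : ℕ) : WithBot ℕ∞) + 1 := by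
      refine h1.trans (hdim.trans ?_)
      push_cast
      exact le_rfl
    exact le_of_add_one_le _ m h2
  obtain ⟨θ⟩ := ih (A ⧸ Ideal.span {f}) hdimB _ _ hR hnR hR' hnR'
  exact of_quot _ hI ω ω' hω hω' θ
    (lifts_of_nonZeroDivisor f hfm hf ω ω' hω hω' θ)
    (lifts_of_nonZeroDivisor f hfm hf ω' ω hω' hω θ.symm)

/-- the inductive step -/
theorem step (m : ℕ) (ih : U.{u} m) : U.{u} (m + 1) := by
  intro A _ _ _ hdim ω ω' hω hn hω' hn'
  by_cases h0 : ringKrullDim A ≤ 0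
  · exact base h0 ω ω' hω hn hω' hn'
  · obtain ⟨I, hIm, hIfl, r, hr, hreg⟩ := FinLenIdeal.exists_ideal (A := A) h0
    have := nontrivial_quot I hIm
    have := isLocalRing_quot I hIm
    have := isLocalHom_quot I hIm
    have hR := DualFinite.isDualizing_rightAdjoint (Rq I) (adjq I) ω hω
    have hR' := DualFinite.isDualizing_rightAdjoint (Rq I) (adjq I) ω' hω'
    have hnR := DualFinite.isNormalized_rightAdjoint (Rq I) (adjq I) ω hn
    have hnR' := DualFinite.isNormalized_rightAdjoint (Rq I) (adjq I) ω' hn'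
    have hdimB : ringKrullDim (A ⧸ I) ≤ (m + 1 : ℕ) := (ringKrullDim_quotient_le I).trans hdim
    have hg : algebraMap A (A ⧸ I) r ∈ maximalIdeal (A ⧸ I) :=
      _root_.map_nonunit (algebraMap A (A ⧸ I)) r hr
    have hgnzd : algebraMap A (A ⧸ I) r ∈ nonZeroDivisors (A ⧸ I) := by
      rw [mem_nonZeroDivisors_iff_right]
      intro x hx
      apply hreg
      change r • x = r • (0 : A ⧸ I)
      rw [smul_zero, Algebra.smul_def, mul_comm]
      exact hx
    obtain ⟨θ⟩ := step_regular m ih hdimB _ hg hgnzd _ _ hR hnR hR' hnR'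
    exact of_quot I hIm ω ω' hω hω' θ
      (lifts_of_isFiniteLength I hIfl ω ω' hω hn hω' hn')
      (lifts_of_isFiniteLength I hIfl ω' ω hω' hn' hω hn)

theorem U_all : ∀ n : ℕ, U.{u} n
  | 0 => fun A _ _ _ hdim ω ω' hω hn hω' hn' =>
      base (by exact_mod_cast hdim) ω ω' hω hn hω' hn'
  | m + 1 => step m (U_all m)

/-- normalized dualizing complexes over a Noetherian local ring are isomorphic -/
theorem nonempty_iso_of_normalized (ω ω' : Dual.D A) (hω : Dual.IsDualizing A ω)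
    (hn : Dual.IsNormalized A ω) (hω' : Dual.IsDualizing A ω') (hn' : Dual.IsNormalized A ω') :
    Nonempty (ω ≅ ω') := by
  obtain ⟨d, hd⟩ := Groth.Agent.H2.DualCx.exists_ringKrullDim_eq_nat (A := A)
  exact U_all d A hd.le ω ω' hω hn hω' hn'

/-- S1747: dualizing complexes over a Noetherian local ring are unique up to shift -/
theorem exists_iso_shift (ω ω' : Dual.D A) (hω : Dual.IsDualizing A ω)
    (hω' : Dual.IsDualizing A ω') : ∃ n : ℤ, Nonempty (ω' ≅ ω⟦n⟧) := by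
  obtain ⟨n, hd, hnn⟩ := DualShift.exists_normalized_shift ω hω
  obtain ⟨n', hd', hnn'⟩ := DualShift.exists_normalized_shift ω' hω'
  obtain ⟨e⟩ := nonempty_iso_of_normalized _ _ hd' hnn' hd hnn
  -- ω'⟦n'⟧ ≅ ω⟦n⟧, hence ω' ≅ ω⟦n - n'⟧
  refine ⟨n - n', ⟨?_⟩⟩
  exact ((shiftFunctorCompIsoId (Dual.D A) n' (-n') (by omega)).app ω').symm ≪≫
    (shiftFunctor (Dual.D A) (-n')).mapIso e ≪≫
    ((shiftFunctorAdd' (Dual.D A) n (-n') (n - n') (by omega)).app ω).symm

end Induction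

end Groth.Agent.H28.DualUnique
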