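import Mathlib
import Groth.Agent.H28.DualPointwise
import Groth.Agent.H28.DualUnique
import Groth.Agent.H28.DualSelf
import Groth.Agent.H28.DualShift
import Groth.Agent.H26.FlatBCDual2
import Groth.Agent.H2.DualCx.ModuleDualizing

/-!
# Openness of the Gorenstein locus of a ring with a dualizing complex (helper28; S0373)
-/

set_option autoImplicit false
universe u
open CategoryTheory Limits Pretriangulated DerivedCategory TensorProduct

namespace Groth.Agent.H28.GorLocus

open Groth.Agent.H26.FlatBCHom Groth.Agent.H26.FlatBCDual Groth.Agent.H2.DualCx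

attribute [local instance] HasDerivedCategory.standard

section Single

variable {B : Type u} [CommRing B]

/-- a complex with cohomology `B` in the single degree `-k` is `B[k]` -/
theorem nonempty_iso_shift_of_single_degree (K : Dual.D B) (k : ℤ)
    (hvan : ∀ i : ℤ, i ≠ -k → Subsingleton (Dual.HD B K i))
    (e : Dual.HD B K (-k) ≃ₗ[B] B) : Nonempty (K ≅ (Dual.inD B B)⟦k⟧) := by
  have hGE : K.IsGE (-k) := isGE_of_vanishing K (-k) (fun i hi => hvan i (by omega))
  have hLE : K.IsLE (-k) := isLE_of_vanishing K (-k) (fun i hi => hvan i (by omega))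
  obtain ⟨Y, ⟨eY⟩⟩ := DerivedCategory.exists_iso_singleFunctor_obj_of_isGE_of_isLE K (-k)
  have eH : (DerivedCategory.homologyFunctor (ModuleCat.{u} B) (-k)).obj K ≅ Y :=
    (DerivedCategory.homologyFunctor (ModuleCat.{u} B) (-k)).mapIso eY ≪≫
      (DerivedCategory.singleFunctorCompHomologyFunctorIso (ModuleCat.{u} B) (-k)).app Y
  have eYB : Y ≅ ModuleCat.of B B := eH.symm ≪≫ e.toModuleIso
  have e1 : K ≅ ((DerivedCategory.singleFunctor (ModuleCat.{u} B) 0).obj
      (ModuleCat.of B B))⟦-(-k)⟧ :=
    eY ≪≫ (DerivedCategory.singleFunctor (ModuleCat.{u} B) (-k)).mapIso eYB ≪≫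
      (singleIso (ModuleCat.of B B) (-k)).symm
  have hk : -(-k) = k := neg_neg k
  rw [hk] at e1
  exact ⟨e1⟩

/-- the cohomology of `B[k]` -/
theorem subsingleton_HD_of_iso_shift (K : Dual.D B) (k : ℤ) (e : K ≅ (Dual.inD B B)⟦k⟧)
    (i : ℤ) (hi : i ≠ -k) : Subsingleton (Dual.HD B K i) := by
  have e1 : Dual.HD B K i ≃ₗ[B] Dual.HD B ((Dual.inD B B)⟦k⟧) i :=
    ((DerivedCategory.homologyFunctor (ModuleCat.{u} B) i).mapIso e).toLinearEquiv
  have e2 := HDShiftEquiv (Dual.inD B B) k i
  haveI : Subsingleton (Dual.HD B (Dual.inD B B) (k + i)) :=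
    subsingleton_HD_single B (k + i) (by omega)
  exact (e1.trans e2).toEquiv.subsingleton

theorem nonempty_HD_equiv_of_iso_shift (K : Dual.D B) (k : ℤ) (e : K ≅ (Dual.inD B B)⟦k⟧) :
    Nonempty (Dual.HD B K (-k) ≃ₗ[B] B) := by
  have e1 : Dual.HD B K (-k) ≃ₗ[B] Dual.HD B ((Dual.inD B B)⟦k⟧) (-k) :=
    ((DerivedCategory.homologyFunctor (ModuleCat.{u} B) (-k)).mapIso e).toLinearEquiv
  have e2 := HDShiftEquiv (Dual.inD B B) k (-k)
  have hk : k + -k = 0 := by ring
  rw [hk] at e2
  exact ⟨(e1.trans e2).trans (HDSingleEquiv B)⟩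

end Single

section Local

variable {B : Type u} [CommRing B] [IsLocalRing B] [IsNoetherianRing B]

/-- a local ring with dualizing complex `ω` is Gorenstein iff `ω ≅ B[k]` -/
theorem gorenstein_iff (ω : Dual.D B) (hω : Dual.IsDualizing B ω) :
    LocCoh.IsGorensteinLocalRing B ↔ ∃ k : ℤ, Nonempty (ω ≅ (Dual.inD B B)⟦k⟧) := by
  constructor
  · intro h
    obtain ⟨n, hn⟩ := h.exists_hasInjectiveDimensionLT
    have h1 := Groth.Agent.H28.DualSelf.isDualizing_self B n hn
    exact Groth.Agent.H28.DualUnique.exists_iso_shift (Dual.inD B B) ω h1 hω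
  · rintro ⟨k, ⟨e⟩⟩
    have h1 : Dual.IsDualizing B ((Dual.inD B B)⟦k⟧) := isDualizing_of_iso e hω
    have h2 := Groth.Agent.H28.DualShift.isDualizing_shift _ h1 (-k)
    have h3 : Dual.IsDualizing B (Dual.inD B B) :=
      isDualizing_of_iso ((shiftFunctorCompIsoId (Dual.D B) k (-k) (by omega)).app _) h2
    exact { exists_hasInjectiveDimensionLT :=
      Groth.Agent.H28.DualSelf.exists_hasInjectiveDimensionLT B h3 }

end Local

section Flat

variable {A : Type u} [CommRing A] (B : Type u) [CommRing B] [Algebra A B] [Module.Flat A B]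
  {M N : Type u} [AddCommGroup M] [Module A M] [AddCommGroup N] [Module A N] (φ : M →ₗ[A] N)

theorem lTensor_bijective_of_subsingleton
    (h1 : Subsingleton (B ⊗[A] LinearMap.ker φ))
    (h2 : Subsingleton (B ⊗[A] (N ⧸ LinearMap.range φ))) :
    Function.Bijective (φ.lTensor B) := by
  constructor
  · have hex := Module.Flat.lTensor_exact B (LinearMap.exact_subtype_ker_map φ)
    rw [injective_iff_map_eq_zero]
    intro x hx
    obtain ⟨y, rfl⟩ := (hex x).mp hx
    rw [Subsingleton.elim y 0, map_zero]
  · have hex := lTensor_exact B (LinearMap.exact_map_mkQ_range φ)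
      (Submodule.mkQ_surjective (LinearMap.range φ))
    intro y
    exact (hex y).mp (Subsingleton.elim _ _)

theorem subsingleton_of_lTensor_bijective (h : Function.Bijective (φ.lTensor B)) :
    Subsingleton (B ⊗[A] LinearMap.ker φ) ∧ Subsingleton (B ⊗[A] (N ⧸ LinearMap.range φ)) := by
  constructor
  · have hinj : Function.Injective ((LinearMap.ker φ).subtype.lTensor B) :=
      Module.Flat.lTensor_preserves_injective_linearMap _ (Submodule.injective_subtype _)
    refine ⟨fun x y => hinj (h.1 ?_)⟩
    have hz : ∀ z : B ⊗[A] LinearMap.ker φ,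
        φ.lTensor B ((LinearMap.ker φ).subtype.lTensor B z) = 0 := by
      intro z
      rw [← LinearMap.comp_apply, ← LinearMap.lTensor_comp]
      have : φ ∘ₗ (LinearMap.ker φ).subtype = 0 := by
        ext w
        exact w.2
      rw [this, LinearMap.lTensor_zero, LinearMap.zero_apply]
    rw [hz x, hz y]
  · have hsurj : Function.Surjective ((LinearMap.range φ).mkQ.lTensor B) :=
      LinearMap.lTensor_surjective B (Submodule.mkQ_surjective _)
    refine ⟨fun x y => ?_⟩
    have hz : ∀ z : B ⊗[A] (N ⧸ LinearMap.range φ), z = 0 := by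
      intro z
      obtain ⟨w, rfl⟩ := hsurj z
      obtain ⟨v, rfl⟩ := h.2 w
      rw [← LinearMap.comp_apply, ← LinearMap.lTensor_comp]
      have : (LinearMap.range φ).mkQ ∘ₗ φ = 0 := by
        ext w
        simp
      rw [this, LinearMap.lTensor_zero, LinearMap.zero_apply]
    rw [hz x, hz y]

end Flat

section Main

variable {A : Type u} [CommRing A] [IsNoetherianRing A]

open Groth.Agent.H28.DualPointwise

theorem subsingleton_tensor_of_subsingleton (B : Type u) [CommRing B] [Algebra A B]
    (M : Type u) [AddCommGroup M] [Module A M] [Subsingleton M] : Subsingleton (B ⊗[A] M) :=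
  ⟨fun x y => by
    have : ∀ z : B ⊗[A] M, z = 0 := fun z => by
      induction z using TensorProduct.induction_on with
      | zero => rfl
      | tmul b m => rw [Subsingleton.elim m 0, TensorProduct.tmul_zero]
      | add a b ha hb => rw [ha, hb, add_zero]
    rw [this x, this y]⟩

/-- pointwise criterion for the Gorenstein property in terms of the cohomology of `ω` -/
theorem gorenstein_at_iff (ω : Dual.D A) (hω : Dual.IsDualizing A ω) (p : PrimeSpectrum A) :
    LocCoh.IsGorensteinLocalRing (Localization.AtPrime p.asIdeal) ↔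
      ∃ k : ℤ, (∀ i : ℤ, i ≠ -k →
          Subsingleton (Localization.AtPrime p.asIdeal ⊗[A] Dual.HD A ω i)) ∧
        Nonempty (Localization.AtPrime p.asIdeal ⊗[A] Dual.HD A ω (-k)
          ≃ₗ[Localization.AtPrime p.asIdeal] Localization.AtPrime p.asIdeal) := by
  haveI : IsNoetherianRing (Localization.AtPrime p.asIdeal) :=
    IsLocalization.isNoetherianRing p.asIdeal.primeCompl _ inferInstance
  have hωp : Dual.IsDualizing (Localization.AtPrime p.asIdeal)
      ((LB A (Localization.AtPrime p.asIdeal)).obj ω) :=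
    isDualizing_LB_localization p.asIdeal.primeCompl ω hω
  rw [gorenstein_iff _ hωp]
  constructor
  · rintro ⟨k, ⟨e⟩⟩
    refine ⟨k, fun i hi => ?_, ?_⟩
    · haveI := subsingleton_HD_of_iso_shift _ k e i hi
      exact (HD_LB_equiv (B := Localization.AtPrime p.asIdeal) ω i).symm.toEquiv.subsingleton
    · obtain ⟨e'⟩ := nonempty_HD_equiv_of_iso_shift _ k e
      exact ⟨(HD_LB_equiv (B := Localization.AtPrime p.asIdeal) ω (-k)).symm.trans e'⟩
  · rintro ⟨k, hvan, ⟨e⟩⟩
    refine ⟨k, nonempty_iso_shift_of_single_degree _ k (fun i hi => ?_)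
      ((HD_LB_equiv (B := Localization.AtPrime p.asIdeal) ω (-k)).trans e)⟩
    haveI := hvan i hi
    exact (HD_LB_equiv (B := Localization.AtPrime p.asIdeal) ω i).toEquiv.subsingleton

/-- **The Gorenstein locus of a Noetherian ring with a dualizing complex is open.** -/
theorem isOpen_gorenstein_locus (ω : Dual.D A) (hω : Dual.IsDualizing A ω) :
    IsOpen {p : PrimeSpectrum A |
      LocCoh.IsGorensteinLocalRing (Localization.AtPrime p.asIdeal)} := by
  obtain ⟨a, b, hGE, hLE, -⟩ := exists_bounds ω hω
  have hfin := hω.finite_cohomology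
  rw [isOpen_iff_forall_mem_open]
  intro p hp
  rw [Set.mem_setOf_eq, gorenstein_at_iff ω hω p] at hp
  obtain ⟨k, hvan, ⟨e⟩⟩ := hp
  haveI := hfin (-k)
  -- a global generator
  obtain ⟨⟨x, s⟩, hxs⟩ := IsLocalizedModule.surj p.asIdeal.primeCompl
    (TensorProduct.mk A (Localization.AtPrime p.asIdeal) (Dual.HD A ω (-k)) 1) (e.symm 1)
  let φ : A →ₗ[A] Dual.HD A ω (-k) := LinearMap.toSpanSingleton A _ x
  have hu : IsUnit (algebraMap A (Localization.AtPrime p.asIdeal) s) :=
    IsLocalization.map_units _ s
  have hex : e ((1 : Localization.AtPrime p.asIdeal) ⊗ₜ[A] x) =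
      algebraMap A (Localization.AtPrime p.asIdeal) s := by
    have h1 : (1 : Localization.AtPrime p.asIdeal) ⊗ₜ[A] x =
        (algebraMap A (Localization.AtPrime p.asIdeal) s) • e.symm 1 := by
      rw [algebraMap_smul]
      exact hxs.symm
    rw [h1, map_smul, LinearEquiv.apply_symm_apply, smul_eq_mul, mul_one]
  -- `φ` localized at `p` is bijective
  have hbij : Function.Bijective (φ.lTensor (Localization.AtPrime p.asIdeal)) := by
    rw [← LinearMap.baseChange_eq_ltensor]
    have hcomp : (e ∘ (φ.baseChange (Localization.AtPrime p.asIdeal)) ∘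
        (TensorProduct.AlgebraTensorModule.rid A (Localization.AtPrime p.asIdeal)
          (Localization.AtPrime p.asIdeal)).symm) =
        fun c : Localization.AtPrime p.asIdeal => c * (hu.unit : Localization.AtPrime p.asIdeal) := by
      funext c
      simp only [Function.comp_apply, TensorProduct.AlgebraTensorModule.rid_symm_apply,
        LinearMap.baseChange_tmul, IsUnit.unit_spec]
      have h2 : c ⊗ₜ[A] (φ 1) = c • ((1 : Localization.AtPrime p.asIdeal) ⊗ₜ[A] x) := by
        rw [TensorProduct.smul_tmul', smul_eq_mul, mul_one]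
        congr 1
        simp [φ]
      rw [h2, map_smul, hex, smul_eq_mul]
    have hb : Function.Bijective (e ∘ (φ.baseChange (Localization.AtPrime p.asIdeal)) ∘
        (TensorProduct.AlgebraTensorModule.rid A (Localization.AtPrime p.asIdeal)
          (Localization.AtPrime p.asIdeal)).symm) := by
      rw [hcomp]
      exact (Units.mulRight hu.unit).bijective
    have hb2 := (EquivLike.comp_bijective _ e).mp hb
    exact (EquivLike.bijective_comp _ _).mp hb2
  obtain ⟨hK, hC⟩ := subsingleton_of_lTensor_bijective (Localization.AtPrime p.asIdeal) φ hbij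
  -- closed sets
  let Z₁ : Set (PrimeSpectrum A) :=
    ⋃ i ∈ ((Finset.Icc a b).filter (· ≠ -k) : Finset ℤ), Module.support A (Dual.HD A ω i)
  let Z₂ : Set (PrimeSpectrum A) := Module.support A (LinearMap.ker φ) ∪
    Module.support A (Dual.HD A ω (-k) ⧸ LinearMap.range φ)
  have hZ₁ : IsClosed Z₁ := by
    apply Set.Finite.isClosed_biUnion (Finset.finite_toSet _)
    intro i _
    haveI := hfin i
    exact Module.isClosed_support
  have hZ₂ : IsClosed Z₂ := Module.isClosed_support.union Module.isClosed_support
  refine ⟨(Z₁ ∪ Z₂)ᶜ, ?_, (hZ₁.union hZ₂).isOpen_compl, ?_⟩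
  · intro q hq
    rw [Set.mem_compl_iff, Set.mem_union, not_or] at hq
    rw [Set.mem_setOf_eq, gorenstein_at_iff ω hω q]
    refine ⟨k, ?_, ?_⟩
    · intro i hi
      by_cases hab : a ≤ i ∧ i ≤ b
      · have h1 : q ∉ Module.support A (Dual.HD A ω i) := fun h =>
          hq.1 (Set.mem_biUnion (by simp [hab, hi]) h)
        rw [mem_support_iff_nontrivial_tensor, not_nontrivial_iff_subsingleton] at h1
        exact h1
      · haveI : Subsingleton (Dual.HD A ω i) := by
          apply ModuleCat.subsingleton_of_isZero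
          by_cases ha : i < a
          · exact (DerivedCategory.isGE_iff ω a).mp hGE i ha
          · exact (DerivedCategory.isLE_iff ω b).mp hLE i (by omega)
        exact subsingleton_tensor_of_subsingleton _ _
    · have h1 : q ∉ Module.support A (LinearMap.ker φ) := fun h => hq.2 (Or.inl h)
      have h2 : q ∉ Module.support A (Dual.HD A ω (-k) ⧸ LinearMap.range φ) :=
        fun h => hq.2 (Or.inr h)
      rw [mem_support_iff_nontrivial_tensor, not_nontrivial_iff_subsingleton] at h1 h2
      have hb := lTensor_bijective_of_subsingleton (Localization.AtPrime q.asIdeal) φ h1 h2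
      rw [← LinearMap.baseChange_eq_ltensor] at hb
      exact ⟨((TensorProduct.AlgebraTensorModule.rid A (Localization.AtPrime q.asIdeal)
        (Localization.AtPrime q.asIdeal)).symm.trans
        (LinearEquiv.ofBijective (φ.baseChange (Localization.AtPrime q.asIdeal)) hb)).symm⟩
  · rw [Set.mem_compl_iff, Set.mem_union, not_or]
    constructor
    · intro h
      obtain ⟨i, hi, hpi⟩ := Set.mem_iUnion₂.mp h
      have hi' : i ≠ -k := by
        have := Finset.mem_filter.mp hi
        exact this.2
      rw [mem_support_iff_nontrivial_tensor] at hpi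
      exact not_subsingleton_iff_nontrivial.mpr hpi (hvan i hi')
    · intro h
      rcases h with h | h
      · rw [mem_support_iff_nontrivial_tensor] at h
        exact not_subsingleton_iff_nontrivial.mpr h hK
      · rw [mem_support_iff_nontrivial_tensor] at h
        exact not_subsingleton_iff_nontrivial.mpr h hC

end Main

end Groth.Agent.H28.GorLocus
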