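import Mathlib
import Groth.Prelude.Def_DDual2
import Groth.Agent.H5.LBaseChangeAdj
import Groth.Agent.H12.Bridge
import Groth.Agent.H28.ShriekFibre
import Groth.Agent.H28.PCohFibre2
import Groth.Agent.H28.GorLocus

/-!
# Tools for "Gorenstein fibres iff the relative dualizing complex is invertible" (helper28; S1786)

* `nonempty_LBaseChange_shift_inD`: `A[m] ⊗^L_A B ≅ B[m]` (any ring map);
* `nonempty_iso_shift_of_residue_fibre`: derived Nakayama over a Noetherian local ring: a
  pseudo-coherent complex with derived fibre `κ[k]` is `L[k]`;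
* `exists_away_iso_shift`: spreading out `ω_q ≅ A_q[k]` to a principal open neighbourhood.
-/

set_option autoImplicit false
set_option linter.style.haveILetI false
set_option linter.unusedSectionVars false
universe u
open CategoryTheory Limits Pretriangulated DerivedCategory TensorProduct
namespace Groth.Agent.H28.GorFibre
attribute [local instance] HasDerivedCategory.standard

open Groth.Agent.H28 Groth.Agent.H28.PCohCore Groth.Agent.H28.PCohDer Groth.Agent.H28.PCohRing
  Groth.Agent.H35 Groth.Agent.H35.LT Groth.Agent.H35.KF Groth.Agent.H28.PCohLocal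
  Groth.Agent.H26.FlatBCHom Groth.Agent.H26.FlatBCDual Groth.Agent.H28.DualPointwise
  Groth.Agent.H28.GorLocus

/-- derived base change of `A[m]` is `B[m]`, for any ring map -/
theorem nonempty_LBaseChange_shift_inD {A B : Type u} [CommRing A] [CommRing B] (φ : A →+* B)
    [DRing.HasLBaseChange φ] (m : ℤ) :
    Nonempty ((DRing.LBaseChange φ).obj ((Dual.inD A A)⟦m⟧) ≅ (Dual.inD B B)⟦m⟧) := by
  letI : Algebra A B := φ.toAlgebra
  letI cs : (DRing.LBaseChange φ).CommShift ℤ :=
    (Groth.Agent.H5.LBaseChangeAdj.adj φ).leftAdjointCommShift ℤ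
  obtain ⟨e0⟩ := Groth.Agent.H28.ShriekFibre.nonempty_LBaseChange_inD_self A B
  exact ⟨((DRing.LBaseChange φ).commShiftIso m).app _ ≪≫
    (shiftFunctor (Dual.D B) m).mapIso e0⟩

/-- homology of a complex at a spot with zero neighbours -/
noncomputable def homologyIsoXOfIsZero {R : Type u} [CommRing R]
    (C : CochainComplex (ModuleCat.{u} R) ℤ) (i : ℤ) (h1 : IsZero (C.X (i - 1)))
    (h2 : IsZero (C.X (i + 1))) : C.homology i ≅ C.X i :=
  C.homologyIsoSc' (i - 1) i (i + 1) (by simp) (by simp) ≪≫
    (ShortComplex.HomologyData.ofZeros (C.sc' (i - 1) i (i + 1)) (h1.eq_of_src _ _)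
      (h2.eq_of_tgt _ _)).left.homologyIso

section Local
variable {L : Type u} [CommRing L] [IsLocalRing L] [IsNoetherianRing L]

/-- **derived Nakayama**: a pseudo-coherent complex over a Noetherian local ring whose derived
fibre at the residue field is `κ[k]` is `L[k]`. -/
theorem nonempty_iso_shift_of_residue_fibre (K : Dual.D L)
    (hpc : ∀ j : ℤ, IsNPC (finFree L) j K) (k : ℤ)
    [DRing.HasLBaseChange (IsLocalRing.residue L)]
    (e : (DRing.LBaseChange (IsLocalRing.residue L)).obj K ≅
      (Dual.inD (IsLocalRing.ResidueField L) (IsLocalRing.ResidueField L))⟦k⟧) :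
    Nonempty (K ≅ (Dual.inD L L)⟦k⟧) := by
  haveI : ∀ m : Ideal L, DRing.HasLBaseChange (Ideal.Quotient.mk m) := fun m => hasLBaseChange _
  have hfib : ∀ (m : Ideal L), m.IsMaximal → ∀ n : ℤ, (n < -k ∨ -k < n) →
      IsZero ((DerivedCategory.homologyFunctor (ModuleCat.{u} (L ⧸ m)) n).obj
        ((DRing.LBaseChange (Ideal.Quotient.mk m)).obj K)) := by
    intro m hm n hn
    obtain rfl : m = IsLocalRing.maximalIdeal L := IsLocalRing.eq_maximalIdeal hm
    have hs := Groth.Agent.H28.GorLocus.subsingleton_HD_of_iso_shift _ k e n (by omega)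
    exact @ModuleCat.isZero_of_subsingleton _ _ _ hs
  obtain ⟨G, hGz, hGp, ⟨eG⟩⟩ :=
    PCohFibre.exists_finProj_rep_of_maximal_fibres_vanishing K hpc (-k) (-k) hfib
  set φ := IsLocalRing.residue L with hφ
  have hz : ∀ i : ℤ, i ≠ -k → IsZero (G.X i) := fun i hi =>
    hGz i (by rcases lt_or_gt_of_ne hi with h | h; exacts [Or.inl h, Or.inr h])
  haveI hMfin : Module.Finite L (G.X (-k)) := (hGp (-k)).1
  haveI hMproj : Module.Projective L (G.X (-k)) := (hGp (-k)).2
  haveI hMfree : Module.Free L (G.X (-k)) := Module.free_of_flat_of_isLocalRing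
  -- the cohomology of `K`
  have hvan : ∀ i : ℤ, i ≠ -k → Subsingleton (Dual.HD L K i) := fun i hi =>
    ModuleCat.subsingleton_of_isZero (IsZero.of_iso (isZero_homology_of_isZero_X G i (hz i hi))
      ((DerivedCategory.homologyFunctor _ i).mapIso eG.symm ≪≫ homologyQIso G i))
  have eH : Dual.HD L K (-k) ≃ₗ[L] G.X (-k) :=
    ((DerivedCategory.homologyFunctor _ (-k)).mapIso eG.symm ≪≫ homologyQIso G (-k) ≪≫
      homologyIsoXOfIsZero G (-k) (hz _ (by omega)) (hz _ (by omega))).toLinearEquiv
  -- the fibre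
  have hGK : IsKFlat G := isKFlat_of_finFree G (-k) (fun i hi => hz i (by omega)) hGp
  have hzF : ∀ i : ℤ, i ≠ -k → IsZero (((extCx φ).obj G).X i) := fun i hi =>
    (ModuleCat.extendScalars.{u, u, u} φ).map_isZero (hz i hi)
  have eF : Dual.HD (IsLocalRing.ResidueField L) ((DRing.LBaseChange φ).obj K) (-k) ≃ₗ[
      IsLocalRing.ResidueField L] (IsLocalRing.ResidueField L) ⊗[L] G.X (-k) :=
    ((DerivedCategory.homologyFunctor _ (-k)).mapIso ((DRing.LBaseChange φ).mapIso eG.symm) ≪≫
      homologyLBaseChangeIso φ G hGK (-k) ≪≫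
      homologyIsoXOfIsZero ((extCx φ).obj G) (-k) (hzF _ (by omega))
        (hzF _ (by omega))).toLinearEquiv ≪≫ₗ
      Groth.Agent.H12.BC.bridge (B := IsLocalRing.ResidueField L) (G.X (-k))
  obtain ⟨eκ⟩ := Groth.Agent.H28.GorLocus.nonempty_HD_equiv_of_iso_shift _ k e
  have hrank : Module.finrank L (G.X (-k)) = 1 := by
    rw [← Module.finrank_baseChange (R := IsLocalRing.ResidueField L),
      (eF.symm ≪≫ₗ eκ).finrank_eq, Module.finrank_self]
  obtain ⟨eM⟩ := Module.nonempty_linearEquiv_of_finrank_eq_one hrank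
  exact Groth.Agent.H28.GorLocus.nonempty_iso_shift_of_single_degree K k hvan (eH ≪≫ₗ eM.symm)

end Local

section Spread
variable {A : Type u} [CommRing A] [IsNoetherianRing A]

/-- a finite module vanishing at `q` is killed by some `f ∉ q` -/
theorem exists_not_mem_forall_smul_eq_zero (N : Type u) [AddCommGroup N] [Module A N]
    [Module.Finite A N] (q : PrimeSpectrum A)
    (h : Subsingleton (Localization.AtPrime q.asIdeal ⊗[A] N)) :
    ∃ f : A, f ∉ q.asIdeal ∧ ∀ x : N, f • x = 0 := by
  have h1 : q ∉ Module.support A N := by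
    rw [mem_support_iff_nontrivial_tensor, not_nontrivial_iff_subsingleton]
    exact h
  rw [Module.mem_support_iff_of_finite] at h1
  obtain ⟨f, hf, hfq⟩ := SetLike.not_le_iff_exists.mp h1
  exact ⟨f, hfq, fun x => Module.mem_annihilator.mp hf x⟩

/-- a module killed by `f` vanishes after inverting `f` -/
theorem subsingleton_away_tensor (N : Type u) [AddCommGroup N] [Module A N] (f : A)
    (h : ∀ x : N, f • x = 0) : Subsingleton (Localization.Away f ⊗[A] N) := by
  have hz : ∀ z : Localization.Away f ⊗[A] N, z = 0 := by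
    intro z
    induction z using TensorProduct.induction_on with
    | zero => rfl
    | tmul c x =>
      have hu : IsUnit (algebraMap A (Localization.Away f) f) :=
        IsLocalization.Away.algebraMap_isUnit f
      obtain ⟨u, hu'⟩ := hu
      have : c = (c * ↑u⁻¹) * algebraMap A (Localization.Away f) f := by
        rw [← hu', mul_assoc, Units.inv_mul, mul_one]
      have h2 : (c * ↑u⁻¹ * algebraMap A (Localization.Away f) f) = f • (c * ↑u⁻¹) := by
        rw [Algebra.smul_def, mul_comm]
      rw [this, h2, TensorProduct.smul_tmul, h x, TensorProduct.tmul_zero]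
    | add a b ha hb => rw [ha, hb, add_zero]
  exact ⟨fun x y => by rw [hz x, hz y]⟩


/-- **spreading out**: a bounded complex with finite cohomology which is `A_q[k]` at `q` is
`A_f[k]` on a principal neighbourhood of `q`. -/
theorem exists_away_iso_shift (ω : Dual.D A) (a b : ℤ)
    (hab : ∀ i : ℤ, (i < a ∨ b < i) → Subsingleton (Dual.HD A ω i))
    (hfin : ∀ i : ℤ, Module.Finite A (Dual.HD A ω i))
    (q : PrimeSpectrum A) (k : ℤ)
    (hvan : ∀ i : ℤ, i ≠ -k →
      Subsingleton (Localization.AtPrime q.asIdeal ⊗[A] Dual.HD A ω i))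
    (e : Localization.AtPrime q.asIdeal ⊗[A] Dual.HD A ω (-k)
      ≃ₗ[Localization.AtPrime q.asIdeal] Localization.AtPrime q.asIdeal) :
    ∃ f : A, f ∉ q.asIdeal ∧ Nonempty ((LB A (Localization.Away f)).obj ω ≅
      (Dual.inD (Localization.Away f) (Localization.Away f))⟦k⟧) := by
  haveI := hfin (-k)
  -- a global generator
  obtain ⟨⟨x, s⟩, hxs⟩ := IsLocalizedModule.surj q.asIdeal.primeCompl
    (TensorProduct.mk A (Localization.AtPrime q.asIdeal) (Dual.HD A ω (-k)) 1) (e.symm 1)
  let φ : A →ₗ[A] Dual.HD A ω (-k) := LinearMap.toSpanSingleton A _ x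
  have hu : IsUnit (algebraMap A (Localization.AtPrime q.asIdeal) s) :=
    IsLocalization.map_units _ s
  have hex : e ((1 : Localization.AtPrime q.asIdeal) ⊗ₜ[A] x) =
      algebraMap A (Localization.AtPrime q.asIdeal) s := by
    have h1 : (1 : Localization.AtPrime q.asIdeal) ⊗ₜ[A] x =
        (algebraMap A (Localization.AtPrime q.asIdeal) s) • e.symm 1 := by
      rw [algebraMap_smul]
      exact hxs.symm
    rw [h1, map_smul, LinearEquiv.apply_symm_apply, smul_eq_mul, mul_one]
  have hbij : Function.Bijective (φ.lTensor (Localization.AtPrime q.asIdeal)) := by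
    rw [← LinearMap.baseChange_eq_ltensor]
    have hcomp : (e ∘ (φ.baseChange (Localization.AtPrime q.asIdeal)) ∘
        (TensorProduct.AlgebraTensorModule.rid A (Localization.AtPrime q.asIdeal)
          (Localization.AtPrime q.asIdeal)).symm) =
        fun c : Localization.AtPrime q.asIdeal => c * (hu.unit : Localization.AtPrime q.asIdeal) := by
      funext c
      simp only [Function.comp_apply, TensorProduct.AlgebraTensorModule.rid_symm_apply,
        LinearMap.baseChange_tmul, IsUnit.unit_spec]
      have h2 : c ⊗ₜ[A] (φ 1) = c • ((1 : Localization.AtPrime q.asIdeal) ⊗ₜ[A] x) := by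
        rw [TensorProduct.smul_tmul', smul_eq_mul, mul_one]
        congr 1
        simp [φ]
      rw [h2, map_smul, hex, smul_eq_mul]
    have hb : Function.Bijective (e ∘ (φ.baseChange (Localization.AtPrime q.asIdeal)) ∘
        (TensorProduct.AlgebraTensorModule.rid A (Localization.AtPrime q.asIdeal)
          (Localization.AtPrime q.asIdeal)).symm) := by
      rw [hcomp]
      exact (Units.mulRight hu.unit).bijective
    have hb2 := (EquivLike.comp_bijective _ e).mp hb
    exact (EquivLike.bijective_comp _ _).mp hb2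
  obtain ⟨hK, hC⟩ := subsingleton_of_lTensor_bijective (Localization.AtPrime q.asIdeal) φ hbij
  -- elements killing the finitely many modules
  obtain ⟨f1, hf1q, hf1⟩ := exists_not_mem_forall_smul_eq_zero (LinearMap.ker φ) q hK
  obtain ⟨f2, hf2q, hf2⟩ :=
    exists_not_mem_forall_smul_eq_zero (Dual.HD A ω (-k) ⧸ LinearMap.range φ) q hC
  have hfi : ∀ i : ℤ, i ≠ -k → ∃ f : A, f ∉ q.asIdeal ∧ ∀ x : Dual.HD A ω i, f • x = 0 :=
    fun i hi => by
      haveI := hfin i
      exact exists_not_mem_forall_smul_eq_zero (Dual.HD A ω i) q (hvan i hi)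
  classical
  let g : ℤ → A := fun i => if hi : i ≠ -k then (hfi i hi).choose else 1
  have hgq : ∀ i, g i ∉ q.asIdeal := fun i => by
    by_cases hi : i ≠ -k
    · simp only [g, dif_pos hi]
      exact (hfi i hi).choose_spec.1
    · simp only [g, dif_neg hi]
      exact fun h1 => q.isPrime.ne_top ((Ideal.eq_top_iff_one _).mpr h1)
  have hgk : ∀ i, i ≠ -k → ∀ x : Dual.HD A ω i, g i • x = 0 := fun i hi x => by
    simp only [g, dif_pos hi]
    exact (hfi i hi).choose_spec.2 x
  let F : A := (∏ i ∈ Finset.Icc a b, g i) * f1 * f2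
  have hFq : F ∉ q.asIdeal := by
    intro h
    rcases q.isPrime.mem_or_mem h with h | h
    · rcases q.isPrime.mem_or_mem h with h | h
      · obtain ⟨i, -, hi⟩ := (q.isPrime.prod_mem_iff).mp h
        exact hgq i hi
      · exact hf1q h
    · exact hf2q h
  refine ⟨F, hFq, ?_⟩
  -- vanishing over `A_F`
  have hFi : ∀ i : ℤ, i ≠ -k → Subsingleton (Localization.Away F ⊗[A] Dual.HD A ω i) := by
    intro i hi
    by_cases hab' : a ≤ i ∧ i ≤ b
    · refine subsingleton_away_tensor _ F (fun x => ?_)
      have hmem : i ∈ Finset.Icc a b := Finset.mem_Icc.mpr hab'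
      have hdvd : g i ∣ F :=
        Dvd.dvd.mul_right (Dvd.dvd.mul_right (Finset.dvd_prod_of_mem g hmem) f1) f2
      obtain ⟨c, hc⟩ := hdvd
      rw [hc, mul_comm, mul_smul, hgk i hi x, smul_zero]
    · haveI : Subsingleton (Dual.HD A ω i) := hab i (by omega)
      exact subsingleton_tensor_of_subsingleton _ _
  have hFK : Subsingleton (Localization.Away F ⊗[A] LinearMap.ker φ) :=
    subsingleton_away_tensor _ F (fun x => by
      have hF' : F = ((∏ i ∈ Finset.Icc a b, g i) * f2) * f1 := by
        show (∏ i ∈ Finset.Icc a b, g i) * f1 * f2 = _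
        ring
      rw [hF', mul_smul, hf1 x, smul_zero])
  have hFC : Subsingleton (Localization.Away F ⊗[A] (Dual.HD A ω (-k) ⧸ LinearMap.range φ)) :=
    subsingleton_away_tensor _ F (fun x => by
      show (((∏ i ∈ Finset.Icc a b, g i) * f1) * f2) • x = 0
      rw [mul_smul, hf2 x, smul_zero])
  have hb := lTensor_bijective_of_subsingleton (Localization.Away F) φ hFK hFC
  rw [← LinearMap.baseChange_eq_ltensor] at hb
  have eF : Localization.Away F ⊗[A] Dual.HD A ω (-k) ≃ₗ[Localization.Away F]
      Localization.Away F :=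
    ((TensorProduct.AlgebraTensorModule.rid A (Localization.Away F)
      (Localization.Away F)).symm.trans
      (LinearEquiv.ofBijective (φ.baseChange (Localization.Away F)) hb)).symm
  refine nonempty_iso_shift_of_single_degree _ k (fun i hi => ?_)
    ((HD_LB_equiv (B := Localization.Away F) ω (-k)).trans eF)
  haveI := hFi i hi
  exact (HD_LB_equiv (B := Localization.Away F) ω i).toEquiv.subsingleton

end Spread
end Groth.Agent.H28.GorFibre
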