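import Mathlib
import Groth.Agent.H28.CMFibre2
import Groth.Agent.H28.FlatGlue
import Groth.Agent.H28.GorFibre1
import Groth.Agent.H28.FibreGlDim2
import Groth.Agent.H35.TorAmpBounded
import Groth.Agent.H35.TorAmpCone
import Groth.Agent.H26.FibreTor4
import Groth.Agent.H26.CoextBC14
import Groth.Agent.H35.LBaseChangeLib

/-!
# Tor amplitude `[d, d]` of `ω_{A/R}` over `R` and the fibres (helper28; S11361)

* `hasTorAmplitudeIn_single_degree_iff`: tor amplitude in `[d, d]` iff cohomology only in degree `d`
  and flat there.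
* `hasTorAmplitudeIn_of_fibres` / `subsingleton_HD_fibre_of_hasTorAmplitudeIn`: for `R → A` flat of
  finite type, `ω_{A/R}` has tor amplitude `[d, d]` over `R` iff its derived base change to every
  fibre `κ(p) ⊗_R A` is concentrated in degree `d` (via helper26's fibrewise criterion).
-/

set_option autoImplicit false
set_option linter.style.haveILetI false
set_option linter.unusedSectionVars false
universe u
open CategoryTheory Limits Pretriangulated DerivedCategory TensorProduct

namespace Groth.Agent.H28.CMFibre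

attribute [local instance] HasDerivedCategory.standard
attribute [local instance] Algebra.TensorProduct.rightAlgebra

open Groth.Agent.H35.KF Groth.Agent.H35.KFBC Groth.Agent.H35.LT Groth.Agent.H28.TorAmpLocal
  Groth.Agent.H26.FibreTor

section T1

variable {R : Type u} [CommRing R]

/-- tor amplitude in `[d, d]` means: cohomology only in degree `d`, and flat there -/
theorem hasTorAmplitudeIn_single_degree_iff (K : Dual.D R) (d : ℤ) :
    DRing.HasTorAmplitudeIn R d d K ↔
      (∀ i : ℤ, i ≠ d → Subsingleton (Dual.HD R K i)) ∧ Module.Flat R (Dual.HD R K d) := by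
  constructor
  · intro h
    refine ⟨fun i hi => ?_, ?_⟩
    · have := isZero_homology_of_hasTorAmplitudeIn K d d h i (by omega)
      exact ModuleCat.subsingleton_of_isZero this
    · obtain ⟨E, hE, hEfl, ⟨e⟩⟩ := h
      have e1 : (DerivedCategory.homologyFunctor (ModuleCat.{u} R) d).obj K ≅ E.X d :=
        (DerivedCategory.homologyFunctor _ d).mapIso e.symm ≪≫
          (DerivedCategory.homologyFunctorFactors _ d).app E ≪≫
          Groth.Agent.H28.GorFibre.homologyIsoXOfIsZero E d (hE _ (by omega)) (hE _ (by omega))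
      haveI := hEfl d
      exact Module.Flat.of_linearEquiv e1.toLinearEquiv
  · rintro ⟨hvan, hfl⟩
    refine hasTorAmplitudeIn_of_bounded_homology d d K
      ⟨d, d, fun i hi => hvan i (by omega)⟩ (fun i => ?_)
    by_cases hi : i = d
    · subst hi
      rw [sub_self]
      exact Groth.Agent.H28.FlatGlue.hasTorAmplitudeIn_zero_of_flat _
        ⟨Dual.HD R K i, inferInstance, inferInstance, hfl, ⟨Iso.refl _⟩⟩
    · haveI := hvan i hi
      exact hasTorAmplitudeIn_of_isZero _
        ((DerivedCategory.singleFunctor (ModuleCat.{u} R) 0).map_isZero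
          (ModuleCat.isZero_of_subsingleton _)) _ _

end T1

section ThmA

variable (R A : Type u) [CommRing R] [CommRing A] [IsNoetherianRing R] [IsNoetherianRing A]
  [Algebra R A] [Module.Flat R A] (n : ℕ) (ψ : MvPolynomial (Fin n) R →ₐ[R] A)
  (hψ : Function.Surjective ψ) [DRing.HasLBaseChange (algebraMap R (MvPolynomial (Fin n) R))]
  (Rψ : Dual.D (MvPolynomial (Fin n) R) ⥤ Dual.D A) (adj : DRing.restrictD ψ.toRingHom ⊣ Rψ)
  [hLB : ∀ p : PrimeSpectrum R, DRing.HasLBaseChange (Algebra.TensorProduct.includeRight :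
      A →ₐ[R] p.asIdeal.ResidueField ⊗[R] A).toRingHom]

include ψ hψ adj in
set_option maxHeartbeats 1600000 in
/-- fibrewise vanishing outside degree `d` gives tor amplitude `[d, d]` of `ω_{A/R}` over `R` -/
theorem hasTorAmplitudeIn_of_fibres (d : ℤ)
    (h : ∀ (p : PrimeSpectrum R) (j : ℤ), j ≠ d → Subsingleton (Dual.HD
      (p.asIdeal.ResidueField ⊗[R] A) ((DRing.LBaseChange (Algebra.TensorProduct.includeRight :
        A →ₐ[R] p.asIdeal.ResidueField ⊗[R] A).toRingHom).obj
          (Dual2.shriekVia n Rψ (Dual.inD R R))) j)) :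
    DRing.HasTorAmplitudeIn R d d ((DRing.restrictD (algebraMap R A)).obj
      (Dual2.shriekVia n Rψ (Dual.inD R R))) := by
  classical
  have hrel := Groth.Agent.H26.CoextBC.isRelPerfect_shriekVia_self R A n ψ hψ Rψ adj
  obtain ⟨⟨F, b, hFb, hFff, ⟨e⟩⟩, -⟩ := hrel
  have hFflat : ∀ i, Module.Flat A (F.X i) := fun i => by
    have := (hFff i).2
    infer_instance
  have hKF : Groth.Agent.H35.KF.IsKFlat F :=
    Groth.Agent.H35.KF.isKFlat_of_bounded_flat F b hFb hFflat
  have hφ : ∀ q : PrimeSpectrum A, (Localization.localRingHom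
      (q.asIdeal.comap (algebraMap R A)) q.asIdeal (algebraMap R A) rfl).Flat := fun q =>
    RingHom.Flat.localRingHom (f := algebraMap R A) (RingHom.flat_algebraMap_iff.2 inferInstance)
      q.asIdeal (q.asIdeal.comap (algebraMap R A)) rfl
  have hGfin : ∀ (q : PrimeSpectrum A) (i : ℤ), Module.Finite (Localization.AtPrime q.asIdeal)
      ((Groth.Agent.H35.KFBC.extK (R := A) (R' := Localization.AtPrime q.asIdeal)
        (algebraMap A (Localization.AtPrime q.asIdeal)) F).X i) := fun q i => by
    have := (hFff i).1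
    exact Groth.Agent.H35.LT.finite_extendScalars _ (F.X i)
  have hGflat : ∀ (q : PrimeSpectrum A) (i : ℤ), Module.Flat (Localization.AtPrime q.asIdeal)
      ((Groth.Agent.H35.KFBC.extK (R := A) (R' := Localization.AtPrime q.asIdeal)
        (algebraMap A (Localization.AtPrime q.asIdeal)) F).X i) := fun q i => by
    have := hFflat i
    exact Groth.Agent.H35.LT.flat_extendScalars _ (F.X i)
  have hGb : ∀ (q : PrimeSpectrum A) (i : ℤ), b < i → Limits.IsZero
      ((Groth.Agent.H35.KFBC.extK (R := A) (R' := Localization.AtPrime q.asIdeal)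
        (algebraMap A (Localization.AtPrime q.asIdeal)) F).X i) := fun q i hi =>
    (ModuleCat.extendScalars.{u, u, u} _).map_isZero (hFb i hi)
  have e1 : DerivedCategory.Q.obj (Groth.Agent.H35.KFBC.resL (algebraMap R A) F) ≅
      (DRing.restrictD (algebraMap R A)).obj (Dual2.shriekVia n Rψ (Dual.inD R R)) :=
    ((ModuleCat.restrictScalars (algebraMap R A)).mapDerivedCategoryFactors.app F).symm ≪≫
      (DRing.restrictD (algebraMap R A)).mapIso e
  refine Groth.Agent.H35.KF.hasTorAmplitudeIn_of_iso e1 _ _ ?_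
  refine Groth.Agent.H28.TorAmpLocal.hasTorAmplitudeIn_restrict_of_forall_maximal F _ _ ?_
  intro m hm
  let qS : PrimeSpectrum A := ⟨m, hm.isPrime⟩
  refine Groth.Agent.H26.FibreTor.hasTorAmplitudeIn_of_fibre _ _ (hφ qS) (hGfin qS) (hGflat qS) b
    (hGb qS) _ _ ?_
  intro j hj
  let Qs : PrimeSpectrum ((qS.asIdeal.comap (algebraMap R A)).ResidueField ⊗[R] A) :=
    PrimeSpectrum.preimageHomeomorphFiber R A (PrimeSpectrum.comap (algebraMap R A) qS) ⟨qS, rfl⟩
  haveI : Qs.asIdeal.IsPrime := Qs.isPrime
  have hQ : Qs.asIdeal.comap (Algebra.TensorProduct.includeRight :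
      A →ₐ[R] (qS.asIdeal.comap (algebraMap R A)).Fiber A).toRingHom = qS.asIdeal := by
    have h1 := (PrimeSpectrum.preimageHomeomorphFiber R A
      (PrimeSpectrum.comap (algebraMap R A) qS)).symm_apply_apply ⟨qS, rfl⟩
    exact congrArg (fun z => z.1.asIdeal) h1
  haveI hLBq : DRing.HasLBaseChange (Algebra.TensorProduct.includeRight :
      A →ₐ[R] (qS.asIdeal.comap (algebraMap R A)).ResidueField ⊗[R] A).toRingHom :=
    hLB (PrimeSpectrum.comap (algebraMap R A) qS)
  haveI hsub : Subsingleton (Dual.HD
      ((qS.asIdeal.comap (algebraMap R A)).ResidueField ⊗[R] A)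
      ((DRing.LBaseChange (Algebra.TensorProduct.includeRight :
        A →ₐ[R] (qS.asIdeal.comap (algebraMap R A)).ResidueField ⊗[R] A).toRingHom).obj
          (Dual2.shriekVia n Rψ (Dual.inD R R))) j) :=
    h (PrimeSpectrum.comap (algebraMap R A) qS) j (by omega)
  have h1 : Subsingleton (LocalizedModule Qs.asIdeal.primeCompl (Dual.HD
      ((qS.asIdeal.comap (algebraMap R A)).ResidueField ⊗[R] A)
      ((DRing.LBaseChange (Algebra.TensorProduct.includeRight :
        A →ₐ[R] (qS.asIdeal.comap (algebraMap R A)).ResidueField ⊗[R] A).toRingHom).obj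
          (Dual2.shriekVia n Rψ (Dual.inD R R))) j)) := by
    rw [LocalizedModule.subsingleton_iff]
    intro x
    exact ⟨1, Submonoid.one_mem _, Subsingleton.elim _ _⟩
  let iso : DerivedCategory.Q.obj (extK (Algebra.TensorProduct.includeRight :
      A →ₐ[R] (qS.asIdeal.comap (algebraMap R A)).ResidueField ⊗[R] A).toRingHom F) ≅
      (DRing.LBaseChange (Algebra.TensorProduct.includeRight :
      A →ₐ[R] (qS.asIdeal.comap (algebraMap R A)).ResidueField ⊗[R] A).toRingHom).obj
        (Dual2.shriekVia n Rψ (Dual.inD R R)) :=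
    (LBaseChangeIso _ F hKF).symm ≪≫ (DRing.LBaseChange _).mapIso e
  have h2 := exactAt_extK_of_localized Qs.asIdeal _ _ iso j h1
  exact tensExactAt_residue_of_fibre R A qS.asIdeal Qs.asIdeal hQ F j h2

include ψ hψ adj in
set_option maxHeartbeats 1600000 in
/-- tor amplitude `[d, d]` of `ω_{A/R}` over `R` gives fibrewise vanishing outside degree `d` -/
theorem subsingleton_HD_fibre_of_hasTorAmplitudeIn (d : ℤ)
    (h : DRing.HasTorAmplitudeIn R d d ((DRing.restrictD (algebraMap R A)).obj
      (Dual2.shriekVia n Rψ (Dual.inD R R))))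
    (p : PrimeSpectrum R) (j : ℤ) (hj : j ≠ d) : Subsingleton (Dual.HD
      (p.asIdeal.ResidueField ⊗[R] A) ((DRing.LBaseChange (Algebra.TensorProduct.includeRight :
        A →ₐ[R] p.asIdeal.ResidueField ⊗[R] A).toRingHom).obj
          (Dual2.shriekVia n Rψ (Dual.inD R R))) j) := by
  classical
  have hrel := Groth.Agent.H26.CoextBC.isRelPerfect_shriekVia_self R A n ψ hψ Rψ adj
  obtain ⟨⟨F, b, hFb, hFff, ⟨e⟩⟩, -⟩ := hrel
  have hFflat : ∀ i, Module.Flat A (F.X i) := fun i => by
    have := (hFff i).2
    infer_instance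
  have hKF : Groth.Agent.H35.KF.IsKFlat F :=
    Groth.Agent.H35.KF.isKFlat_of_bounded_flat F b hFb hFflat
  have e1 : DerivedCategory.Q.obj (Groth.Agent.H35.KFBC.resL (algebraMap R A) F) ≅
      (DRing.restrictD (algebraMap R A)).obj (Dual2.shriekVia n Rψ (Dual.inD R R)) :=
    ((ModuleCat.restrictScalars (algebraMap R A)).mapDerivedCategoryFactors.app F).symm ≪≫
      (DRing.restrictD (algebraMap R A)).mapIso e
  have hex : TorVanishing (resL (algebraMap R A) F) d d :=
    torVanishing_of_hasTorAmplitudeIn _ d d h (resL (algebraMap R A) F) b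
      (fun j hj => (ModuleCat.restrictScalars (algebraMap R A)).map_isZero (hFb j hj))
      (fun j => by
        have := hFflat j
        exact flat_restrictScalars_of_flat (F.X j)) e1
  have h1 := hex (ModuleCat.of R p.asIdeal.ResidueField) j (by omega)
  rw [Groth.Agent.H28.FibreGlDim.tensExactAt_resL_iff,
    ← tensExactAt_iff_of_iso _ (Groth.Agent.H28.FibreGlDim2.eN (A := R) (B := A)
      p.asIdeal.ResidueField), ← exactAt_map_extendScalars_iff,
    HomologicalComplex.exactAt_iff_isZero_homology] at h1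
  exact ModuleCat.subsingleton_of_isZero (IsZero.of_iso h1
    ((DerivedCategory.homologyFunctor _ j).mapIso ((DRing.LBaseChange _).mapIso
      e.symm) ≪≫ Groth.Agent.H28.PCohLocal.homologyLBaseChangeIso _ F hKF j))

end ThmA

end Groth.Agent.H28.CMFibre
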