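import Mathlib
import Groth.Agent.H28.CMFibre3
import Groth.Agent.H26.FormalFibreQuot
import Groth.Agent.H45.Derived.MapDerivedHomology

/-!
# Cohen–Macaulay fibres of pure dimension `d` iff `ω_{A/R}` is a flat module in degree `-d`
(helper28; S11361)
-/

set_option autoImplicit false
set_option linter.style.haveILetI false
set_option linter.unusedSectionVars false
universe u
open CategoryTheory Limits Pretriangulated DerivedCategory TensorProduct

namespace Groth.Agent.H28.CMFibre

attribute [local instance] HasDerivedCategory.standard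

section Transfer

variable {B C : Type u} [CommRing B] [CommRing C]

/-- CM + equidimensionality transfer along a ring isomorphism -/
theorem cm_equidim_of_ringEquiv (e : B ≃+* C) (d : ℕ∞)
    (h : LocCoh.IsCohenMacaulayRing B ∧ ∀ Q : PrimeSpectrum B, Q.asIdeal ∈ minimalPrimes B →
      Order.coheight Q = d) :
    LocCoh.IsCohenMacaulayRing C ∧ ∀ Q : PrimeSpectrum C, Q.asIdeal ∈ minimalPrimes C →
      Order.coheight Q = d := by
  refine ⟨Groth.Agent.H26.FormalFibreQuot.isCohenMacaulayRing_of_ringEquiv e h.1, fun Q hQ => ?_⟩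
  let σ := PrimeSpectrum.comapEquiv e
  have hmin : IsMin (σ.symm Q) := by
    rw [← PrimeSpectrum.isMin_iff] at hQ
    intro b hb
    have h1 : σ b ≤ Q := by
      have := σ.monotone hb
      rwa [OrderIso.apply_symm_apply] at this
    have h2 := hQ h1
    have := σ.symm.monotone h2
    rwa [OrderIso.symm_apply_apply] at this
  have h1 := h.2 (σ.symm Q) (PrimeSpectrum.isMin_iff.1 hmin)
  rw [← h1]
  exact (Order.coheight_orderIso σ.symm Q).symm

end Transfer

section Fibre

open Groth.Agent.H26.CoextBC Groth.Agent.H28.ShriekNonFlatBC Pretriangulated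

attribute [local instance] MvPolynomial.algebraMvPolynomial
attribute [local instance] Algebra.TensorProduct.rightAlgebra

variable (R A : Type u) [CommRing R] [CommRing A] [IsNoetherianRing R] [IsNoetherianRing A]
  [Algebra R A] [Module.Flat R A] (n : ℕ) (ψ : MvPolynomial (Fin n) R →ₐ[R] A)
  (hψ : Function.Surjective ψ) [DRing.HasLBaseChange (algebraMap R (MvPolynomial (Fin n) R))]
  (Rψ : Dual.D (MvPolynomial (Fin n) R) ⥤ Dual.D A) (adj : DRing.restrictD ψ.toRingHom ⊣ Rψ)

include ψ hψ adj in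
set_option maxHeartbeats 1600000 in
/-- the fibre `k ⊗_R A` is CM and equidimensional of dimension `d` iff the base change of
`ω_{A/R}` to the fibre is concentrated in degree `-d` -/
theorem fibre_cm_iff (k : Type u) [Field k] [Algebra R k]
    [DRing.HasLBaseChange (Algebra.TensorProduct.includeRight : A →ₐ[R] k ⊗[R] A).toRingHom]
    (d : ℕ) :
    (LocCoh.IsCohenMacaulayRing (k ⊗[R] A) ∧ ∀ Q : PrimeSpectrum (k ⊗[R] A),
      Q.asIdeal ∈ minimalPrimes (k ⊗[R] A) → Order.coheight Q = (d : ℕ∞)) ↔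
    ∀ j : ℤ, j ≠ -(d : ℤ) → Subsingleton (Dual.HD (k ⊗[R] A) ((DRing.LBaseChange
      (Algebra.TensorProduct.includeRight : A →ₐ[R] k ⊗[R] A).toRingHom).obj
        (Dual2.shriekVia n Rψ (Dual.inD R R))) j) := by
  letI algP'A' : Algebra (MvPolynomial (Fin n) k) (k ⊗[R] A) :=
    (psiBC R k A n ψ).toRingHom.toAlgebra
  have hsurj : Function.Surjective (algebraMap (MvPolynomial (Fin n) k) (k ⊗[R] A)) :=
    psiBC_surjective R k A n ψ hψ
  haveI hN : IsNoetherianRing (k ⊗[R] A) :=
    isNoetherianRing_of_surjective (MvPolynomial (Fin n) k) (k ⊗[R] A)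
      (algebraMap (MvPolynomial (Fin n) k) (k ⊗[R] A)) hsurj
  haveI fin : Module.Finite (MvPolynomial (Fin n) k) (k ⊗[R] A) :=
    Module.Finite.of_surjective (Algebra.linearMap (MvPolynomial (Fin n) k) (k ⊗[R] A)) hsurj
  haveI hLB1 : DRing.HasLBaseChange (algebraMap k (MvPolynomial (Fin n) k)) :=
    Groth.Agent.H35.LT.hasLBaseChange _
  haveI hLB2 : DRing.HasLBaseChange (algebraMap R k) := Groth.Agent.H35.LT.hasLBaseChange _
  obtain ⟨e⟩ := nonempty_shriekVia_baseChange_of_flat R k A (@Groth.Agent.S13549.result) n ψ hψ Rψ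
    adj n (psiBC R k A n ψ) (psiBC_surjective R k A n ψ hψ)
    (RR (MvPolynomial (Fin n) k) (k ⊗[R] A)) (adjRR (MvPolynomial (Fin n) k) (k ⊗[R] A))
    (Dual.inD R R)
  obtain ⟨e0⟩ := Groth.Agent.H28.ShriekFibre.nonempty_LBaseChange_inD_self R k
  let iso : (DRing.LBaseChange
      (Algebra.TensorProduct.includeRight : A →ₐ[R] k ⊗[R] A).toRingHom).obj
        (Dual2.shriekVia n Rψ (Dual.inD R R)) ≅
      Dual2.shriekVia n (RR (MvPolynomial (Fin n) k) (k ⊗[R] A)) (Dual.inD k k) :=
    e ≪≫ (shiftFunctor (Dual.D (k ⊗[R] A)) (n : ℤ)).mapIso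
      ((RR (MvPolynomial (Fin n) k) (k ⊗[R] A)).mapIso
        ((DRing.LBaseChange (algebraMap k (MvPolynomial (Fin n) k))).mapIso e0))
  rw [field_case k (k ⊗[R] A) n (psiBC R k A n ψ) (psiBC_surjective R k A n ψ hψ)
    (RR (MvPolynomial (Fin n) k) (k ⊗[R] A)) (adjRR (MvPolynomial (Fin n) k) (k ⊗[R] A)) d]
  refine forall_congr' fun j => forall_congr' fun _ => ?_
  exact ((DerivedCategory.homologyFunctor (ModuleCat.{u} (k ⊗[R] A)) j).mapIso
    iso).toLinearEquiv.toEquiv.subsingleton_congr.symm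

end Fibre

section Main

attribute [local instance] Algebra.TensorProduct.rightAlgebra

variable (R A : Type u) [CommRing R] [CommRing A] [IsNoetherianRing R] [IsNoetherianRing A]
  [Algebra R A] [Module.Flat R A] (n : ℕ) (ψ : MvPolynomial (Fin n) R →ₐ[R] A)
  (hψ : Function.Surjective ψ) [DRing.HasLBaseChange (algebraMap R (MvPolynomial (Fin n) R))]
  (Rψ : Dual.D (MvPolynomial (Fin n) R) ⥤ Dual.D A) (adj : DRing.restrictD ψ.toRingHom ⊣ Rψ)

include ψ hψ adj in
set_option maxHeartbeats 1600000 in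
/-- **relative CM criterion**: all fibres of the flat finite type map `R → A` are Cohen–Macaulay of
pure dimension `d` iff `ω_{A/R}` has cohomology only in degree `-d`, and that cohomology module is
flat over `R`. -/
theorem cm_fibres_iff (d : ℕ) :
    (∀ p : PrimeSpectrum R, LocCoh.IsCohenMacaulayRing (A ⊗[R] p.asIdeal.ResidueField) ∧
      ∀ Q : PrimeSpectrum (A ⊗[R] p.asIdeal.ResidueField),
        Q.asIdeal ∈ minimalPrimes (A ⊗[R] p.asIdeal.ResidueField) →
          Order.coheight Q = (d : ℕ∞)) ↔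
    (∀ i : ℤ, i ≠ -(d : ℤ) → Subsingleton (Dual.HD A (Dual2.shriekVia n Rψ (Dual.inD R R)) i)) ∧
      Module.Flat R ((ModuleCat.restrictScalars (algebraMap R A)).obj
        ((DerivedCategory.homologyFunctor (ModuleCat.{u} A) (-(d : ℤ))).obj
          (Dual2.shriekVia n Rψ (Dual.inD R R)))) := by
  haveI hLB : ∀ p : PrimeSpectrum R, DRing.HasLBaseChange (Algebra.TensorProduct.includeRight :
      A →ₐ[R] p.asIdeal.ResidueField ⊗[R] A).toRingHom := fun p =>
    Groth.Agent.H35.LT.hasLBaseChange _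
  set ω := Dual2.shriekVia n Rψ (Dual.inD R R) with hω
  -- step 1: the fibres
  have h1 : (∀ p : PrimeSpectrum R, LocCoh.IsCohenMacaulayRing (A ⊗[R] p.asIdeal.ResidueField) ∧
      ∀ Q : PrimeSpectrum (A ⊗[R] p.asIdeal.ResidueField),
        Q.asIdeal ∈ minimalPrimes (A ⊗[R] p.asIdeal.ResidueField) →
          Order.coheight Q = (d : ℕ∞)) ↔
      ∀ (p : PrimeSpectrum R) (j : ℤ), j ≠ -(d : ℤ) → Subsingleton (Dual.HD
        (p.asIdeal.ResidueField ⊗[R] A) ((DRing.LBaseChange (Algebra.TensorProduct.includeRight :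
          A →ₐ[R] p.asIdeal.ResidueField ⊗[R] A).toRingHom).obj ω) j) := by
    refine forall_congr' fun p => ?_
    rw [← fibre_cm_iff R A n ψ hψ Rψ adj p.asIdeal.ResidueField d]
    constructor
    · exact cm_equidim_of_ringEquiv
        (Algebra.TensorProduct.comm R A p.asIdeal.ResidueField).toRingEquiv _
    · exact cm_equidim_of_ringEquiv
        (Algebra.TensorProduct.comm R p.asIdeal.ResidueField A).toRingEquiv _
  -- step 2: tor amplitude
  have h2 : (∀ (p : PrimeSpectrum R) (j : ℤ), j ≠ -(d : ℤ) → Subsingleton (Dual.HD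
        (p.asIdeal.ResidueField ⊗[R] A) ((DRing.LBaseChange (Algebra.TensorProduct.includeRight :
          A →ₐ[R] p.asIdeal.ResidueField ⊗[R] A).toRingHom).obj ω) j)) ↔
      DRing.HasTorAmplitudeIn R (-(d : ℤ)) (-(d : ℤ))
        ((DRing.restrictD (algebraMap R A)).obj ω) :=
    ⟨fun h => hasTorAmplitudeIn_of_fibres R A n ψ hψ Rψ adj _ h,
      fun h p j hj => subsingleton_HD_fibre_of_hasTorAmplitudeIn R A n ψ hψ Rψ adj _ h p j hj⟩
  rw [h1, h2, hasTorAmplitudeIn_single_degree_iff]
  -- step 3: cohomology of the restriction of scalars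
  have e3 : ∀ i : ℤ, Dual.HD R ((DRing.restrictD (algebraMap R A)).obj ω) i ≃ₗ[R]
      ((ModuleCat.restrictScalars (algebraMap R A)).obj
        ((DerivedCategory.homologyFunctor (ModuleCat.{u} A) i).obj ω)) := fun i =>
    (Groth.Agent.H45.homologyMapDerivedCategoryObjIso
      (ModuleCat.restrictScalars (algebraMap R A)) ω i).toLinearEquiv
  refine and_congr (forall_congr' fun i => forall_congr' fun _ => ?_) ?_
  · exact (e3 i).toEquiv.subsingleton_congr
  · exact ⟨fun h => Module.Flat.of_linearEquiv (e3 _).symm,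
      fun h => Module.Flat.of_linearEquiv (e3 _)⟩

end Main

end Groth.Agent.H28.CMFibre
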