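import Mathlib
import Groth.Prelude.Def_DDual2
import Groth.Agent.H28.RestrAdj
import Groth.Agent.H28.OmegaH0

/-!
# `Ext^j_P(B, N)` versus the cohomology of the right adjoint of restriction of scalars (helper28)

For a ring map `P → B` and a right adjoint `R'` of `restrictD (P → B)`:
`Ext^j_P(B, N) ≃ H^j(R'(N[0]))`, additively and semilinearly for `P → B`
(for S11365).
-/

set_option autoImplicit false
set_option linter.style.haveILetI false
universe w u
open CategoryTheory Pretriangulated Limits DerivedCategory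

namespace Groth.Agent.H28.ExtOmega

attribute [local instance] HasDerivedCategory.standard

variable {P B : Type u} [CommRing P] [CommRing B] [Algebra P B]
  (R' : Dual.D P ⥤ Dual.D B) (adj : DRing.restrictD (algebraMap P B) ⊣ R')

include adj

/-- `Hom_{D(B)}(B[0], (R' K)[j]) ≃+ Hom_{D(P)}(B|_P[0], K[j])`, semilinear along `P → B` -/
theorem exists_addEquiv_hom (K : Dual.D P) (j : ℤ) :
    ∃ Φ : (Dual.inD B B ⟶ (R'.obj K)⟦j⟧) ≃+ (Dual.inD P B ⟶ K⟦j⟧),
      ∀ (p : P) (g : Dual.inD B B ⟶ (R'.obj K)⟦j⟧), Φ (algebraMap P B p • g) = p • Φ g := by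
  letI := adj.rightAdjointCommShift ℤ
  let es : (R'.obj K)⟦j⟧ ≅ R'.obj (K⟦j⟧) := ((R'.commShiftIso j).app K).symm
  let ei : (DRing.restrictD (algebraMap P B)).obj (Dual.inD B B) ≅ Dual.inD P B :=
    RestrAdj.restrictD_inD_iso (A := P) (B := B)
  let Φ : (Dual.inD B B ⟶ (R'.obj K)⟦j⟧) ≃+ (Dual.inD P B ⟶ K⟦j⟧) :=
    { toFun := fun g => ei.inv ≫ (adj.homEquiv _ _).symm (g ≫ es.hom)
      invFun := fun h => adj.homEquiv _ _ (ei.hom ≫ h) ≫ es.inv
      left_inv := fun g => by simp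
      right_inv := fun h => by simp
      map_add' := fun g g' => by
        rw [Preadditive.add_comp]
        have := (adj.homAddEquiv (Dual.inD B B) (K⟦j⟧)).symm.map_add (g ≫ es.hom) (g' ≫ es.hom)
        erw [this]
        rw [Preadditive.comp_add]
        rfl }
  refine ⟨Φ, fun p g => ?_⟩
  change ei.inv ≫ (adj.homEquiv _ _).symm ((algebraMap P B p • g) ≫ es.hom) =
    p • (ei.inv ≫ (adj.homEquiv _ _).symm (g ≫ es.hom))
  rw [Linear.smul_comp, Adjunction.homEquiv_counit, Adjunction.homEquiv_counit,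
    RestrAdj.restrictD_map_smul, Linear.smul_comp, Linear.comp_smul]

/-- `Ext^k_P(B, N) ≃+ H^k(R'(N[0]))`, semilinear along `P → B` -/
theorem exists_addEquiv_ext [HasExt.{w} (ModuleCat.{u} P)] (N : Type u) [AddCommGroup N]
    [Module P N] (k : ℕ) :
    ∃ Ψ : Abelian.Ext (ModuleCat.of P B) (ModuleCat.of P N) k ≃+
        Dual.HD B (R'.obj (Dual.inD P N)) (k : ℤ),
      ∀ (p : P) (x : Abelian.Ext (ModuleCat.of P B) (ModuleCat.of P N) k),
        Ψ (p • x) = algebraMap P B p • Ψ x := by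
  obtain ⟨Φ, hΦ⟩ := exists_addEquiv_hom R' adj (Dual.inD P N) (k : ℤ)
  let e1 : Abelian.Ext (ModuleCat.of P B) (ModuleCat.of P N) k ≃ₗ[P]
      (Dual.inD P B ⟶ (Dual.inD P N)⟦(k : ℤ)⟧) := Abelian.Ext.homLinearEquiv (R := P)
  let e3 := OmegaH0.homShiftEquivHD (R'.obj (Dual.inD P N)) (k : ℤ)
  have hsymm : ∀ (p : P) (h : Dual.inD P B ⟶ (Dual.inD P N)⟦(k : ℤ)⟧),
      Φ.symm (p • h) = algebraMap P B p • Φ.symm h := by
    intro p h
    apply Φ.injective
    rw [hΦ, AddEquiv.apply_symm_apply, AddEquiv.apply_symm_apply]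
  refine ⟨e1.toAddEquiv.trans (Φ.symm.trans e3.toAddEquiv), fun p x => ?_⟩
  change e3 (Φ.symm (e1 (p • x))) = algebraMap P B p • e3 (Φ.symm (e1 x))
  rw [map_smul, hsymm, map_smul]

end Groth.Agent.H28.ExtOmega
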