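import Mathlib
import Groth.Prelude.Def_DDual2
import Groth.Agent.H28.GorFibre1
import Groth.Agent.H28.PCohTwoIdeals
import Groth.Agent.H28.PCohLBC

/-!
# Transfer lemmas for S1786 (helper28): Gorenstein local rings of `B` versus local triviality of `ω`
when `ω ⊗^L_A B` is dualizing for `B`; from the residue fibre to the localization and to a
principal open neighbourhood.
-/

set_option autoImplicit false
set_option linter.style.haveILetI false
set_option linter.unusedSectionVars false
universe u
open CategoryTheory Limits Pretriangulated DerivedCategory TensorProduct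
namespace Groth.Agent.H28.GorFibre
attribute [local instance] HasDerivedCategory.standard

open Groth.Agent.H28 Groth.Agent.H28.PCohCore Groth.Agent.H28.PCohDer Groth.Agent.H28.PCohRing
  Groth.Agent.H35 Groth.Agent.H35.LT Groth.Agent.H35.KF Groth.Agent.H28.PCohLocal
  Groth.Agent.H26.FlatBCHom Groth.Agent.H26.FlatBCDual Groth.Agent.H28.DualPointwise
  Groth.Agent.H28.GorLocus Groth.Agent.H28.PCohTwoIdeals

section Transfer

variable {A B : Type u} [CommRing A] [CommRing B] (β : A →+* B) [DRing.HasLBaseChange β]
  (ω : Dual.D A) (hωB : Dual.IsDualizing B ((DRing.LBaseChange β).obj ω))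

include hωB in
/-- if `ω` is `A_f[m]` near the image of `q'`, the local ring of `B` at `q'` is Gorenstein
(`ω ⊗^L_A B` being dualizing for `B`) -/
theorem isGorensteinLocalRing_of_away_iso (q' : Ideal B) [q'.IsPrime] (f : A) (hf : β f ∉ q')
    [DRing.HasLBaseChange (algebraMap A (Localization.Away f))] (m : ℤ)
    (e : (DRing.LBaseChange (algebraMap A (Localization.Away f))).obj ω ≅
      (Dual.inD (Localization.Away f) (Localization.Away f))⟦m⟧) :
    LocCoh.IsGorensteinLocalRing (Localization.AtPrime q') := by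
  haveI hBN : IsNoetherianRing B := hωB.isNoetherianRing
  haveI hCN : IsNoetherianRing (Localization.AtPrime q') :=
    IsLocalization.isNoetherianRing q'.primeCompl _ inferInstance
  have hωC : Dual.IsDualizing (Localization.AtPrime q')
      ((LB B (Localization.AtPrime q')).obj ((DRing.LBaseChange β).obj ω)) :=
    isDualizing_LB_localization q'.primeCompl _ hωB
  have hu : IsUnit (((algebraMap B (Localization.AtPrime q')).comp β) f) :=
    IsLocalization.map_units (Localization.AtPrime q') (⟨β f, hf⟩ : q'.primeCompl)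
  let γ : Localization.Away f →+* Localization.AtPrime q' :=
    IsLocalization.Away.lift f hu
  have hγ : γ.comp (algebraMap A (Localization.Away f)) =
      (algebraMap B (Localization.AtPrime q')).comp β := IsLocalization.Away.lift_comp f hu
  haveI : DRing.HasLBaseChange γ := hasLBaseChange _
  haveI : DRing.HasLBaseChange (algebraMap B (Localization.AtPrime q')) := hasLBaseChange _
  haveI : DRing.HasLBaseChange ((algebraMap B (Localization.AtPrime q')).comp β) :=
    hasLBaseChange _
  obtain ⟨c1⟩ := LBaseChange_comp_iso' β (algebraMap B (Localization.AtPrime q'))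
    ((algebraMap B (Localization.AtPrime q')).comp β) rfl ω
  obtain ⟨c2⟩ := LBaseChange_comp_iso' (algebraMap A (Localization.Away f)) γ
    ((algebraMap B (Localization.AtPrime q')).comp β) hγ.symm ω
  obtain ⟨c3⟩ := nonempty_LBaseChange_shift_inD γ m
  rw [gorenstein_iff _ hωC]
  exact ⟨m, ⟨(lbcIso (A := B) (B := Localization.AtPrime q')).symm.app _ ≪≫ c1 ≪≫ c2.symm ≪≫
    (DRing.LBaseChange γ).mapIso e ≪≫ c3⟩⟩


include hωB in
/-- if the local ring of `B` at the kernel of `γ : B → κ(q)` is Gorenstein, the derived fibre of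
`ω` at `κ(q)` is `κ(q)[k]` -/
theorem exists_residue_fibre_iso (q : Ideal A) [q.IsPrime] (γ : B →+* q.ResidueField)
    (hγ : γ.comp β = algebraMap A q.ResidueField) [(RingHom.ker γ).IsPrime]
    (hG : LocCoh.IsGorensteinLocalRing (Localization.AtPrime (RingHom.ker γ)))
    [DRing.HasLBaseChange (algebraMap A q.ResidueField)] :
    ∃ k : ℤ, Nonempty ((DRing.LBaseChange (algebraMap A q.ResidueField)).obj ω ≅
      (Dual.inD q.ResidueField q.ResidueField)⟦k⟧) := by
  haveI hBN : IsNoetherianRing B := hωB.isNoetherianRing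
  haveI hCN : IsNoetherianRing (Localization.AtPrime (RingHom.ker γ)) :=
    IsLocalization.isNoetherianRing (RingHom.ker γ).primeCompl _ inferInstance
  have hωC : Dual.IsDualizing (Localization.AtPrime (RingHom.ker γ))
      ((LB B (Localization.AtPrime (RingHom.ker γ))).obj ((DRing.LBaseChange β).obj ω)) :=
    isDualizing_LB_localization (RingHom.ker γ).primeCompl _ hωB
  obtain ⟨k, ⟨e⟩⟩ := (gorenstein_iff _ hωC).mp hG
  have hu : ∀ y : (RingHom.ker γ).primeCompl, IsUnit (γ y) := fun y =>
    IsUnit.mk0 _ (fun h => y.2 ((RingHom.mem_ker).mpr h))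
  let γ' : Localization.AtPrime (RingHom.ker γ) →+* q.ResidueField :=
    IsLocalization.lift (M := (RingHom.ker γ).primeCompl) hu
  have hγ' : γ'.comp (algebraMap B (Localization.AtPrime (RingHom.ker γ))) = γ :=
    IsLocalization.lift_comp hu
  haveI : DRing.HasLBaseChange γ := hasLBaseChange _
  haveI : DRing.HasLBaseChange γ' := hasLBaseChange _
  haveI : DRing.HasLBaseChange (algebraMap B (Localization.AtPrime (RingHom.ker γ))) :=
    hasLBaseChange _
  obtain ⟨c1⟩ := LBaseChange_comp_iso' β γ (algebraMap A q.ResidueField) hγ.symm ω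
  obtain ⟨c2⟩ := LBaseChange_comp_iso' (algebraMap B (Localization.AtPrime (RingHom.ker γ))) γ' γ
    hγ'.symm ((DRing.LBaseChange β).obj ω)
  obtain ⟨c3⟩ := nonempty_LBaseChange_shift_inD γ' k
  exact ⟨k, ⟨c1.symm ≪≫ c2.symm ≪≫ (DRing.LBaseChange γ').mapIso
    ((lbcIso (A := B) (B := Localization.AtPrime (RingHom.ker γ))).app _ ≪≫ e) ≪≫ c3⟩⟩

end Transfer

section Localize

variable {A : Type u} [CommRing A] [IsNoetherianRing A]

/-- from the derived fibre at `κ(q)` to the localization at `q` -/
theorem nonempty_localization_iso_shift (ω : Dual.D A) (hpc : ∀ j : ℤ, IsNPC (finFree A) j ω)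
    (q : Ideal A) [q.IsPrime] (k : ℤ) [DRing.HasLBaseChange (algebraMap A q.ResidueField)]
    (e : (DRing.LBaseChange (algebraMap A q.ResidueField)).obj ω ≅
      (Dual.inD q.ResidueField q.ResidueField)⟦k⟧) :
    Nonempty ((LB A (Localization.AtPrime q)).obj ω ≅
      (Dual.inD (Localization.AtPrime q) (Localization.AtPrime q))⟦k⟧) := by
  haveI : IsNoetherianRing (Localization.AtPrime q) :=
    IsLocalization.isNoetherianRing q.primeCompl _ inferInstance
  haveI : DRing.HasLBaseChange (algebraMap A (Localization.AtPrime q)) := hasLBaseChange _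
  haveI : DRing.HasLBaseChange (IsLocalRing.residue (Localization.AtPrime q)) := hasLBaseChange _
  have hpc' : ∀ j : ℤ, IsNPC (finFree (Localization.AtPrime q)) j
      ((DRing.LBaseChange (algebraMap A (Localization.AtPrime q))).obj ω) :=
    fun j => Groth.Agent.H28.PCohLBC.isNPC_LBaseChange _ ω j (hpc j)
  obtain ⟨c1⟩ := LBaseChange_comp_iso' (algebraMap A (Localization.AtPrime q))
    (IsLocalRing.residue (Localization.AtPrime q)) (algebraMap A q.ResidueField)
    (IsScalarTower.algebraMap_eq A (Localization.AtPrime q) q.ResidueField) ω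
  obtain ⟨e1⟩ := nonempty_iso_shift_of_residue_fibre
    ((DRing.LBaseChange (algebraMap A (Localization.AtPrime q))).obj ω) hpc' k (c1 ≪≫ e)
  exact ⟨(lbcIso (A := A) (B := Localization.AtPrime q)).symm.app _ ≪≫ e1⟩


/-- from the localization at `q` to a principal open neighbourhood -/
theorem exists_away_iso_of_localization_iso (ω : Dual.D A) (a b : ℤ)
    (hab : ∀ i : ℤ, (i < a ∨ b < i) → Subsingleton (Dual.HD A ω i))
    (hfin : ∀ i : ℤ, Module.Finite A (Dual.HD A ω i))
    (q : Ideal A) [hq : q.IsPrime] (k : ℤ)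
    (e : (LB A (Localization.AtPrime q)).obj ω ≅
      (Dual.inD (Localization.AtPrime q) (Localization.AtPrime q))⟦k⟧)
    [hL : ∀ f : A, DRing.HasLBaseChange (algebraMap A (Localization.Away f))] :
    ∃ (f : A) (_ : f ∉ q), Nonempty
      ((DRing.LBaseChange (algebraMap A (Localization.Away f))).obj ω ≅
        (Dual.inD (Localization.Away f) (Localization.Away f))⟦k⟧) := by
  have hvan : ∀ i : ℤ, i ≠ -k →
      Subsingleton (Localization.AtPrime q ⊗[A] Dual.HD A ω i) := fun i hi => by
    haveI := subsingleton_HD_of_iso_shift _ k e i hi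
    exact (HD_LB_equiv (B := Localization.AtPrime q) ω i).symm.toEquiv.subsingleton
  obtain ⟨e'⟩ := nonempty_HD_equiv_of_iso_shift _ k e
  obtain ⟨f, hfq, ⟨e2⟩⟩ := exists_away_iso_shift ω a b hab hfin (⟨q, hq⟩ : PrimeSpectrum A) k hvan
    ((HD_LB_equiv (B := Localization.AtPrime q) ω (-k)).symm.trans e')
  exact ⟨f, hfq, ⟨(lbcIso (A := A) (B := Localization.Away f)).app _ ≪≫ e2⟩⟩

end Localize

end Groth.Agent.H28.GorFibre
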