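import Mathlib
import Groth.Prelude.Def_DDual2
import Groth.Prelude.Def_DualSh
import Groth.Agent.H28.GorFibre2
import Groth.Agent.H28.ShriekFibre
import Groth.Agent.H26.ShriekSelfProps
import Groth.Agent.H26.GorRegHom

/-!
# S1786: for `R → A` flat of finite type (Noetherian), all fibres are Gorenstein iff
`ω_{A/R} = φ^!(R)` is locally a shift of `A` (helper28). Conditional on a hypothesis of the exact
shape of milestone S13549 (`ShriekNonFlatBC.TrivBCPerfect`).
-/

set_option autoImplicit false
set_option linter.style.haveILetI false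
set_option linter.unusedSectionVars false
set_option linter.overlappingInstances false
universe u
open CategoryTheory Limits Pretriangulated DerivedCategory TensorProduct
namespace Groth.Agent.H28.GorFibre
attribute [local instance] HasDerivedCategory.standard
attribute [local instance] Algebra.TensorProduct.rightAlgebra

open Groth.Agent.H28 Groth.Agent.H28.PCohCore Groth.Agent.H28.PCohDer Groth.Agent.H28.PCohRing
  Groth.Agent.H35 Groth.Agent.H35.LT Groth.Agent.H28.ShriekNonFlatBC

set_option maxHeartbeats 1600000 in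
/-- **S1786** (conditional on the S13549-shaped hypothesis): Gorenstein fibres iff the relative
dualizing complex is invertible. -/
theorem gorenstein_fibres_iff (h49 : TrivBCPerfect.{u}) (R A : Type u) [CommRing R] [CommRing A]
    [IsNoetherianRing R] [IsNoetherianRing A] [Algebra R A] (n : ℕ)
    (ψ : MvPolynomial (Fin n) R →ₐ[R] A) (hψ : Function.Surjective ψ)
    [DRing.HasLBaseChange (algebraMap R (MvPolynomial (Fin n) R))]
    (Rψ : Dual.D (MvPolynomial (Fin n) R) ⥤ Dual.D A) (adj : DRing.restrictD ψ.toRingHom ⊣ Rψ)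
    [Module.Flat R A]
    [hL : ∀ f : A, DRing.HasLBaseChange (algebraMap A (Localization.Away f))] :
    (∀ p : PrimeSpectrum R, LocCoh.IsGorensteinRing (A ⊗[R] p.asIdeal.ResidueField)) ↔
      (∀ q : PrimeSpectrum A, ∃ (f : A) (_ : f ∉ q.asIdeal) (m : ℤ),
        Nonempty ((DRing.LBaseChange (algebraMap A (Localization.Away f))).obj
          (Dual2.shriekVia n Rψ (Dual.inD R R)) ≅
            (Dual.inD (Localization.Away f) (Localization.Away f))⟦m⟧)) := by
  set ω := Dual2.shriekVia n Rψ (Dual.inD R R) with hω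
  obtain ⟨⟨a, b, hab⟩, hfin, -, -⟩ :=
    Groth.Agent.H26.CoextBC.shriekVia_self_abc R A n ψ hψ Rψ adj
  have hdual : ∀ (p : Ideal R) [p.IsPrime] [DRing.HasLBaseChange
        (Algebra.TensorProduct.includeRight : A →ₐ[R] p.ResidueField ⊗[R] A).toRingHom],
      Dual.IsDualizing (p.ResidueField ⊗[R] A) ((DRing.LBaseChange
        (Algebra.TensorProduct.includeRight : A →ₐ[R] p.ResidueField ⊗[R] A).toRingHom).obj ω) :=
    fun p _ _ =>
      Groth.Agent.H28.ShriekFibre.isDualizing_fibre h49 R A n ψ hψ Rψ adj p.ResidueField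
  constructor
  · intro h q
    let p : Ideal R := q.asIdeal.comap (algebraMap R A)
    haveI hp : p.IsPrime := Ideal.comap_isPrime _ _
    haveI : DRing.HasLBaseChange (Algebra.TensorProduct.includeRight :
        A →ₐ[R] p.ResidueField ⊗[R] A).toRingHom := hasLBaseChange _
    have hωB := hdual p
    have hB' : LocCoh.IsGorensteinRing (A ⊗[R] p.ResidueField) := h ⟨p, hp⟩
    have hB : LocCoh.IsGorensteinRing (p.ResidueField ⊗[R] A) :=
      Groth.Agent.H26.GorRegHom.isGorensteinRing_of_ringEquiv
        (Algebra.TensorProduct.comm R A p.ResidueField).toRingEquiv hB'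
    let γ : p.ResidueField ⊗[R] A →ₐ[R] q.asIdeal.ResidueField :=
      Algebra.TensorProduct.lift
        (Ideal.ResidueField.mapₐ p q.asIdeal (Algebra.ofId R A) rfl)
        (IsScalarTower.toAlgHom R A q.asIdeal.ResidueField) (fun _ _ => Commute.all _ _)
    have hγ : γ.toRingHom.comp (Algebra.TensorProduct.includeRight :
        A →ₐ[R] p.ResidueField ⊗[R] A).toRingHom = algebraMap A q.asIdeal.ResidueField := by
      ext x
      show γ ((1 : p.ResidueField) ⊗ₜ[R] x) = _
      rw [Algebra.TensorProduct.lift_tmul, map_one, one_mul]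
      rfl
    haveI hker : (RingHom.ker γ.toRingHom).IsPrime := RingHom.ker_isPrime γ.toRingHom
    have hG := hB.isGorensteinLocalRing_localization (RingHom.ker γ.toRingHom)
    haveI : DRing.HasLBaseChange (algebraMap A q.asIdeal.ResidueField) := hasLBaseChange _
    obtain ⟨k, ⟨e⟩⟩ := exists_residue_fibre_iso _ ω hωB q.asIdeal γ.toRingHom hγ hG
    have hpc : ∀ j : ℤ, IsNPC (finFree A) j ω := fun j =>
      (isNPC_iff_of_noetherian A j ω).mpr
        ⟨⟨b, fun i hi => @ModuleCat.isZero_of_subsingleton _ _ _ (hab i (Or.inr hi))⟩,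
          fun i _ => hfin i⟩
    obtain ⟨e1⟩ := nonempty_localization_iso_shift ω hpc q.asIdeal k e
    obtain ⟨f, hf, ⟨e2⟩⟩ := exists_away_iso_of_localization_iso ω a b hab hfin q.asIdeal k e1
    exact ⟨f, hf, k, ⟨e2⟩⟩
  · intro h p
    haveI : DRing.HasLBaseChange (Algebra.TensorProduct.includeRight :
        A →ₐ[R] p.asIdeal.ResidueField ⊗[R] A).toRingHom := hasLBaseChange _
    have hωB := hdual p.asIdeal
    have hB : LocCoh.IsGorensteinRing (p.asIdeal.ResidueField ⊗[R] A) :=
      { hωB.isNoetherianRing with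
        isGorensteinLocalRing_localization := fun q' _ => by
          obtain ⟨f, hfq, m, ⟨e⟩⟩ := h ⟨q'.comap (Algebra.TensorProduct.includeRight :
            A →ₐ[R] p.asIdeal.ResidueField ⊗[R] A).toRingHom, inferInstance⟩
          exact isGorensteinLocalRing_of_away_iso _ ω hωB q' f hfq m e }
    exact Groth.Agent.H26.GorRegHom.isGorensteinRing_of_ringEquiv
      (Algebra.TensorProduct.comm R p.asIdeal.ResidueField A).toRingEquiv hB

end Groth.Agent.H28.GorFibre
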