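import Mathlib
import Groth.Prelude.Def_DDual2
import Groth.Prelude.Def_DualSh
import Groth.Agent.H28.ExtOmega1
import Groth.Agent.H28.GorFibre3
import Groth.Agent.H28.DualSelf
import Groth.Agent.H26.InvLocal
import Groth.Agent.H26.FlatBCDual13

/-!
# `Ext^j_P(A, P)` and the cohomology of `ω_{A/R}` (helper28; for S11365)

`P = R[x_1..x_N] → A` surjective.  `H^i(ω_{A/R}) ≃ Ext^{N+i}_P(A, P)` semilinearly, and the
equivalence "`Ext^{N-n}` invertible iff Gorenstein fibres" when the other `Ext`'s vanish.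
-/

set_option autoImplicit false
set_option linter.style.haveILetI false
set_option linter.unusedSectionVars false
set_option linter.overlappingInstances false
universe w u
open CategoryTheory Limits Pretriangulated DerivedCategory TensorProduct

namespace Groth.Agent.H28.ExtOmega

attribute [local instance] HasDerivedCategory.standard

open Groth.Agent.H26.FlatBCHom Groth.Agent.H26.FlatBCDual Groth.Agent.H2.DualCx
  Groth.Agent.H35.LT

section Bridge

variable (R A : Type u) [CommRing R] [CommRing A] [Algebra R A] (N : ℕ)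
  [Algebra (MvPolynomial (Fin N) R) A]
  [DRing.HasLBaseChange (algebraMap R (MvPolynomial (Fin N) R))]
  (Rψ : Dual.D (MvPolynomial (Fin N) R) ⥤ Dual.D A)
  (adj : DRing.restrictD (algebraMap (MvPolynomial (Fin N) R) A) ⊣ Rψ)

/-- `ω_{A/R} ≅ RHom_P(A, P)[N]` -/
noncomputable def shriekViaSelfIso :
    Dual2.shriekVia N Rψ (Dual.inD R R) ≅
      (Rψ.obj (Dual.inD (MvPolynomial (Fin N) R) (MvPolynomial (Fin N) R)))⟦(N : ℤ)⟧ :=
  (shiftFunctor (Dual.D A) (N : ℤ)).mapIso (Rψ.mapIso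
    ((lbcIso (A := R) (B := MvPolynomial (Fin N) R)).app _ ≪≫
      LBSelfIso (S := R) (MvPolynomial (Fin N) R)))

/-- `H^i(ω_{A/R}) ≃ₗ[A] H^{N+i}(RHom_P(A, P))` -/
noncomputable def HDShriekEquiv (i : ℤ) :
    Dual.HD A (Dual2.shriekVia N Rψ (Dual.inD R R)) i ≃ₗ[A]
      Dual.HD A (Rψ.obj (Dual.inD (MvPolynomial (Fin N) R) (MvPolynomial (Fin N) R)))
        ((N : ℤ) + i) :=
  ((DerivedCategory.homologyFunctor (ModuleCat.{u} A) i).mapIso
    (shriekViaSelfIso R A N Rψ)).toLinearEquiv ≪≫ₗ HDShiftEquiv _ (N : ℤ) i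

include adj in
/-- `Ext^k_P(A, P) ≃+ H^i(ω_{A/R})` for `N + i = k`, semilinear along `P → A` -/
theorem exists_addEquiv_ext_HD_shriekVia [HasExt.{w} (ModuleCat.{u} (MvPolynomial (Fin N) R))]
    (k : ℕ) (i : ℤ) (hi : (N : ℤ) + i = k) :
    ∃ Ψ : Abelian.Ext (ModuleCat.of (MvPolynomial (Fin N) R) A)
          (ModuleCat.of (MvPolynomial (Fin N) R) (MvPolynomial (Fin N) R)) k ≃+
        Dual.HD A (Dual2.shriekVia N Rψ (Dual.inD R R)) i,
      ∀ (p : MvPolynomial (Fin N) R) (x : Abelian.Ext (ModuleCat.of (MvPolynomial (Fin N) R) A)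
          (ModuleCat.of (MvPolynomial (Fin N) R) (MvPolynomial (Fin N) R)) k),
        Ψ (p • x) = algebraMap (MvPolynomial (Fin N) R) A p • Ψ x := by
  obtain ⟨Ψ, hΨ⟩ := exists_addEquiv_ext Rψ adj (MvPolynomial (Fin N) R) k
  have e := HDShriekEquiv R A N Rψ i
  rw [hi] at e
  refine ⟨Ψ.trans e.symm.toAddEquiv, fun p x => ?_⟩
  change e.symm (Ψ (p • x)) = algebraMap (MvPolynomial (Fin N) R) A p • e.symm (Ψ x)
  rw [hΨ, map_smul]

include adj in
/-- `H^i(ω_{A/R}) = 0` for `i < -N` -/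
theorem subsingleton_HD_shriekVia_of_lt (i : ℤ) (hi : (N : ℤ) + i < 0) :
    Subsingleton (Dual.HD A (Dual2.shriekVia N Rψ (Dual.inD R R)) i) := by
  obtain ⟨Φ, -⟩ := exists_addEquiv_hom Rψ adj
    (Dual.inD (MvPolynomial (Fin N) R) (MvPolynomial (Fin N) R)) ((N : ℤ) + i)
  haveI : Subsingleton (Dual.inD (MvPolynomial (Fin N) R) A ⟶
      (Dual.inD (MvPolynomial (Fin N) R) (MvPolynomial (Fin N) R))⟦(N : ℤ) + i⟧) :=
    DualSelf.subsingleton_hom_shift_of_neg (MvPolynomial (Fin N) R) (MvPolynomial (Fin N) R) A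
      ((N : ℤ) + i) hi
  haveI : Subsingleton (Dual.inD A A ⟶
      (Rψ.obj (Dual.inD (MvPolynomial (Fin N) R) (MvPolynomial (Fin N) R)))⟦(N : ℤ) + i⟧) :=
    Φ.toEquiv.subsingleton
  haveI : Subsingleton (Dual.HD A
      (Rψ.obj (Dual.inD (MvPolynomial (Fin N) R) (MvPolynomial (Fin N) R))) ((N : ℤ) + i)) :=
    (OmegaH0.homShiftEquivHD _ ((N : ℤ) + i)).symm.toEquiv.subsingleton
  exact (HDShriekEquiv R A N Rψ i).toEquiv.subsingleton

end Bridge

end Groth.Agent.H28.ExtOmega
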