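import Mathlib
import Groth.Agent.H28.ExtOmega2

/-!
# `Ext^{N-n}_P(A, P)` is invertible iff the fibres are Gorenstein (helper28; S11365)
-/

set_option autoImplicit false
set_option linter.style.haveILetI false
set_option linter.unusedSectionVars false
set_option linter.overlappingInstances false
universe w u
open CategoryTheory Limits Pretriangulated DerivedCategory TensorProduct

namespace Groth.Agent.H28.ExtOmega

attribute [local instance] HasDerivedCategory.standard

open Groth.Agent.H26.FlatBCHom Groth.Agent.H26.FlatBCDual Groth.Agent.H2.DualCx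
  Groth.Agent.H35.LT Groth.Agent.H28.GorLocus Groth.Agent.H28.GorFibre
  Groth.Agent.H28.ShriekNonFlatBC Groth.Agent.H28.PCohTwoIdeals

section Local

variable {A : Type u} [CommRing A]

/-- transfer of `ω_f ≅ A_f[m]` to the localization at a prime not containing `f` -/
theorem nonempty_LB_atPrime_iso_of_away (ω : Dual.D A) (q : Ideal A) [q.IsPrime] (f : A)
    (hf : f ∉ q) [DRing.HasLBaseChange (algebraMap A (Localization.Away f))] (m : ℤ)
    (e : (DRing.LBaseChange (algebraMap A (Localization.Away f))).obj ω ≅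
      (Dual.inD (Localization.Away f) (Localization.Away f))⟦m⟧) :
    Nonempty ((LB A (Localization.AtPrime q)).obj ω ≅
      (Dual.inD (Localization.AtPrime q) (Localization.AtPrime q))⟦m⟧) := by
  have hu : IsUnit ((algebraMap A (Localization.AtPrime q)) f) :=
    IsLocalization.map_units (Localization.AtPrime q) (⟨f, hf⟩ : q.primeCompl)
  let γ : Localization.Away f →+* Localization.AtPrime q := IsLocalization.Away.lift f hu
  have hγ : γ.comp (algebraMap A (Localization.Away f)) = algebraMap A (Localization.AtPrime q) :=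
    IsLocalization.Away.lift_comp f hu
  haveI : DRing.HasLBaseChange γ := hasLBaseChange _
  haveI : DRing.HasLBaseChange (algebraMap A (Localization.AtPrime q)) := hasLBaseChange _
  obtain ⟨c2⟩ := LBaseChange_comp_iso' (algebraMap A (Localization.Away f)) γ
    (algebraMap A (Localization.AtPrime q)) hγ.symm ω
  obtain ⟨c3⟩ := nonempty_LBaseChange_shift_inD γ m
  exact ⟨(lbcIso (A := A) (B := Localization.AtPrime q)).symm.app _ ≪≫ c2.symm ≪≫
    (DRing.LBaseChange γ).mapIso e ≪≫ c3⟩

end Local

section Main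

variable (h49 : TrivBCPerfect.{u}) (R A : Type u) [CommRing R] [CommRing A] [IsNoetherianRing R]
  [IsNoetherianRing A] [Algebra R A] [Module.Flat R A] (N n : ℕ) (hnN : n ≤ N)
  [Algebra (MvPolynomial (Fin N) R) A] [IsScalarTower R (MvPolynomial (Fin N) R) A]
  (hsurj : Function.Surjective (algebraMap (MvPolynomial (Fin N) R) A))
  [HasExt.{w} (ModuleCat.{u} (MvPolynomial (Fin N) R))]

include h49 hnN hsurj in
set_option maxHeartbeats 1600000 in
/-- **S11365** in general form: if `Ext^j_P(A, P) = 0` for `j ≠ N - n`, then `Ext^{N-n}_P(A, P)` is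
an invertible `A`-module iff all fibres of `R → A` are Gorenstein. -/
theorem invertible_ext_iff_gorenstein_fibres
    (hvan : ∀ j : ℕ, j ≠ N - n → Subsingleton (Abelian.Ext
      (ModuleCat.of (MvPolynomial (Fin N) R) A)
      (ModuleCat.of (MvPolynomial (Fin N) R) (MvPolynomial (Fin N) R)) j)) :
    (∃ (L : Type u) (_ : AddCommGroup L) (_ : Module A L), Module.Invertible A L ∧
      Nonempty (RestrictScalars (MvPolynomial (Fin N) R) A L ≃ₗ[MvPolynomial (Fin N) R]
        Abelian.Ext (ModuleCat.of (MvPolynomial (Fin N) R) A)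
          (ModuleCat.of (MvPolynomial (Fin N) R) (MvPolynomial (Fin N) R)) (N - n))) ↔
      ∀ p : PrimeSpectrum R, LocCoh.IsGorensteinRing (A ⊗[R] p.asIdeal.ResidueField) := by
  haveI : DRing.HasLBaseChange (algebraMap R (MvPolynomial (Fin N) R)) := hasLBaseChange _
  haveI hL : ∀ f : A, DRing.HasLBaseChange (algebraMap A (Localization.Away f)) :=
    fun f => hasLBaseChange _
  let ψ : MvPolynomial (Fin N) R →ₐ[R] A := IsScalarTower.toAlgHom R (MvPolynomial (Fin N) R) A
  have hψ : Function.Surjective ψ := hsurj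
  let Rψ := Groth.Agent.H26.CoextBC.RR (MvPolynomial (Fin N) R) A
  have adj : DRing.restrictD (algebraMap (MvPolynomial (Fin N) R) A) ⊣ Rψ :=
    Groth.Agent.H26.CoextBC.adjRR (MvPolynomial (Fin N) R) A
  have adjψ : DRing.restrictD ψ.toRingHom ⊣ Rψ := adj
  set ω := Dual2.shriekVia N Rψ (Dual.inD R R) with hω
  obtain ⟨⟨a, b, hab⟩, hfin, -, -⟩ :=
    Groth.Agent.H26.CoextBC.shriekVia_self_abc R A N ψ hψ Rψ adjψ
  have hiff := gorenstein_fibres_iff h49 R A N ψ hψ Rψ adjψ
  -- vanishing of the cohomology of `ω` outside degree `-n`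
  have hvanω : ∀ i : ℤ, i ≠ -(n : ℤ) → Subsingleton (Dual.HD A ω i) := by
    intro i hi
    by_cases hneg : (N : ℤ) + i < 0
    · exact subsingleton_HD_shriekVia_of_lt R A N Rψ adj i hneg
    · obtain ⟨k, hk⟩ : ∃ k : ℕ, (N : ℤ) + i = k := ⟨((N : ℤ) + i).toNat, by omega⟩
      obtain ⟨Ψ, -⟩ := exists_addEquiv_ext_HD_shriekVia R A N Rψ adj k i hk
      haveI := hvan k (by omega)
      exact Ψ.symm.toEquiv.subsingleton
  obtain ⟨Θ, hΘ⟩ := exists_addEquiv_ext_HD_shriekVia R A N Rψ adj (N - n) (-(n : ℤ))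
    (by omega)
  have hΘs : ∀ (p : MvPolynomial (Fin N) R) (x : Dual.HD A ω (-(n : ℤ))),
      Θ.symm (algebraMap (MvPolynomial (Fin N) R) A p • x) = p • Θ.symm x := by
    intro p x
    apply Θ.injective
    rw [hΘ, AddEquiv.apply_symm_apply, AddEquiv.apply_symm_apply]
  constructor
  · rintro ⟨L, _, _, hinv, ⟨e⟩⟩
    apply hiff.mpr
    let θ₀ : Dual.HD A ω (-(n : ℤ)) ≃+ L :=
      Θ.symm.trans (e.symm.toAddEquiv.trans (RestrictScalars.addEquiv (MvPolynomial (Fin N) R) A L))
    have θlin : ∀ (a : A) (x : Dual.HD A ω (-(n : ℤ))), θ₀ (a • x) = a • θ₀ x := by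
      intro a x
      obtain ⟨p, rfl⟩ := hsurj a
      change RestrictScalars.addEquiv (MvPolynomial (Fin N) R) A L
        (e.symm (Θ.symm (algebraMap (MvPolynomial (Fin N) R) A p • x))) = _
      rw [hΘs, map_smul, RestrictScalars.addEquiv_map_smul]
      rfl
    let θ : Dual.HD A ω (-(n : ℤ)) ≃ₗ[A] L := θ₀.toLinearEquiv θlin
    haveI : Module.Invertible A (Dual.HD A ω (-(n : ℤ))) := Module.Invertible.congr θ.symm
    intro q
    obtain ⟨e1⟩ : Nonempty ((Localization.AtPrime q.asIdeal ⊗[A] Dual.HD A ω (-(n : ℤ)))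
        ≃ₗ[Localization.AtPrime q.asIdeal] Localization.AtPrime q.asIdeal) :=
      Module.Invertible.free_iff_linearEquiv.mp inferInstance
    have hvan' : ∀ i : ℤ, i ≠ -(n : ℤ) → Subsingleton (Dual.HD (Localization.AtPrime q.asIdeal)
        ((LB A (Localization.AtPrime q.asIdeal)).obj ω) i) :=
      fun i hi => subsingleton_HD_LB ω i (hvanω i hi)
    obtain ⟨e2⟩ := nonempty_iso_shift_of_single_degree
      ((LB A (Localization.AtPrime q.asIdeal)).obj ω) (n : ℤ) hvan'
      ((HD_LB_equiv (B := Localization.AtPrime q.asIdeal) ω (-(n : ℤ))).trans e1)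
    obtain ⟨f, hf, ⟨e3⟩⟩ :=
      exists_away_iso_of_localization_iso ω a b hab hfin q.asIdeal (n : ℤ) e2
    exact ⟨f, hf, n, ⟨e3⟩⟩
  · intro hG
    have h := hiff.mp hG
    refine ⟨Dual.HD A ω (-(n : ℤ)), inferInstance, inferInstance, ?_, ?_⟩
    · haveI : Module.Finite A (Dual.HD A ω (-(n : ℤ))) := hfin _
      haveI : Module.FinitePresentation A (Dual.HD A ω (-(n : ℤ))) :=
        Module.finitePresentation_of_finite A _
      apply Groth.Agent.H26.InvLocal.invertible_of_localization_maximal
      intro q hq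
      haveI hqp : q.IsPrime := hq.isPrime
      obtain ⟨f, hf, m, ⟨e⟩⟩ := h ⟨q, hqp⟩
      obtain ⟨eq⟩ := nonempty_LB_atPrime_iso_of_away ω q f hf m e
      obtain ⟨e1⟩ := nonempty_HD_equiv_of_iso_shift _ m eq
      have e2 := (HD_LB_equiv (B := Localization.AtPrime q) ω (-m)).symm.trans e1
      have hm : -m = -(n : ℤ) := by
        by_contra hne
        haveI := hvanω (-m) hne
        exact not_subsingleton (Localization.AtPrime q) e2.symm.toEquiv.subsingleton
      rw [hm] at e2
      exact Module.Invertible.congr e2.symm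
    · let θ₀ : RestrictScalars (MvPolynomial (Fin N) R) A (Dual.HD A ω (-(n : ℤ))) ≃+
          Abelian.Ext (ModuleCat.of (MvPolynomial (Fin N) R) A)
            (ModuleCat.of (MvPolynomial (Fin N) R) (MvPolynomial (Fin N) R)) (N - n) :=
        (RestrictScalars.addEquiv (MvPolynomial (Fin N) R) A _).trans Θ.symm
      refine ⟨θ₀.toLinearEquiv fun p x => ?_⟩
      change Θ.symm (RestrictScalars.addEquiv (MvPolynomial (Fin N) R) A _ (p • x)) = _
      rw [RestrictScalars.addEquiv_map_smul, hΘs]
      rfl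

end Main

end Groth.Agent.H28.ExtOmega
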