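import Mathlib
import Groth.Agent.H28.CMFibre4
import Groth.Agent.H28.ExtOmega3

/-!
# `Ext^j_P(A, P) = 0` for `j ≠ N - n` and `Ext^{N-n}_P(A, P)` flat iff the fibres are CM of pure
dimension `n` (helper28; S11361)
-/

set_option autoImplicit false
set_option linter.style.haveILetI false
set_option linter.unusedSectionVars false
set_option linter.overlappingInstances false
universe w u
open CategoryTheory Limits Pretriangulated DerivedCategory TensorProduct

namespace Groth.Agent.H28.CMFibre

attribute [local instance] HasDerivedCategory.standard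

open Groth.Agent.H35.LT Groth.Agent.H28.ExtOmega

section Main

variable (R A : Type u) [CommRing R] [CommRing A] [IsNoetherianRing R]
  [IsNoetherianRing A] [Algebra R A] [Module.Flat R A] (N n : ℕ) (hnN : n ≤ N)
  [Algebra (MvPolynomial (Fin N) R) A] [IsScalarTower R (MvPolynomial (Fin N) R) A]
  (hsurj : Function.Surjective (algebraMap (MvPolynomial (Fin N) R) A))
  [HasExt.{w} (ModuleCat.{u} (MvPolynomial (Fin N) R))]

include hnN hsurj in
set_option maxHeartbeats 1600000 in
/-- **S11361** in general form. -/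
theorem cm_fibres_iff_ext :
    (∀ p : PrimeSpectrum R, LocCoh.IsCohenMacaulayRing (A ⊗[R] p.asIdeal.ResidueField) ∧
      ∀ Q : PrimeSpectrum (A ⊗[R] p.asIdeal.ResidueField),
        Q.asIdeal ∈ minimalPrimes (A ⊗[R] p.asIdeal.ResidueField) →
          Order.coheight Q = (n : ℕ∞)) ↔
    ((∀ j : ℕ, j ≠ N - n → Subsingleton (Abelian.Ext
      (ModuleCat.of (MvPolynomial (Fin N) R) A)
      (ModuleCat.of (MvPolynomial (Fin N) R) (MvPolynomial (Fin N) R)) j)) ∧
      Module.Flat R (RestrictScalars R (MvPolynomial (Fin N) R) (Abelian.Ext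
        (ModuleCat.of (MvPolynomial (Fin N) R) A)
        (ModuleCat.of (MvPolynomial (Fin N) R) (MvPolynomial (Fin N) R)) (N - n)))) := by
  haveI : DRing.HasLBaseChange (algebraMap R (MvPolynomial (Fin N) R)) := hasLBaseChange _
  let ψ : MvPolynomial (Fin N) R →ₐ[R] A := IsScalarTower.toAlgHom R (MvPolynomial (Fin N) R) A
  have hψ : Function.Surjective ψ := hsurj
  let Rψ := Groth.Agent.H26.CoextBC.RR (MvPolynomial (Fin N) R) A
  have adj : DRing.restrictD (algebraMap (MvPolynomial (Fin N) R) A) ⊣ Rψ :=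
    Groth.Agent.H26.CoextBC.adjRR (MvPolynomial (Fin N) R) A
  have adjψ : DRing.restrictD ψ.toRingHom ⊣ Rψ := adj
  rw [cm_fibres_iff R A N ψ hψ Rψ adjψ n]
  set ω := Dual2.shriekVia N Rψ (Dual.inD R R) with hω
  obtain ⟨Θ, hΘ⟩ := exists_addEquiv_ext_HD_shriekVia R A N Rψ adj (N - n) (-(n : ℤ))
    (by omega)
  -- the `R`-linear comparison in degree `N - n`
  let θ₀ : RestrictScalars R (MvPolynomial (Fin N) R) (Abelian.Ext
        (ModuleCat.of (MvPolynomial (Fin N) R) A)
        (ModuleCat.of (MvPolynomial (Fin N) R) (MvPolynomial (Fin N) R)) (N - n)) ≃+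
      ((ModuleCat.restrictScalars (algebraMap R A)).obj
        ((DerivedCategory.homologyFunctor (ModuleCat.{u} A) (-(n : ℤ))).obj ω)) :=
    (RestrictScalars.addEquiv R (MvPolynomial (Fin N) R) _).trans Θ
  have θlin : ∀ (r : R) (x : RestrictScalars R (MvPolynomial (Fin N) R) (Abelian.Ext
        (ModuleCat.of (MvPolynomial (Fin N) R) A)
        (ModuleCat.of (MvPolynomial (Fin N) R) (MvPolynomial (Fin N) R)) (N - n))),
      θ₀ (r • x) = r • θ₀ x := by
    intro r x
    change Θ (RestrictScalars.addEquiv R (MvPolynomial (Fin N) R) _ (r • x)) =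
      algebraMap R A r • Θ (RestrictScalars.addEquiv R (MvPolynomial (Fin N) R) _ x)
    rw [RestrictScalars.addEquiv_map_smul, hΘ, ← IsScalarTower.algebraMap_apply]
  let θ := θ₀.toLinearEquiv θlin
  refine and_congr ⟨fun h j hj => ?_, fun h i hi => ?_⟩
    ⟨fun h => Module.Flat.of_linearEquiv θ, fun h => Module.Flat.of_linearEquiv θ.symm⟩
  · obtain ⟨Ψ, -⟩ := exists_addEquiv_ext_HD_shriekVia R A N Rψ adj j ((j : ℤ) - N) (by omega)
    haveI := h ((j : ℤ) - N) (by omega)
    exact Ψ.toEquiv.subsingleton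
  · by_cases hneg : (N : ℤ) + i < 0
    · exact subsingleton_HD_shriekVia_of_lt R A N Rψ adj i hneg
    · obtain ⟨k, hk⟩ : ∃ k : ℕ, (N : ℤ) + i = k := ⟨((N : ℤ) + i).toNat, by omega⟩
      obtain ⟨Ψ, -⟩ := exists_addEquiv_ext_HD_shriekVia R A N Rψ adj k i hk
      haveI := h k (by omega)
      exact Ψ.symm.toEquiv.subsingleton

end Main

end Groth.Agent.H28.CMFibre
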