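import Groth.Agent.H28.SimpleCartan
import Mathlib.Analysis.Matrix.PosDef
import Mathlib.LinearAlgebra.Matrix.ToLinearEquiv
import Mathlib.Algebra.Order.Star.Real

set_option autoImplicit false

namespace Groth.Agent.H28

open Set Function RootD RootPairing Matrix

variable {ι M N : Type*} [AddCommGroup M] [AddCommGroup N] (P : RootPairing ι ℤ M N) [Fintype ι]
variable {κ : Type*} [Fintype κ] [DecidableEq κ] (f : κ → ι)

/-- The matrix of pairings of the family against all coroots, with real entries. -/
noncomputable def pairMat : Matrix κ ι ℝ := Matrix.of fun a k => ((P.pairing (f a) k : ℤ) : ℝ)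

omit [Fintype κ] [DecidableEq κ] in
theorem symCartan_map_eq :
    (symCartan P f).map (Int.cast : ℤ → ℝ) = (2 : ℝ) • (pairMat P f * (pairMat P f)ᴴ) := by
  ext a b
  simp only [Matrix.map_apply, symCartan_apply, Matrix.smul_apply, Matrix.mul_apply,
    Matrix.conjTranspose_apply, pairMat, Matrix.of_apply, star_trivial, smul_eq_mul]
  rw [P.rootForm_apply_apply]
  push_cast
  simp

theorem det_symCartan_nonneg : 0 ≤ (symCartan P f).det := by
  have h1 : ((symCartan P f).map (Int.cast : ℤ → ℝ)).PosSemidef := by
    rw [symCartan_map_eq]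
    exact (Matrix.posSemidef_self_mul_conjTranspose (pairMat P f)).smul (by norm_num)
  have h2 := h1.det_nonneg
  have h3 : ((symCartan P f).map (Int.cast : ℤ → ℝ)).det = (((symCartan P f).det : ℤ) : ℝ) := by
    have := (Int.castRingHom ℝ).map_det (symCartan P f)
    simpa [RingHom.mapMatrix_apply] using this.symm
  rw [h3] at h2
  exact_mod_cast h2

theorem det_symCartan_ne_zero (hli : LinearIndependent ℤ (fun a : κ => P.root (f a))) :
    (symCartan P f).det ≠ 0 := by
  intro h0
  obtain ⟨v, hv, hv0⟩ := (Matrix.exists_mulVec_eq_zero_iff).mpr h0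
  have := (symCartan_posDef P f hli).dotProduct_mulVec_pos hv
  rw [hv0] at this
  simp at this

theorem det_symCartan_pos (hli : LinearIndependent ℤ (fun a : κ => P.root (f a))) :
    0 < (symCartan P f).det :=
  lt_of_le_of_ne (det_symCartan_nonneg P f) (det_symCartan_ne_zero P f hli).symm

theorem symCartan_eq_diagonal_mul :
    symCartan P f = Matrix.diagonal (fun a => P.RootForm (P.root (f a)) (P.root (f a))) *
      Matrix.of fun a b : κ => P.pairing (f b) (f a) := by
  ext a b
  simp [symCartan, Matrix.diagonal_mul]

theorem det_cartan_pos (hli : LinearIndependent ℤ (fun a : κ => P.root (f a))) :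
    0 < (Matrix.of fun a b : κ => P.pairing (f b) (f a)).det := by
  have h1 := det_symCartan_pos P f hli
  rw [symCartan_eq_diagonal_mul, Matrix.det_mul, Matrix.det_diagonal] at h1
  have h2 : 0 < ∏ a : κ, P.RootForm (P.root (f a)) (P.root (f a)) :=
    Finset.prod_pos fun a _ => rootForm_root_self_pos P (f a)
  by_contra hb
  push Not at hb
  have := mul_nonpos_of_nonneg_of_nonpos h2.le hb
  omega

end Groth.Agent.H28
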