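import Mathlib.LinearAlgebra.RootSystem.Base
import Mathlib.LinearAlgebra.RootSystem.BaseExists
import Mathlib.LinearAlgebra.RootSystem.WeylGroup
import Groth.Prelude.Def_W4sga3xxiRoot

set_option autoImplicit false

namespace Groth.Agent.H28

open Set Function

variable {ι M N : Type*} [AddCommGroup M] [AddCommGroup N] (P : RootPairing ι ℤ M N)

include P in
theorem isReflexive_weight : Module.IsReflexive ℤ M := .of_isPerfPair P.toLinearMap

include P in
theorem isTorsionFree_weight : Module.IsTorsionFree ℤ M := by
  have := isReflexive_weight P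
  infer_instance

include P in
theorem isAddTorsionFree_weight : IsAddTorsionFree M := by
  have := isTorsionFree_weight P
  exact Module.isTorsionFree_int_iff_isAddTorsionFree.mp this

include P in
theorem isAddTorsionFree_coweight : IsAddTorsionFree N :=
  isAddTorsionFree_weight P.flip

theorem pairingIn_int (i j : ι) : P.pairingIn ℤ i j = P.pairing i j := by
  simpa using P.algebraMap_pairingIn ℤ i j

variable [Finite ι]

theorem pairing_pos_iff (i j : ι) : 0 < P.pairing i j ↔ 0 < P.pairing j i := by
  have := P.zero_lt_pairingIn_iff' ℤ (i := i) (j := j)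
  simpa [pairingIn_int] using this

theorem pairing_neg_iff (i j : ι) : P.pairing i j < 0 ↔ P.pairing j i < 0 := by
  have := P.pairingIn_lt_zero_iff ℤ (i := i) (j := j)
  simpa [pairingIn_int] using this

omit [Finite ι] in
theorem pairing_zero_iff (i j : ι) : P.pairing i j = 0 ↔ P.pairing j i = 0 :=
  P.pairing_eq_zero_iff'

theorem root_sub_root_mem_of_pairing_pos {i j : ι} (h : 0 < P.pairing i j) (h' : i ≠ j) :
    P.root i - P.root j ∈ range P.root := by
  apply P.root_sub_root_mem_of_pairingIn_pos _ h'
  rwa [pairingIn_int]

theorem root_add_root_mem_of_pairing_neg {i j : ι} (h : P.pairing i j < 0)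
    (h' : P.root i ≠ -P.root j) :
    P.root i + P.root j ∈ range P.root := by
  apply P.root_add_root_mem_of_pairingIn_neg _ h'
  rwa [pairingIn_int]

omit [Finite ι] in
theorem isOrthogonal_iff (i j : ι) : P.IsOrthogonal i j ↔ P.pairing i j = 0 := by
  have := isTorsionFree_weight P
  exact RootPairing.isOrthogonal_iff_pairing_eq_zero

omit [Finite ι] in
theorem pairing_eq_sum {n : ℕ} (a : Fin n → ι) (m : Fin n → ℤ) (x : M) (j : ι)
    (hx : x = ∑ l, m l • P.root (a l)) :
    P.toLinearMap x (P.coroot j) = ∑ l, m l * P.pairing (a l) j := by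
  subst hx
  simp [map_sum]

end Groth.Agent.H28
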