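import Mathlib
import Groth.Agent.H28.RootBasic

/-!
# Isomorphism theorem for adjoint reduced root data over ℤ (SGA3 XXI 7.4.x style)

Two reduced root pairings over `ℤ` whose roots span the weight lattice, with bases `b`, `b'` and a
bijection of bases preserving pairings, are isomorphic through a unique isomorphism inducing the
bijection.
-/

set_option autoImplicit false

namespace Groth.Agent.H28

open RootPairing Module Set Function Submodule

section

variable {ι M N : Type*} [AddCommGroup M] [AddCommGroup N]

/-- In the adjoint case a base gives a `ℤ`-basis of the weight lattice. -/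
noncomputable def adjBasis (P : RootPairing ι ℤ M N)
    (had : span ℤ (range P.root) = ⊤) (b : P.Base) : Basis b.support ℤ M :=
  Basis.mk b.linearIndepOn_root <| by
    change ⊤ ≤ span ℤ (range <| P.root ∘ ((↑) : b.support → ι))
    rw [range_comp, Subtype.range_coe, b.span_int_root_support, had]

@[simp] lemma adjBasis_apply (P : RootPairing ι ℤ M N)
    (had : span ℤ (range P.root) = ⊤) (b : P.Base) (i : b.support) :
    adjBasis P had b i = P.root i := by
  simp [adjBasis]

end

section

variable {ι M N ι' M' N' : Type*} [AddCommGroup M] [AddCommGroup N] [AddCommGroup M']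
  [AddCommGroup N'] {P : RootPairing ι ℤ M N} {P' : RootPairing ι' ℤ M' N'}

/-- Adaptation of Mathlib's `apply_mem_range_root_of_cartanMatrixEq` to the adjoint case over `ℤ`:
a linear equivalence sending simple roots to simple roots compatibly with the Cartan matrices sends
roots to roots. -/
lemma apply_mem_range_root_of_pairing_eq [Finite ι] [P.IsReduced]
    (had : span ℤ (range P.root) = ⊤) (b : P.Base) (b' : P'.Base)
    (u : b.support → b'.support)
    (hu : ∀ i j : b.support, P.pairing (i : ι) (j : ι) = P'.pairing (u i : ι') (u j : ι'))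
    (f : M ≃ₗ[ℤ] M') (hf : ∀ i : b.support, f (P.root i) = P'.root (u i))
    (m : M) (hm : m ∈ range P.root) : f m ∈ range P'.root := by
  have (k : b.support) : (P.reflection k).trans f = f.trans (P'.reflection (u k)) := by
    suffices ∀ j : b.support,
        (P.reflection k).trans f (P.root j) = f.trans (P'.reflection (u k)) (P.root j) by
      rw [← LinearEquiv.toLinearMap_inj]
      exact (adjBasis P had b).ext fun j ↦ by simpa using this j
    intro j
    simp [RootPairing.reflection_apply, hf, hu]
  obtain ⟨i, rfl⟩ := hm
  apply b.induction_reflect i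
  · exact fun j ⟨k, hk⟩ ↦ ⟨P'.reflectionPerm k k, by simpa⟩
  · exact fun j hj ↦ ⟨u ⟨j, hj⟩, (hf _).symm⟩
  · intro j k ⟨l, hl⟩ hk
    replace this : f (P.reflection k (P.root j)) = (P'.reflection (u ⟨k, hk⟩)) (f (P.root j)) := by
      simpa using LinearEquiv.congr_fun (this ⟨k, hk⟩) (P.root j)
    rw [root_reflectionPerm, this, ← hl, ← root_reflectionPerm]
    exact mem_range_self _

/-- The coroot compatibility of the transpose of a root-preserving linear equivalence, in the
adjoint case. -/
lemma coroot_transpose_of_root_eq [Finite ι]
    (had : span ℤ (range P.root) = ⊤)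
    (f : M ≃ₗ[ℤ] M') (e : ι ≃ ι') (he : ∀ i, f (P.root i) = P'.root (e i)) (i' : ι') :
    (P'.flip.toPerfPair.trans (f.dualMap.trans P.flip.toPerfPair.symm)) (P'.coroot i') =
      P.coroot (e.symm i') := by
  have := isTorsionFree_weight P
  apply P.flip.toPerfPair.injective
  simp only [LinearEquiv.trans_apply, LinearEquiv.apply_symm_apply]
  refine Dual.eq_of_preReflection_mapsTo (x := P.root (e.symm i')) (finite_range P.root) had
    ?_ ?_ ?_ ?_
  · simp [he]
  · rintro - ⟨j, rfl⟩
    refine ⟨e.symm (P'.reflectionPerm i' (e j)), f.injective ?_⟩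
    simp [he, preReflection_apply, RootPairing.reflection_apply]
  · simp
  · exact P.mapsTo_reflection_root (e.symm i')

/-- Existence part of the isomorphism theorem in the adjoint case. -/
theorem exists_equiv_of_pairing_eq [Finite ι] [Finite ι'] [P.IsReduced] [P'.IsReduced]
    (had : span ℤ (range P.root) = ⊤) (had' : span ℤ (range P'.root) = ⊤)
    (b : P.Base) (b' : P'.Base) (u : b.support ≃ b'.support)
    (hu : ∀ i j : b.support, P.pairing (i : ι) (j : ι) = P'.pairing (u i : ι') (u j : ι')) :
    ∃ e : RootPairing.Equiv P P', ∀ i : b.support, e.indexEquiv (i : ι) = (u i : ι') := by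
  classical
  let f : M ≃ₗ[ℤ] M' := (adjBasis P had b).equiv (adjBasis P' had' b') u
  have hf₀ : ∀ i : b.support, f (P.root i) = P'.root (u i) := fun i ↦ by
    rw [← adjBasis_apply P had b i, Basis.equiv_apply, adjBasis_apply]
  have hf₁ : ∀ i : b'.support, f.symm (P'.root i) = P.root (u.symm i) := fun i ↦ by
    rw [LinearEquiv.symm_apply_eq, hf₀, Equiv.apply_symm_apply]
  have hf : ∀ m, f m ∈ range P'.root ↔ m ∈ range P.root := by
    refine fun m ↦ ⟨fun h ↦ ?_, fun h ↦ ?_⟩
    · simpa using apply_mem_range_root_of_pairing_eq had' b' b u.symm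
        (fun i j ↦ by simpa using (hu (u.symm i) (u.symm j)).symm) f.symm hf₁ (f m) h
    · exact apply_mem_range_root_of_pairing_eq had b b' u hu f hf₀ m h
  let : Fintype ι := Fintype.ofFinite _
  let : Fintype ι' := Fintype.ofFinite _
  let e' : ι ≃ ι' := P.root.toEquivRange.trans <| (f.bijOn hf).equiv.trans P'.root.toEquivRange.symm
  have he' (i : ι) : f (P.root i) = P'.root (e' i) := by
    simp [e', BijOn.equiv, Embedding.toEquivRange]
  refine ⟨{ weightMap := f
            coweightMap := P'.flip.toPerfPair.trans (f.dualMap.trans P.flip.toPerfPair.symm)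
            indexEquiv := e'
            weight_coweight_transpose := by ext; simp
            root_weightMap := by ext; simp [he']
            coroot_coweightMap := by
              ext i'
              exact coroot_transpose_of_root_eq had f e' he' i'
            bijective_weightMap := LinearEquiv.bijective _
            bijective_coweightMap := LinearEquiv.bijective _ }, fun i ↦ ?_⟩
  apply P'.root.injective
  change P'.root (e' i) = _
  rw [← he', hf₀]

/-- Uniqueness part of the isomorphism theorem in the adjoint case. -/
theorem equiv_ext_of_indexEquiv_eq_on_base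
    (had : span ℤ (range P.root) = ⊤) (b : P.Base)
    (e₁ e₂ : RootPairing.Equiv P P')
    (h : ∀ i : b.support, e₁.indexEquiv (i : ι) = e₂.indexEquiv (i : ι)) : e₁ = e₂ := by
  have hw : e₁.weightMap = e₂.weightMap := by
    refine (adjBasis P had b).ext fun i ↦ ?_
    rw [adjBasis_apply, Hom.root_weightMap_apply, Hom.root_weightMap_apply, h]
  have hi : e₁.indexEquiv = e₂.indexEquiv := by
    ext i
    apply P'.root.injective
    rw [← Hom.root_weightMap_apply, ← Hom.root_weightMap_apply, hw]
  have hc : e₁.coweightMap = e₂.coweightMap := by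
    ext x
    apply P.flip.toPerfPair.injective
    rw [← Hom.weight_coweight_transpose_apply, ← Hom.weight_coweight_transpose_apply, hw]
  exact RootPairing.Equiv.ext hw hc hi

/-- **Isomorphism theorem, adjoint case** (SGA3 XXI): two reduced adjoint root data over `ℤ` with
bases `b`, `b'` and a bijection `u : b ≃ b'` preserving the Cartan matrices are isomorphic through a
unique isomorphism inducing `u`. -/
theorem existsUnique_equiv_of_pairing_eq [Finite ι] [Finite ι'] [P.IsReduced] [P'.IsReduced]
    (had : span ℤ (range P.root) = ⊤) (had' : span ℤ (range P'.root) = ⊤)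
    (b : P.Base) (b' : P'.Base) (u : b.support ≃ b'.support)
    (hu : ∀ i j : b.support, P.pairing (i : ι) (j : ι) = P'.pairing (u i : ι') (u j : ι')) :
    ∃! e : RootPairing.Equiv P P', ∀ i : b.support, e.indexEquiv (i : ι) = (u i : ι') := by
  obtain ⟨e, he⟩ := exists_equiv_of_pairing_eq had had' b b' u hu
  refine ⟨e, he, fun e' he' ↦ ?_⟩
  exact equiv_ext_of_indexEquiv_eq_on_base had b e' e fun i ↦ by rw [he, he']

end

end Groth.Agent.H28
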