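import Mathlib.Algebra.Homology.HomotopyCategory.MappingCocone
import Mathlib.Algebra.Homology.Refinements

/-!
# Coordinates on the mapping cocone

For `u : E ⟶ F` we write morphisms `T ⟶ (mappingCocone u).X p` as pairs `(e, y)` with
`e : T ⟶ E.X p` and `y : T ⟶ F.X (p-1)`.
-/

set_option autoImplicit false

universe v u

open CategoryTheory CategoryTheory.Limits CochainComplex HomComplex

namespace Groth.Agent.H28.CoconeCoord

variable {C : Type u} [Category.{v} C] [Preadditive C]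
  {E F : CochainComplex C ℤ} (u : E ⟶ F) [HomologicalComplex.HasHomotopyCofiber u]

lemma snd_eq_descCochain :
    mappingCocone.snd u =
      mappingCocone.descCochain u (0 : Cochain E F (-1)) (Cochain.ofHom (𝟙 F)) (by lia) := by
  ext p q hpq
  have h := mappingCocone.id_X u p q hpq
  rw [← Category.id_comp ((mappingCocone.descCochain u (0 : Cochain E F (-1))
    (Cochain.ofHom (𝟙 F)) (by lia)).v p q hpq), ← h, Preadditive.add_comp, Category.assoc,
    Category.assoc, mappingCocone.inl_v_descCochain_v,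
    mappingCocone.inr_v_descCochain_v u _ _ _ q p (by lia) q hpq]
  simp

lemma δ_snd :
    δ (-1) 0 (mappingCocone.snd u) = -(Cochain.ofHom (mappingCocone.fst u ≫ u)) := by
  rw [snd_eq_descCochain, mappingCocone.δ_descCochain u _ _ _ 1 (by lia)]
  simp

lemma d_snd_v (p p' q : ℤ) (hpp' : p + 1 = p') (hpq : p + -1 = q) :
    (mappingCocone u).d p p' ≫ (mappingCocone.snd u).v p' p (by lia) =
      -(mappingCocone.fst u).f p ≫ u.f p - (mappingCocone.snd u).v p q hpq ≫ F.d q p := by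
  have h := Cochain.congr_v (δ_snd u) p p (add_zero p)
  rw [δ_v (-1) 0 (neg_add_cancel 1) _ p p (add_zero p) q p' (by lia) hpp'] at h
  simp only [Int.negOnePow_zero, one_smul, Cochain.neg_v, Cochain.ofHom_v,
    HomologicalComplex.comp_f] at h
  rw [← h]
  abel

lemma ext_to (p q : ℤ) (hpq : p + -1 = q) {T : C} {f g : T ⟶ (mappingCocone u).X p}
    (h₁ : f ≫ (mappingCocone.fst u).f p = g ≫ (mappingCocone.fst u).f p)
    (h₂ : f ≫ (mappingCocone.snd u).v p q hpq = g ≫ (mappingCocone.snd u).v p q hpq) :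
    f = g := by
  have h := mappingCocone.id_X u p q hpq
  rw [← Category.comp_id f, ← Category.comp_id g, ← h, Preadditive.comp_add,
    Preadditive.comp_add, reassoc_of% h₁, reassoc_of% h₂]

/-- the morphism to the cocone with given coordinates -/
noncomputable def mk {T : C} {p q : ℤ} (hpq : p + -1 = q) (e : T ⟶ E.X p) (y : T ⟶ F.X q) :
    T ⟶ (mappingCocone u).X p :=
  e ≫ (mappingCocone.inl u).v p p (add_zero p) + y ≫ (mappingCocone.inr u).1.v q p (by lia)

variable {u}

@[reassoc (attr := simp)]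
lemma mk_fst {T : C} {p q : ℤ} (hpq : p + -1 = q) (e : T ⟶ E.X p) (y : T ⟶ F.X q) :
    mk u hpq e y ≫ (mappingCocone.fst u).f p = e := by
  simp [mk]

@[reassoc (attr := simp)]
lemma mk_snd {T : C} {p q : ℤ} (hpq : p + -1 = q) (e : T ⟶ E.X p) (y : T ⟶ F.X q) :
    mk u hpq e y ≫ (mappingCocone.snd u).v p q hpq = y := by
  simp [mk]

lemma eq_mk {T : C} {p q : ℤ} (hpq : p + -1 = q) (x : T ⟶ (mappingCocone u).X p) :
    x = mk u hpq (x ≫ (mappingCocone.fst u).f p) (x ≫ (mappingCocone.snd u).v p q hpq) := by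
  apply ext_to u p q hpq <;> simp

lemma mk_d {T : C} {p p' q : ℤ} (hpq : p + -1 = q) (hpp' : p + 1 = p') (e : T ⟶ E.X p)
    (y : T ⟶ F.X q) :
    mk u hpq e y ≫ (mappingCocone u).d p p' =
      mk u (show p' + -1 = p by lia) (e ≫ E.d p p') (-e ≫ u.f p - y ≫ F.d q p) := by
  apply ext_to u p' p (by lia)
  · rw [Category.assoc, ← (mappingCocone.fst u).comm p p', mk_fst_assoc, mk_fst]
  · rw [Category.assoc, d_snd_v u p p' q hpp' hpq]
    simp

lemma comp_mk {T T' : C} (t : T' ⟶ T) {p q : ℤ} (hpq : p + -1 = q) (e : T ⟶ E.X p)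
    (y : T ⟶ F.X q) : t ≫ mk u hpq e y = mk u hpq (t ≫ e) (t ≫ y) := by
  simp [mk]

lemma mk_add {T : C} {p q : ℤ} (hpq : p + -1 = q) (e e' : T ⟶ E.X p) (y y' : T ⟶ F.X q) :
    mk u hpq e y + mk u hpq e' y' = mk u hpq (e + e') (y + y') := by
  simp only [mk, Preadditive.add_comp]
  abel

lemma mk_eq_zero_iff {T : C} {p q : ℤ} (hpq : p + -1 = q) (e : T ⟶ E.X p) (y : T ⟶ F.X q) :
    mk u hpq e y = 0 ↔ e = 0 ∧ y = 0 := by
  constructor
  · intro h
    have h1 := h =≫ (mappingCocone.fst u).f p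
    have h2 := h =≫ (mappingCocone.snd u).v p q hpq
    simpa using And.intro h1 h2
  · rintro ⟨rfl, rfl⟩
    simp [mk]

lemma mk_eq_mk_iff {T : C} {p q : ℤ} (hpq : p + -1 = q) (e e' : T ⟶ E.X p)
    (y y' : T ⟶ F.X q) :
    mk u hpq e y = mk u hpq e' y' ↔ e = e' ∧ y = y' := by
  constructor
  · intro h
    have h1 := h =≫ (mappingCocone.fst u).f p
    have h2 := h =≫ (mappingCocone.snd u).v p q hpq
    simpa using And.intro h1 h2
  · rintro ⟨rfl, rfl⟩
    rfl

end Groth.Agent.H28.CoconeCoord
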