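import Mathlib.Algebra.Homology.HomotopyCategory.MappingCone
import Mathlib.Algebra.Homology.Refinements

/-!
# Coordinates on the mapping cone

For `φ : A ⟶ B` we write morphisms `T ⟶ (mappingCone φ).X i` as pairs `(a, b)` with
`a : T ⟶ A.X (i+1)` and `b : T ⟶ B.X i`.
-/

set_option autoImplicit false

universe v u

open CategoryTheory CategoryTheory.Limits CochainComplex HomComplex

namespace Groth.Agent.H28.ConeCoord

variable {C : Type u} [Category.{v} C] [Preadditive C]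
  {A B : CochainComplex C ℤ} (φ : A ⟶ B) [HomologicalComplex.HasHomotopyCofiber φ]

/-- the morphism to the cone with given coordinates -/
noncomputable def mk {T : C} {i j : ℤ} (hij : i + 1 = j) (a : T ⟶ A.X j) (b : T ⟶ B.X i) :
    T ⟶ (mappingCone φ).X i :=
  a ≫ (mappingCone.inl φ).v j i (by lia) + b ≫ (mappingCone.inr φ).f i

variable {φ}

@[simp]
lemma mk_fst {T : C} {i j : ℤ} (hij : i + 1 = j) (a : T ⟶ A.X j) (b : T ⟶ B.X i) :
    mk φ hij a b ≫ (mappingCone.fst φ).1.v i j hij = a := by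
  simp [mk]

@[simp]
lemma mk_snd {T : C} {i j : ℤ} (hij : i + 1 = j) (a : T ⟶ A.X j) (b : T ⟶ B.X i) :
    mk φ hij a b ≫ (mappingCone.snd φ).v i i (add_zero i) = b := by
  simp [mk]

lemma eq_mk {T : C} {i j : ℤ} (hij : i + 1 = j) (x : T ⟶ (mappingCone φ).X i) :
    x = mk φ hij (x ≫ (mappingCone.fst φ).1.v i j hij)
      (x ≫ (mappingCone.snd φ).v i i (add_zero i)) := by
  apply mappingCone.ext_to φ i j hij <;> simp

lemma mk_ext {T : C} {i j : ℤ} (hij : i + 1 = j) {a a' : T ⟶ A.X j} {b b' : T ⟶ B.X i}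
    (ha : a = a') (hb : b = b') : mk φ hij a b = mk φ hij a' b' := by
  rw [ha, hb]

lemma mk_d {T : C} {i j k : ℤ} (hij : i + 1 = j) (hjk : j + 1 = k) (a : T ⟶ A.X j)
    (b : T ⟶ B.X i) :
    mk φ hij a b ≫ (mappingCone φ).d i j =
      mk φ hjk (-a ≫ A.d j k) (a ≫ φ.f j + b ≫ B.d i j) := by
  apply mappingCone.ext_to φ j k hjk
  · simp [mk, mappingCone.d_fst_v φ i j k hij hjk]
  · simp [mk, mappingCone.d_snd_v φ i j hij]

lemma comp_mk {T T' : C} (t : T' ⟶ T) {i j : ℤ} (hij : i + 1 = j) (a : T ⟶ A.X j)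
    (b : T ⟶ B.X i) : t ≫ mk φ hij a b = mk φ hij (t ≫ a) (t ≫ b) := by
  simp [mk]

lemma mk_add {T : C} {i j : ℤ} (hij : i + 1 = j) (a a' : T ⟶ A.X j) (b b' : T ⟶ B.X i) :
    mk φ hij a b + mk φ hij a' b' = mk φ hij (a + a') (b + b') := by
  simp only [mk, Preadditive.add_comp]
  abel

lemma mk_sub {T : C} {i j : ℤ} (hij : i + 1 = j) (a a' : T ⟶ A.X j) (b b' : T ⟶ B.X i) :
    mk φ hij a b - mk φ hij a' b' = mk φ hij (a - a') (b - b') := by
  simp only [mk, Preadditive.sub_comp]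
  abel

lemma mk_eq_zero_iff {T : C} {i j : ℤ} (hij : i + 1 = j) (a : T ⟶ A.X j) (b : T ⟶ B.X i) :
    mk φ hij a b = 0 ↔ a = 0 ∧ b = 0 := by
  rw [mappingCone.ext_to_iff φ i j hij]
  simp

lemma mk_eq_mk_iff {T : C} {i j : ℤ} (hij : i + 1 = j) (a a' : T ⟶ A.X j)
    (b b' : T ⟶ B.X i) :
    mk φ hij a b = mk φ hij a' b' ↔ a = a' ∧ b = b' := by
  rw [mappingCone.ext_to_iff φ i j hij]
  simp

lemma mk_desc {K : CochainComplex C ℤ} (α : Cochain A K (-1)) (β : B ⟶ K)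
    (eq : δ (-1) 0 α = Cochain.ofHom (φ ≫ β)) {T : C} {i j : ℤ} (hij : i + 1 = j)
    (a : T ⟶ A.X j) (b : T ⟶ B.X i) :
    mk φ hij a b ≫ (mappingCone.desc φ α β eq).f i =
      a ≫ α.v j i (by lia) + b ≫ β.f i := by
  simp [mk]

lemma inr_eq_mk {i j : ℤ} (hij : i + 1 = j) {T : C} (b : T ⟶ B.X i) :
    b ≫ (mappingCone.inr φ).f i = mk φ hij 0 b := by
  simp [mk]

end Groth.Agent.H28.ConeCoord
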