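import Groth.Agent.H28.SimpleCartan

set_option autoImplicit false

namespace Groth.Agent.H28

open Set Function RootD RootPairing

/-- If `m j • w j = t j • v j` with `m j, t j ≠ 0` and `v` is linearly independent over `ℤ` in a
torsion-free group, then so is `w`. -/
theorem linearIndependent_of_smul_eq_smul {κ V : Type*} [AddCommGroup V] [IsAddTorsionFree V]
    (v w : κ → V) (m t : κ → ℤ) (hm : ∀ j, m j ≠ 0) (ht : ∀ j, t j ≠ 0)
    (h : ∀ j, m j • w j = t j • v j) (hv : LinearIndependent ℤ v) : LinearIndependent ℤ w := by
  classical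
  rw [linearIndependent_iff'] at hv ⊢
  intro s g hg i hi
  have key : ∑ j ∈ s, (g j * (∏ l ∈ s.erase j, m l) * t j) • v j = 0 := by
    have h1 : (∏ l ∈ s, m l) • ∑ j ∈ s, g j • w j = 0 := by rw [hg, smul_zero]
    rw [Finset.smul_sum] at h1
    rw [← h1]
    apply Finset.sum_congr rfl
    intro j hj
    rw [← Finset.mul_prod_erase s m hj, mul_smul, mul_smul, ← h j, smul_smul, smul_smul, smul_smul]
    congr 1
    ring
  have := hv s _ key i hi
  have hprod : (∏ l ∈ s.erase i, m l) ≠ 0 := Finset.prod_ne_zero_iff.mpr fun l _ => hm l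
  rcases mul_eq_zero.mp this with h' | h'
  · rcases mul_eq_zero.mp h' with h'' | h''
    · exact h''
    · exact absurd h'' hprod
  · exact absurd h' (ht i)

variable {ι M N : Type*} [AddCommGroup M] [AddCommGroup N] (P : RootPairing ι ℤ M N) [Fintype ι]
variable {κ : Type*} (f : κ → ι)

theorem polarization_eq_zero_imp {x : M} (hx : x ∈ P.rootSpan ℤ) (h : P.Polarization x = 0) :
    x = 0 := by
  apply P.eq_zero_of_mem_rootSpan_of_rootForm_self_eq_zero hx
  rw [← P.toLinearMap_apply_apply_Polarization, h, map_zero]

theorem linearIndependent_polarization (hli : LinearIndependent ℤ (fun a : κ => P.root (f a))) :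
    LinearIndependent ℤ (fun a : κ => P.Polarization (P.root (f a))) := by
  have := hli.map (f := P.Polarization) (by
    rw [Submodule.disjoint_def]
    intro x hx hker
    apply polarization_eq_zero_imp P _ (LinearMap.mem_ker.mp hker)
    exact Submodule.span_mono (by rintro _ ⟨a, rfl⟩; exact mem_range_self _) hx)
  exact this

theorem linearIndependent_coroot (hli : LinearIndependent ℤ (fun a : κ => P.root (f a))) :
    LinearIndependent ℤ (fun a : κ => P.coroot (f a)) := by
  have := isAddTorsionFree_coweight P
  apply linearIndependent_of_smul_eq_smul (fun a : κ => P.Polarization (P.root (f a)))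
    (fun a : κ => P.coroot (f a)) (fun a => P.RootForm (P.root (f a)) (P.root (f a)))
    (fun _ => 2) (fun a => (rootForm_root_self_pos P (f a)).ne') (fun _ => by norm_num)
    _ (linearIndependent_polarization P f hli)
  intro a
  have := P.rootForm_self_smul_coroot (f a)
  rw [this]
  simp [two_smul]

end Groth.Agent.H28
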