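import Groth.Agent.H28.SimplePos

set_option autoImplicit false

namespace Groth.Agent.H28

open Set Function RootD RootPairing

variable {ι M N : Type*} [AddCommGroup M] [AddCommGroup N] {P : RootPairing ι ℤ M N} {Δ : Set ι}

variable (P Δ) in
/-- The subgroup generated by the simple reflections. -/
noncomputable def WΔ : Subgroup P.Aut := Subgroup.closure ((fun i : ι => Equiv.reflection P i) '' Δ)

theorem reflection_mem_WΔ {a : ι} (ha : a ∈ Δ) : Equiv.reflection P a ∈ WΔ P Δ :=
  Subgroup.subset_closure ⟨a, ha, rfl⟩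

theorem WΔ_le_weylGroup : WΔ P Δ ≤ P.weylGroup := by
  apply Subgroup.closure_mono
  rintro _ ⟨i, _, rfl⟩
  exact mem_range_self i

theorem reflection_smul_idx (a k : ι) : Equiv.reflection P a • k = P.reflectionPerm a k := rfl

/-- Conjugation formula for reflections in the automorphism group. -/
theorem aut_conj_reflection (u : P.Aut) (i : ι) :
    u * Equiv.reflection P i * u⁻¹ = Equiv.reflection P (u • i) := by
  apply Equiv.weightHom_injective P
  rw [map_mul, map_mul, map_inv]
  ext x
  have hroot : Equiv.weightHom P u (P.root i) = P.root (u • i) :=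
    Hom.root_weightMap_apply P P i u.toHom
  have hco : u.toHom.coweightMap (P.coroot (u • i)) = P.coroot i := by
    have := Hom.coroot_coweightMap_apply P P (u • i) u.toHom
    rw [this]
    congr 1
    exact u.toHom.indexEquiv.symm_apply_apply i
  have htr : ∀ (m : M) (n : N), P.toLinearMap (Equiv.weightHom P u m) n =
      P.toLinearMap m (u.toHom.coweightMap n) := by
    intro m n
    have := Hom.weight_coweight_transpose_apply P P n u.toHom
    have := LinearMap.congr_fun this m
    simpa using this
  have hx : x = Equiv.weightHom P u ((Equiv.weightHom P u)⁻¹ x) := by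
    simp
  set y := (Equiv.weightHom P u)⁻¹ x with hy
  simp only [LinearEquiv.mul_apply, Equiv.weightHom_apply, Equiv.reflection_weightEquiv]
  change Equiv.weightHom P u (P.reflection i y) = P.reflection (u • i) x
  rw [RootPairing.reflection_apply, RootPairing.reflection_apply, map_sub, map_smul, hroot, ← hx]
  congr 2
  simp only [LinearMap.flip_apply]
  rw [hx, htr, hco]

theorem reflection_neg_eq (k : ι) :
    Equiv.reflection P (P.reflectionPerm k k) = Equiv.reflection P k := by
  apply Equiv.weightHom_injective P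
  ext x
  change P.reflection _ x = P.reflection k x
  rw [RootPairing.reflection_apply, RootPairing.reflection_apply]
  simp

variable (hΔ : IsSimpleSys P Δ) [Finite ι]

include hΔ

theorem exists_WΔ_smul_eq_of_pos_indiv :
    ∀ (n : ℕ) (k : ι), 0 ≤ coeff hΔ k → IsIndiv P k → (ht hΔ k).toNat = n →
      ∃ g ∈ WΔ P Δ, ∃ i ∈ Δ, g • i = k := by
  intro n
  induction n using Nat.strong_induction_on with
  | _ n ih =>
    intro k hk hind hn
    by_cases hkΔ : k ∈ Δ
    · exact ⟨1, one_mem _, k, hkΔ, one_smul _ k⟩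
    obtain ⟨a, _, hpos⟩ := exists_pos_pairing_of_pos hΔ hk
    have hpos' : 0 < P.pairing k a := (pairing_pos_iff P _ _).mp hpos
    have hka : k ≠ a := fun h => hkΔ (h ▸ a.2)
    have hk' := pos_reflectionPerm_of_indiv hΔ hk hind a hka
    have hind' := isIndiv_reflectionPerm hind (a : ι)
    have hht : ht hΔ (P.reflectionPerm a k) = ht hΔ k - P.pairing k a := ht_reflectionPerm hΔ a k
    have hht0 := ht_pos_of_pos hΔ hk'
    have hlt : (ht hΔ (P.reflectionPerm a k)).toNat < n := by
      rw [← hn]
      omega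
    obtain ⟨g, hg, i, hi, hgi⟩ := ih _ hlt _ hk' hind' rfl
    refine ⟨Equiv.reflection P a * g, mul_mem (reflection_mem_WΔ a.2) hg, i, hi, ?_⟩
    rw [mul_smul, hgi, reflection_smul_idx, RootPairing.reflectionPerm_self]

theorem exists_WΔ_smul_eq_of_indiv (k : ι) (hind : IsIndiv P k) :
    ∃ g ∈ WΔ P Δ, ∃ i ∈ Δ, g • i = k := by
  rcases coeff_nonneg_or_nonpos hΔ k with h | h
  · exact exists_WΔ_smul_eq_of_pos_indiv hΔ _ k h hind rfl
  · have hneg : 0 ≤ coeff hΔ (P.reflectionPerm k k) := by
      rw [coeff_neg]; simpa using h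
    obtain ⟨g, hg, i, hi, hgi⟩ :=
      exists_WΔ_smul_eq_of_pos_indiv hΔ _ _ hneg (isIndiv_neg hind) rfl
    refine ⟨g * Equiv.reflection P i, mul_mem hg (reflection_mem_WΔ hi), i, hi, ?_⟩
    rw [mul_smul, reflection_smul_idx]
    -- g • (-i) = -(g • i)
    apply P.root.injective
    have e1 : P.root (g • (P.reflectionPerm i i)) = g • P.root (P.reflectionPerm i i) :=
      Equiv.root_indexEquiv_eq_smul P _ g
    have e2 : P.root (g • i) = g • P.root i := Equiv.root_indexEquiv_eq_smul P _ g
    rw [e1]
    have e3 : P.root (P.reflectionPerm i i) = -P.root i := by simp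
    rw [e3, smul_neg, ← e2, hgi]
    simp

theorem reflection_mem_WΔ_of_indiv (k : ι) (hind : IsIndiv P k) :
    Equiv.reflection P k ∈ WΔ P Δ := by
  obtain ⟨g, hg, i, hi, rfl⟩ := exists_WΔ_smul_eq_of_indiv hΔ k hind
  rw [← aut_conj_reflection]
  exact mul_mem (mul_mem hg (reflection_mem_WΔ hi)) (inv_mem hg)

theorem WΔ_eq_weylGroup : WΔ P Δ = P.weylGroup := by
  apply le_antisymm WΔ_le_weylGroup
  rw [← closure_reflection_indiv_eq_weylGroup, Subgroup.closure_le]
  rintro _ ⟨k, hk, rfl⟩
  exact reflection_mem_WΔ_of_indiv hΔ k hk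

end Groth.Agent.H28
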