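import Groth.Agent.H28.SimpleWeyl

set_option autoImplicit false

namespace Groth.Agent.H28

open Set Function RootD RootPairing

variable {ι M N : Type*} [AddCommGroup M] [AddCommGroup N] {P : RootPairing ι ℤ M N} {Δ : Set ι}

variable (P) in
/-- The product of the reflections along a word. -/
noncomputable def wd (l : List ι) : P.Aut := (l.map fun a => Equiv.reflection P a).prod

theorem wd_nil : wd P [] = 1 := rfl

theorem wd_cons (a : ι) (l : List ι) : wd P (a :: l) = Equiv.reflection P a * wd P l := by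
  simp [wd]

theorem wd_append (l₁ l₂ : List ι) : wd P (l₁ ++ l₂) = wd P l₁ * wd P l₂ := by
  simp [wd]

theorem reflection_mul_self (a : ι) : Equiv.reflection P a * Equiv.reflection P a = 1 := by
  have := Equiv.reflection_inv P a
  exact mul_eq_one_iff_inv_eq.mpr this

theorem root_smul_idx (g : P.Aut) (i : ι) : P.root (g • i) = g • P.root i :=
  Equiv.root_indexEquiv_eq_smul P i g

theorem smul_neg_idx (g : P.Aut) (i : ι) :
    g • (P.reflectionPerm i i) = P.reflectionPerm (g • i) (g • i) := by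
  apply P.root.injective
  rw [root_smul_idx]
  have e1 : P.root (P.reflectionPerm i i) = -P.root i := by simp
  have e2 : P.root (P.reflectionPerm (g • i) (g • i)) = -P.root (g • i) := by simp
  rw [e1, e2, smul_neg, root_smul_idx]

theorem isIndiv_smul (g : P.Aut) {k : ι} (hind : IsIndiv P k) : IsIndiv P (g • k) := by
  intro j hj
  apply hind (g⁻¹ • j)
  rw [root_smul_idx, ← smul_comm, hj, root_smul_idx, inv_smul_smul]

variable (hΔ : IsSimpleSys P Δ) [Finite ι]

include hΔ

theorem exists_split_of_neg (l : List ι) (hl : ∀ a ∈ l, a ∈ Δ) (k : ι) (hk : 0 ≤ coeff hΔ k)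
    (hind : IsIndiv P k) (hneg : coeff hΔ (wd P l • k) ≤ 0) :
    ∃ (l₁ l₂ : List ι) (b : ι), l = l₁ ++ b :: l₂ ∧ b ∈ Δ ∧ wd P l₂ • k = b := by
  induction l with
  | nil =>
    rw [wd_nil, one_smul] at hneg
    exact absurd ⟨hk, hneg⟩ (not_pos_and_neg hΔ k)
  | cons b t ih =>
    have hb : b ∈ Δ := hl b (List.mem_cons_self)
    have ht : ∀ a ∈ t, a ∈ Δ := fun a ha => hl a (List.mem_cons_of_mem _ ha)
    rcases coeff_nonneg_or_nonpos hΔ (wd P t • k) with hpos | hneg'
    · rw [wd_cons, mul_smul, reflection_smul_idx] at hneg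
      have hind' := isIndiv_smul (wd P t) hind
      rcases eq_smul_of_pos_of_reflection_neg hΔ hpos ⟨b, hb⟩ hneg with h | h
      · exact ⟨[], t, b, rfl, hb, P.root.injective h⟩
      · exact absurd h.symm (hind' b)
    · obtain ⟨l₁, l₂, c, hsplit, hc, hk'⟩ := ih ht hneg'
      exact ⟨b :: l₁, l₂, c, by rw [hsplit]; rfl, hc, hk'⟩

theorem neg_root_last_of_minimal_word (l : List ι) (hl : ∀ a ∈ l, a ∈ Δ) (hne : l ≠ [])
    (hmin : ∀ l' : List ι, (∀ a ∈ l', a ∈ Δ) → wd P l' = wd P l → l.length ≤ l'.length) :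
    -P.root (wd P l • l.getLast hne) ∈ natSpan P Δ := by
  set a := l.getLast hne with ha
  have haΔ : a ∈ Δ := hl a (List.getLast_mem hne)
  have hl0 : l = l.dropLast ++ [a] := (List.dropLast_append_getLast hne).symm
  set l₀ := l.dropLast with hl₀
  have hl₀Δ : ∀ x ∈ l₀, x ∈ Δ := fun x hx => hl x (List.mem_of_mem_dropLast hx)
  have hw : wd P l = wd P l₀ * Equiv.reflection P a := by
    conv_lhs => rw [hl0]
    rw [wd_append, wd_cons, wd_nil, mul_one]
  have e1 : wd P l • a = P.reflectionPerm (wd P l₀ • a) (wd P l₀ • a) := by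
    rw [hw, mul_smul, reflection_smul_idx, smul_neg_idx]
  rw [e1]
  have e2 : -P.root (P.reflectionPerm (wd P l₀ • a) (wd P l₀ • a)) = P.root (wd P l₀ • a) := by
    simp
  rw [e2, isPos_iff hΔ]
  rcases coeff_nonneg_or_nonpos hΔ (wd P l₀ • a) with h | h
  · exact h
  exfalso
  have hapos : 0 ≤ coeff hΔ a := by
    rw [coeff_of_mem hΔ ⟨a, haΔ⟩]
    exact Finsupp.single_nonneg.mpr zero_le_one
  obtain ⟨l₁, l₂, b, hsplit, hb, hba⟩ :=
    exists_split_of_neg hΔ l₀ hl₀Δ a hapos (isIndiv_of_mem hΔ ⟨a, haΔ⟩) h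
  have hconj : Equiv.reflection P b * wd P l₂ = wd P l₂ * Equiv.reflection P a := by
    rw [← hba, ← aut_conj_reflection]
    group
  have hw' : wd P (l₁ ++ l₂) = wd P l := by
    rw [hw, hsplit, wd_append, wd_append, wd_cons, mul_assoc, mul_assoc, ← mul_assoc _ (wd P l₂),
      hconj, mul_assoc (wd P l₂), reflection_mul_self, mul_one]
  have hlen := hmin (l₁ ++ l₂) (by
    intro x hx
    apply hl₀Δ
    rw [hsplit]
    rcases List.mem_append.mp hx with hx | hx
    · exact List.mem_append_left _ hx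
    · exact List.mem_append_right _ (List.mem_cons_of_mem _ hx)) hw'
  have : l.length = l₁.length + l₂.length + 2 := by
    conv_lhs => rw [hl0, hsplit]
    simp
    omega
  rw [List.length_append] at hlen
  omega

end Groth.Agent.H28
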