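import Groth.Agent.H28.IntModel
import Groth.Agent.H28.SimpleWeyl
import Groth.Agent.H28.SimpleWord
import Groth.Agent.H28.CorootIndep
import Groth.Agent.H27.Exists

/-!
# Presentation of the coroot lattice

For a finite reduced crystallographic root pairing over a domain of characteristic zero, the kernel
of `ℤ^(ι) → N`, `[β] ↦ β^∨` is generated by the elements `[s_α β] - [β] + ⟨α, β^∨⟩ [α]`.
-/

set_option autoImplicit false

namespace Groth.Agent.H28

open RootPairing Module Set Function Submodule RootD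

variable {ι R M N : Type*} [CommRing R] [IsDomain R] [CharZero R] [AddCommGroup M] [Module R M]
  [AddCommGroup N] [Module R N] (P : RootPairing ι R M N)

section

variable [P.IsCrystallographic]

/-- The relation element `[s_α β] - [β] + ⟨α, β^∨⟩ [α]`. -/
noncomputable def corootRel (p : ι × ι) : ι →₀ ℤ :=
  Finsupp.single (P.reflectionPerm p.1 p.2) (1 : ℤ) - Finsupp.single p.2 1 +
    P.pairingIn ℤ p.1 p.2 • Finsupp.single p.1 1

theorem corootRel_mem_ker (p : ι × ι) :
    corootRel P p ∈ LinearMap.ker (Finsupp.linearCombination ℤ (fun i : ι => (P.coroot i : N))) := by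
  rw [LinearMap.mem_ker, corootRel]
  simp only [map_add, map_sub, map_smul, Finsupp.linearCombination_single, one_smul]
  rw [← P.reflectionPerm_coroot p.1 p.2]
  change _ - P.pairing p.1 p.2 • _ - _ + _ = 0
  rw [← P.algebraMap_pairingIn ℤ p.1 p.2]
  simp [Int.cast_smul_eq_zsmul]

theorem span_corootRel_le_ker :
    span ℤ (range (corootRel P)) ≤
      LinearMap.ker (Finsupp.linearCombination ℤ (fun i : ι => (P.coroot i : N))) := by
  rw [span_le]
  rintro _ ⟨p, rfl⟩
  exact corootRel_mem_ker P p

/-- The span of the simple generators and the relations. -/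
noncomputable def presSpan (Δ : Set ι) : Submodule ℤ (ι →₀ ℤ) :=
  span ℤ ((fun a : ι => Finsupp.single a (1 : ℤ)) '' Δ) ⊔ span ℤ (range (corootRel P))

theorem single_reflectionPerm_mem_presSpan {Δ : Set ι} {a : ι} (ha : a ∈ Δ) {k : ι}
    (hk : Finsupp.single k (1 : ℤ) ∈ presSpan P Δ) :
    Finsupp.single (P.reflectionPerm a k) (1 : ℤ) ∈ presSpan P Δ := by
  have h1 : corootRel P (a, k) ∈ presSpan P Δ :=
    le_sup_right (a := span ℤ ((fun a : ι => Finsupp.single a (1 : ℤ)) '' Δ))
      (subset_span (mem_range_self _))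
  have h2 : Finsupp.single a (1 : ℤ) ∈ presSpan P Δ :=
    le_sup_left (b := span ℤ (range (corootRel P))) (subset_span ⟨a, ha, rfl⟩)
  have : Finsupp.single (P.reflectionPerm a k) (1 : ℤ) =
      corootRel P (a, k) + Finsupp.single k 1 - P.pairingIn ℤ a k • Finsupp.single a 1 := by
    simp only [corootRel]; abel
  rw [this]
  exact sub_mem (add_mem h1 hk) (Submodule.smul_mem _ _ h2)

variable [Finite ι] [P.IsReduced]

theorem single_smul_mem_presSpan {Δ : Set ι} (g : (intModel P).Aut) (hg : g ∈ WΔ (intModel P) Δ) :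
    (∀ k, Finsupp.single k (1 : ℤ) ∈ presSpan P Δ →
      Finsupp.single (g • k) (1 : ℤ) ∈ presSpan P Δ) ∧
    (∀ k, Finsupp.single k (1 : ℤ) ∈ presSpan P Δ →
      Finsupp.single (g⁻¹ • k) (1 : ℤ) ∈ presSpan P Δ) := by
  unfold WΔ at hg
  induction hg using Subgroup.closure_induction with
  | mem x hx =>
    obtain ⟨a, ha, rfl⟩ := hx
    have hinv : (Equiv.reflection (intModel P) a)⁻¹ = Equiv.reflection (intModel P) a := by
      rw [inv_eq_iff_mul_eq_one]
      exact reflection_mul_self a
    rw [hinv]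
    refine ⟨fun k hk ↦ ?_, fun k hk ↦ ?_⟩ <;>
    · rw [reflection_smul_idx]
      exact single_reflectionPerm_mem_presSpan P ha hk
  | one => simp
  | mul x y _ _ hx hy =>
    refine ⟨fun k hk ↦ ?_, fun k hk ↦ ?_⟩
    · rw [mul_smul]; exact hx.1 _ (hy.1 _ hk)
    · rw [mul_inv_rev, mul_smul]; exact hy.2 _ (hx.2 _ hk)
  | inv x _ hx =>
    refine ⟨hx.2, ?_⟩
    rw [inv_inv]; exact hx.1

theorem single_mem_presSpan {Δ : Set ι} (hΔ : IsSimpleSys (intModel P) Δ) (k : ι) :
    Finsupp.single k (1 : ℤ) ∈ presSpan P Δ := by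
  obtain ⟨g, hg, a, ha, rfl⟩ := exists_WΔ_smul_eq_of_indiv hΔ k (intModel_isIndiv P k)
  refine (single_smul_mem_presSpan P g hg).1 a ?_
  exact le_sup_left (b := span ℤ (range (corootRel P))) (subset_span ⟨a, ha, rfl⟩)

theorem presSpan_eq_top {Δ : Set ι} (hΔ : IsSimpleSys (intModel P) Δ) : presSpan P Δ = ⊤ := by
  rw [eq_top_iff]
  rintro x -
  rw [← Finsupp.sum_single x]
  refine Submodule.sum_mem _ fun k _ ↦ ?_
  have : Finsupp.single k (x k) = x k • Finsupp.single k (1 : ℤ) := by simp
  rw [this]
  exact Submodule.smul_mem _ _ (single_mem_presSpan P hΔ k)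

theorem linearIndependent_coroot_of_simpleSys {Δ : Set ι} (hΔ : IsSimpleSys (intModel P) Δ) :
    LinearIndependent ℤ (fun a : Δ => (P.coroot a : N)) := by
  classical
  have : Fintype ι := Fintype.ofFinite ι
  have hli : LinearIndependent ℤ (fun a : Δ => (intModel P).root (a : ι)) := hΔ.linInd
  have hco := linearIndependent_coroot (intModel P) (fun a : Δ => (a : ι)) hli
  rw [linearIndependent_iff'] at hco ⊢
  intro s g hg a ha
  refine hco s g ?_ a ha
  ext x
  apply FaithfulSMul.algebraMap_injective ℤ R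
  have h2 : P.toLinearMap (x : M) (∑ a ∈ s, g a • P.coroot (a : ι)) = 0 := by
    rw [hg, map_zero]
  simp only [intModel_coroot, LinearMap.coe_sum, Finset.sum_apply, LinearMap.smul_apply,
    smul_eq_mul, map_sum, map_mul, algebraMap_coroot'In_apply, LinearMap.zero_apply, map_zero]
  rw [← h2, map_sum]
  refine Finset.sum_congr rfl fun a _ ↦ ?_
  rw [← Int.cast_smul_eq_zsmul R, map_smul]
  simp [coroot']

/-- **Presentation of the coroot lattice.** -/
theorem ker_linearCombination_coroot_eq :
    LinearMap.ker (Finsupp.linearCombination ℤ (fun i : ι => (P.coroot i : N))) =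
      span ℤ (range (corootRel P)) := by
  refine le_antisymm ?_ (span_corootRel_le_ker P)
  obtain ⟨Δ, hΔ⟩ := Groth.Agent.H27.exists_isSimpleSys (intModel P)
  intro x hx
  have hx' : x ∈ presSpan P Δ := by rw [presSpan_eq_top P hΔ]; trivial
  obtain ⟨y, hy, z, hz, rfl⟩ := Submodule.mem_sup.mp hx'
  have hzker := span_corootRel_le_ker P hz
  have hyker : y ∈ LinearMap.ker (Finsupp.linearCombination ℤ (fun i : ι => (P.coroot i : N))) := by
    have := sub_mem hx hzker
    simpa using this
  have himg : (fun a : ι => Finsupp.single a (1 : ℤ)) '' Δ =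
      range (fun a : Δ => Finsupp.single (a : ι) (1 : ℤ)) := by
    ext v; simp
  rw [himg, Finsupp.mem_span_range_iff_exists_finsupp] at hy
  obtain ⟨c, rfl⟩ := hy
  have hc : Finsupp.linearCombination ℤ (fun a : Δ => (P.coroot a : N)) c = 0 := by
    rw [LinearMap.mem_ker] at hyker
    rw [← hyker, Finsupp.linearCombination_apply, Finsupp.sum, Finsupp.sum, map_sum]
    refine Finset.sum_congr rfl fun a _ ↦ ?_
    simp
  have hc0 : c = 0 := by
    have hli := linearIndependent_coroot_of_simpleSys P hΔ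
    rw [linearIndependent_iff] at hli
    exact hli c hc
  subst hc0
  simpa using hz

end

end Groth.Agent.H28
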