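import Mathlib.GroupTheory.OrderOfElement
import Mathlib.Data.Set.Card
import Mathlib.Algebra.Group.Subgroup.ZPowers.Lemmas
import Mathlib.Algebra.Group.Conj
import Mathlib.Data.ZMod.QuotientGroup

/-! Cardinality of a group generated by two involutions whose product has order `n`. -/

namespace Groth.Agent.H28


open Subgroup

lemma card_closure_pair_of_involutions {G : Type*} [Group G] (a b : G) (ha : a * a = 1)
    (hb : b * b = 1) (n : ℕ) (hn : 0 < n) (hord : orderOf (a * b) = n)
    (hnot : a ∉ Subgroup.zpowers (a * b)) :
    Nat.card (Subgroup.closure ({a, b} : Set G)) = 2 * n := by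
  classical
  set r := a * b with hr
  have hainv : a⁻¹ = a := inv_eq_of_mul_eq_one_right ha
  have hbinv : b⁻¹ = b := inv_eq_of_mul_eq_one_right hb
  have hconj : a * r * a = r⁻¹ := by
    rw [hr, mul_inv_rev, hainv, hbinv, ← mul_assoc, ha, one_mul]
  have hconjZ : ∀ z ∈ zpowers r, a * z * a ∈ zpowers r := by
    intro z hz
    obtain ⟨k, rfl⟩ := mem_zpowers_iff.1 hz
    have : a * r ^ k * a = (a * r * a⁻¹) ^ k := by
      rw [conj_zpow, hainv]
    rw [this, hainv, hconj]
    exact zpow_mem (inv_mem (mem_zpowers r)) k
  have hset : ((closure ({a, b} : Set G) : Subgroup G) : Set G) =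
      (zpowers r : Set G) ∪ (fun g => a * g) '' (zpowers r : Set G) := by
    ext g
    constructor
    · intro hg
      have key : ∀ g ∈ closure ({a, b} : Set G), g ∈ zpowers r ∨ a * g ∈ zpowers r := by
        intro g hg
        induction hg using closure_induction with
        | mem x hx =>
          rcases hx with rfl | rfl
          · right; rw [ha]; exact one_mem _
          · right; exact mem_zpowers r
        | one => left; exact one_mem _
        | mul x y _ _ hx hy =>
          rcases hx with hx | hx <;> rcases hy with hy | hy
          · left; exact mul_mem hx hy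
          · right
            have : a * (x * y) = (a * x * a) * (a * y) := by
              rw [mul_assoc (a * x), ← mul_assoc a a, ha, one_mul, mul_assoc]
            rw [this]
            exact mul_mem (hconjZ x hx) hy
          · right
            rw [← mul_assoc]
            exact mul_mem hx hy
          · left
            have : x * y = (a * (a * x) * a) * (a * y) := by
              rw [← mul_assoc a a, ha, one_mul, mul_assoc x, ← mul_assoc a a, ha, one_mul]
            rw [this]
            exact mul_mem (hconjZ _ hx) hy
        | inv x _ hx =>
          rcases hx with hx | hx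
          · left; exact inv_mem hx
          · right
            have : a * x⁻¹ = a * (a * x)⁻¹ * a := by
              rw [mul_inv_rev, hainv, mul_assoc, mul_assoc, ha, mul_one]
            rw [this]
            exact hconjZ _ (inv_mem hx)
      rcases key g hg with h | h
      · exact Or.inl h
      · refine Or.inr ⟨a * g, h, ?_⟩
        simp only
        rw [← mul_assoc, ha, one_mul]
    · have hr_mem : r ∈ closure ({a, b} : Set G) :=
        mul_mem (subset_closure (by simp)) (subset_closure (by simp))
      have hZ : zpowers r ≤ closure ({a, b} : Set G) := by
        rw [zpowers_le]; exact hr_mem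
      rintro (h | ⟨z, hz, rfl⟩)
      · exact hZ h
      · exact mul_mem (subset_closure (by simp)) (hZ hz)
  have hfin : (zpowers r : Set G).Finite := by
    have : IsOfFinOrder r := orderOf_pos_iff.1 (by rw [hord]; exact hn)
    exact finite_zpowers.2 this
  have hcardZ : (zpowers r : Set G).ncard = n := by
    rw [← Nat.card_coe_set_eq, ← hord]
    exact Nat.card_zpowers r
  have hdisj : Disjoint (zpowers r : Set G) ((fun g => a * g) '' (zpowers r : Set G)) := by
    rw [Set.disjoint_left]
    rintro g hg ⟨z, hz, rfl⟩
    apply hnot
    have : a = (a * z) * z⁻¹ := by rw [mul_assoc, mul_inv_cancel, mul_one]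
    rw [this]
    exact mul_mem hg (inv_mem hz)
  rw [← SetLike.coe_sort_coe, Nat.card_coe_set_eq, hset, Set.ncard_union_eq hdisj hfin (hfin.image _),
    Set.ncard_image_of_injective _ (mul_right_injective a), hcardZ]
  omega

end Groth.Agent.H28
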