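import Mathlib
import Groth.Agent.H28.DualFinite

/-!
# Localized nonvanishing of `Hom(B/q, R(ω)[i])` versus `Hom(A/p, ω[i])` (helper28)
-/

set_option autoImplicit false
universe u
open CategoryTheory Pretriangulated Limits DerivedCategory Opposite

namespace Groth.Agent.H28.DualDelta

attribute [local instance] HasDerivedCategory.standard

section Generic

variable {R : Type u} [CommRing R] (S : Submonoid R)

lemma nontrivial_localized_iff (M : Type*) [AddCommGroup M] [Module R M] :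
    Nontrivial (LocalizedModule S M) ↔ ∃ m : M, ∀ r ∈ S, r • m ≠ 0 := by
  rw [← not_subsingleton_iff_nontrivial, LocalizedModule.subsingleton_iff]
  push Not
  rfl

/-- the nonvanishing property -/
def NT (X Y : Dual.D R) : Prop := ∃ g : X ⟶ Y, ∀ r ∈ S, r • g ≠ 0

lemma NT_of_iso {X X' Y Y' : Dual.D R} (e : X ≅ X') (e' : Y ≅ Y') (h : NT S X Y) : NT S X' Y' := by
  obtain ⟨g, hg⟩ := h
  refine ⟨e.inv ≫ g ≫ e'.hom, fun r hr h0 => hg r hr ?_⟩
  have h1 : e.inv ≫ (r • g) ≫ e'.hom = 0 := by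
    rw [Linear.smul_comp, Linear.comp_smul]
    exact h0
  have h2 : e.hom ≫ (e.inv ≫ (r • g) ≫ e'.hom) ≫ e'.inv = r • g := by simp
  rw [← h2, h1, zero_comp, comp_zero]

lemma NT_iso_iff {X X' Y Y' : Dual.D R} (e : X ≅ X') (e' : Y ≅ Y') : NT S X Y ↔ NT S X' Y' :=
  ⟨NT_of_iso S e e', NT_of_iso S e.symm e'.symm⟩

lemma NT_shift_iff (X Y : Dual.D R) (n : ℤ) : NT S X Y ↔ NT S (X⟦n⟧) (Y⟦n⟧) := by
  constructor
  · rintro ⟨g, hg⟩
    refine ⟨g⟦n⟧', fun r hr h0 => hg r hr ?_⟩
    apply (shiftFunctor (Dual.D R) n).map_injective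
    rw [Functor.map_smul, h0, Functor.map_zero]
  · rintro ⟨h, hh⟩
    obtain ⟨g, rfl⟩ := (shiftFunctor (Dual.D R) n).map_surjective h
    refine ⟨g, fun r hr h0 => hh r hr ?_⟩
    rw [← Functor.map_smul, h0, Functor.map_zero]

lemma NT_shift_right_iff (X Y : Dual.D R) (n m : ℤ) (h : n + m = 0) :
    NT S X (Y⟦m⟧) ↔ NT S (X⟦n⟧) Y := by
  rw [NT_shift_iff S X (Y⟦m⟧) n]
  exact NT_iso_iff S (Iso.refl _) ((shiftFunctorCompIsoId (Dual.D R) m n (by omega)).app Y)

end Generic

section Adj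

variable {A B : Type u} [CommRing A] [CommRing B] [Algebra A B]

lemma NT_adj_iff (R : Dual.D A ⥤ Dual.D B) (adj : DRing.restrictD (algebraMap A B) ⊣ R)
    (SA : Submonoid A) (SB : Submonoid B) (h1 : ∀ a ∈ SA, algebraMap A B a ∈ SB)
    (h2 : ∀ b ∈ SB, ∃ a ∈ SA, algebraMap A B a = b) (T : Dual.D B) (K : Dual.D A) :
    NT SB T (R.obj K) ↔ NT SA ((DRing.restrictD (algebraMap A B)).obj T) K := by
  have key : ∀ (a : A) (g : T ⟶ R.obj K),
      (adj.homEquiv T K).symm (algebraMap A B a • g) = a • (adj.homEquiv T K).symm g := by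
    intro a g
    rw [Adjunction.homEquiv_counit, Adjunction.homEquiv_counit, RestrAdj.restrictD_map_smul,
      Linear.smul_comp]
  constructor
  · rintro ⟨g, hg⟩
    refine ⟨(adj.homEquiv T K).symm g, fun a ha h0 => hg _ (h1 a ha) ?_⟩
    apply (adj.homEquiv T K).symm.injective
    rw [key, h0]
    simp [Adjunction.homEquiv_counit]
  · rintro ⟨h, hh⟩
    refine ⟨adj.homEquiv T K h, fun b hb h0 => ?_⟩
    obtain ⟨a, ha, rfl⟩ := h2 b hb
    refine hh a ha ?_
    have := key a (adj.homEquiv T K h)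
    rw [h0, Equiv.symm_apply_apply] at this
    rw [← this]
    simp [Adjunction.homEquiv_counit]

end Adj

section Main

variable {A B : Type u} [CommRing A] [CommRing B] [Algebra A B]

/-- `(B/q)|_A ≅ A/p` for `A → B` surjective, `p` the preimage of `q` -/
noncomputable def quotIso (hs : Function.Surjective (algebraMap A B)) (q : Ideal B) :
    (ModuleCat.restrictScalars (algebraMap A B)).obj (ModuleCat.of B (B ⧸ q)) ≅
      ModuleCat.of A (A ⧸ q.comap (algebraMap A B)) := by
  let N : ModuleCat.{u} A := (ModuleCat.restrictScalars (algebraMap A B)).obj (ModuleCat.of B (B ⧸ q))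
  let π : A →ₗ[A] N :=
    { toFun := fun a => (Ideal.Quotient.mk q (algebraMap A B a) : B ⧸ q)
      map_add' := fun x y => by
        rw [map_add, map_add]
        rfl
      map_smul' := fun a x => by
        rw [smul_eq_mul, map_mul, map_mul]
        rfl }
  have hπ : Function.Surjective π := by
    intro y
    obtain ⟨b, rfl⟩ := Ideal.Quotient.mk_surjective (show B ⧸ q from y)
    obtain ⟨a, rfl⟩ := hs b
    exact ⟨a, rfl⟩
  have hker : q.comap (algebraMap A B) = LinearMap.ker π := by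
    ext a
    rw [LinearMap.mem_ker, Ideal.mem_comap]
    exact (Ideal.Quotient.eq_zero_iff_mem (I := q) (a := algebraMap A B a)).symm
  exact ((Submodule.quotEquivOfEq _ _ hker).trans (π.quotKerEquivOfSurjective hπ)).toModuleIso.symm


/-- S8970 -/
theorem nontrivial_iff (hs : Function.Surjective (algebraMap A B)) (R : Dual.D A ⥤ Dual.D B)
    (adj : DRing.restrictD (algebraMap A B) ⊣ R) (ω : Dual.D A) (q : Ideal B) [q.IsPrime] (i : ℤ) :
    Nontrivial (LocalizedModule q.primeCompl (Dual.inD B (B ⧸ q) ⟶ (R.obj ω)⟦i⟧)) ↔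
      Nontrivial (LocalizedModule (q.comap (algebraMap A B)).primeCompl
        (Dual.inD A (A ⧸ q.comap (algebraMap A B)) ⟶ ω⟦i⟧)) := by
  rw [nontrivial_localized_iff, nontrivial_localized_iff]
  change NT q.primeCompl (Dual.inD B (B ⧸ q)) ((R.obj ω)⟦i⟧) ↔
    NT (q.comap (algebraMap A B)).primeCompl (Dual.inD A (A ⧸ q.comap (algebraMap A B))) (ω⟦i⟧)
  rw [NT_shift_right_iff _ _ _ (-i) i (by omega),
    NT_shift_right_iff _ (Dual.inD A (A ⧸ q.comap (algebraMap A B))) _ (-i) i (by omega),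
    NT_adj_iff R adj (q.comap (algebraMap A B)).primeCompl q.primeCompl
      (fun a ha => ha) (fun b hb => by
        obtain ⟨a, rfl⟩ := hs b
        exact ⟨a, hb, rfl⟩)]
  let e : (DRing.restrictD (algebraMap A B)).obj ((Dual.inD B (B ⧸ q))⟦-i⟧) ≅
      (Dual.inD A (A ⧸ q.comap (algebraMap A B)))⟦-i⟧ :=
    ((DRing.restrictD (algebraMap A B)).commShiftIso (-i)).app _ ≪≫
      (shiftFunctor (Dual.D A) (-i)).mapIso
        (((ModuleCat.restrictScalars.{u} (algebraMap A B)).mapDerivedCategorySingleFunctor 0).app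
          (ModuleCat.of B (B ⧸ q)) ≪≫
          (DerivedCategory.singleFunctor (ModuleCat.{u} A) 0).mapIso (quotIso hs q))
  exact NT_iso_iff _ e (Iso.refl _)

end Main

end Groth.Agent.H28.DualDelta
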