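import Mathlib
import Groth.Prelude.Def_DDual2
import Groth.Prelude.Def_CAlg
import Groth.Agent.H26.FlatBCDual10
import Groth.Agent.H26.GorFieldAny

/-!
# Dualizing complexes and base field extension (helper28)

`K ⊗_k A` for `A` of finite type over a field `k`: the base change of a dualizing complex is
dualizing.  Built on helper26's `isDualizing_LB_of_gorenstein_fibres` and
`GorFieldAny.isGorensteinRing_fiber_tensor`.
-/

set_option autoImplicit false
set_option linter.unusedSectionVars false
set_option linter.style.haveILetI false
set_option linter.overlappingInstances false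

universe u

open CategoryTheory Limits TensorProduct

namespace Groth.Agent.H28.DualFieldExt

open Groth.Agent.H26.FlatBCHom Groth.Agent.H26.FlatBCDual

attribute [local instance] HasDerivedCategory.standard

/-- The local rings of a fibre have dimension at most that of the total ring. -/
theorem ringKrullDim_fiber_atPrime_le {R S : Type u} [CommRing R] [CommRing S] [Algebra R S]
    (p : Ideal R) [p.IsPrime] (q : Ideal (p.Fiber S)) [q.IsPrime] :
    ringKrullDim (Localization.AtPrime q) ≤ ringKrullDim S := by
  have e := Ideal.Fiber.algEquivAux₂ p q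
  rw [ringKrullDim_eq_of_ringEquiv e.toRingEquiv]
  exact (ringKrullDim_le_of_surjective _ Ideal.Quotient.mk_surjective).trans
    (ringKrullDim_atPrime_le _)

/-- Flat maps of Noetherian rings with Gorenstein fibres and finite-dimensional target preserve
dualizing complexes. -/
theorem isDualizing_LB_of_gorensteinRing_fibres {A B : Type u} [CommRing A] [CommRing B]
    [Algebra A B] [Module.Flat A B] [IsNoetherianRing A] [IsNoetherianRing B] (N : ℕ)
    (hN : ringKrullDim B ≤ N)
    (hG : ∀ (p : Ideal A) [p.IsPrime], LocCoh.IsGorensteinRing (p.Fiber B))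
    (ω : Dual.D A) (hω : Dual.IsDualizing A ω) : Dual.IsDualizing B ((LB A B).obj ω) := by
  refine isDualizing_LB_of_gorenstein_fibres N ?_ ω hω
  intro p hp q hq
  exact ⟨(hG p).isGorensteinLocalRing_localization q,
    (ringKrullDim_fiber_atPrime_le p q).trans hN⟩

/-- A finite type algebra over a field has finite Krull dimension. -/
theorem exists_ringKrullDim_le_of_finiteType (K B : Type u) [Field K] [CommRing B] [Algebra K B]
    [Algebra.FiniteType K B] : ∃ N : ℕ, ringKrullDim B ≤ N := by
  obtain ⟨n, f, hf⟩ := Algebra.FiniteType.iff_quotient_mvPolynomial''.mp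
    (inferInstance : Algebra.FiniteType K B)
  refine ⟨n, ?_⟩
  have h1 := ringKrullDim_le_of_surjective f.toRingHom hf
  have h2 : ringKrullDim (MvPolynomial (Fin n) K) = n := by
    rw [MvPolynomial.ringKrullDim_of_isNoetherianRing, ringKrullDim_eq_zero_of_field]
    simp
  rw [h2] at h1
  exact h1

section FieldExt

attribute [local instance] Algebra.TensorProduct.rightAlgebra

variable (k K : Type u) [Field k] [Field K] [Algebra k K] (A : Type u) [CommRing A] [Algebra k A]
  [Algebra.FiniteType k A]

theorem isNoetherianRing_tensor : IsNoetherianRing (K ⊗[k] A) :=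
  Algebra.FiniteType.isNoetherianRing K (K ⊗[k] A)

theorem flat_tensor_right : Module.Flat A (K ⊗[k] A) :=
  Module.Flat.of_linearEquiv (Algebra.TensorProduct.commRight k A K).symm.toLinearEquiv

/-- **Base field extension preserves dualizing complexes** (for finite type algebras). -/
theorem isDualizing_LB_fieldExt (ω : Dual.D A) (hω : Dual.IsDualizing A ω) :
    haveI := isNoetherianRing_tensor k K A
    haveI := flat_tensor_right k K A
    Dual.IsDualizing (K ⊗[k] A) ((LB A (K ⊗[k] A)).obj ω) := by
  haveI := isNoetherianRing_tensor k K A
  haveI := flat_tensor_right k K A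
  haveI : IsNoetherianRing A := Algebra.FiniteType.isNoetherianRing k A
  obtain ⟨N, hN⟩ := exists_ringKrullDim_le_of_finiteType K (K ⊗[k] A)
  refine isDualizing_LB_of_gorensteinRing_fibres N hN (fun p hp => ?_) ω hω
  have h1 := Groth.Agent.H26.GorFieldAny.isGorensteinRing_fiber_tensor k K A p
  exact Groth.Agent.H26.GorRegHom.isGorensteinRing_of_ringEquiv
    (Algebra.TensorProduct.congr (AlgEquiv.refl (R := A) (A₁ := p.ResidueField))
      (Algebra.TensorProduct.commRight k A K)).toRingEquiv h1

end FieldExt

end Groth.Agent.H28.DualFieldExt
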