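import Mathlib
import Groth.Agent.H28.DualFinite
import Groth.Agent.H2.DualCx.Vanish

/-!
# Normalized dualizing complexes and finite local ring maps (helper28)
-/

set_option autoImplicit false
universe u
open CategoryTheory Pretriangulated Limits DerivedCategory Opposite IsLocalRing

namespace Groth.Agent.H28.DualFinite

attribute [local instance] HasDerivedCategory.standard

variable {A B : Type u} [CommRing A] [CommRing B] [Algebra A B]

/-- for a normalized complex, `Hom(N[0], ω[j]) = 0` for `j ≠ 0` and `N` finite killed by `𝔪` -/
lemma subsingleton_hom_of_killed [IsNoetherianRing A] [IsLocalRing A] (ω : Dual.D A)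
    (hn : Dual.IsNormalized A ω) (N : Type u) [AddCommGroup N] [Module A N] [Module.Finite A N]
    (hkill : ∀ a ∈ maximalIdeal A, ∀ n : N, a • n = 0) (j : ℤ) (hj : j ≠ 0) :
    Subsingleton (Dual.inD A N ⟶ ω⟦j⟧) := by
  refine Groth.Agent.H2.DualCx.subsingleton_of_killed (W := ω) (maximalIdeal A) (fun j => j ≠ 0)
    ?_ N hkill j hj
  intro q hq hmq j hj
  have : q = maximalIdeal A := (IsLocalRing.maximalIdeal.isMaximal A).eq_of_le hq.ne_top hmq |>.symm
  subst this
  exact hn j hj

/-- S1773, normalization part -/
theorem isNormalized_rightAdjoint [IsLocalRing A] [IsLocalRing B] [IsLocalHom (algebraMap A B)]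
    [IsNoetherianRing A] [Module.Finite A B]
    (R : Dual.D A ⥤ Dual.D B) (adj : DRing.restrictD (algebraMap A B) ⊣ R) (ω : Dual.D A)
    (hn : Dual.IsNormalized A ω) : Dual.IsNormalized B (R.obj ω) := by
  intro i hi
  refine subsingleton_hom_rightAdjoint R adj ω (ModuleCat.of B (ResidueField B)) i ?_
  let N : ModuleCat.{u} A :=
    (ModuleCat.restrictScalars (algebraMap A B)).obj (ModuleCat.of B (ResidueField B))
  have hfin : Module.Finite A N := by
    let π : B →ₗ[A] N :=
      { toFun := fun b => (IsLocalRing.residue B b : ResidueField B)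
        map_add' := fun x y => map_add (IsLocalRing.residue B) x y
        map_smul' := fun a x => by
          rw [Algebra.smul_def, map_mul]
          rfl }
    exact Module.Finite.of_surjective π (IsLocalRing.residue_surjective (R := B))
  have hkill : ∀ a ∈ maximalIdeal A, ∀ n : N, a • n = 0 := by
    intro a ha n
    have h1 : algebraMap A B a ∈ maximalIdeal B := _root_.map_nonunit (algebraMap A B) a ha
    have h2 : (IsLocalRing.residue B (algebraMap A B a) : ResidueField B) = 0 :=
      (IsLocalRing.residue_eq_zero_iff _).2 h1
    change (algebraMap A B a) • (show ResidueField B from n) = 0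
    rw [Algebra.smul_def, IsLocalRing.ResidueField.algebraMap_eq, h2, zero_mul]
  exact subsingleton_hom_of_killed ω hn N hkill i hi

end Groth.Agent.H28.DualFinite
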