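import Mathlib
import Groth.Agent.H28.DualFinite2
import Groth.Agent.H2.DualCx.Artin
import Groth.Agent.H26.HullFinite

/-!
# `Hom_D(N[0], ω) ≅ Hom_A(N, E)` for finite length `N` and a normalized dualizing complex (helper28)
-/

set_option autoImplicit false
universe u
open CategoryTheory Pretriangulated Limits DerivedCategory Opposite IsLocalRing

namespace Groth.Agent.H28.DualFinLen

attribute [local instance] HasDerivedCategory.standard

section Kill

variable {A : Type u} [CommRing A] [IsLocalRing A] [IsNoetherianRing A]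

/-- a finite length module over a local ring is killed by a power of the maximal ideal -/
lemma exists_pow_smul_eq_bot (N : Type u) [AddCommGroup N] [Module A N] (hN : IsFiniteLength A N) :
    ∃ n : ℕ, 0 < n ∧ (maximalIdeal A) ^ n • (⊤ : Submodule A N) = ⊥ := by
  rw [isFiniteLength_iff_isNoetherian_isArtinian] at hN
  obtain ⟨hNoeth, hArt⟩ := hN
  let f : ℕ →o (Submodule A N)ᵒᵈ :=
    { toFun := fun n => OrderDual.toDual ((maximalIdeal A) ^ n • (⊤ : Submodule A N))
      monotone' := by
        intro a b hab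
        change (maximalIdeal A) ^ b • (⊤ : Submodule A N) ≤ (maximalIdeal A) ^ a • ⊤
        exact Submodule.smul_mono_left (Ideal.pow_le_pow_right hab) }
  obtain ⟨n, hn⟩ := IsArtinian.monotone_stabilizes f
  have h1 : (maximalIdeal A) ^ (n + 1) • (⊤ : Submodule A N) =
      (maximalIdeal A) ^ (n + 1 + 1) • (⊤ : Submodule A N) := by
    have h2 := hn (n + 1) (by omega)
    have h3 := hn (n + 1 + 1) (by omega)
    exact (congrArg OrderDual.ofDual h2).symm.trans (congrArg OrderDual.ofDual h3)
  refine ⟨n + 1, by omega, ?_⟩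
  have hfg : ((maximalIdeal A) ^ (n + 1) • (⊤ : Submodule A N)).FG := IsNoetherian.noetherian _
  refine Submodule.eq_bot_of_le_smul_of_le_jacobson_bot (maximalIdeal A) _ hfg ?_
    (IsLocalRing.maximalIdeal_le_jacobson _)
  rw [← mul_smul, ← pow_succ', ← h1]

end Kill

section Quot

variable {A : Type u} [CommRing A] [IsLocalRing A] [IsNoetherianRing A] (n : ℕ)

lemma nontrivial_quot (hn : 0 < n) : Nontrivial (A ⧸ (maximalIdeal A) ^ n) := by
  apply Ideal.Quotient.nontrivial_iff.2
  intro h
  have : maximalIdeal A ^ n ≤ maximalIdeal A := Ideal.pow_le_self (by omega)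
  rw [h] at this
  exact (IsLocalRing.maximalIdeal.isMaximal A).ne_top (top_le_iff.1 this)

lemma isLocalRing_quot (hn : 0 < n) : IsLocalRing (A ⧸ (maximalIdeal A) ^ n) := by
  have := nontrivial_quot (A := A) n hn
  exact IsLocalRing.of_surjective' (Ideal.Quotient.mk _) Ideal.Quotient.mk_surjective

lemma isLocalHom_quot (hn : 0 < n) : IsLocalHom (algebraMap A (A ⧸ (maximalIdeal A) ^ n)) := by
  have := nontrivial_quot (A := A) n hn
  exact IsLocalHom.of_surjective (Ideal.Quotient.mk _) Ideal.Quotient.mk_surjective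

lemma ringKrullDim_quot (hn : 0 < n) : ringKrullDim (A ⧸ (maximalIdeal A) ^ n) = 0 := by
  have := nontrivial_quot (A := A) n hn
  have := isLocalRing_quot (A := A) n hn
  have := isLocalHom_quot (A := A) n hn
  rw [← ringKrullDimZero_iff_ringKrullDim_eq_zero]
  refine Ring.KrullDimLE.mk₀ (fun P hP => ?_)
  have hle : P ≤ maximalIdeal (A ⧸ (maximalIdeal A) ^ n) := IsLocalRing.le_maximalIdeal hP.ne_top
  have hge : maximalIdeal (A ⧸ (maximalIdeal A) ^ n) ≤ P := by
    intro x hx
    obtain ⟨a, rfl⟩ := Ideal.Quotient.mk_surjective x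
    have ha : a ∈ maximalIdeal A := by
      by_contra hcon
      have hu : IsUnit a := by
        by_contra h
        exact hcon h
      exact hx (hu.map (Ideal.Quotient.mk _))
    have h1 : (Ideal.Quotient.mk (maximalIdeal A ^ n) a) ^ n = 0 := by
      rw [← map_pow]
      exact Ideal.Quotient.eq_zero_iff_mem.2 (Ideal.pow_mem_pow ha n)
    exact hP.mem_of_pow_mem n (h1 ▸ P.zero_mem)
  rw [le_antisymm hle hge]
  infer_instance

end Quot

section Coext

variable {A : Type u} [CommRing A] [IsLocalRing A] [IsNoetherianRing A]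

/-- `R(ω) ≅ E_B[0]` over `B = A/𝔪ⁿ` -/
theorem exists_iso_coext (ω : Dual.D A) (hω : Dual.IsDualizing A ω) (hn : Dual.IsNormalized A ω)
    (E : Type u) [AddCommGroup E] [Module A E] (f : ResidueField A →ₗ[A] E)
    (hf : InjHull.IsInjectiveHull f) (n : ℕ) (hpos : 0 < n) :
    Nonempty ((CoextModel.RRc (A := A) (B := A ⧸ (maximalIdeal A) ^ n)).obj ω ≅
      (DerivedCategory.singleFunctor (ModuleCat.{u} (A ⧸ (maximalIdeal A) ^ n)) 0).obj
        ((ModuleCat.coextendScalars (algebraMap A (A ⧸ (maximalIdeal A) ^ n))).obj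
          (ModuleCat.of A E))) := by
  have := nontrivial_quot (A := A) n hpos
  have := isLocalRing_quot (A := A) n hpos
  have := isLocalHom_quot (A := A) n hpos
  have h0 := ringKrullDim_quot (A := A) n hpos
  have hZ := DualFinite.isDualizing_rightAdjoint CoextModel.RRc CoextModel.adj' ω hω
    (B := A ⧸ (maximalIdeal A) ^ n)
  have hnZ := DualFinite.isNormalized_rightAdjoint CoextModel.RRc CoextModel.adj' ω hn
    (B := A ⧸ (maximalIdeal A) ^ n)
  obtain ⟨g, hg⟩ := Groth.Agent.H26.exists_isInjectiveHull_coextend A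
    (A ⧸ (maximalIdeal A) ^ n) E f hf
  exact Groth.Agent.H2.DualCx.iso_injectiveHull_of_dim_zero
    (Groth.Agent.H2.DualCx.norm_of_isDualizing hZ hnZ) h0 hZ.toEnd_bijective _ g hg


end Coext

end Groth.Agent.H28.DualFinLen
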