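import Groth.Agent.H28.ExtRegular

set_option autoImplicit false

universe u

namespace Groth.Agent.H28

open CategoryTheory Abelian Pointwise RingTheory.Sequence

variable {A : Type u} [CommRing A]

section Ev

variable (I : Submodule A A) (M : Type u) [AddCommGroup M] [Module A M]

/-- `M` is killed by `I`. -/
def Killed : Prop := ∀ a ∈ I, ∀ m : M, a • m = 0

variable {I M}

/-- Evaluation `A ⧸ I → M`, `ā ↦ a • m`, for `M` killed by `I`, linear in `m`. -/
noncomputable def evL (hM : Killed I M) : M →ₗ[A] ((A ⧸ I) →ₗ[A] M) where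
  toFun m := I.liftQ (LinearMap.toSpanSingleton A M m) (fun a ha => by
    rw [LinearMap.mem_ker, LinearMap.toSpanSingleton_apply]
    exact hM a ha m)
  map_add' m m' := by
    apply Submodule.linearMap_qext
    refine LinearMap.ext fun a => ?_
    simp only [LinearMap.comp_apply, Submodule.mkQ_apply, Submodule.liftQ_apply,
      LinearMap.add_apply, LinearMap.toSpanSingleton_apply, smul_add]
  map_smul' b m := by
    apply Submodule.linearMap_qext
    refine LinearMap.ext fun a => ?_
    simp only [LinearMap.comp_apply, Submodule.mkQ_apply, Submodule.liftQ_apply,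
      LinearMap.smul_apply, LinearMap.toSpanSingleton_apply, RingHom.id_apply, smul_comm a b m]

@[simp]
theorem evL_mk (hM : Killed I M) (m : M) (a : A) :
    evL hM m (Submodule.Quotient.mk a) = a • m := rfl

end Ev

end Groth.Agent.H28

namespace Groth.Agent.H28

open CategoryTheory Abelian Pointwise RingTheory.Sequence

variable {A : Type u} [CommRing A]

section Phi

variable (I : Submodule A A)

/-- The object `A ⧸ I` of `ModuleCat A`. -/
abbrev XQ : ModuleCat.{u} A := ModuleCat.of A (A ⧸ I)

variable {I} {M : Type u} [AddCommGroup M] [Module A M]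

theorem evL_bijective (hM : Killed I M) : Function.Bijective (evL hM) := by
  constructor
  · intro m m' h
    have h1 := LinearMap.congr_fun h (Submodule.Quotient.mk 1)
    rw [evL_mk, evL_mk, one_smul, one_smul] at h1
    exact h1
  · intro ψ
    refine ⟨ψ (Submodule.Quotient.mk 1), ?_⟩
    apply Submodule.linearMap_qext
    refine LinearMap.ext fun a => ?_
    change a • ψ (Submodule.Quotient.mk 1) = ψ (Submodule.Quotient.mk a)
    rw [← map_smul, ← Submodule.Quotient.mk_smul, smul_eq_mul, mul_one]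

/-- The class of `ev m` in `Ext^0(A ⧸ I, M)`. -/
noncomputable def evExt (hM : Killed I M) : M →ₗ[A] Ext (XQ I) (ModuleCat.of A M) 0 :=
  (Ext.linearEquiv₀ (R := A)).symm.toLinearMap ∘ₗ
    (ModuleCat.homLinearEquiv (S := A)).symm.toLinearMap ∘ₗ evL hM

theorem evExt_apply (hM : Killed I M) (m : M) :
    evExt hM m = Ext.mk₀ (ModuleCat.ofHom (evL hM m)) := rfl

theorem evExt_bijective (hM : Killed I M) : Function.Bijective (evExt hM) := by
  unfold evExt
  simp only [LinearMap.coe_comp, LinearEquiv.coe_coe]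
  exact (LinearEquiv.bijective _).comp ((LinearEquiv.bijective _).comp (evL_bijective hM))

variable {ι : Type} [Fintype ι] {i : ℕ}

/-- The map `(ι → M) → Ext^i(A ⧸ I, M)` attached to a family of universal classes. -/
noncomputable def Phi (u : ι → Ext (XQ I) (XQ I) i) (hM : Killed I M) :
    (ι → M) →ₗ[A] Ext (XQ I) (ModuleCat.of A M) i :=
  ∑ k, (Ext.bilinearCompOfLinear A (XQ I) (XQ I) (ModuleCat.of A M) i 0 i (add_zero i) (u k)) ∘ₗ
    evExt hM ∘ₗ LinearMap.proj k

theorem Phi_apply (u : ι → Ext (XQ I) (XQ I) i) (hM : Killed I M) (m : ι → M) :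
    Phi u hM m = ∑ k, (u k).comp (evExt hM (m k)) (add_zero i) := by
  simp [Phi, LinearMap.sum_apply]

end Phi

end Groth.Agent.H28

namespace Groth.Agent.H28

open CategoryTheory Abelian Pointwise RingTheory.Sequence

variable {A : Type u} [CommRing A]

section SES

variable {X X' Y : ModuleCat.{u} A} {x : A} {g : X ⟶ X'} {zero : (x • 𝟙 X) ≫ g = 0}

theorem smul_ext_eq_zero (hY : x • 𝟙 Y = 0) {n : ℕ} (α : Ext X Y n) : x • α = 0 := by
  rw [Ext.smul_eq_comp_mk₀, hY, Ext.mk₀_zero, Ext.comp_zero]

variable (hS : (ShortComplex.mk (x • 𝟙 X) g zero).ShortExact) (hY : x • 𝟙 Y = 0)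

include hY in
theorem delta_injective (i : ℕ) (y : Ext X Y i)
    (hy : hS.extClass.comp y (add_comm 1 i) = 0) : y = 0 := by
  obtain ⟨y₂, hy₂⟩ := Ext.contravariant_sequence_exact₁ hS Y y (add_comm 1 i) hy
  have h := mk₀_smul_id_comp x y₂
  rw [smul_ext_eq_zero hY] at h
  rw [← hy₂]
  exact h

include hS hY in
theorem gstar_surjective (n : ℕ) (y : Ext X Y n) :
    ∃ z : Ext X' Y n, (Ext.mk₀ g).comp z (zero_add n) = y := by
  have h : (Ext.mk₀ (x • 𝟙 X)).comp y (zero_add n) = 0 := by
    rw [mk₀_smul_id_comp, smul_ext_eq_zero hY]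
  exact Ext.contravariant_sequence_exact₂ hS Y y h

theorem exists_delta_of_gstar_eq_zero (i : ℕ) (z : Ext X' Y (i + 1))
    (hz : (Ext.mk₀ g).comp z (zero_add _) = 0) :
    ∃ y : Ext X Y i, hS.extClass.comp y (add_comm 1 i) = z :=
  Ext.contravariant_sequence_exact₃ hS Y z hz (add_comm 1 i)

theorem gstar_delta (i : ℕ) (y : Ext X Y i) :
    (Ext.mk₀ g).comp (hS.extClass.comp y (add_comm 1 i)) (zero_add _) = 0 :=
  hS.comp_extClass_assoc y (add_comm 1 i)

end SES

end Groth.Agent.H28

namespace Groth.Agent.H28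

open CategoryTheory Abelian Pointwise RingTheory.Sequence

variable {A : Type u} [CommRing A]

section Step

variable {ι ι' : Type} [Fintype ι] [Fintype ι'] {j : ℕ}
  {I I' : Submodule A A} {x : A} {g : XQ I ⟶ XQ I'} {zero : (x • 𝟙 (XQ I)) ≫ g = 0}

theorem evExt_comp_proj (hg : ∀ a : A, g.hom (Submodule.Quotient.mk a) = Submodule.Quotient.mk a)
    {M : Type u} [AddCommGroup M] [Module A M] (hM : Killed I M) (hM' : Killed I' M) (m : M) :
    (Ext.mk₀ g).comp (evExt hM' m) (zero_add 0) = evExt hM m := by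
  rw [evExt_apply, evExt_apply, Ext.mk₀_comp_mk₀]
  congr 1
  apply ModuleCat.hom_ext
  apply Submodule.linearMap_qext
  refine LinearMap.ext fun a => ?_
  change evL hM' m (g.hom (Submodule.Quotient.mk a)) = evL hM m (Submodule.Quotient.mk a)
  rw [hg, evL_mk, evL_mk]

theorem bijective_step (hS : (ShortComplex.mk (x • 𝟙 (XQ I)) g zero).ShortExact)
    (hg : ∀ a : A, g.hom (Submodule.Quotient.mk a) = Submodule.Quotient.mk a)
    (u : ι → Ext (XQ I) (XQ I) j) (u' : ι' → Ext (XQ I) (XQ I) (j + 1))
    (w : ι → Ext (XQ I') (XQ I') (j + 1)) (v : ι' → Ext (XQ I') (XQ I') (j + 1))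
    (hw : ∀ k, w k = hS.extClass.comp ((u k).comp (Ext.mk₀ g) (add_zero j)) (add_comm 1 j))
    (hv : ∀ l, (Ext.mk₀ g).comp (v l) (zero_add _) = (u' l).comp (Ext.mk₀ g) (add_zero _))
    {M : Type u} [AddCommGroup M] [Module A M] (hM : Killed I M) (hM' : Killed I' M)
    (hxM : x • 𝟙 (ModuleCat.of A M) = 0)
    (hb : Function.Bijective (Phi u hM)) (hb' : Function.Bijective (Phi u' hM)) :
    Function.Bijective (Phi (Sum.elim w v) hM') := by
  -- linear versions of δ and g^*
  set D : Ext (XQ I) (ModuleCat.of A M) j →ₗ[A] Ext (XQ I') (ModuleCat.of A M) (j + 1) :=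
    Ext.precompOfLinear hS.extClass A (ModuleCat.of A M) (add_comm 1 j) with hD
  set G : Ext (XQ I') (ModuleCat.of A M) (j + 1) →ₗ[A] Ext (XQ I) (ModuleCat.of A M) (j + 1) :=
    Ext.precompOfLinear (Ext.mk₀ g) A (ModuleCat.of A M) (zero_add (j + 1)) with hG
  have hD_apply : ∀ y, D y = hS.extClass.comp y (add_comm 1 j) := fun y => rfl
  have hG_apply : ∀ z, G z = (Ext.mk₀ g).comp z (zero_add (j + 1)) := fun z => rfl
  have F1 := evExt_comp_proj (g := g) hg hM hM'
  have hw' : ∀ k (m : M), (w k).comp (evExt hM' m) (add_zero _) =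
      D ((u k).comp (evExt hM m) (add_zero j)) := by
    intro k m
    rw [hD_apply, hw, Ext.comp_assoc_of_third_deg_zero, Ext.comp_assoc_of_second_deg_zero, F1]
  have hv' : ∀ l (m : M), G ((v l).comp (evExt hM' m) (add_zero _)) =
      (u' l).comp (evExt hM m) (add_zero _) := by
    intro l m
    rw [hG_apply, ← Ext.comp_assoc_of_third_deg_zero, hv, Ext.comp_assoc_of_second_deg_zero, F1]
  have hGD : ∀ y, G (D y) = 0 := fun y => gstar_delta hS j y
  -- the formula for `Phi`
  have hPhi : ∀ m : ι ⊕ ι' → M, Phi (Sum.elim w v) hM' m =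
      D (Phi u hM (fun k => m (Sum.inl k))) +
        ∑ l, (v l).comp (evExt hM' (m (Sum.inr l))) (add_zero _) := by
    intro m
    rw [Phi_apply, Fintype.sum_sum_type, Phi_apply, map_sum]
    simp only [Sum.elim_inl, Sum.elim_inr, hw']
  have hGPhi : ∀ m : ι ⊕ ι' → M, G (Phi (Sum.elim w v) hM' m) =
      Phi u' hM (fun l => m (Sum.inr l)) := by
    intro m
    rw [hPhi, map_add, hGD, zero_add, map_sum, Phi_apply]
    simp only [hv']
  constructor
  · rw [injective_iff_map_eq_zero]
    intro m hm
    have h1 : Phi u' hM (fun l => m (Sum.inr l)) = 0 := by rw [← hGPhi, hm, map_zero]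
    have h2 : (fun l => m (Sum.inr l)) = 0 := hb'.1 (by rw [h1, map_zero])
    have h3 : D (Phi u hM (fun k => m (Sum.inl k))) = 0 := by
      have h4 := hPhi m
      rw [hm] at h4
      have h5 : ∀ l, m (Sum.inr l) = 0 := fun l => congrFun h2 l
      simp only [h5, map_zero, Ext.comp_zero, Finset.sum_const_zero, add_zero] at h4
      exact h4.symm
    have h6 : Phi u hM (fun k => m (Sum.inl k)) = 0 := delta_injective hS hxM j _ h3
    have h7 : (fun k => m (Sum.inl k)) = 0 := hb.1 (by rw [h6, map_zero])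
    funext s
    rcases s with k | l
    · exact congrFun h7 k
    · exact congrFun h2 l
  · intro z
    obtain ⟨m', hm'⟩ := hb'.2 (G z)
    set z' := z - ∑ l, (v l).comp (evExt hM' (m' l)) (add_zero _) with hz'
    have hGz' : G z' = 0 := by
      rw [hz', map_sub, map_sum]
      simp only [hv']
      rw [← Phi_apply, hm', sub_self]
    obtain ⟨y, hy⟩ := exists_delta_of_gstar_eq_zero hS j z' hGz'
    obtain ⟨m₁, hm₁⟩ := hb.2 y
    refine ⟨Sum.elim m₁ m', ?_⟩
    rw [hPhi]
    simp only [Sum.elim_inl, Sum.elim_inr]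
    rw [hm₁, hD_apply, hy, hz']
    abel

end Step

end Groth.Agent.H28

namespace Groth.Agent.H28

open CategoryTheory Abelian Pointwise RingTheory.Sequence

variable (A : Type u) [CommRing A]

section Concrete

/-- The ideal `(rs)` as a submodule `(rs) • ⊤` of `A`. -/
abbrev IQ (rs : List A) : Submodule A A := (Ideal.ofList rs • ⊤ : Submodule A A)

variable (rs : List A) (x : A)

/-- The projection `A ⧸ (rs) → A ⧸ (rs, x)`. -/
noncomputable def gProj : XQ (IQ A rs) ⟶ XQ (IQ A (rs ++ [x])) :=
  ((ModuleCat.of A (A ⧸ IQ A rs)).smulShortComplex x).g ≫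
    (quotAppendSingletonEquiv A A rs x).symm.toModuleIso.hom

theorem gProj_mk (a : A) :
    (gProj A rs x).hom (Submodule.Quotient.mk a) = Submodule.Quotient.mk a := by
  change (quotAppendSingletonEquiv A A rs x).symm
    (Submodule.Quotient.mk (Submodule.Quotient.mk a)) = _
  rw [LinearEquiv.symm_apply_eq]
  rfl

theorem gProj_zero : (x • 𝟙 (XQ (IQ A rs))) ≫ gProj A rs x = 0 := by
  have h : (x • 𝟙 (XQ (IQ A rs))) ≫ ((ModuleCat.of A (A ⧸ IQ A rs)).smulShortComplex x).g = 0 :=
    ((ModuleCat.of A (A ⧸ IQ A rs)).smulShortComplex x).zero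
  have h2 : ((x • 𝟙 (XQ (IQ A rs))) ≫ ((ModuleCat.of A (A ⧸ IQ A rs)).smulShortComplex x).g) ≫
      (quotAppendSingletonEquiv A A rs x).symm.toModuleIso.hom =
      0 ≫ (quotAppendSingletonEquiv A A rs x).symm.toModuleIso.hom :=
    congrArg (fun t => t ≫ (quotAppendSingletonEquiv A A rs x).symm.toModuleIso.hom) h
  rw [Limits.zero_comp, Category.assoc] at h2
  exact h2

theorem gProj_shortExact (hx : IsSMulRegular (A ⧸ IQ A rs) x) :
    (ShortComplex.mk (x • 𝟙 (XQ (IQ A rs))) (gProj A rs x) (gProj_zero A rs x)).ShortExact := by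
  have hS : ((ModuleCat.of A (A ⧸ IQ A rs)).smulShortComplex x).ShortExact :=
    IsSMulRegular.smulShortComplex_shortExact (M := ModuleCat.of A (A ⧸ IQ A rs)) hx
  refine ShortComplex.shortExact_of_iso ?_ hS
  exact ShortComplex.isoMk (Iso.refl _) (Iso.refl _)
    (quotAppendSingletonEquiv A A rs x).symm.toModuleIso
    ((Category.id_comp _).trans (Category.comp_id _).symm) (Category.id_comp _)

end Concrete

end Groth.Agent.H28

namespace Groth.Agent.H28

open CategoryTheory Abelian Pointwise RingTheory.Sequence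

variable (A : Type u) [CommRing A]

section Main

theorem killed_self (I : Submodule A A) : Killed I (A ⧸ I) := by
  intro a ha m
  obtain ⟨b, rfl⟩ := Submodule.Quotient.mk_surjective I m
  rw [← Submodule.Quotient.mk_smul, Submodule.Quotient.mk_eq_zero, smul_eq_mul, mul_comm]
  exact I.smul_mem b ha

theorem IQ_le_append (rs : List A) (x : A) : IQ A rs ≤ IQ A (rs ++ [x]) := by
  apply Submodule.smul_mono_left
  rw [Ideal.ofList_append]
  exact le_sup_left

theorem mem_IQ_append (rs : List A) (x : A) : x ∈ IQ A (rs ++ [x]) := by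
  have h : x ∈ Ideal.ofList (rs ++ [x]) := by
    rw [Ideal.ofList_append, Ideal.ofList_singleton]
    exact Ideal.mem_sup_right (Ideal.mem_span_singleton_self x)
  have := Submodule.smul_mem_smul h (Submodule.mem_top (x := (1 : A)))
  simpa using this

variable {A}

theorem smul_id_eq_zero_of_killed {I : Submodule A A} {M : Type u} [AddCommGroup M] [Module A M]
    (hM : Killed I M) {x : A} (hx : x ∈ I) : x • 𝟙 (ModuleCat.of A M) = 0 := by
  apply ModuleCat.hom_ext
  refine LinearMap.ext fun m => ?_
  exact hM x hx m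

/-- Degree zero: a single universal class. -/
theorem univ_zero (I : Submodule A A) {M : Type u} [AddCommGroup M] [Module A M]
    (hM : Killed I M) :
    Function.Bijective (Phi (ι := Unit) (fun _ => Ext.mk₀ (𝟙 (XQ I))) hM) := by
  have h : ∀ m : Unit → M, Phi (ι := Unit) (fun _ => Ext.mk₀ (𝟙 (XQ I))) hM m = evExt hM (m ()) := by
    intro m
    rw [Phi_apply]
    simp
  have h2 : (Phi (ι := Unit) (fun _ => Ext.mk₀ (𝟙 (XQ I))) hM : (Unit → M) → _) =
      evExt hM ∘ (Equiv.funUnique Unit M) := by
    funext m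
    rw [h]
    rfl
  rw [h2]
  exact (evExt_bijective hM).comp (Equiv.bijective _)

variable (A)

theorem univ_aux (rs : List A) (hreg : IsWeaklyRegular A rs) (i : ℕ) :
    ∃ (ι : Type) (_ : Fintype ι), Fintype.card ι = rs.length.choose i ∧
      ∃ u : ι → Ext (XQ (IQ A rs)) (XQ (IQ A rs)) i,
        ∀ (M : Type u) [AddCommGroup M] [Module A M] (hM : Killed (IQ A rs) M),
          Function.Bijective (Phi u hM) := by
  induction rs using List.reverseRecOn generalizing i with
  | nil =>
    cases i with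
    | zero =>
      exact ⟨Unit, inferInstance, by simp, fun _ => Ext.mk₀ (𝟙 _), fun M _ _ hM => univ_zero _ hM⟩
    | succ j =>
      have hproj : Projective (ModuleCat.of A (Bq A [])) :=
        Projective.of_iso (bqNilEquiv A).toModuleIso.symm inferInstance
      refine ⟨Empty, inferInstance, by simp, fun k => k.elim, fun M _ _ hM => ?_⟩
      have hsub : Subsingleton (Ext (XQ (IQ A [])) (ModuleCat.of A M) (j + 1)) :=
        Ext.subsingleton_of_projective _ _ j
      constructor
      · intro a b _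
        exact Subsingleton.elim _ _
      · intro z
        exact ⟨fun k => k.elim, Subsingleton.elim _ _⟩
  | append_singleton rs x ih =>
    rw [isWeaklyRegular_append_iff] at hreg
    obtain ⟨hrs, hx⟩ := hreg
    rw [isWeaklyRegular_singleton_iff] at hx
    cases i with
    | zero =>
      exact ⟨Unit, inferInstance, by simp, fun _ => Ext.mk₀ (𝟙 _), fun M _ _ hM => univ_zero _ hM⟩
    | succ j =>
      obtain ⟨ι, hι, hcard, u, hu⟩ := ih hrs j
      obtain ⟨ι', hι', hcard', u', hu'⟩ := ih hrs (j + 1)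
      have hS := gProj_shortExact A rs x hx
      have hX' : x • 𝟙 (XQ (IQ A (rs ++ [x]))) = 0 :=
        smul_id_eq_zero_of_killed (killed_self A _) (mem_IQ_append A rs x)
      -- the lifted classes
      have hvex : ∀ l : ι', ∃ v : Ext (XQ (IQ A (rs ++ [x]))) (XQ (IQ A (rs ++ [x]))) (j + 1),
          (Ext.mk₀ (gProj A rs x)).comp v (zero_add _) =
            (u' l).comp (Ext.mk₀ (gProj A rs x)) (add_zero _) :=
        fun l => gstar_surjective hS hX' (j + 1) _
      choose v hv using hvex
      refine ⟨ι ⊕ ι', inferInstance, ?_, Sum.elim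
        (fun k => hS.extClass.comp ((u k).comp (Ext.mk₀ (gProj A rs x)) (add_zero j))
          (add_comm 1 j)) v, fun M _ _ hM' => ?_⟩
      · rw [Fintype.card_sum, hcard, hcard', List.length_append, List.length_singleton,
          Nat.choose_succ_succ]
      · have hM : Killed (IQ A rs) M := fun a ha m => hM' a (IQ_le_append A rs x ha) m
        have hxM : x • 𝟙 (ModuleCat.of A M) = 0 :=
          smul_id_eq_zero_of_killed hM' (mem_IQ_append A rs x)
        exact bijective_step hS (gProj_mk A rs x) u u' _ v (fun k => rfl) hv hM hM' hxM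
          (hu M hM) (hu' M hM)

end Main

end Groth.Agent.H28
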