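import Mathlib.Algebra.Category.ModuleCat.Ext.HasExt
import Mathlib.Algebra.Homology.DerivedCategory.Ext.Linear
import Mathlib.Algebra.Homology.DerivedCategory.Ext.ExactSequences
import Mathlib.Algebra.Homology.DerivedCategory.Ext.EnoughProjectives
import Mathlib.RingTheory.Regular.RegularSequence
import Mathlib.RingTheory.Regular.Category
import Mathlib.LinearAlgebra.Quotient.Basic
import Mathlib.RingTheory.Ideal.Quotient.Basic

set_option autoImplicit false

universe u

namespace Groth.Agent.H28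

open CategoryTheory Abelian Pointwise

section General

variable {R : Type u} [CommRing R]

/-- `Ext` is invariant under isomorphism in the first variable, linearly. -/
noncomputable def extLinearEquivOfIso {X X' : ModuleCat.{u} R} (e : X ≅ X') (Y : ModuleCat.{u} R)
    (n : ℕ) : Ext X Y n ≃ₗ[R] Ext X' Y n :=
  LinearEquiv.ofLinearMap (Ext.precompOfLinear (Ext.mk₀ e.inv) R Y (zero_add n))
    (Ext.precompOfLinear (Ext.mk₀ e.hom) R Y (zero_add n))
    (by
      ext α
      simp only [LinearMap.comp_apply, Ext.bilinearCompOfLinear_apply_apply, LinearMap.id_apply]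
      rw [Ext.mk₀_comp_mk₀_assoc, e.inv_hom_id, Ext.mk₀_id_comp])
    (by
      ext α
      simp only [LinearMap.comp_apply, Ext.bilinearCompOfLinear_apply_apply, LinearMap.id_apply]
      rw [Ext.mk₀_comp_mk₀_assoc, e.hom_inv_id, Ext.mk₀_id_comp])

/-- Left multiplication by `x • 𝟙` on `Ext` is scalar multiplication. -/
theorem mk₀_smul_id_comp {X Y : ModuleCat.{u} R} (x : R) {n : ℕ} (α : Ext X Y n) :
    (Ext.mk₀ (x • 𝟙 X)).comp α (zero_add n) = x • α := by
  rw [Ext.mk₀_smul, Ext.smul_comp, Ext.mk₀_id_comp]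

variable (B M : Type u) [AddCommGroup B] [Module R B] [AddCommGroup M] [Module R M]

/-- Vanishing step: if `Ext^i(B, M)` and `Ext^{i+1}(B, M)` vanish, so does `Ext^{i+1}(B/xB, M)`. -/
theorem subsingleton_ext_quotSMulTop {x : R} (reg : IsSMulRegular B x) (i : ℕ)
    (h0 : Subsingleton (Ext (ModuleCat.of R B) (ModuleCat.of R M) i))
    (h1 : Subsingleton (Ext (ModuleCat.of R B) (ModuleCat.of R M) (i + 1))) :
    Subsingleton (Ext (ModuleCat.of R (QuotSMulTop x B)) (ModuleCat.of R M) (i + 1)) := by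
  have hS : ((ModuleCat.of R B).smulShortComplex x).ShortExact :=
    IsSMulRegular.smulShortComplex_shortExact (M := ModuleCat.of R B) reg
  refine subsingleton_of_forall_eq 0 fun x₃ => ?_
  obtain ⟨x₁, hx₁⟩ := Ext.contravariant_sequence_exact₃ hS (ModuleCat.of R M) x₃
    (h1.elim _ _) (add_comm 1 i)
  have : x₁ = 0 := h0.elim _ _
  rw [← hx₁, this, Ext.comp_zero]
  rfl

/-- Main step: if `Ext^{p+1}(B, M) = 0` and `x` is `B`-regular, then
`Ext^{p+1}(B/xB, M) ≃ Ext^p(B, M)/x`. -/
theorem nonempty_ext_quotSMulTop_equiv {x : R} (reg : IsSMulRegular B x) (p : ℕ)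
    (h1 : Subsingleton (Ext (ModuleCat.of R B) (ModuleCat.of R M) (p + 1))) :
    Nonempty (Ext (ModuleCat.of R (QuotSMulTop x B)) (ModuleCat.of R M) (p + 1) ≃ₗ[R]
      QuotSMulTop x (Ext (ModuleCat.of R B) (ModuleCat.of R M) p)) := by
  have hS : ((ModuleCat.of R B).smulShortComplex x).ShortExact :=
    IsSMulRegular.smulShortComplex_shortExact (M := ModuleCat.of R B) reg
  set δ : Ext (ModuleCat.of R B) (ModuleCat.of R M) p →ₗ[R]
      Ext (ModuleCat.of R (QuotSMulTop x B)) (ModuleCat.of R M) (p + 1) :=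
    Ext.precompOfLinear hS.extClass R (ModuleCat.of R M) (add_comm 1 p) with hδ
  have hsurj : Function.Surjective δ := by
    intro x₃
    obtain ⟨x₁, hx₁⟩ := Ext.contravariant_sequence_exact₃ hS (ModuleCat.of R M) x₃
      (h1.elim _ _) (add_comm 1 p)
    exact ⟨x₁, hx₁⟩
  have key : ∀ z : Ext (ModuleCat.of R B) (ModuleCat.of R M) p,
      (Ext.mk₀ ((ModuleCat.of R B).smulShortComplex x).f).comp z (zero_add p) = x • z :=
    fun z => mk₀_smul_id_comp x z
  have hker : LinearMap.ker δ = x • (⊤ : Submodule R (Ext (ModuleCat.of R B) (ModuleCat.of R M) p)) := by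
    ext y
    rw [LinearMap.mem_ker, Submodule.mem_smul_pointwise_iff_exists]
    constructor
    · intro hy
      obtain ⟨x₂, hx₂⟩ := Ext.contravariant_sequence_exact₁ hS (ModuleCat.of R M) y
        (add_comm 1 p) hy
      exact ⟨x₂, Submodule.mem_top, (key x₂).symm.trans hx₂⟩
    · rintro ⟨z, -, rfl⟩
      rw [← key z]
      exact hS.extClass_comp_assoc (h := add_comm 1 p) z
  exact ⟨((Submodule.quotEquivOfEq _ _ hker).symm.trans
    (LinearMap.quotKerEquivOfSurjective δ hsurj)).symm⟩

end General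

end Groth.Agent.H28

namespace Groth.Agent.H28

open CategoryTheory Abelian Pointwise RingTheory.Sequence

variable (A : Type u) [CommRing A]

/-- The quotient `A ⧸ (rs)A` as a module quotient. -/
abbrev Bq (rs : List A) : Type u := A ⧸ (Ideal.ofList rs • ⊤ : Submodule A A)

/-- `A ⧸ ([])A ≃ A`. -/
noncomputable def bqNilEquiv : Bq A [] ≃ₗ[A] A :=
  Submodule.quotEquivOfEqBot _ (by rw [Ideal.ofList_nil, Submodule.bot_smul])

/-- `(x :: rs)`-quotient versus `(rs ++ [x])`-quotient, for a general module. -/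
noncomputable def quotAppendSingletonEquiv (M : Type u) [AddCommGroup M] [Module A M]
    (rs : List A) (x : A) :
    (M ⧸ (Ideal.ofList (rs ++ [x]) • ⊤ : Submodule A M)) ≃ₗ[A]
      QuotSMulTop x (M ⧸ (Ideal.ofList rs • ⊤ : Submodule A M)) :=
  (Submodule.quotEquivOfEq _ _ (by
    rw [Ideal.ofList_append, Ideal.ofList_singleton, Ideal.ofList_cons, sup_comm])).trans
    (Submodule.quotOfListConsSMulTopEquivQuotSMulTopOuter M x rs)

theorem ext_regular_aux (rs : List A) (hreg : IsWeaklyRegular A rs) :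
    (∀ (M : Type u) [AddCommGroup M] [Module A M] (i : ℕ), rs.length < i →
      Subsingleton (Ext (ModuleCat.of A (Bq A rs)) (ModuleCat.of A M) i)) ∧
    (∀ (M : Type u) [AddCommGroup M] [Module A M],
      Nonempty (Ext (ModuleCat.of A (Bq A rs)) (ModuleCat.of A M) rs.length ≃ₗ[A]
        (M ⧸ (Ideal.ofList rs • ⊤ : Submodule A M)))) := by
  induction rs using List.reverseRecOn with
  | nil =>
    have hproj : Projective (ModuleCat.of A (Bq A [])) :=
      Projective.of_iso (bqNilEquiv A).toModuleIso.symm inferInstance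
    constructor
    · intro M _ _ i hi
      obtain ⟨j, rfl⟩ := Nat.exists_eq_succ_of_ne_zero (Nat.pos_iff_ne_zero.mp hi)
      exact Ext.subsingleton_of_projective _ _ j
    · intro M _ _
      let e0 : Ext (ModuleCat.of A (Bq A [])) (ModuleCat.of A M) 0 ≃ₗ[A]
          (ModuleCat.of A (Bq A []) ⟶ ModuleCat.of A M) := Ext.linearEquiv₀
      let e1 : (ModuleCat.of A (Bq A []) ⟶ ModuleCat.of A M) ≃ₗ[A] (Bq A [] →ₗ[A] M) :=
        ModuleCat.homLinearEquiv (S := A)
      let e2 : (Bq A [] →ₗ[A] M) ≃ₗ[A] (A →ₗ[A] M) := (bqNilEquiv A).congrLeft M A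
      let e3 : (A →ₗ[A] M) ≃ₗ[A] M := LinearMap.ringLmapEquivSelf A A M
      let e4 : M ≃ₗ[A] (M ⧸ (Ideal.ofList ([] : List A) • ⊤ : Submodule A M)) :=
        (Submodule.quotEquivOfEqBot _ (by rw [Ideal.ofList_nil, Submodule.bot_smul])).symm
      exact ⟨e0.trans (e1.trans (e2.trans (e3.trans e4)))⟩
  | append_singleton rs x ih =>
    rw [isWeaklyRegular_append_iff] at hreg
    obtain ⟨hrs, hx⟩ := hreg
    rw [isWeaklyRegular_singleton_iff] at hx
    obtain ⟨ihv, ihe⟩ := ih hrs
    -- identification of the quotient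
    have eC : ModuleCat.of A (Bq A (rs ++ [x])) ≅ ModuleCat.of A (QuotSMulTop x (Bq A rs)) :=
      (quotAppendSingletonEquiv A A rs x).toModuleIso
    constructor
    · intro M _ _ i hi
      rw [List.length_append, List.length_singleton] at hi
      obtain ⟨j, rfl⟩ := Nat.exists_eq_succ_of_ne_zero (Nat.pos_iff_ne_zero.mp (by omega : 0 < i))
      have h0 := ihv M j (by omega)
      have h1 := ihv M (j + 1) (by omega)
      have h2 := subsingleton_ext_quotSMulTop (Bq A rs) M hx j h0 h1
      exact (extLinearEquivOfIso eC (ModuleCat.of A M) (j + 1)).toEquiv.subsingleton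
    · intro M _ _
      have h1 := ihv M (rs.length + 1) (by omega)
      obtain ⟨e1⟩ := nonempty_ext_quotSMulTop_equiv (Bq A rs) M hx rs.length h1
      obtain ⟨e2⟩ := ihe M
      rw [List.length_append, List.length_singleton]
      exact ⟨(extLinearEquivOfIso eC (ModuleCat.of A M) (rs.length + 1)).trans
        (e1.trans ((QuotSMulTop.congr x e2).trans (quotAppendSingletonEquiv A M rs x).symm))⟩

end Groth.Agent.H28
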