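import Mathlib
import Groth.Agent.H28.FibreGlDim2
import Groth.Agent.Lead.RegularGlDim

set_option autoImplicit false
universe u
open CategoryTheory CategoryTheory.Limits MonoidalCategory TensorProduct

namespace Groth.Agent.H28.FibreGlDim3

open HomologicalComplex DerivedCategory Groth.Agent.H35 Groth.Agent.H35.KF Groth.Agent.H35.KFBC
  Groth.Agent.H35.LT Groth.Agent.H28.FibreGlDim2

attribute [local instance] HasDerivedCategory.standard

variable {A B : Type u} [CommRing A] [CommRing B] [IsLocalRing A] [IsLocalRing B] [Algebra A B]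
  [IsLocalHom (algebraMap A B)]

open IsLocalRing

/-- the map `A/m_A → B/m_B` -/
noncomputable def quotToQuot : (A ⧸ maximalIdeal A) →ₐ[A] B ⧸ maximalIdeal B :=
  Ideal.Quotient.liftₐ (maximalIdeal A) (Algebra.ofId A (B ⧸ maximalIdeal B)) (fun x hx => by
    change algebraMap A (B ⧸ maximalIdeal B) x = 0
    rw [IsScalarTower.algebraMap_apply A B (B ⧸ maximalIdeal B), Ideal.Quotient.algebraMap_eq,
      Ideal.Quotient.eq_zero_iff_mem]
    have h02 : (maximalIdeal A).map (algebraMap A B) ≤ maximalIdeal B :=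
      ((IsLocalRing.local_hom_TFAE (algebraMap A B)).out 0 2).mp ‹IsLocalHom (algebraMap A B)›
    exact h02 (Ideal.mem_map_of_mem _ hx))

/-- the map `A/m_A ⊗_A B → B/m_B` -/
noncomputable def fibreToQuot : (A ⧸ maximalIdeal A) ⊗[A] B →+* B ⧸ maximalIdeal B :=
  (Algebra.TensorProduct.lift (quotToQuot (A := A) (B := B))
    (IsScalarTower.toAlgHom A B (B ⧸ maximalIdeal B))
    (fun _ _ => Commute.all _ _)).toRingHom

lemma mk_eq_comp : Ideal.Quotient.mk (maximalIdeal B) =
    (fibreToQuot (A := A) (B := B)).comp (inclR (A := A) (B := B) (A ⧸ maximalIdeal A)) := by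
  ext x
  change _ = (Algebra.TensorProduct.lift (quotToQuot (A := A) (B := B))
    (IsScalarTower.toAlgHom A B (B ⧸ maximalIdeal B))
    (fun _ _ => Commute.all _ _)) ((1 : A ⧸ maximalIdeal A) ⊗ₜ[A] x)
  rw [Algebra.TensorProduct.lift_tmul, map_one, one_mul]
  rfl

/-- the residue field of `A` as an `A`-module, in its two guises -/
noncomputable def resIso : BA (IsLocalRing.residue A) ≅ ModuleCat.of A (A ⧸ maximalIdeal A) :=
  (AddEquiv.toLinearEquiv (M := ↑(BA (IsLocalRing.residue A)))
    (M₂ := ↑(ModuleCat.of A (A ⧸ maximalIdeal A)))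
    (AddEquiv.refl (A ⧸ maximalIdeal A)) (fun r z => by
      obtain ⟨y, rfl⟩ := Ideal.Quotient.mk_surjective z
      rfl)).toModuleIso

/-- the key vanishing for S6977 -/
theorem subsingleton_fibre_of_regular [Module.Flat A B] (d : ℕ)
    [IsRegularLocalRing (B ⧸ (maximalIdeal A).map (algebraMap A B))]
    (hd : ringKrullDim (B ⧸ (maximalIdeal A).map (algebraMap A B)) = d)
    [DRing.HasLBaseChange (IsLocalRing.residue A)]
    [DRing.HasLBaseChange (Ideal.Quotient.mk (maximalIdeal B))] (a b : ℤ) (K : Dual.D B)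
    (hK : DRing.IsPseudoCoherent' B K)
    (h : ∀ i : ℤ, (i < a ∨ b < i) → Subsingleton (Dual.HD (IsLocalRing.ResidueField A)
      ((DRing.LBaseChange (IsLocalRing.residue A)).obj
        ((DRing.restrictD (algebraMap A B)).obj K)) i))
    (i : ℤ) (hi : i < a - d ∨ b < i) :
    Subsingleton (Dual.HD (B ⧸ maximalIdeal B)
      ((DRing.LBaseChange (Ideal.Quotient.mk (maximalIdeal B))).obj K) i) := by
  obtain ⟨E, c, hc, hff, ⟨e⟩⟩ := hK
  have hfl : ∀ j : ℤ, Module.Flat B (E.X j) := fun j => by
    have := (hff j).2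
    infer_instance
  have hEK : IsKFlat E := isKFlat_of_bounded_flat E c hc hfl
  -- the fibre ring
  let eC : (B ⧸ (maximalIdeal A).map (algebraMap A B)) ≃+* (A ⧸ maximalIdeal A) ⊗[A] B :=
    (Algebra.TensorProduct.quotIdealMapEquivQuotTensor B (maximalIdeal A)).toRingEquiv
  have : IsRegularLocalRing ((A ⧸ maximalIdeal A) ⊗[A] B) := IsRegularLocalRing.of_ringEquiv eC
  have hd' : ringKrullDim ((A ⧸ maximalIdeal A) ⊗[A] B) = d := by
    rw [← ringKrullDim_eq_of_ringEquiv eC]
    exact hd
  have hgl : ∀ M : ModuleCat.{u} ((A ⧸ maximalIdeal A) ⊗[A] B),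
      HasProjectiveDimensionLT M (d + 1) :=
    fun M => Groth.Agent.Lead.RLR.hasProjectiveDimensionLT _ d hd' M
  -- exactness of the fibre over `A`
  have hres : IsKFlat (resL (algebraMap A B) E) :=
    isKFlat_of_bounded_flat _ c
      (fun j hj => (ModuleCat.restrictScalars (algebraMap A B)).map_isZero (hc j hj))
      (fun j => by
        have := hfl j
        exact flat_restrictScalars_of_flat (E.X j))
  have eA : Q.obj (resL (algebraMap A B) E) ≅ (DRing.restrictD (algebraMap A B)).obj K :=
    ((ModuleCat.restrictScalars (algebraMap A B)).mapDerivedCategoryFactors.app E).symm ≪≫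
      (DRing.restrictD (algebraMap A B)).mapIso e
  have hex : ∀ j : ℤ, (j < a ∨ b < j) →
      TensExactAt (resL (algebraMap A B) E) (ModuleCat.of A (A ⧸ maximalIdeal A)) j := by
    intro j hj
    rw [← tensExactAt_iff_of_iso _ resIso j,
      ← exactAt_map_extendScalars_iff (IsLocalRing.residue A) _ j,
      HomologicalComplex.exactAt_iff_isZero_homology]
    have h1 := h j hj
    exact IsZero.of_iso (ModuleCat.isZero_of_subsingleton _)
      ((Groth.Agent.H28.PCohLocal.homologyLBaseChangeIso (IsLocalRing.residue A) _ hres j).symm ≪≫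
        (DerivedCategory.homologyFunctor _ j).mapIso
          ((DRing.LBaseChange (IsLocalRing.residue A)).mapIso eA))
  have key := Groth.Agent.H28.FibreGlDim.exactAt_extCx_of_fibre (algebraMap A B)
    (inclR (A := A) (B := B) (A ⧸ maximalIdeal A)) (fibreToQuot (A := A) (B := B))
    (Ideal.Quotient.mk (maximalIdeal B)) mk_eq_comp (ModuleCat.of A (A ⧸ maximalIdeal A))
    (eN _) d hgl E c hc hfl a b hex i hi
  rw [HomologicalComplex.exactAt_iff_isZero_homology] at key
  exact ModuleCat.subsingleton_of_isZero (IsZero.of_iso key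
    ((DerivedCategory.homologyFunctor _ i).mapIso
      ((DRing.LBaseChange (Ideal.Quotient.mk (maximalIdeal B))).mapIso e.symm) ≪≫
      Groth.Agent.H28.PCohLocal.homologyLBaseChangeIso (Ideal.Quotient.mk (maximalIdeal B)) E hEK i))

end Groth.Agent.H28.FibreGlDim3
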