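import Groth.Agent.H96.CycQ
import Mathlib.RingTheory.IntegralDomain
import Mathlib.RingTheory.Ideal.Maximal
import Mathlib.RingTheory.Ideal.Quotient.Operations
import Mathlib.GroupTheory.IndexNSmul
import Mathlib.RingTheory.Polynomial.Cyclotomic.Basic

/-!
# Decomposition of the group ring `Λ[M ⧸ B₀]` into cyclotomic quotients

For a commutative group `M`, a subgroup `B₀` of finite index invertible in `Λ`:
* `quotMap_eq_zero_of_forall_cycQuotMap_eq_zero`: an element of `Λ[M]` dying in all cyclotomic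
  quotients `Λ[M ⧸ B]/(Φ)` (`B ⊇ B₀`, `M ⧸ B` cyclic) dies in `Λ[M ⧸ B₀]`;
* `exists_forall_cycQuotMap_eq`: Chinese remainder theorem for the cyclotomic quotients.
-/

set_option autoImplicit false

namespace Groth.Agent.H28.GrpAlgCyc

open Polynomial W4c6equivkfinstab Groth.Agent.H96.CycQ

variable (Λ : Type*) [CommRing Λ] (M : Type*) [AddCommGroup M]

/-- the group-ring element `[m]` -/
noncomputable abbrev sg (m : M) : AddMonoidAlgebra Λ M := AddMonoidAlgebra.single m 1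

variable {M}

lemma sg_add (a b : M) : sg Λ M (a + b) = sg Λ M a * sg Λ M b := by
  unfold sg
  rw [AddMonoidAlgebra.single_mul_single, mul_one]

lemma sg_zero : sg Λ M 0 = 1 := rfl

lemma sg_nsmul (k : ℕ) (a : M) : sg Λ M (k • a) = sg Λ M a ^ k := by
  induction k with
  | zero => rw [zero_smul, pow_zero, sg_zero]
  | succ k ih => rw [succ_nsmul, sg_add, ih, pow_succ]

lemma sg_neg_mul (a : M) : sg Λ M (-a) * sg Λ M a = 1 := by
  rw [← sg_add, neg_add_cancel, sg_zero]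

variable (M)

/-- the ideal generated by the `[b] - 1`, `b ∈ B` -/
noncomputable def augIdeal (B : AddSubgroup M) : Ideal (AddMonoidAlgebra Λ M) :=
  Ideal.span {y | ∃ b ∈ B, y = sg Λ M b - 1}

variable {M}

lemma quotMap_eq_zero_of_mem_augIdeal (B : AddSubgroup M) {x : AddMonoidAlgebra Λ M}
    (hx : x ∈ augIdeal Λ M B) : quotMap Λ M B x = 0 := by
  have : augIdeal Λ M B ≤ RingHom.ker (quotMap Λ M B) := by
    unfold augIdeal
    rw [Ideal.span_le]
    rintro y ⟨b, hb, rfl⟩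
    exact quotMap_single_sub_one_of_mem Λ M B hb
  exact this hx

lemma mem_augIdeal_of_quotMap_eq_zero (B : AddSubgroup M) {x : AddMonoidAlgebra Λ M}
    (hx : quotMap Λ M B x = 0) : x ∈ augIdeal Λ M B := by
  have key : ∀ x : AddMonoidAlgebra Λ M,
      x - AddMonoidAlgebra.mapDomain (fun q : M ⧸ B => q.out) (quotMap Λ M B x) ∈
        augIdeal Λ M B := by
    intro x
    induction x using AddMonoidAlgebra.induction_linear with
    | zero =>
      rw [map_zero, AddMonoidAlgebra.mapDomain_zero, sub_zero]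
      exact Ideal.zero_mem _
    | add x y hx hy =>
      rw [map_add, AddMonoidAlgebra.mapDomain_add, add_sub_add_comm]
      exact Ideal.add_mem _ hx hy
    | single m r =>
      have h1 : quotMap Λ M B (AddMonoidAlgebra.single m r) =
          AddMonoidAlgebra.single (m : M ⧸ B) r := AddMonoidAlgebra.mapDomain_single
      rw [h1, AddMonoidAlgebra.mapDomain_single]
      have hmem : m - (m : M ⧸ B).out ∈ B := by
        rw [← QuotientAddGroup.eq_zero_iff, QuotientAddGroup.mk_sub, QuotientAddGroup.out_eq',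
          sub_self]
      have h2 : AddMonoidAlgebra.single m r - AddMonoidAlgebra.single ((m : M ⧸ B).out) r =
          AddMonoidAlgebra.single ((m : M ⧸ B).out) r * (sg Λ M (m - (m : M ⧸ B).out) - 1) := by
        unfold sg
        rw [mul_sub, mul_one, AddMonoidAlgebra.single_mul_single, mul_one, add_sub_cancel]
      rw [h2]
      exact Ideal.mul_mem_left _ _ (Ideal.subset_span ⟨_, hmem, rfl⟩)
  have := key x
  rwa [hx, AddMonoidAlgebra.mapDomain_zero, sub_zero] at this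

lemma ker_quotMap (B : AddSubgroup M) : RingHom.ker (quotMap Λ M B) = augIdeal Λ M B := by
  ext x
  exact ⟨fun h => mem_augIdeal_of_quotMap_eq_zero Λ B h,
    fun h => quotMap_eq_zero_of_mem_augIdeal Λ B h⟩

section Local

variable {Λ}
variable (𝔪 : Ideal (AddMonoidAlgebra Λ M))

/-- the subgroup of the `m` with `[m] ≡ 1` modulo the ideal `𝔪` -/
noncomputable def stabSubgroup : AddSubgroup M where
  carrier := {m | sg Λ M m - 1 ∈ 𝔪}
  zero_mem' := by
    change sg Λ M 0 - 1 ∈ 𝔪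
    rw [sg_zero, sub_self]
    exact Ideal.zero_mem _
  add_mem' := by
    intro a b ha hb
    change sg Λ M (a + b) - 1 ∈ 𝔪
    have : sg Λ M (a + b) - 1 = sg Λ M a * (sg Λ M b - 1) + (sg Λ M a - 1) := by
      rw [sg_add]; ring
    rw [this]
    exact Ideal.add_mem _ (Ideal.mul_mem_left _ _ hb) ha
  neg_mem' := by
    intro a ha
    change sg Λ M (-a) - 1 ∈ 𝔪
    have : sg Λ M (-a) - 1 = -(sg Λ M (-a) * (sg Λ M a - 1)) := by
      rw [mul_sub, sg_neg_mul]; ring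
    rw [this]
    exact neg_mem (Ideal.mul_mem_left _ _ ha)

lemma mem_stabSubgroup {m : M} : m ∈ stabSubgroup 𝔪 ↔ sg Λ M m - 1 ∈ 𝔪 := Iff.rfl

lemma le_stabSubgroup (B₀ : AddSubgroup M) (h : RingHom.ker (quotMap Λ M B₀) ≤ 𝔪) :
    B₀ ≤ stabSubgroup 𝔪 := by
  intro b hb
  rw [mem_stabSubgroup]
  exact h (quotMap_single_sub_one_of_mem Λ M B₀ hb)

/-- the character `M ⧸ stabSubgroup 𝔪 → Λ[M] ⧸ 𝔪` -/
noncomputable def stabChar :
    Multiplicative (M ⧸ stabSubgroup 𝔪) →* (AddMonoidAlgebra Λ M ⧸ 𝔪) where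
  toFun q := Quotient.liftOn' q.toAdd (fun m => Ideal.Quotient.mk 𝔪 (sg Λ M m)) (by
    intro a b hab
    rw [QuotientAddGroup.leftRel_apply] at hab
    change Ideal.Quotient.mk 𝔪 (sg Λ M a) = Ideal.Quotient.mk 𝔪 (sg Λ M b)
    rw [Ideal.Quotient.eq]
    have hab' : sg Λ M (-a + b) - 1 ∈ 𝔪 := hab
    have : sg Λ M a - sg Λ M b = -(sg Λ M a * (sg Λ M (-a + b) - 1)) := by
      rw [mul_sub, ← sg_add, add_neg_cancel_left]; ring
    rw [this]
    exact neg_mem (Ideal.mul_mem_left _ _ hab'))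
  map_one' := by
    change Ideal.Quotient.mk 𝔪 (sg Λ M 0) = 1
    rw [sg_zero, map_one]
  map_mul' := by
    intro a b
    induction a using Multiplicative.rec with | _ a => ?_
    induction b using Multiplicative.rec with | _ b => ?_
    induction a using QuotientAddGroup.induction_on with | _ a => ?_
    induction b using QuotientAddGroup.induction_on with | _ b => ?_
    change Ideal.Quotient.mk 𝔪 (sg Λ M (a + b)) =
      Ideal.Quotient.mk 𝔪 (sg Λ M a) * Ideal.Quotient.mk 𝔪 (sg Λ M b)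
    rw [sg_add, map_mul]

lemma stabChar_mk (m : M) :
    stabChar 𝔪 (Multiplicative.ofAdd (m : M ⧸ stabSubgroup 𝔪)) =
      Ideal.Quotient.mk 𝔪 (sg Λ M m) := rfl

lemma stabChar_injective : Function.Injective (stabChar 𝔪) := by
  intro a b hab
  induction a using Multiplicative.rec with | _ a => ?_
  induction b using Multiplicative.rec with | _ b => ?_
  induction a using QuotientAddGroup.induction_on with | _ a => ?_
  induction b using QuotientAddGroup.induction_on with | _ b => ?_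
  rw [stabChar_mk, stabChar_mk, Ideal.Quotient.eq] at hab
  congr 1
  rw [QuotientAddGroup.eq]
  rw [mem_stabSubgroup]
  have : sg Λ M (-a + b) - 1 = -(sg Λ M (-a) * (sg Λ M a - sg Λ M b)) := by
    rw [mul_sub, ← sg_add, ← sg_add, neg_add_cancel, sg_zero]; ring
  rw [this]
  exact neg_mem (Ideal.mul_mem_left _ _ hab)

lemma isAddCyclic_quotient_stabSubgroup [𝔪.IsPrime] [Finite (M ⧸ stabSubgroup 𝔪)] :
    IsAddCyclic (M ⧸ stabSubgroup 𝔪) := by
  rw [← isCyclic_multiplicative_iff]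
  exact isCyclic_of_injective_ringHom (stabChar 𝔪) (stabChar_injective 𝔪)

/-- elements killed modulo `I` by something outside the prime `𝔪` -/
noncomputable def locKer [𝔪.IsPrime] (I : Ideal (AddMonoidAlgebra Λ M)) :
    Ideal (AddMonoidAlgebra Λ M) where
  carrier := {x | ∃ s, s ∉ 𝔪 ∧ s * x ∈ I}
  zero_mem' := ⟨1, (Ideal.ne_top_iff_one 𝔪).mp (Ideal.IsPrime.ne_top ‹_›), by
    rw [mul_zero]; exact Ideal.zero_mem _⟩
  add_mem' := by
    rintro x y ⟨s, hs, hsx⟩ ⟨t, ht, hty⟩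
    refine ⟨s * t, fun h => ?_, ?_⟩
    · rcases Ideal.IsPrime.mem_or_mem ‹_› h with h | h
      · exact hs h
      · exact ht h
    · have : s * t * (x + y) = t * (s * x) + s * (t * y) := by ring
      rw [this]
      exact Ideal.add_mem _ (Ideal.mul_mem_left _ _ hsx) (Ideal.mul_mem_left _ _ hty)
  smul_mem' := by
    rintro c x ⟨s, hs, hsx⟩
    refine ⟨s, hs, ?_⟩
    have : s * (c • x) = c * (s * x) := by rw [smul_eq_mul]; ring
    rw [this]
    exact Ideal.mul_mem_left _ _ hsx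

lemma mem_locKer [𝔪.IsPrime] {I : Ideal (AddMonoidAlgebra Λ M)} {x : AddMonoidAlgebra Λ M} :
    x ∈ locKer 𝔪 I ↔ ∃ s, s ∉ 𝔪 ∧ s * x ∈ I := Iff.rfl

lemma le_locKer [𝔪.IsPrime] (I : Ideal (AddMonoidAlgebra Λ M)) : I ≤ locKer 𝔪 I := by
  intro x hx
  exact ⟨1, (Ideal.ne_top_iff_one 𝔪).mp (Ideal.IsPrime.ne_top ‹_›), by rwa [one_mul]⟩

variable (B₀ : AddSubgroup M) [B₀.FiniteIndex]

lemma natCast_notMem [𝔪.IsPrime] {e : ℕ} (he : IsUnit ((e : ℕ) : Λ)) :
    ((e : ℕ) : AddMonoidAlgebra Λ M) ∉ 𝔪 := by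
  intro h
  have h1 : IsUnit ((e : ℕ) : AddMonoidAlgebra Λ M) := by
    have := he.map (algebraMap Λ (AddMonoidAlgebra Λ M))
    rwa [map_natCast] at this
  exact Ideal.IsPrime.ne_top ‹_› (Ideal.eq_top_of_isUnit_mem _ h h1)

lemma sg_sub_one_mem_locKer [𝔪.IsPrime] (hu : IsUnit ((B₀.index : ℕ) : Λ)) {b : M}
    (hb : b ∈ stabSubgroup 𝔪) :
    sg Λ M b - 1 ∈ locKer 𝔪 (RingHom.ker (quotMap Λ M B₀)) := by
  rw [mem_stabSubgroup] at hb
  refine ⟨∑ j ∈ Finset.range B₀.index, sg Λ M b ^ j, ?_, ?_⟩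
  · intro h
    have h1 : Ideal.Quotient.mk 𝔪 (sg Λ M b) = 1 := by
      rw [← map_one (Ideal.Quotient.mk 𝔪), Ideal.Quotient.eq]
      exact hb
    have h2 : Ideal.Quotient.mk 𝔪 (∑ j ∈ Finset.range B₀.index, sg Λ M b ^ j) =
        Ideal.Quotient.mk 𝔪 ((B₀.index : ℕ) : AddMonoidAlgebra Λ M) := by
      rw [map_sum]
      simp only [map_pow, h1, one_pow, Finset.sum_const, Finset.card_range, nsmul_eq_mul, mul_one,
        map_natCast]
    rw [← Ideal.Quotient.eq_zero_iff_mem, h2, Ideal.Quotient.eq_zero_iff_mem] at h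
    exact natCast_notMem 𝔪 hu h
  · rw [RingHom.mem_ker, mul_comm, mul_geom_sum, ← sg_nsmul]
    exact quotMap_single_sub_one_of_mem Λ M B₀ (B₀.nsmul_index_mem b)

lemma augIdeal_stabSubgroup_le_locKer [𝔪.IsPrime] (hu : IsUnit ((B₀.index : ℕ) : Λ)) :
    augIdeal Λ M (stabSubgroup 𝔪) ≤ locKer 𝔪 (RingHom.ker (quotMap Λ M B₀)) := by
  unfold augIdeal
  rw [Ideal.span_le]
  rintro y ⟨b, hb, rfl⟩
  exact sg_sub_one_mem_locKer 𝔪 B₀ hu hb

lemma aeval_sg_X_pow_sub_one (g : M) (d : ℕ) :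
    aeval (sg Λ M g) (X ^ d - 1 : Λ[X]) = sg Λ M (d • g) - 1 := by
  rw [map_sub, map_pow, aeval_X, map_one, sg_nsmul]

lemma aeval_cyclotomic_mem_locKer [𝔪.IsPrime] (hu : IsUnit ((B₀.index : ℕ) : Λ))
    [Finite (M ⧸ stabSubgroup 𝔪)] {g : M}
    (hg : AddSubgroup.zmultiples (g : M ⧸ stabSubgroup 𝔪) = ⊤) :
    aeval (sg Λ M g) (cyclotomic (Nat.card (M ⧸ stabSubgroup 𝔪)) Λ) ∈
      locKer 𝔪 (RingHom.ker (quotMap Λ M B₀)) := by
  set n := Nat.card (M ⧸ stabSubgroup 𝔪) with hn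
  have hnpos : 0 < n := Nat.card_pos
  have hord : addOrderOf (g : M ⧸ stabSubgroup 𝔪) = n :=
    addOrderOf_eq_card_of_zmultiples_eq_top hg
  have hprod : cyclotomic n Λ * ∏ i ∈ Nat.properDivisors n, cyclotomic i Λ = X ^ n - 1 :=
    (eq_cyclotomic_iff hnpos _).mp rfl
  have hng : n • g ∈ stabSubgroup 𝔪 := by
    rw [← QuotientAddGroup.eq_zero_iff, QuotientAddGroup.mk_nsmul, hn]
    exact card_nsmul_eq_zero'
  obtain ⟨s₁, hs₁, hs₁'⟩ := sg_sub_one_mem_locKer 𝔪 B₀ hu hng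
  refine ⟨s₁ * aeval (sg Λ M g) (∏ i ∈ Nat.properDivisors n, cyclotomic i Λ), fun h => ?_, ?_⟩
  · rcases Ideal.IsPrime.mem_or_mem ‹_› h with h | h
    · exact hs₁ h
    · rw [map_prod] at h
      obtain ⟨d, hd, hd'⟩ := Ideal.IsPrime.prod_mem_iff.mp h
      rw [Nat.mem_properDivisors] at hd
      obtain ⟨q, hq⟩ := cyclotomic.dvd_X_pow_sub_one d Λ
      have h3 : sg Λ M (d • g) - 1 ∈ 𝔪 := by
        rw [← aeval_sg_X_pow_sub_one, hq, map_mul]
        exact Ideal.mul_mem_right _ _ hd'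
      have h4 : d • (g : M ⧸ stabSubgroup 𝔪) = 0 := by
        rw [← QuotientAddGroup.mk_nsmul, QuotientAddGroup.eq_zero_iff]
        exact h3
      have h5 : n ∣ d := by
        rw [← hord]
        exact addOrderOf_dvd_of_nsmul_eq_zero h4
      have hdpos : 0 < d := Nat.pos_of_dvd_of_pos hd.1 hnpos
      exact absurd (Nat.le_of_dvd hdpos h5) (not_le.mpr hd.2)
  · have : s₁ * aeval (sg Λ M g) (∏ i ∈ Nat.properDivisors n, cyclotomic i Λ) *
        aeval (sg Λ M g) (cyclotomic n Λ) = s₁ * (sg Λ M (n • g) - 1) := by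
      rw [mul_assoc, ← map_mul, mul_comm _ (cyclotomic n Λ), hprod, aeval_sg_X_pow_sub_one]
    rw [this]
    exact hs₁'

end Local

lemma quotMap_comp_algebraMap (B : AddSubgroup M) :
    (quotMap Λ M B).comp (algebraMap Λ (AddMonoidAlgebra Λ M)) =
      algebraMap Λ (AddMonoidAlgebra Λ (M ⧸ B)) := by
  refine RingHom.ext fun r => ?_
  change quotMap Λ M B (AddMonoidAlgebra.single 0 r) = AddMonoidAlgebra.single 0 r
  have h := AddMonoidAlgebra.mapDomain_single (R := Λ) (f := QuotientAddGroup.mk' B)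
    (a := (0 : M)) (r := r)
  rw [map_zero] at h
  exact h

lemma quotMap_aeval (B : AddSubgroup M) (g : M) (p : Λ[X]) :
    quotMap Λ M B (aeval (sg Λ M g) p) =
      aeval (AddMonoidAlgebra.single (g : M ⧸ B) (1 : Λ)) p := by
  rw [aeval_def, aeval_def, hom_eval₂, quotMap_single, quotMap_comp_algebraMap]

section Local2

variable {Λ}
variable (𝔪 : Ideal (AddMonoidAlgebra Λ M)) (B₀ : AddSubgroup M) [B₀.FiniteIndex]

lemma mem_locKer_of_cycQuotMap_eq_zero [𝔪.IsPrime] (hu : IsUnit ((B₀.index : ℕ) : Λ))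
    [Finite (M ⧸ stabSubgroup 𝔪)] {x : AddMonoidAlgebra Λ M}
    (hx : cycQuotMap Λ M (stabSubgroup 𝔪) x = 0) :
    x ∈ locKer 𝔪 (RingHom.ker (quotMap Λ M B₀)) := by
  set B := stabSubgroup 𝔪 with hB
  set K := locKer 𝔪 (RingHom.ker (quotMap Λ M B₀)) with hK
  have h1 : quotMap Λ M B x ∈ cycIdeal Λ (M ⧸ B) := by
    rw [← Ideal.Quotient.eq_zero_iff_mem]
    exact hx
  have h2 : cycIdeal Λ (M ⧸ B) ≤ Ideal.map (quotMap Λ M B) K := by
    unfold cycIdeal
    rw [Ideal.span_le]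
    rintro y ⟨g, hg, rfl⟩
    obtain ⟨g, rfl⟩ := QuotientAddGroup.mk_surjective g
    rw [← quotMap_aeval]
    exact Ideal.mem_map_of_mem _ (aeval_cyclotomic_mem_locKer 𝔪 B₀ hu hg)
  obtain ⟨x', hx', hxx'⟩ :=
    (Ideal.mem_map_iff_of_surjective _ (quotMap_surjective Λ M B)).mp (h2 h1)
  have h3 : x - x' ∈ K := by
    apply augIdeal_stabSubgroup_le_locKer 𝔪 B₀ hu
    apply mem_augIdeal_of_quotMap_eq_zero
    rw [map_sub, hxx', sub_self]
  have : x = (x - x') + x' := by ring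
  rw [this]
  exact Ideal.add_mem _ h3 hx'

end Local2

/-- An element of `Λ[M]` dying in all the cyclotomic quotients `Λ[M ⧸ B]/(Φ)`, `B ⊇ B₀` with
`M ⧸ B` cyclic, dies in `Λ[M ⧸ B₀]`, when the index of `B₀` is invertible in `Λ`. -/
theorem quotMap_eq_zero_of_forall_cycQuotMap_eq_zero
    (B₀ : AddSubgroup M) [B₀.FiniteIndex] (hu : IsUnit ((B₀.index : ℕ) : Λ))
    (x : AddMonoidAlgebra Λ M)
    (hx : ∀ B : AddSubgroup M, B₀ ≤ B → IsAddCyclic (M ⧸ B) → cycQuotMap Λ M B x = 0) :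
    quotMap Λ M B₀ x = 0 := by
  by_contra hne
  -- the colon ideal
  let c : Ideal (AddMonoidAlgebra Λ M) :=
    { carrier := {r | quotMap Λ M B₀ (r * x) = 0}
      zero_mem' := by
        change quotMap Λ M B₀ (0 * x) = 0
        rw [zero_mul, map_zero]
      add_mem' := by
        intro a b ha hb
        change quotMap Λ M B₀ ((a + b) * x) = 0
        rw [add_mul, map_add, ha, hb, add_zero]
      smul_mem' := by
        intro a b hb
        change quotMap Λ M B₀ (a • b * x) = 0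
        rw [smul_eq_mul, mul_assoc, map_mul, hb, mul_zero] }
  have hc : c ≠ ⊤ := by
    intro h
    have h1 : (1 : AddMonoidAlgebra Λ M) ∈ c := by rw [h]; trivial
    apply hne
    have : quotMap Λ M B₀ (1 * x) = 0 := h1
    rwa [one_mul] at this
  obtain ⟨𝔪, hmax, hcm⟩ := Ideal.exists_le_maximal c hc
  have : 𝔪.IsPrime := hmax.isPrime
  have hker : RingHom.ker (quotMap Λ M B₀) ≤ 𝔪 := by
    intro r hr
    apply hcm
    change quotMap Λ M B₀ (r * x) = 0
    rw [map_mul, hr, zero_mul]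
  have hle : B₀ ≤ stabSubgroup 𝔪 := le_stabSubgroup 𝔪 B₀ hker
  have : (stabSubgroup 𝔪).FiniteIndex := AddSubgroup.finiteIndex_of_le hle
  have : Finite (M ⧸ stabSubgroup 𝔪) := AddSubgroup.finite_quotient_of_finiteIndex
  have hcyc : IsAddCyclic (M ⧸ stabSubgroup 𝔪) := isAddCyclic_quotient_stabSubgroup 𝔪
  obtain ⟨s, hs, hsx⟩ := mem_locKer_of_cycQuotMap_eq_zero 𝔪 B₀ hu (hx _ hle hcyc)
  exact hs (hcm hsx)

lemma isUnit_index_of_le {B₀ B : AddSubgroup M} (h : B₀ ≤ B)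
    (hu : IsUnit ((B₀.index : ℕ) : Λ)) : IsUnit ((B.index : ℕ) : Λ) := by
  obtain ⟨k, hk⟩ := AddSubgroup.index_dvd_of_le h
  rw [hk, Nat.cast_mul] at hu
  exact isUnit_of_mul_isUnit_left hu

lemma isCoprime_ker_cycQuotMap {B B' : AddSubgroup M} [B.FiniteIndex] [B'.FiniteIndex]
    [IsAddCyclic (M ⧸ B)] [IsAddCyclic (M ⧸ B')] (hne : B ≠ B')
    (huB : IsUnit ((B.index : ℕ) : Λ)) (huB' : IsUnit ((B'.index : ℕ) : Λ)) :
    IsCoprime (RingHom.ker (cycQuotMap Λ M B)) (RingHom.ker (cycQuotMap Λ M B')) := by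
  rw [Ideal.isCoprime_iff_exists]
  have hcases : ¬ B ≤ B' ∨ ¬ B' ≤ B := by
    by_contra hcon
    push Not at hcon
    exact hne (le_antisymm hcon.1 hcon.2)
  rcases hcases with h | h
  · obtain ⟨b, hbB, hbB'⟩ := SetLike.not_le_iff_exists.mp h
    obtain ⟨w, hw⟩ := exists_mul_eq_one Λ M B' huB' hbB'
    refine ⟨(AddMonoidAlgebra.single b 1 - 1) * w, ?_, 1 - (AddMonoidAlgebra.single b 1 - 1) * w,
      ?_, by ring⟩
    · rw [RingHom.mem_ker, map_mul, cycQuotMap_single_sub_one_of_mem Λ M B hbB, zero_mul]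
    · rw [RingHom.mem_ker, map_sub, map_one, hw, sub_self]
  · obtain ⟨b, hbB', hbB⟩ := SetLike.not_le_iff_exists.mp h
    obtain ⟨w, hw⟩ := exists_mul_eq_one Λ M B huB hbB
    refine ⟨1 - (AddMonoidAlgebra.single b 1 - 1) * w, ?_, (AddMonoidAlgebra.single b 1 - 1) * w,
      ?_, by ring⟩
    · rw [RingHom.mem_ker, map_sub, map_one, hw, sub_self]
    · rw [RingHom.mem_ker, map_mul, cycQuotMap_single_sub_one_of_mem Λ M B' hbB', zero_mul]

/-- Chinese remainder theorem for the cyclotomic quotients `Λ[M ⧸ B]/(Φ)`, `B ⊇ B₀` with `M ⧸ B`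
cyclic, when the index of `B₀` is invertible in `Λ`. -/
theorem exists_forall_cycQuotMap_eq (B₀ : AddSubgroup M) [B₀.FiniteIndex]
    (hu : IsUnit ((B₀.index : ℕ) : Λ)) {ι : Type*} [Finite ι] (B : ι → AddSubgroup M)
    (hinj : Function.Injective B) (hle : ∀ i, B₀ ≤ B i) (hcyc : ∀ i, IsAddCyclic (M ⧸ B i))
    (y : ∀ i, CycQuot Λ (M ⧸ B i)) :
    ∃ x : AddMonoidAlgebra Λ M, ∀ i, cycQuotMap Λ M (B i) x = y i := by
  have hcop : Pairwise (Function.onFun IsCoprime
      fun i => RingHom.ker (cycQuotMap Λ M (B i))) := by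
    intro i j hij
    have : (B i).FiniteIndex := AddSubgroup.finiteIndex_of_le (hle i)
    have : (B j).FiniteIndex := AddSubgroup.finiteIndex_of_le (hle j)
    have := hcyc i
    have := hcyc j
    exact isCoprime_ker_cycQuotMap Λ (fun h => hij (hinj h)) (isUnit_index_of_le Λ (hle i) hu)
      (isUnit_index_of_le Λ (hle j) hu)
  choose x hx using fun i => cycQuotMap_surjective Λ M (B i) (y i)
  obtain ⟨r, hr⟩ := Ideal.exists_forall_sub_mem_ideal hcop x
  refine ⟨r, fun i => ?_⟩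
  have := hr i
  rw [RingHom.mem_ker, map_sub, sub_eq_zero] at this
  rw [this, hx]

lemma finite_subgroups_ge (B₀ : AddSubgroup M) [B₀.FiniteIndex] :
    Finite {B : AddSubgroup M // B₀ ≤ B} := by
  have : Finite (M ⧸ B₀) := AddSubgroup.finite_quotient_of_finiteIndex
  refine Finite.of_injective
    (fun B : {B : AddSubgroup M // B₀ ≤ B} => B.1.map (QuotientAddGroup.mk' B₀)) ?_
  intro B B' h
  have h1 : ∀ C : {B : AddSubgroup M // B₀ ≤ B},
      (C.1.map (QuotientAddGroup.mk' B₀)).comap (QuotientAddGroup.mk' B₀) = C.1 := by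
    intro C
    rw [AddSubgroup.comap_map_eq_self]
    rw [QuotientAddGroup.ker_mk']
    exact C.2
  apply Subtype.ext
  rw [← h1 B, ← h1 B']
  exact congrArg _ h

lemma smul_eq_zero_of_forall (B₀ : AddSubgroup M) [B₀.FiniteIndex]
    (hu : IsUnit ((B₀.index : ℕ) : Λ)) (r : AddMonoidAlgebra Λ M)
    (h : ∀ B : AddSubgroup M, B₀ ≤ B → IsAddCyclic (M ⧸ B) → cycQuotMap Λ M B r = 0)
    (z : AddMonoidAlgebra Λ (M ⧸ B₀)) : r • z = 0 := by
  rw [smul_quot, quotMap_eq_zero_of_forall_cycQuotMap_eq_zero Λ B₀ hu r h, zero_mul]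

lemma smul_eq_smul_of_forall (B₀ : AddSubgroup M) [B₀.FiniteIndex]
    (hu : IsUnit ((B₀.index : ℕ) : Λ)) (r r' : AddMonoidAlgebra Λ M)
    (h : ∀ B : AddSubgroup M, B₀ ≤ B → IsAddCyclic (M ⧸ B) →
      cycQuotMap Λ M B r = cycQuotMap Λ M B r')
    (z : AddMonoidAlgebra Λ (M ⧸ B₀)) : r • z = r' • z := by
  rw [← sub_eq_zero, ← sub_smul]
  apply smul_eq_zero_of_forall Λ B₀ hu
  intro B hB hc
  rw [map_sub, h B hB hc, sub_self]

lemma finite_cyclic_subgroups_ge (B₀ : AddSubgroup M) [B₀.FiniteIndex] :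
    Finite {B : AddSubgroup M // B₀ ≤ B ∧ IsAddCyclic (M ⧸ B)} := by
  have : Finite {B : AddSubgroup M // B₀ ≤ B} := finite_subgroups_ge B₀
  exact Finite.of_injective (fun B => (⟨B.1, B.2.1⟩ : {B : AddSubgroup M // B₀ ≤ B}))
      (fun B B' h => Subtype.ext (congrArg (fun C : {B : AddSubgroup M // B₀ ≤ B} => C.1) h))

/-- Orthogonal "idempotents" of `Λ[M]` modulo `ker (quotMap B₀)` attached to the subgroups
`B ⊇ B₀` with cyclic quotient. -/
lemma exists_orthogonal (B₀ : AddSubgroup M) [B₀.FiniteIndex]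
    (hu : IsUnit ((B₀.index : ℕ) : Λ)) :
    ∃ ε : {B : AddSubgroup M // B₀ ≤ B ∧ IsAddCyclic (M ⧸ B)} → AddMonoidAlgebra Λ M,
      (∀ i, cycQuotMap Λ M i.1 (ε i) = 1) ∧
      (∀ i j, i ≠ j → cycQuotMap Λ M j.1 (ε i) = 0) := by
  classical
  have : Finite {B : AddSubgroup M // B₀ ≤ B} := finite_subgroups_ge B₀
  have : Finite {B : AddSubgroup M // B₀ ≤ B ∧ IsAddCyclic (M ⧸ B)} :=
    Finite.of_injective (fun B => (⟨B.1, B.2.1⟩ : {B : AddSubgroup M // B₀ ≤ B}))
      (fun B B' h => Subtype.ext (congrArg (fun C : {B : AddSubgroup M // B₀ ≤ B} => C.1) h))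
  have key := fun i : {B : AddSubgroup M // B₀ ≤ B ∧ IsAddCyclic (M ⧸ B)} =>
    exists_forall_cycQuotMap_eq Λ B₀ hu
      (fun B : {B : AddSubgroup M // B₀ ≤ B ∧ IsAddCyclic (M ⧸ B)} => B.1) Subtype.val_injective
      (fun B => B.2.1) (fun B => B.2.2) (Pi.single i 1)
  choose ε hε using key
  refine ⟨ε, fun i => ?_, fun i j hij => ?_⟩
  · rw [hε i i, Pi.single_eq_same]
  · rw [hε i j, Pi.single_eq_of_ne hij.symm]

end Groth.Agent.H28.GrpAlgCyc
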