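import Mathlib
import Groth.Agent.H35.LTensorCxLib
import Groth.Agent.H45.MultiDer.BaseCmp

set_option autoImplicit false
universe u
open CategoryTheory Limits MonoidalCategory

namespace Groth.Agent.H28.HasLTensorCx

open Groth.Agent.H45.MultiDer Groth.Agent.H45.MultiDer.DTenC

attribute [local instance] HasDerivedCategory.standard

/-- the total left derived functor of `- ⊗ E` exists, for every complex `E` -/
theorem hasLTensorCx (A : Type u) [CommRing A] (E : DRing.Cx A) : DRing.HasLTensorCx A E :=
  hasLeftDerivedFunctor₁ (hyp A) (DRing.tensorCxQ A E)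
    (isInvertedBy₁ _ (fun _ _ _ _ h => Groth.Agent.H35.LT.tensorCxQ_map_eq_of_homotopy E _ _ h))
    (fun _ _ φ hP hP' hφ => Groth.Agent.H35.LT.isIso_tensorCxQ_map E φ hP hP' hφ)

end Groth.Agent.H28.HasLTensorCx
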