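import Mathlib
import Groth.Prelude.Def_W4sga3xxiRoot

/-!
# The ℤ-model of a crystallographic root pairing

For a finite crystallographic root pairing `P` over a domain of characteristic zero we build a root
pairing over `ℤ` on the `ℤ`-span of the roots (paired with its `ℤ`-dual) having the same index set,
the same reflection permutations and the same Cartan integers.
-/

set_option autoImplicit false

namespace Groth.Agent.H28

open RootPairing Module Set Function Submodule

section

variable {ι R M N : Type*} [CommRing R] [IsDomain R] [CharZero R] [AddCommGroup M] [Module R M]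
  [AddCommGroup N] [Module R N] (P : RootPairing ι R M N)

include P in
theorem isTorsionFree_weight' : Module.IsTorsionFree R M := by
  have : Module.IsReflexive R M := .of_isPerfPair P.toLinearMap
  infer_instance

include P in
theorem isAddTorsionFree_weight' : IsAddTorsionFree M := by
  have := isTorsionFree_weight' P
  exact .of_isTorsionFree R M

variable [Finite ι] [P.IsCrystallographic]

instance rootSpanInt_finite : Module.Finite ℤ (P.rootSpan ℤ) :=
  Module.Finite.span_of_finite ℤ (finite_range P.root)

theorem rootSpanInt_isAddTorsionFree : IsAddTorsionFree (P.rootSpan ℤ) := by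
  have := isAddTorsionFree_weight' P
  exact Function.Injective.isAddTorsionFree (P.rootSpan ℤ).subtype.toAddMonoidHom
    (P.rootSpan ℤ).injective_subtype

instance rootSpanInt_isTorsionFree : Module.IsTorsionFree ℤ (P.rootSpan ℤ) :=
  Module.isTorsionFree_int_iff_isAddTorsionFree.mpr (rootSpanInt_isAddTorsionFree P)

instance rootSpanInt_isReflexive : Module.IsReflexive ℤ (P.rootSpan ℤ) := inferInstance

theorem coroot'In_injective : Injective (P.coroot'In ℤ) := by
  intro i j hij
  have := isAddTorsionFree_weight' P
  apply P.coroot.injective
  apply P.injOn_dualMap_subtype_span_root_coroot (mem_range_self i) (mem_range_self j)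
  ext ⟨x, hx⟩
  simp only [LinearMap.coe_comp, comp_apply, LinearMap.dualMap_apply, Submodule.subtype_apply,
    LinearMap.flip_apply]
  induction hx using Submodule.span_induction with
  | mem x hx =>
    obtain ⟨k, rfl⟩ := hx
    have := congr($hij (P.rootSpanMem ℤ k))
    simp only [coroot'In_rootSpanMem_eq_pairingIn] at this
    change P.pairing k i = P.pairing k j
    rw [← P.algebraMap_pairingIn ℤ k i, ← P.algebraMap_pairingIn ℤ k j, this]
  | zero => simp
  | add x y _ _ hx hy => simp [hx, hy]
  | smul a x _ hx => simp [hx]

/-- The `ℤ`-model of `P`: a root pairing over `ℤ` on the `ℤ`-span of the roots. -/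
noncomputable def intModel : RootPairing ι ℤ (P.rootSpan ℤ) (Dual ℤ (P.rootSpan ℤ)) where
  toLinearMap := Module.Dual.eval ℤ (P.rootSpan ℤ)
  root := ⟨P.rootSpanMem ℤ, fun i j h ↦ P.root.injective (by simpa using congr(($h : M)))⟩
  coroot := ⟨P.coroot'In ℤ, coroot'In_injective P⟩
  root_coroot_two i := by
    simp
  reflectionPerm := P.reflectionPerm
  reflectionPerm_root i j := by
    ext
    simp only [Embedding.coeFn_mk, Dual.eval_apply,
      coroot'In_rootSpanMem_eq_pairingIn, AddSubgroupClass.coe_sub, SetLike.val_smul]
    rw [← P.reflectionPerm_root i j]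
    change _ = P.root j - P.pairing j i • P.root i
    rw [← P.algebraMap_pairingIn ℤ j i]
    simp [Int.cast_smul_eq_zsmul]
  reflectionPerm_coroot i j := by
    ext x
    apply FaithfulSMul.algebraMap_injective ℤ R
    simp only [Embedding.coeFn_mk, Dual.eval_apply, coroot'In_rootSpanMem_eq_pairingIn,
      LinearMap.sub_apply, LinearMap.smul_apply, smul_eq_mul, map_sub, map_mul,
      algebraMap_coroot'In_apply, algebraMap_pairingIn]
    simp only [coroot', ← P.reflectionPerm_coroot i j, LinearMap.flip_apply, map_sub, map_smul]
    rfl

@[simp] theorem intModel_root_coe (i : ι) : ((intModel P).root i : M) = P.root i := rfl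

@[simp] theorem intModel_coroot (i : ι) : (intModel P).coroot i = P.coroot'In ℤ i := rfl

@[simp] theorem intModel_reflectionPerm : (intModel P).reflectionPerm = P.reflectionPerm := rfl

@[simp] theorem intModel_pairing (i j : ι) : (intModel P).pairing i j = P.pairingIn ℤ i j := rfl

theorem intModel_isIndiv [P.IsReduced] (k : ι) : RootD.IsIndiv (intModel P) k := by
  intro j hj
  have := isAddTorsionFree_weight' P
  have h : (2 : ℕ) • P.root j = P.root k := by
    have := congr(($hj : M))
    simpa [two_smul] using this
  exact P.nsmul_notMem_range_root (n := 2) (i := j) ⟨k, h.symm⟩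

end

end Groth.Agent.H28
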