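import Mathlib
import Groth.Prelude.Def_DDual2

/-!
# Twisting by a flat module on the derived category (helper28)

For a flat `A`-module `P`, the exact functor `- ⊗_A P` induces a triangulated `A`-linear functor
`TP P : D(A) ⥤ D(A)`.  It agrees with the derived tensor product `DRing.LTensor A P` (`ltIso`).
The construction is functorial in `P` (`TPmap`), additive and linear in the morphism, and compatible
with the unit (`TPunit`) and with tensor products of modules (`TPinvIso`).
-/

set_option autoImplicit false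

universe u

open CategoryTheory Limits MonoidalCategory DerivedCategory

namespace Groth.Agent.H28.InvTwist

attribute [local instance] HasDerivedCategory.standard

variable {A : Type u} [CommRing A]

/-- the functor on `D(A)` induced by the exact functor `- ⊗ P`, `P` flat -/
noncomputable abbrev TP (P : ModuleCat.{u} A) [Module.Flat A P] : Dual.D A ⥤ Dual.D A :=
  (tensorRight P).mapDerivedCategory

/-- the quasi-isomorphisms of cochain complexes of `A`-modules -/
abbrev Wq (A : Type u) [CommRing A] : MorphismProperty (CochainComplex (ModuleCat.{u} A) ℤ) :=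
  HomologicalComplex.quasiIso (ModuleCat.{u} A) (ComplexShape.up ℤ)

/-- the derived tensor product with a flat module is induced by the exact functor `- ⊗ P` -/
noncomputable def ltIso (P : ModuleCat.{u} A) [Module.Flat A P] [DRing.HasLTensor A P] :
    DRing.LTensor A P ≅ TP P := by
  have := Functor.isLeftDerivedFunctor_of_inverts (L := DerivedCategory.Qh)
    (HomotopyCategory.quasiIso (ModuleCat.{u} A) (ComplexShape.up ℤ))
    (F := DRing.tensorKh A P) (TP P) ((tensorRight P).mapDerivedCategoryFactorsh)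
  exact Functor.leftDerivedUnique _ _
    ((DRing.tensorKh A P).totalLeftDerivedCounit DerivedCategory.Qh
      (HomotopyCategory.quasiIso (ModuleCat.{u} A) (ComplexShape.up ℤ)))
    ((tensorRight P).mapDerivedCategoryFactorsh).hom
    (HomotopyCategory.quasiIso (ModuleCat.{u} A) (ComplexShape.up ℤ))

/-- the natural transformation `- ⊗ P ⟶ - ⊗ P'` induced by `f : P ⟶ P'` -/
noncomputable def trMap {P P' : ModuleCat.{u} A} (f : P ⟶ P') : tensorRight P ⟶ tensorRight P' where
  app X := X ◁ f
  naturality _ _ g := (whisker_exchange g f).symm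

@[simp] lemma trMap_app {P P' : ModuleCat.{u} A} (f : P ⟶ P') (X : ModuleCat.{u} A) :
    (trMap f).app X = X ◁ f := rfl

lemma trMap_id (P : ModuleCat.{u} A) : trMap (𝟙 P) = 𝟙 _ := by
  ext X : 2
  simp

lemma trMap_comp {P P' P'' : ModuleCat.{u} A} (f : P ⟶ P') (g : P' ⟶ P'') :
    trMap (f ≫ g) = trMap f ≫ trMap g := by
  ext X : 2
  simp

lemma trMap_add {P P' : ModuleCat.{u} A} (f g : P ⟶ P') : trMap (f + g) = trMap f + trMap g := by
  ext X : 2
  simp [MonoidalPreadditive.whiskerLeft_add]

lemma trMap_smul {P P' : ModuleCat.{u} A} (a : A) (f : P ⟶ P') : trMap (a • f) = a • trMap f := by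
  ext X : 2
  simp [MonoidalLinear.whiskerLeft_smul]

/-- the chain-level natural transformation `K ⊗ P ⟶ K ⊗ P'` followed by localization -/
noncomputable abbrev cMap {P P' : ModuleCat.{u} A} (f : P ⟶ P') :
    (tensorRight P).mapHomologicalComplex (ComplexShape.up ℤ) ⋙ Q ⟶
      (tensorRight P').mapHomologicalComplex (ComplexShape.up ℤ) ⋙ Q :=
  Functor.whiskerRight (NatTrans.mapHomologicalComplex (trMap f) (ComplexShape.up ℤ)) Q

lemma cMap_id (P : ModuleCat.{u} A) : cMap (𝟙 P) = 𝟙 _ := by
  ext K : 2
  simp [cMap, trMap_id]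

lemma cMap_comp {P P' P'' : ModuleCat.{u} A} (f : P ⟶ P') (g : P' ⟶ P'') :
    cMap (f ≫ g) = cMap f ≫ cMap g := by
  ext K : 2
  simp [cMap, trMap_comp, NatTrans.mapHomologicalComplex_comp]

lemma cMap_add {P P' : ModuleCat.{u} A} (f g : P ⟶ P') : cMap (f + g) = cMap f + cMap g := by
  ext K : 2
  simp only [cMap, Functor.whiskerRight_app, trMap_add, NatTrans.app_add]
  rw [← Functor.map_add]
  congr 1

lemma cMap_smul {P P' : ModuleCat.{u} A} (a : A) (f : P ⟶ P') : cMap (a • f) = a • cMap f := by
  ext K : 2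
  simp only [cMap, Functor.whiskerRight_app, trMap_smul, NatTrans.app_smul]
  rw [← Functor.map_smul]
  congr 1

/-- functoriality of `TP P` in the flat module `P` -/
noncomputable def TPmap {P P' : ModuleCat.{u} A} [Module.Flat A P] [Module.Flat A P'] (f : P ⟶ P') :
    TP P ⟶ TP P' :=
  Localization.liftNatTrans Q (Wq A) _ _ _ _ (cMap f)

lemma TPmap_app_Q {P P' : ModuleCat.{u} A} [Module.Flat A P] [Module.Flat A P'] (f : P ⟶ P')
    (K : CochainComplex (ModuleCat.{u} A) ℤ) :
    (TPmap f).app (Q.obj K) = (tensorRight P).mapDerivedCategoryFactors.hom.app K ≫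
      (cMap f).app K ≫ (tensorRight P').mapDerivedCategoryFactors.inv.app K :=
  Localization.liftNatTrans_app Q (Wq A) _ _ _ _ (cMap f) K

lemma TPmap_id (P : ModuleCat.{u} A) [Module.Flat A P] : TPmap (𝟙 P) = 𝟙 (TP P) := by
  rw [TPmap, cMap_id]
  exact Localization.liftNatTrans_id Q (Wq A) _ _

lemma TPmap_comp {P P' P'' : ModuleCat.{u} A} [Module.Flat A P] [Module.Flat A P']
    [Module.Flat A P''] (f : P ⟶ P') (g : P' ⟶ P'') : TPmap (f ≫ g) = TPmap f ≫ TPmap g := by
  rw [TPmap, cMap_comp]
  exact (Localization.comp_liftNatTrans Q (Wq A) _ _ _ _ _ _ (cMap f) (cMap g)).symm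

lemma TPmap_add {P P' : ModuleCat.{u} A} [Module.Flat A P] [Module.Flat A P'] (f g : P ⟶ P') :
    TPmap (f + g) = TPmap f + TPmap g := by
  rw [TPmap, cMap_add]
  exact Localization.liftNatTrans_add Q (Wq A) _ _ _ _ (cMap f) (cMap g)

lemma TPmap_smul {P P' : ModuleCat.{u} A} [Module.Flat A P] [Module.Flat A P'] (a : A)
    (f : P ⟶ P') : TPmap (a • f) = a • TPmap f := by
  apply Localization.natTrans_ext Q (Wq A)
  intro K
  rw [TPmap_app_Q, cMap_smul, NatTrans.app_smul, NatTrans.app_smul, TPmap_app_Q]
  simp only [Linear.smul_comp, Linear.comp_smul]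

end Groth.Agent.H28.InvTwist
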