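import Mathlib
import Groth.Prelude.Def_DDual2
import Groth.Agent.H28.InvTwist1

/-!
# Twisting by an invertible module is an autoequivalence of `D(A)` (helper28)
-/

set_option autoImplicit false

universe u

open CategoryTheory Limits MonoidalCategory DerivedCategory

namespace Groth.Agent.H28.InvTwist

attribute [local instance] HasDerivedCategory.standard

variable {A : Type u} [CommRing A]

section General

variable {C : Type*} [Category C] [Abelian C] [HasDerivedCategory C]
  (F G : C ⥤ C) [F.Additive] [PreservesFiniteLimits F] [PreservesFiniteColimits F]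
  [G.Additive] [PreservesFiniteLimits G] [PreservesFiniteColimits G]

/-- if `F ⋙ G ≅ 𝟭` for exact functors, the same holds on derived categories -/
noncomputable def mapDerivedCategoryCompIsoId (e : F ⋙ G ≅ 𝟭 C) :
    F.mapDerivedCategory ⋙ G.mapDerivedCategory ≅ 𝟭 (DerivedCategory C) := by
  letI : Localization.Lifting Q (HomologicalComplex.quasiIso C (ComplexShape.up ℤ))
      (Q (C := C)) (F.mapDerivedCategory ⋙ G.mapDerivedCategory) :=
    ⟨(Functor.associator _ _ _).symm ≪≫
      Functor.isoWhiskerRight F.mapDerivedCategoryFactors G.mapDerivedCategory ≪≫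
      Functor.associator _ _ _ ≪≫
      Functor.isoWhiskerLeft _ G.mapDerivedCategoryFactors ≪≫
      (Functor.associator _ _ _).symm ≪≫
      Functor.isoWhiskerRight
        (Functor.mapHomologicalComplexCompIso e (ComplexShape.up ℤ) ≪≫
          Functor.mapHomologicalComplexIdIso (W₁ := C) (ComplexShape.up ℤ)) Q ≪≫
      Functor.leftUnitor _⟩
  exact Localization.liftNatIso Q (HomologicalComplex.quasiIso C (ComplexShape.up ℤ))
    (Q (C := C)) (Q (C := C)) _ _ (Iso.refl _)

end General

section Modules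

/-- `- ⊗ P` followed by `- ⊗ P'` is the identity when `P ⊗ P' ≅ A` -/
noncomputable def trCompIsoId (P P' : ModuleCat.{u} A) (e : P ⊗ P' ≅ 𝟙_ (ModuleCat.{u} A)) :
    tensorRight P ⋙ tensorRight P' ≅ 𝟭 (ModuleCat.{u} A) :=
  (tensorRightTensor P P').symm ≪≫
    (NatIso.ofComponents (fun X => whiskerLeftIso X e)
      (fun {X Y} g => (whisker_exchange g e.hom).symm) :
        tensorRight (P ⊗ P') ≅ tensorRight (𝟙_ (ModuleCat.{u} A))) ≪≫
    rightUnitorNatIso _

variable (P P' : ModuleCat.{u} A) [Module.Flat A P] [Module.Flat A P']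

/-- `TP P ⋙ TP P' ≅ 𝟭` when `P ⊗ P' ≅ A` -/
noncomputable def TPinvIso (e : P ⊗ P' ≅ 𝟙_ (ModuleCat.{u} A)) : TP P ⋙ TP P' ≅ 𝟭 (Dual.D A) :=
  mapDerivedCategoryCompIsoId (tensorRight P) (tensorRight P') (trCompIsoId P P' e)

/-- twisting by an invertible module is an autoequivalence of `D(A)` -/
noncomputable def TPequiv (e : P ⊗ P' ≅ 𝟙_ (ModuleCat.{u} A)) : Dual.D A ≌ Dual.D A :=
  CategoryTheory.Equivalence.mk (TP P) (TP P') (TPinvIso P P' e).symm
    (TPinvIso P' P ((β_ P' P) ≪≫ e))

lemma isEquivalence_TP (e : P ⊗ P' ≅ 𝟙_ (ModuleCat.{u} A)) : (TP P).IsEquivalence :=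
  inferInstanceAs (TPequiv P P' e).functor.IsEquivalence

end Modules

end Groth.Agent.H28.InvTwist
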