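import Mathlib
import Groth.Prelude.Def_DDual2
import Groth.Agent.H28.InvTwist2
import Groth.Agent.H45.Derived.MapDerivedHomology
import Groth.Agent.H28.DualShift
import Groth.Agent.H26.FlatBCDual

/-!
# Twisting a dualizing complex by an invertible module (helper28)

`(ω ⊗ P)[n]` is dualizing when `ω` is and `P` is invertible (S11183).
-/

set_option autoImplicit false

universe u

open CategoryTheory Limits MonoidalCategory DerivedCategory

set_option linter.style.haveILetI false

namespace Groth.Agent.H28.InvTwist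

attribute [local instance] HasDerivedCategory.standard

variable {A : Type u} [CommRing A]

section

variable (P P' : ModuleCat.{u} A) [Module.Flat A P] [Module.Flat A P']

/-- `H^i(K ⊗ P) ≅ H^i(K) ⊗ P` -/
noncomputable def HD_TP_iso (K : Dual.D A) (i : ℤ) :
    (DerivedCategory.homologyFunctor (ModuleCat.{u} A) i).obj ((TP P).obj K) ≅
      (DerivedCategory.homologyFunctor (ModuleCat.{u} A) i).obj K ⊗ P :=
  Groth.Agent.H45.homologyMapDerivedCategoryObjIso (tensorRight P) K i

lemma finite_HD_TP [Module.Finite A P] (K : Dual.D A) (i : ℤ) (h : Module.Finite A (Dual.HD A K i)) :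
    Module.Finite A (Dual.HD A ((TP P).obj K) i) := by
  have : Module.Finite A (TensorProduct A (Dual.HD A K i) P) := inferInstance
  exact Module.Finite.equiv (M := TensorProduct A (Dual.HD A K i) P)
    (HD_TP_iso P K i).toLinearEquiv.symm

/-- `(M[0]) ⊗ P ≅ (M ⊗ P)[0]` -/
noncomputable def TP_inD_iso (M : ModuleCat.{u} A) :
    (TP P).obj ((DerivedCategory.singleFunctor (ModuleCat.{u} A) 0).obj M) ≅
      (DerivedCategory.singleFunctor (ModuleCat.{u} A) 0).obj (M ⊗ P) :=
  ((tensorRight P).mapDerivedCategorySingleFunctor 0).app M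

variable (e : P ⊗ P' ≅ 𝟙_ (ModuleCat.{u} A))

include e in
lemma subsingleton_hom_of_TP {X Y : Dual.D A}
    (h : Subsingleton ((TP P).obj X ⟶ (TP P).obj Y)) : Subsingleton (X ⟶ Y) := by
  haveI := isEquivalence_TP P P' e
  exact ⟨fun f g => (TP P).map_injective (Subsingleton.elim _ _)⟩

include e in
lemma subsingleton_hom_TP {X Y : Dual.D A}
    (h : Subsingleton (X ⟶ Y)) : Subsingleton ((TP P).obj X ⟶ (TP P).obj Y) := by
  haveI := isEquivalence_TP P P' e
  refine ⟨fun f g => ?_⟩
  obtain ⟨f', rfl⟩ := (TP P).map_surjective f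
  obtain ⟨g', rfl⟩ := (TP P).map_surjective g
  rw [Subsingleton.elim f' g']

include e in
/-- twisting a dualizing complex by an invertible module gives a dualizing complex -/
theorem isDualizing_TP [Module.Finite A P] (ω : Dual.D A) (hω : Dual.IsDualizing A ω) :
    Dual.IsDualizing A ((TP P).obj ω) := by
  haveI := isEquivalence_TP P P' e
  haveI := isEquivalence_TP P' P ((β_ P' P) ≪≫ e)
  obtain ⟨a, b, hab⟩ := hω.finite_injective_dimension
  refine ⟨hω.isNoetherianRing, ⟨a, b, ?_⟩, fun i => finite_HD_TP P ω i (hω.finite_cohomology i),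
    ?_, ?_⟩
  · intro M _ _ i hi
    apply subsingleton_hom_of_TP P' P ((β_ P' P) ≪≫ e)
    have e1 : (TP P').obj (Dual.inD A M) ≅ Dual.inD A ((ModuleCat.of A M ⊗ P' : ModuleCat.{u} A)) :=
      TP_inD_iso P' (ModuleCat.of A M)
    have e2 : (TP P').obj (((TP P).obj ω)⟦i⟧) ≅ ω⟦i⟧ :=
      ((TP P').commShiftIso i).app _ ≪≫
        (shiftFunctor (Dual.D A) i).mapIso ((TPinvIso P P' e).app ω)
    have := hab ((ModuleCat.of A M ⊗ P' : ModuleCat.{u} A)) i hi
    exact (Iso.homCongr e1 e2).subsingleton
  · have h1 : (fun a : A => a • 𝟙 ((TP P).obj ω)) =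
        (fun f : ω ⟶ ω => (TP P).map f) ∘ (fun a : A => a • 𝟙 ω) := by
      funext a
      simp only [Function.comp_apply, Functor.map_smul, CategoryTheory.Functor.map_id]
    rw [h1]
    exact Function.Bijective.comp ⟨(TP P).map_injective, (TP P).map_surjective⟩ hω.toEnd_bijective
  · intro i hi
    have := hω.ext_self_subsingleton i hi
    have h2 := subsingleton_hom_TP P P' e this
    exact @Equiv.subsingleton _ _
      (Iso.homCongr (Iso.refl _) (((TP P).commShiftIso i).app ω)).symm h2

end

end Groth.Agent.H28.InvTwist
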