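import Mathlib
import Groth.Prelude.Def_DDual2
import Groth.Agent.H28.InvTwist2

/-!
# `Hom(X, Y ⊗ L) ≃ Hom(X, Y) ⊗ L` for a finite projective module `L` (helper28)
-/

set_option autoImplicit false
set_option linter.unusedSectionVars false

universe u

open CategoryTheory Limits MonoidalCategory DerivedCategory TensorProduct

namespace Groth.Agent.H28.InvTwist

attribute [local instance] HasDerivedCategory.standard

variable {A : Type u} [CommRing A]

section General

variable {C : Type*} [Category C] [Abelian C] [HasDerivedCategory C]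
  (F : C ⥤ C) [F.Additive] [PreservesFiniteLimits F] [PreservesFiniteColimits F]

/-- if `F ≅ 𝟭` for an exact functor, the same holds on derived categories -/
noncomputable def mapDerivedCategoryIsoId (e : F ≅ 𝟭 C) :
    F.mapDerivedCategory ≅ 𝟭 (DerivedCategory C) :=
  Localization.liftNatIso Q (HomologicalComplex.quasiIso C (ComplexShape.up ℤ))
    (F.mapHomologicalComplex (ComplexShape.up ℤ) ⋙ Q) (Q (C := C)) _ _
    (Functor.isoWhiskerRight (NatIso.mapHomologicalComplex e (ComplexShape.up ℤ) ≪≫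
      Functor.mapHomologicalComplexIdIso (W₁ := C) (ComplexShape.up ℤ)) Q ≪≫ Functor.leftUnitor _)

end General

instance : Module.Flat A (𝟙_ (ModuleCat.{u} A)) := inferInstanceAs (Module.Flat A A)

/-- twisting by the unit module is the identity -/
noncomputable def TPunit : TP (𝟙_ (ModuleCat.{u} A)) ≅ 𝟭 (Dual.D A) :=
  mapDerivedCategoryIsoId (tensorRight (𝟙_ (ModuleCat.{u} A))) (rightUnitorNatIso _)

lemma TPunit_linear (a : A) (X : Dual.D A) :
    (a • 𝟙 ((TP (𝟙_ (ModuleCat.{u} A))).obj X)) ≫ TPunit.hom.app X =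
      TPunit.hom.app X ≫ (a • 𝟙 X) := by
  simp

section Tau

variable (L : ModuleCat.{u} A) [Module.Flat A L]

/-- the map `A → L`, `1 ↦ l` -/
noncomputable def hat (l : L) : 𝟙_ (ModuleCat.{u} A) ⟶ L :=
  ModuleCat.ofHom (LinearMap.toSpanSingleton A L l)

lemma hat_add (l l' : L) : hat L (l + l') = hat L l + hat L l' := by
  ext
  simp [hat]

lemma hat_smul (a : A) (l : L) : hat L (a • l) = a • hat L l := by
  ext
  simp [hat]

lemma hat_comp (l : L) (s : L ⟶ 𝟙_ (ModuleCat.{u} A)) :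
    hat L l ≫ s = (show A from s.hom l) • 𝟙 (𝟙_ (ModuleCat.{u} A)) := by
  ext
  simp [hat]

/-- `Y → Y ⊗ L`, `y ↦ y ⊗ l` -/
noncomputable def tauIn (Y : Dual.D A) (l : L) : Y ⟶ (TP L).obj Y :=
  TPunit.inv.app Y ≫ (TPmap (hat L l)).app Y

/-- `Y ⊗ L → Y`, `y ⊗ l ↦ s(l) y` -/
noncomputable def tauOut (Y : Dual.D A) (s : L ⟶ 𝟙_ (ModuleCat.{u} A)) : (TP L).obj Y ⟶ Y :=
  (TPmap s).app Y ≫ TPunit.hom.app Y

lemma tauIn_add (Y : Dual.D A) (l l' : L) : tauIn L Y (l + l') = tauIn L Y l + tauIn L Y l' := by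
  simp [tauIn, hat_add, TPmap_add]

lemma tauIn_smul (Y : Dual.D A) (a : A) (l : L) : tauIn L Y (a • l) = a • tauIn L Y l := by
  simp [tauIn, hat_smul, TPmap_smul]

lemma tauIn_tauOut (Y : Dual.D A) (l : L) (s : L ⟶ 𝟙_ (ModuleCat.{u} A)) :
    tauIn L Y l ≫ tauOut L Y s = (show A from s.hom l) • 𝟙 Y := by
  have h : (TPmap (hat L l)).app Y ≫ (TPmap s).app Y =
      (show A from s.hom l) • 𝟙 ((TP (𝟙_ (ModuleCat.{u} A))).obj Y) := by
    rw [← NatTrans.comp_app, ← TPmap_comp, hat_comp, TPmap_smul, TPmap_id]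
    rfl
  simp only [tauIn, tauOut, Category.assoc]
  rw [reassoc_of% h]
  simp

lemma tauOut_tauIn (Y : Dual.D A) (l : L) (s : L ⟶ 𝟙_ (ModuleCat.{u} A)) :
    tauOut L Y s ≫ tauIn L Y l = (TPmap (s ≫ hat L l)).app Y := by
  simp [tauIn, tauOut, TPmap_comp]

end Tau

section HomTensor

variable (L : ModuleCat.{u} A) [Module.Flat A L]

/-- `Hom(X, Y) ⊗ L → Hom(X, Y ⊗ L)`, `f ⊗ l ↦ (y ↦ y ⊗ l) ∘ f` -/
noncomputable def PhiL (X Y : Dual.D A) : (X ⟶ Y) ⊗[A] L →ₗ[A] (X ⟶ (TP L).obj Y) :=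
  TensorProduct.lift (LinearMap.mk₂ A (fun (f : X ⟶ Y) (l : L) => f ≫ tauIn L Y l)
    (fun f f' l => Preadditive.add_comp _ _ _ _ _ _)
    (fun a f l => Linear.smul_comp _ _ _ _ _ _)
    (fun f l l' => by rw [tauIn_add, Preadditive.comp_add])
    (fun a f l => by rw [tauIn_smul, Linear.comp_smul]))

@[simp] lemma PhiL_tmul (X Y : Dual.D A) (f : X ⟶ Y) (l : L) :
    PhiL L X Y (f ⊗ₜ l) = f ≫ tauIn L Y l := rfl

variable {ι : Type} [Fintype ι] (l : ι → L) (s : ι → (L ⟶ 𝟙_ (ModuleCat.{u} A)))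

/-- the inverse map attached to a dual basis -/
noncomputable def PsiL (X Y : Dual.D A) : (X ⟶ (TP L).obj Y) →ₗ[A] (X ⟶ Y) ⊗[A] L :=
  ∑ j, ((TensorProduct.mk A (X ⟶ Y) L).flip (l j)) ∘ₗ (Linear.rightComp A X (tauOut L Y (s j)))

lemma PsiL_apply (X Y : Dual.D A) (g : X ⟶ (TP L).obj Y) :
    PsiL L l s X Y g = ∑ j, (g ≫ tauOut L Y (s j)) ⊗ₜ[A] l j := by
  simp [PsiL]

variable (h : ∑ j, s j ≫ hat L (l j) = 𝟙 L)

include h in
lemma PhiL_PsiL (X Y : Dual.D A) (g : X ⟶ (TP L).obj Y) : PhiL L X Y (PsiL L l s X Y g) = g := by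
  rw [PsiL_apply, map_sum]
  simp only [PhiL_tmul, Category.assoc, tauOut_tauIn]
  rw [← Preadditive.comp_sum]
  have : ∑ j, (TPmap (s j ≫ hat L (l j))).app Y = 𝟙 _ := by
    have h2 : TPmap (∑ j, s j ≫ hat L (l j)) = ∑ j, TPmap (s j ≫ hat L (l j)) := by
      classical
      induction (Finset.univ : Finset ι) using Finset.induction_on with
      | empty =>
        simp only [Finset.sum_empty]
        have := TPmap_smul (0 : A) (𝟙 L)
        simpa using this
      | insert a t ha ih => rw [Finset.sum_insert ha, Finset.sum_insert ha, TPmap_add, ih]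
    rw [h, TPmap_id] at h2
    have := congrArg (fun τ => τ.app Y) h2
    simpa using this.symm
  rw [this, Category.comp_id]

include h in
lemma PsiL_PhiL (X Y : Dual.D A) (t : (X ⟶ Y) ⊗[A] L) : PsiL L l s X Y (PhiL L X Y t) = t := by
  induction t using TensorProduct.induction_on with
  | zero => simp
  | add x y hx hy => rw [map_add, map_add, hx, hy]
  | tmul f m =>
    rw [PhiL_tmul, PsiL_apply]
    simp only [Category.assoc, tauIn_tauOut, Linear.comp_smul, Category.comp_id]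
    simp only [TensorProduct.smul_tmul]
    rw [← TensorProduct.tmul_sum]
    congr 1
    have := congrArg (fun φ : L ⟶ L => φ.hom m) h
    simp only [hat, ModuleCat.hom_sum, ModuleCat.hom_comp, ModuleCat.hom_ofHom, LinearMap.sum_apply,
      LinearMap.comp_apply, ModuleCat.hom_id, LinearMap.id_apply] at this
    refine Eq.trans (Finset.sum_congr rfl (fun j _ => ?_)) this
    rfl

include h in
/-- `Hom(X, Y) ⊗ L ≃ Hom(X, Y ⊗ L)` for a module `L` with a finite dual basis -/
noncomputable def homTensorEquiv (X Y : Dual.D A) : (X ⟶ Y) ⊗[A] L ≃ₗ[A] (X ⟶ (TP L).obj Y) :=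
  LinearEquiv.ofLinearMap (PhiL L X Y) (PsiL L l s X Y)
    (LinearMap.ext (PhiL_PsiL L l s h X Y)) (LinearMap.ext (PsiL_PhiL L l s h X Y))

omit [Module.Flat A L] in
/-- a finite projective module has a finite dual basis -/
lemma exists_dualBasis [Module.Finite A L] [Module.Projective A L] :
    ∃ (n : ℕ) (l : Fin n → L) (s : Fin n → (L ⟶ 𝟙_ (ModuleCat.{u} A))),
      ∑ j, s j ≫ hat L (l j) = 𝟙 L := by
  obtain ⟨n, f, hf⟩ := Module.Finite.exists_fin' A L
  obtain ⟨g, hg⟩ := Module.projective_lifting_property f LinearMap.id hf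
  refine ⟨n, fun j => f (Pi.single j 1),
    fun j => ModuleCat.ofHom ((LinearMap.proj j : (Fin n → A) →ₗ[A] A) ∘ₗ g), ?_⟩
  ext m
  simp only [hat, ModuleCat.hom_sum, ModuleCat.hom_comp, ModuleCat.hom_ofHom, LinearMap.sum_apply,
    LinearMap.comp_apply, ModuleCat.hom_id, LinearMap.id_apply, LinearMap.proj_apply]
  have h1 : ∀ j : Fin n, (LinearMap.toSpanSingleton A (↑L) (f (Pi.single j 1))) (g m j) =
      f (Pi.single j (g m j)) := by
    intro j
    change g m j • f (Pi.single j (1 : A)) = _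
    rw [← map_smul]
    congr 1
    ext k
    simp [Pi.single_apply]
  rw [Finset.sum_congr rfl (fun j _ => h1 j), ← map_sum]
  have h2 : ∑ j, Pi.single j (g m j) = g m := Finset.univ_sum_single (g m)
  rw [h2]
  exact LinearMap.congr_fun hg m

/-- `Hom(X, Y) ⊗ L → Hom(X, Y ⊗ L)` is bijective for `L` finite projective -/
theorem PhiL_bijective [Module.Finite A L] [Module.Projective A L] (X Y : Dual.D A) :
    Function.Bijective (PhiL L X Y) := by
  obtain ⟨n, l, s, h⟩ := exists_dualBasis L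
  exact (homTensorEquiv L l s h X Y).bijective

end HomTensor

end Groth.Agent.H28.InvTwist
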