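import Mathlib
import Groth.Prelude.Def_DDual2
import Groth.Agent.H28.InvTwist3
import Groth.Agent.H28.InvTwist4
import Groth.Agent.H28.ExtFinite2

/-!
# Uniqueness of the twist of a dualizing complex (helper28)

If `(ω ⊗ P)[n] ≅ (ω ⊗ P')[n']` for a dualizing complex `ω` over a nonzero ring and invertible
modules `P`, `P'`, then `n = n'` and `P ≃ P'` (S11187).
-/

set_option autoImplicit false
set_option linter.unusedSectionVars false
set_option linter.style.haveILetI false

universe u

open CategoryTheory Limits MonoidalCategory DerivedCategory TensorProduct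

namespace Groth.Agent.H28.InvTwist

attribute [local instance] HasDerivedCategory.standard

variable {A : Type u} [CommRing A]

/-- tensoring with an invertible module detects vanishing -/
lemma subsingleton_tensor_invertible_iff (M P : Type u) [AddCommGroup M] [Module A M]
    [AddCommGroup P] [Module A P] [Module.Invertible A P] :
    Subsingleton (M ⊗[A] P) ↔ Subsingleton M := by
  constructor
  · intro h
    have e : (M ⊗[A] P) ⊗[A] Module.Dual A P ≃ₗ[A] M :=
      Module.Invertible.rightCancelEquiv M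
        ((TensorProduct.comm A P (Module.Dual A P)).trans (Module.Invertible.linearEquiv A P))
    exact e.symm.toEquiv.subsingleton
  · intro h
    exact inferInstanceAs (Subsingleton (TensorProduct A M P))

instance flat_of_invertible (P : Type u) [AddCommGroup P] [Module A P] [Module.Invertible A P] :
    Module.Flat A (ModuleCat.of A P) := inferInstanceAs (Module.Flat A P)

lemma subsingleton_HD_TP_iff (P : Type u) [AddCommGroup P] [Module A P] [Module.Invertible A P]
    (K : Dual.D A) (i : ℤ) :
    Subsingleton (Dual.HD A ((TP (ModuleCat.of A P)).obj K) i) ↔ Subsingleton (Dual.HD A K i) := by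
  rw [← subsingleton_tensor_invertible_iff (A := A) (Dual.HD A K i) P]
  exact (HD_TP_iso (ModuleCat.of A P) K i).toLinearEquiv.toEquiv.subsingleton_congr

/-- a nonempty bounded set of integers invariant under a translation: the translation is trivial -/
lemma eq_of_translation_invariant (S : ℤ → Prop) (a b : ℤ) (hS : ∀ i, S i → a ≤ i ∧ i ≤ b)
    (hne : ∃ i, S i) (n n' : ℤ) (h : ∀ j, S (n + j) ↔ S (n' + j)) : n = n' := by
  classical
  obtain ⟨m, hm, hmax⟩ := Int.exists_greatest_of_bdd ⟨b, fun z hz => (hS z hz).2⟩ hne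
  by_contra hne'
  rcases lt_or_gt_of_ne hne' with hlt | hgt
  · have h1 : S (n' + (m - n)) := (h (m - n)).1 (by simpa using hm)
    have := hmax _ h1
    omega
  · have h1 : S (n + (m - n')) := (h (m - n')).2 (by simpa using hm)
    have := hmax _ h1
    omega

/-- a dualizing complex over a nonzero ring has nonzero cohomology -/
lemma exists_not_subsingleton_HD [Nontrivial A] (ω : Dual.D A) (hω : Dual.IsDualizing A ω) :
    ∃ i : ℤ, ¬ Subsingleton (Dual.HD A ω i) := by
  by_contra hcon
  push Not at hcon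
  haveI : ω.IsGE 0 := Groth.Agent.H26.FlatBCDual.isGE_of_vanishing ω 0 (fun i _ => hcon i)
  haveI : ω.IsLE (-1) := Groth.Agent.H26.FlatBCDual.isLE_of_vanishing ω (-1) (fun i _ => hcon i)
  have hs : Subsingleton (ω ⟶ ω) :=
    Groth.Agent.H28.ExtFinite.subsingleton_hom_of_isLE_of_isGE ω ω (-1) 0 (by norm_num)
  have h1 : (1 : A) • 𝟙 ω = (0 : A) • 𝟙 ω := Subsingleton.elim _ _
  exact one_ne_zero (hω.toEnd_bijective.1 h1)

section Uniq

variable [Nontrivial A] (ω : Dual.D A) (hω : Dual.IsDualizing A ω)
  (P P' : Type u) [AddCommGroup P] [Module A P] [Module.Invertible A P]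
  [AddCommGroup P'] [Module A P'] [Module.Invertible A P']

include hω in
theorem shift_eq_of_iso (n n' : ℤ)
    (h : Nonempty (((TP (ModuleCat.of A P)).obj ω)⟦n⟧ ≅ ((TP (ModuleCat.of A P')).obj ω)⟦n'⟧)) :
    n = n' := by
  obtain ⟨ψ⟩ := h
  obtain ⟨a, b, hab⟩ := hω.finite_injective_dimension
  have hvan : ∀ i : ℤ, (i < a ∨ b < i) → Subsingleton (Dual.HD A ω i) := fun i hi =>
    Groth.Agent.H26.FlatBCDual.subsingleton_HD_of_fid ω a b hab i hi
  refine eq_of_translation_invariant (fun i => ¬ Subsingleton (Dual.HD A ω i)) a b ?_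
    (exists_not_subsingleton_HD ω hω) n n' ?_
  · intro i hi
    by_contra hcon
    exact hi (hvan i (by omega))
  · intro j
    have e1 := (Groth.Agent.H2.DualCx.HDShiftEquiv ((TP (ModuleCat.of A P)).obj ω) n j).toEquiv
    have e2 := (Groth.Agent.H2.DualCx.HDShiftEquiv ((TP (ModuleCat.of A P')).obj ω) n' j).toEquiv
    have e3 : Dual.HD A (((TP (ModuleCat.of A P)).obj ω)⟦n⟧) j ≃
        Dual.HD A (((TP (ModuleCat.of A P')).obj ω)⟦n'⟧) j :=
      ((DerivedCategory.homologyFunctor (ModuleCat.{u} A) j).mapIso ψ).toLinearEquiv.toEquiv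
    rw [not_iff_not, ← subsingleton_HD_TP_iff P ω (n + j), ← subsingleton_HD_TP_iff P' ω (n' + j)]
    exact (e1.symm.trans (e3.trans e2)).subsingleton_congr

include hω in
theorem nonempty_linearEquiv_of_iso
    (h : Nonempty ((TP (ModuleCat.of A P)).obj ω ≅ (TP (ModuleCat.of A P')).obj ω)) :
    Nonempty (P ≃ₗ[A] P') := by
  obtain ⟨φ⟩ := h
  haveI : Module.Finite A (ModuleCat.of A P) := inferInstanceAs (Module.Finite A P)
  haveI : Module.Projective A (ModuleCat.of A P) := inferInstanceAs (Module.Projective A P)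
  haveI : Module.Finite A (ModuleCat.of A P') := inferInstanceAs (Module.Finite A P')
  haveI : Module.Projective A (ModuleCat.of A P') := inferInstanceAs (Module.Projective A P')
  let eA : A ≃ₗ[A] (ω ⟶ ω) :=
    LinearEquiv.ofBijective (Groth.Agent.H26.FlatBCDual.rho ω) hω.toEnd_bijective
  have key : ∀ (L : Type u) [AddCommGroup L] [Module A L] [Module.Invertible A L]
      [Module.Finite A (ModuleCat.of A L)] [Module.Projective A (ModuleCat.of A L)],
      Nonempty (L ≃ₗ[A] (ω ⟶ (TP (ModuleCat.of A L)).obj ω)) := by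
    intro L _ _ _ _ _
    have e1 : (ω ⟶ ω) ⊗[A] L ≃ₗ[A] (ω ⟶ (TP (ModuleCat.of A L)).obj ω) :=
      LinearEquiv.ofBijective (PhiL (ModuleCat.of A L) ω ω) (PhiL_bijective (ModuleCat.of A L) ω ω)
    exact ⟨(TensorProduct.lid A L).symm.trans ((TensorProduct.congr eA (LinearEquiv.refl A L)).trans e1)⟩
  obtain ⟨f1⟩ := key P
  obtain ⟨f2⟩ := key P'
  exact ⟨f1.trans ((Linear.homCongr A (Iso.refl ω) φ).trans f2.symm)⟩

end Uniq

end Groth.Agent.H28.InvTwist
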