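import Mathlib
import Groth.Prelude.Def_DDual2
import Groth.Agent.H26.FlatBCDual2
import Groth.Agent.H26.FlatBCDual14
import Groth.Agent.H26.FlatBCHom3
import Groth.Agent.H28.DualUnique
import Groth.Agent.H28.ExtFinite2

/-!
# A generator of `Hom(ω, ω₂)` between dualizing complexes is an isomorphism (helper28)

Local-to-global tools: a morphism of `D(A)` which becomes an isomorphism after localization at every
maximal ideal is an isomorphism; and if `ω`, `ω₂` are dualizing and `Hom(ω, ω₂)` is free of rank one
generated by `u`, then `u` is an isomorphism.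
-/

set_option autoImplicit false
set_option linter.unusedSectionVars false
set_option linter.style.haveILetI false

universe u

open CategoryTheory Limits Pretriangulated DerivedCategory TensorProduct

namespace Groth.Agent.H28.InvTwist

open Groth.Agent.H26.FlatBCHom Groth.Agent.H26.FlatBCDual

attribute [local instance] HasDerivedCategory.standard
attribute [local instance] homModuleA

/-- an object of `D(R)` with vanishing cohomology is zero -/
lemma isZero_of_subsingleton_HD {R : Type u} [CommRing R] (K : Dual.D R)
    (h : ∀ i : ℤ, Subsingleton (Dual.HD R K i)) : IsZero K := by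
  haveI : K.IsGE 0 := isGE_of_vanishing K 0 (fun i _ => h i)
  haveI : K.IsLE (-1) := isLE_of_vanishing K (-1) (fun i _ => h i)
  have hs : Subsingleton (K ⟶ K) :=
    Groth.Agent.H28.ExtFinite.subsingleton_hom_of_isLE_of_isGE K K (-1) 0 (by norm_num)
  rw [IsZero.iff_id_eq_zero]
  exact Subsingleton.elim _ _

/-- formal lemma: if `End(X) = R`, `Y ≅ X` and `Hom(X, Y)` is generated by `f`, then `f` is an
isomorphism -/
lemma isIso_of_generator {R : Type u} [CommRing R] {X Y : Dual.D R} (v : Y ≅ X) (f : X ⟶ Y)
    (hend : Function.Bijective (fun r : R => r • 𝟙 X))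
    (hf : Function.Surjective (fun r : R => r • f)) : IsIso f := by
  obtain ⟨b, hb⟩ := hf v.inv
  obtain ⟨c, hc⟩ := hend.2 (f ≫ v.hom)
  have hb' : v.inv = b • f := hb.symm
  have hc' : f ≫ v.hom = c • 𝟙 X := hc.symm
  have h1 : (b * c) • 𝟙 X = (1 : R) • 𝟙 X := by
    have h0 : 𝟙 X = (b * c) • 𝟙 X := by
      calc 𝟙 X = v.inv ≫ v.hom := v.inv_hom_id.symm
        _ = (b • f) ≫ v.hom := by rw [hb']
        _ = b • (f ≫ v.hom) := Linear.smul_comp _ _ _ _ _ _
        _ = (b * c) • 𝟙 X := by rw [hc', smul_smul]
    rw [one_smul]
    exact h0.symm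
  have hbc : b * c = 1 := hend.1 h1
  have hunit : IsUnit c := IsUnit.of_mul_eq_one_right b hbc
  haveI : IsIso (c • 𝟙 X) := Groth.Agent.H28.DualUnique.isIso_smul_id_of_isUnit c hunit
  have h2 : f = (c • 𝟙 X) ≫ v.inv := by
    rw [← hc', Category.assoc, v.hom_inv_id, Category.comp_id]
  rw [h2]
  infer_instance

section LocalGlobal

variable {A : Type u} [CommRing A]

/-- vanishing of an object of `D(A)` is local at maximal ideals -/
lemma isZero_of_LB_maximal (K : Dual.D A)
    (h : ∀ (m : Ideal A) [m.IsMaximal],
      IsZero ((LB A (Localization.AtPrime m)).obj K)) : IsZero K := by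
  apply isZero_of_subsingleton_HD
  intro i
  refine Module.subsingleton_of_localization_maximal
    (fun m _ => Localization.AtPrime m ⊗[A] Dual.HD A K i)
    (fun m _ => TensorProduct.mk A (Localization.AtPrime m) (Dual.HD A K i) 1)
    (fun m hm => ?_)
  · haveI := hm
    have h1 : Subsingleton (Dual.HD (Localization.AtPrime m)
        ((LB A (Localization.AtPrime m)).obj K) i) :=
      ModuleCat.subsingleton_of_isZero
        ((DerivedCategory.homologyFunctor (ModuleCat.{u} (Localization.AtPrime m)) i).map_isZero
          (h m))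
    exact (HD_LB_equiv (B := Localization.AtPrime m) K i).symm.toEquiv.subsingleton

/-- being an isomorphism in `D(A)` is local at maximal ideals -/
lemma isIso_of_LB_maximal {X Y : Dual.D A} (f : X ⟶ Y)
    (h : ∀ (m : Ideal A) [m.IsMaximal], IsIso ((LB A (Localization.AtPrime m)).map f)) :
    IsIso f := by
  obtain ⟨Z, g, w, hT⟩ := distinguished_cocone_triangle f
  refine (Triangle.isZero₃_iff_isIso₁ _ hT).1 ?_
  apply isZero_of_LB_maximal
  intro m hm
  have hT' := (LB A (Localization.AtPrime m)).map_distinguished _ hT
  exact (Triangle.isZero₃_iff_isIso₁ _ hT').2 (h m)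

end LocalGlobal

end Groth.Agent.H28.InvTwist
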