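import Mathlib
import Groth.Prelude.Def_DDual2
import Groth.Agent.H28.InvTwist6

/-!
# A generator of `Hom(ω, ω₂)` between dualizing complexes is an isomorphism, part 2 (helper28)
-/

set_option autoImplicit false
set_option linter.unusedSectionVars false
set_option linter.style.haveILetI false

universe u

open CategoryTheory Limits Pretriangulated DerivedCategory TensorProduct

namespace Groth.Agent.H28.InvTwist

open Groth.Agent.H26.FlatBCHom Groth.Agent.H26.FlatBCDual

attribute [local instance] HasDerivedCategory.standard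
attribute [local instance] homModuleA

variable {A : Type u} [CommRing A] [IsNoetherianRing A]

/-- if `Hom(X, Y) = A u`, every element of `B ⊗ Hom(X, Y)` is of the form `b ⊗ u` -/
lemma exists_tmul_eq {B : Type u} [CommRing B] [Algebra A B] {X Y : Dual.D A} (u : X ⟶ Y)
    (hu : Function.Surjective (fun a : A => a • u)) (t : B ⊗[A] (X ⟶ Y)) :
    ∃ b : B, t = b ⊗ₜ[A] u := by
  induction t using TensorProduct.induction_on with
  | zero => exact ⟨0, (TensorProduct.zero_tmul _ _).symm⟩
  | tmul b f =>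
    obtain ⟨a, rfl⟩ := hu f
    exact ⟨a • b, by simp only [TensorProduct.smul_tmul]⟩
  | add x y hx hy =>
    obtain ⟨b, rfl⟩ := hx
    obtain ⟨b', rfl⟩ := hy
    exact ⟨b + b', (TensorProduct.add_tmul _ _ _).symm⟩

/-- if `ω`, `ω₂` are dualizing and `Hom(ω, ω₂)` is free of rank one on `u`, then `u` is an
isomorphism -/
theorem isIso_of_free_generator (ω ω₂ : Dual.D A) (hω : Dual.IsDualizing A ω)
    (hω₂ : Dual.IsDualizing A ω₂) (u : ω ⟶ ω₂)
    (hu : Function.Bijective (fun a : A => a • u)) : IsIso u := by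
  apply isIso_of_LB_maximal
  intro m hm
  let B := Localization.AtPrime m
  have hB : Dual.IsDualizing B ((LB A B).obj ω) := isDualizing_LB_localization m.primeCompl ω hω
  have hB₂ : Dual.IsDualizing B ((LB A B).obj ω₂) :=
    isDualizing_LB_localization m.primeCompl ω₂ hω₂
  obtain ⟨n, ⟨φ⟩⟩ := Groth.Agent.H28.DualUnique.exists_iso_shift _ _ hB hB₂
  obtain ⟨a, b, hGE, hLE, -⟩ := exists_bounds ω hω
  obtain ⟨c, d, hGE₂, hLE₂, -⟩ := exists_bounds ω₂ hω₂
  have hBC : BC (B := B) ω ω₂ :=
    BC_of_bounded' ω ω₂ a b c d hGE hLE hω.finite_cohomology hGE₂ hLE₂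
  -- surjectivity of `b ↦ b • LB u`
  have hsurj : Function.Surjective (fun r : B => r • (LB A B).map u) := by
    intro g
    obtain ⟨t, rfl⟩ := hBC.2 g
    obtain ⟨r, rfl⟩ := exists_tmul_eq (B := B) u hu.2 t
    exact ⟨r, (theta_tmul r u).symm⟩
  -- the shift vanishes
  have hn : n = 0 := by
    by_contra hne
    have h1 : Subsingleton ((LB A B).obj ω ⟶ ((LB A B).obj ω)⟦n⟧) := hB.ext_self_subsingleton n hne
    have h2 : Subsingleton ((LB A B).obj ω ⟶ (LB A B).obj ω₂) :=
      (Iso.homCongr (Iso.refl _) φ).subsingleton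
    have h3 : Subsingleton (B ⊗[A] (ω ⟶ ω₂)) := hBC.1.subsingleton
    let e : A ≃ₗ[A] (ω ⟶ ω₂) := LinearEquiv.ofBijective (LinearMap.toSpanSingleton A _ u) hu
    have e' : B ≃ₗ[A] B ⊗[A] (ω ⟶ ω₂) :=
      (TensorProduct.rid A B).symm.trans (TensorProduct.congr (LinearEquiv.refl A B) e)
    have h4 : Subsingleton B := e'.toEquiv.subsingleton
    exact not_subsingleton B h4
  subst hn
  exact isIso_of_generator (φ ≪≫ (shiftFunctorZero (Dual.D B) ℤ).app _) ((LB A B).map u)
    hB.toEnd_bijective hsurj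

end Groth.Agent.H28.InvTwist
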