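import Mathlib
import Groth.Prelude.Def_DDual2
import Groth.Agent.H28.InvTwist5
import Groth.Agent.H28.InvTwist7

/-!
# Local structure of `Hom(ω, ω'[k])` for two dualizing complexes (helper28)
-/

set_option autoImplicit false
set_option linter.unusedSectionVars false
set_option linter.style.haveILetI false

universe u

open CategoryTheory Limits Pretriangulated DerivedCategory TensorProduct

namespace Groth.Agent.H28.InvTwist

open Groth.Agent.H26.FlatBCHom Groth.Agent.H26.FlatBCDual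

attribute [local instance] HasDerivedCategory.standard
attribute [local instance] homModuleA

variable {A : Type u} [CommRing A] [IsNoetherianRing A]

lemma subsingleton_HD_of_isGE {R : Type u} [CommRing R] (K : Dual.D R) (a i : ℤ) [K.IsGE a]
    (h : i < a) : Subsingleton (Dual.HD R K i) :=
  ModuleCat.subsingleton_of_isZero (K.isZero_of_isGE a i h)

lemma subsingleton_HD_of_isLE {R : Type u} [CommRing R] (K : Dual.D R) (b i : ℤ) [K.IsLE b]
    (h : b < i) : Subsingleton (Dual.HD R K i) :=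
  ModuleCat.subsingleton_of_isZero (K.isZero_of_isLE b i h)

/-- at a prime `p`, exactly one of the modules `Hom(ω, ω'[k])` survives, and it becomes free of
rank one; the degree is bounded in terms of the amplitudes -/
theorem local_structure (ω ω' : Dual.D A) (hω : Dual.IsDualizing A ω) (hω' : Dual.IsDualizing A ω')
    (a b a' b' : ℤ) (hGE : ω.IsGE a) (hLE : ω.IsLE b) (hGE' : ω'.IsGE a') (hLE' : ω'.IsLE b')
    (p : Ideal A) [p.IsPrime] :
    ∃ kp : ℤ, a' - b ≤ kp ∧ kp ≤ b' - a ∧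
      (∀ k : ℤ, k ≠ kp → Subsingleton (Localization.AtPrime p ⊗[A] (ω ⟶ ω'⟦k⟧))) ∧
      Nonempty (Localization.AtPrime p ⊗[A] (ω ⟶ ω'⟦kp⟧) ≃ₗ[Localization.AtPrime p]
        Localization.AtPrime p) := by
  let B := Localization.AtPrime p
  have hB : Dual.IsDualizing B ((LB A B).obj ω) := isDualizing_LB_localization p.primeCompl ω hω
  have hB' : Dual.IsDualizing B ((LB A B).obj ω') :=
    isDualizing_LB_localization p.primeCompl ω' hω'
  obtain ⟨n, ⟨φ⟩⟩ := Groth.Agent.H28.DualUnique.exists_iso_shift _ _ hB hB'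
  have hBC : ∀ k : ℤ, BC (B := B) ω (ω'⟦k⟧) := fun k =>
    BC_of_bounded ω ω' a b a' b' hGE hLE hω.finite_cohomology hGE' hLE' k
  refine ⟨-n, ?_, ?_, ?_, ?_⟩
  · obtain ⟨i, hi⟩ := exists_not_subsingleton_HD _ hB
    have hi1 : ¬ Subsingleton (Dual.HD A ω i) := fun h => hi (subsingleton_HD_LB ω i h)
    have hi2 : ¬ Subsingleton (Dual.HD B ((LB A B).obj ω') (i - n)) := by
      intro h
      apply hi
      have e1 := (Groth.Agent.H2.DualCx.HDShiftEquiv ((LB A B).obj ω) n (i - n)).toEquiv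
      have e2 := ((DerivedCategory.homologyFunctor (ModuleCat.{u} B) (i - n)).mapIso
        φ).toLinearEquiv.toEquiv
      have h3 : Subsingleton (Dual.HD B ((LB A B).obj ω) (n + (i - n))) :=
        (e1.symm.trans e2.symm).subsingleton
      have h4 : n + (i - n) = i := by ring
      rwa [h4] at h3
    have hi3 : ¬ Subsingleton (Dual.HD A ω' (i - n)) := fun h => hi2 (subsingleton_HD_LB ω' _ h)
    have h5 : ¬ (b < i) := fun h => hi1 (subsingleton_HD_of_isLE ω b i h)
    have h6 : ¬ (i - n < a') := fun h => hi3 (subsingleton_HD_of_isGE ω' a' _ h)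
    omega
  · obtain ⟨i, hi⟩ := exists_not_subsingleton_HD _ hB
    have hi1 : ¬ Subsingleton (Dual.HD A ω i) := fun h => hi (subsingleton_HD_LB ω i h)
    have hi2 : ¬ Subsingleton (Dual.HD B ((LB A B).obj ω') (i - n)) := by
      intro h
      apply hi
      have e1 := (Groth.Agent.H2.DualCx.HDShiftEquiv ((LB A B).obj ω) n (i - n)).toEquiv
      have e2 := ((DerivedCategory.homologyFunctor (ModuleCat.{u} B) (i - n)).mapIso
        φ).toLinearEquiv.toEquiv
      have h3 : Subsingleton (Dual.HD B ((LB A B).obj ω) (n + (i - n))) :=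
        (e1.symm.trans e2.symm).subsingleton
      have h4 : n + (i - n) = i := by ring
      rwa [h4] at h3
    have hi3 : ¬ Subsingleton (Dual.HD A ω' (i - n)) := fun h => hi2 (subsingleton_HD_LB ω' _ h)
    have h5 : ¬ (i < a) := fun h => hi1 (subsingleton_HD_of_isGE ω a i h)
    have h6 : ¬ (b' < i - n) := fun h => hi3 (subsingleton_HD_of_isLE ω' b' _ h)
    omega
  · intro k hk
    have hnk : n + k ≠ 0 := by omega
    let ψ : (LB A B).obj (ω'⟦k⟧) ≅ ((LB A B).obj ω)⟦n + k⟧ :=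
      ((LB A B).commShiftIso k).app ω' ≪≫ (shiftFunctor (Dual.D B) k).mapIso φ ≪≫
        ((shiftFunctorAdd' (Dual.D B) n k (n + k) rfl).app ((LB A B).obj ω)).symm
    have h1 : Subsingleton ((LB A B).obj ω ⟶ ((LB A B).obj ω)⟦n + k⟧) :=
      hB.ext_self_subsingleton _ hnk
    have h2 : Subsingleton ((LB A B).obj ω ⟶ (LB A B).obj (ω'⟦k⟧)) :=
      (Iso.homCongr (Iso.refl _) ψ).subsingleton
    exact (hBC k).1.subsingleton
  · let ψ : (LB A B).obj (ω'⟦-n⟧) ≅ (LB A B).obj ω :=
      ((LB A B).commShiftIso (-n)).app ω' ≪≫ (shiftFunctor (Dual.D B) (-n)).mapIso φ ≪≫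
        shiftShiftNeg ((LB A B).obj ω) n
    let e1 : B ⊗[A] (ω ⟶ ω'⟦-n⟧) ≃ₗ[B] ((LB A B).obj ω ⟶ (LB A B).obj (ω'⟦-n⟧)) :=
      LinearEquiv.ofBijective (theta (B := B) ω (ω'⟦-n⟧)) (hBC (-n))
    let e2 : ((LB A B).obj ω ⟶ (LB A B).obj (ω'⟦-n⟧)) ≃ₗ[B] ((LB A B).obj ω ⟶ (LB A B).obj ω) :=
      Linear.homCongr B (Iso.refl _) ψ
    let e3 : B ≃ₗ[B] ((LB A B).obj ω ⟶ (LB A B).obj ω) :=
      LinearEquiv.ofBijective (rho ((LB A B).obj ω)) hB.toEnd_bijective
    exact ⟨e1.trans (e2.trans e3.symm)⟩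

end Groth.Agent.H28.InvTwist
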