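import Mathlib
import Groth.Prelude.Def_DDual2
import Groth.Agent.H28.InvTwist8

/-!
# The global degree for two dualizing complexes over a connected base (helper28)
-/

set_option autoImplicit false
set_option linter.unusedSectionVars false
set_option linter.style.haveILetI false

universe u

open CategoryTheory Limits Pretriangulated DerivedCategory TensorProduct

namespace Groth.Agent.H28.InvTwist

open Groth.Agent.H26.FlatBCHom Groth.Agent.H26.FlatBCDual

attribute [local instance] HasDerivedCategory.standard
attribute [local instance] homModuleA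

variable {A : Type u} [CommRing A] [IsNoetherianRing A]

/-- `Hom(ω, ω'[k])` is a finite module -/
lemma finite_hom_dualizing (ω ω' : Dual.D A) (hω : Dual.IsDualizing A ω)
    (hω' : Dual.IsDualizing A ω') (k : ℤ) : Module.Finite A (ω ⟶ ω'⟦k⟧) := by
  obtain ⟨a, b, hGE, hLE, -⟩ := exists_bounds ω hω
  obtain ⟨a', b', hGE', hLE', -⟩ := exists_bounds ω' hω'
  exact Groth.Agent.H28.ExtFinite.finHom_of_bounded ω' hω'.finite_cohomology a' ω a b
    hω.finite_cohomology k

/-- membership in the support via the tensor product with the local ring -/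
lemma mem_support_iff_nontrivial_tensor {M : Type*} [AddCommGroup M] [Module A M]
    (p : PrimeSpectrum A) :
    p ∈ Module.support A M ↔ Nontrivial (Localization.AtPrime p.asIdeal ⊗[A] M) := by
  rw [Module.mem_support_iff]
  exact (IsLocalizedModule.iso p.asIdeal.primeCompl
    (TensorProduct.mk A (Localization.AtPrime p.asIdeal) M 1)).toEquiv.nontrivial_congr

/-- over a connected base, there is one degree `k₀` such that `Hom(ω, ω'[k₀])` is free of rank one
at every prime -/
theorem exists_global_degree [ConnectedSpace (PrimeSpectrum A)] (ω ω' : Dual.D A)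
    (hω : Dual.IsDualizing A ω) (hω' : Dual.IsDualizing A ω') :
    ∃ k₀ : ℤ, ∀ (p : Ideal A) [p.IsPrime],
      Nonempty (Localization.AtPrime p ⊗[A] (ω ⟶ ω'⟦k₀⟧) ≃ₗ[Localization.AtPrime p]
        Localization.AtPrime p) := by
  obtain ⟨a, b, hGE, hLE, -⟩ := exists_bounds ω hω
  obtain ⟨a', b', hGE', hLE', -⟩ := exists_bounds ω' hω'
  have hloc := fun p : PrimeSpectrum A =>
    local_structure ω ω' hω hω' a b a' b' hGE hLE hGE' hLE' p.asIdeal
  choose kp hlo hhi hne heq using hloc
  -- the fibres of `kp` are supports
  have hfib : ∀ k : ℤ, kp ⁻¹' {k} = Module.support A (ω ⟶ ω'⟦k⟧) := by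
    intro k
    ext p
    rw [mem_support_iff_nontrivial_tensor]
    constructor
    · intro hp
      have hp' : kp p = k := hp
      subst hp'
      obtain ⟨e⟩ := heq p
      exact e.toEquiv.nontrivial
    · intro hp
      by_contra hcon
      have hk : k ≠ kp p := fun h => hcon h.symm
      have := hne p k hk
      exact not_subsingleton _ this
  have hclosed : ∀ k : ℤ, IsClosed (kp ⁻¹' {k}) := by
    intro k
    rw [hfib k]
    haveI := finite_hom_dualizing ω ω' hω hω' k
    rw [Module.support_eq_zeroLocus]
    exact PrimeSpectrum.isClosed_zeroLocus _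
  have hopen : ∀ k : ℤ, IsOpen (kp ⁻¹' {k}) := by
    intro k
    have h1 : kp ⁻¹' {k} = (⋃ k' ∈ (Finset.Icc (a' - b) (b' - a)).erase k, kp ⁻¹' {k'})ᶜ := by
      ext p
      simp only [Set.mem_preimage, Set.mem_singleton_iff, Set.mem_compl_iff, Set.mem_iUnion,
        Finset.mem_erase, Finset.mem_Icc, not_exists]
      constructor
      · intro hp k' hk' hp'
        exact hk'.1 (hp'.symm.trans hp)
      · intro hp
        by_contra hcon
        exact hp (kp p) ⟨hcon, hlo p, hhi p⟩ rfl
    rw [h1]
    exact (isClosed_biUnion_finset (fun k' _ => hclosed k')).isOpen_compl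
  have hcont : Continuous kp := continuous_discrete_rng.2 hopen
  obtain ⟨p₀⟩ := (inferInstance : Nonempty (PrimeSpectrum A))
  refine ⟨kp p₀, fun p hp => ?_⟩
  have hconst : kp ⟨p, hp⟩ = kp p₀ := PreconnectedSpace.constant inferInstance hcont
  have := heq ⟨p, hp⟩
  rw [hconst] at this
  exact this

end Groth.Agent.H28.InvTwist
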