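import Mathlib
import Groth.Prelude.Def_DDual2
import Groth.Agent.H28.InvTwist9
import Groth.Agent.H26.InvLocal

/-!
# Two dualizing complexes over a connected base differ by an invertible twist and a shift (helper28)

S12440.
-/

set_option autoImplicit false
set_option linter.unusedSectionVars false
set_option linter.style.haveILetI false

universe u

open CategoryTheory Limits Pretriangulated DerivedCategory TensorProduct MonoidalCategory

namespace Groth.Agent.H28.InvTwist

open Groth.Agent.H26.FlatBCHom Groth.Agent.H26.FlatBCDual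

attribute [local instance] HasDerivedCategory.standard
attribute [local instance] homModuleA

variable {A : Type u} [CommRing A] [IsNoetherianRing A]

/-- a finite module over `A : Type u` has a model in `Type u` -/
lemma exists_small_model (E : Type*) [AddCommGroup E] [Module A E] [Module.Finite A E] :
    ∃ (P : Type u) (_ : AddCommGroup P) (_ : Module A P), Nonempty (P ≃ₗ[A] E) := by
  obtain ⟨n, f, hf⟩ := Module.Finite.exists_fin' A E
  exact ⟨(Fin n → A) ⧸ LinearMap.ker f, inferInstance, inferInstance,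
    ⟨f.quotKerEquivOfSurjective hf⟩⟩

theorem exists_twist [ConnectedSpace (PrimeSpectrum A)] (ω ω' : Dual.D A)
    (hω : Dual.IsDualizing A ω) (hω' : Dual.IsDualizing A ω') :
    ∃ (P : ModuleCat.{u} A) (_ : Module.Invertible A P) (n : ℤ),
      ∀ [DRing.HasLTensor A P], Nonempty (ω' ≅ ((DRing.LTensor A P).obj ω)⟦n⟧) := by
  obtain ⟨k₀, hk₀⟩ := exists_global_degree ω ω' hω hω'
  haveI := finite_hom_dualizing ω ω' hω hω' k₀
  obtain ⟨P, _, _, ⟨eP⟩⟩ := exists_small_model (A := A) (ω ⟶ ω'⟦k₀⟧)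
  haveI : Module.Finite A P := Module.Finite.equiv eP.symm
  haveI : Module.FinitePresentation A P := Module.finitePresentation_of_finite A P
  haveI hinv : Module.Invertible A P := by
    apply Groth.Agent.H26.InvLocal.invertible_of_localization_maximal
    intro q hq
    obtain ⟨e⟩ := hk₀ q
    exact Module.Invertible.congr
      ((eP.baseChange A (Localization.AtPrime q)).trans e).symm
  refine ⟨ModuleCat.of A P, hinv, -k₀, ?_⟩
  intro _
  -- the twisted complex
  let Pm : ModuleCat.{u} A := ModuleCat.of A P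
  let Pm' : ModuleCat.{u} A := ModuleCat.of A (Module.Dual A P)
  haveI : Module.Flat A Pm := inferInstanceAs (Module.Flat A P)
  haveI : Module.Flat A Pm' := inferInstanceAs (Module.Flat A (Module.Dual A P))
  haveI : Module.Finite A Pm' := inferInstanceAs (Module.Finite A (Module.Dual A P))
  haveI : Module.Projective A Pm' := inferInstanceAs (Module.Projective A (Module.Dual A P))
  let e : Pm ⊗ Pm' ≅ 𝟙_ (ModuleCat.{u} A) :=
    ((TensorProduct.comm A P (Module.Dual A P)).trans
      (Module.Invertible.linearEquiv A P)).toModuleIso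
  let e' : Pm' ⊗ Pm ≅ 𝟙_ (ModuleCat.{u} A) := (β_ Pm' Pm) ≪≫ e
  let ω₁ : Dual.D A := ω'⟦k₀⟧
  have hω₁ : Dual.IsDualizing A ω₁ := Groth.Agent.H28.DualShift.isDualizing_shift ω' hω' k₀
  let ω₂ : Dual.D A := (TP Pm').obj ω₁
  have hω₂ : Dual.IsDualizing A ω₂ := isDualizing_TP Pm' Pm e' ω₁ hω₁
  -- `Hom(ω, ω₂) ≃ A`
  let g1 : (ω ⟶ ω₁) ⊗[A] (Module.Dual A P) ≃ₗ[A] (ω ⟶ ω₂) :=
    LinearEquiv.ofBijective (PhiL Pm' ω ω₁) (PhiL_bijective Pm' ω ω₁)
  let g2 : P ⊗[A] (Module.Dual A P) ≃ₗ[A] (ω ⟶ ω₁) ⊗[A] (Module.Dual A P) :=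
    TensorProduct.congr eP (LinearEquiv.refl A _)
  let g3 : P ⊗[A] (Module.Dual A P) ≃ₗ[A] A :=
    (TensorProduct.comm A P (Module.Dual A P)).trans (Module.Invertible.linearEquiv A P)
  let g : A ≃ₗ[A] (ω ⟶ ω₂) := g3.symm.trans (g2.trans g1)
  let u : ω ⟶ ω₂ := g 1
  have hu : Function.Bijective (fun a : A => a • u) := by
    have : (fun a : A => a • u) = g := by
      funext a
      change a • g 1 = g a
      rw [← map_smul, smul_eq_mul, mul_one]
    rw [this]
    exact g.bijective
  haveI : IsIso u := isIso_of_free_generator ω ω₂ hω hω₂ u hu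
  let ι : ω ≅ ω₂ := asIso u
  -- untwist
  let θ : (TP Pm).obj ω ≅ ω₁ := (TP Pm).mapIso ι ≪≫ (TPinvIso Pm' Pm e').app ω₁
  exact ⟨(shiftShiftNeg ω' k₀).symm ≪≫ (shiftFunctor (Dual.D A) (-k₀)).mapIso θ.symm ≪≫
    (shiftFunctor (Dual.D A) (-k₀)).mapIso ((ltIso Pm).app ω).symm⟩

end Groth.Agent.H28.InvTwist
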