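import Groth.Prelude.Def_KZero2
import Mathlib.CategoryTheory.Limits.Shapes.Products
import Mathlib.CategoryTheory.Triangulated.Pretriangulated
import Mathlib.Tactic.Ring
import Mathlib.Tactic.Abel

set_option autoImplicit false

universe v u

namespace Groth.Agent.H28

open CategoryTheory CategoryTheory.Limits CategoryTheory.Pretriangulated KZero ZeroObject

variable {C : Type u} [Category.{v} C] [Preadditive C] [HasZeroObject C]
  [HasShift C ℤ] [∀ n : ℤ, (shiftFunctor C n).Additive] [Pretriangulated C]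

theorem clTri_rel (T : Triangle C) (hT : T ∈ distTriang C) :
    clTri T.obj₂ = clTri T.obj₁ + clTri T.obj₃ := by
  have hmem : (FreeAbelianGroup.of (⟨T.obj₂, trivial⟩ : Subtype (⊤ : ObjectProperty C)) -
      FreeAbelianGroup.of ⟨T.obj₁, trivial⟩ - FreeAbelianGroup.of ⟨T.obj₃, trivial⟩) ∈
      KZero.relTr (⊤ : ObjectProperty C) :=
    AddSubgroup.subset_closure ⟨T, trivial, trivial, trivial, hT, rfl⟩
  have h0 : ((FreeAbelianGroup.of (⟨T.obj₂, trivial⟩ : Subtype (⊤ : ObjectProperty C)) -
      FreeAbelianGroup.of ⟨T.obj₁, trivial⟩ - FreeAbelianGroup.of ⟨T.obj₃, trivial⟩ :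
      FreeAbelianGroup (Subtype (⊤ : ObjectProperty C))) : KZero.K0tri C) = 0 :=
    (QuotientAddGroup.eq_zero_iff _).mpr hmem
  have h1 : KZero.clTri T.obj₂ - KZero.clTri T.obj₁ - KZero.clTri T.obj₃ = 0 := by
    simpa [KZero.clTri] using h0
  rw [sub_sub, sub_eq_zero] at h1
  exact h1

theorem clTri_zero : clTri (0 : C) = 0 := by
  have h := clTri_rel _ (contractible_distinguished (0 : C))
  simpa using h

set_option backward.defeqAttrib.useBackward true in
theorem clTri_iso {X Y : C} (e : X ≅ Y) : clTri X = clTri Y := by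
  have hd : Triangle.mk e.hom (0 : Y ⟶ 0) 0 ∈ distTriang C := by
    refine isomorphic_distinguished _ (contractible_distinguished X) _ ?_
    exact Triangle.isoMk _ _ (Iso.refl _) e.symm (Iso.refl _) (by simp) (by simp) (by simp)
  have h := clTri_rel _ hd
  simp only [Triangle.mk_obj₁, Triangle.mk_obj₂, Triangle.mk_obj₃, clTri_zero, add_zero] at h
  exact h.symm

theorem clTri_shift_one (Y : C) : clTri (Y⟦(1 : ℤ)⟧) = - clTri Y := by
  have h := clTri_rel _ (contractible_distinguished₂ Y)
  simp only [Triangle.mk_obj₁, Triangle.mk_obj₂, Triangle.mk_obj₃, clTri_zero] at h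
  exact (neg_eq_of_add_eq_zero_right h.symm).symm

theorem clTri_shift_add_one (Y : C) (k : ℤ) : clTri (Y⟦k + 1⟧) = - clTri (Y⟦k⟧) := by
  rw [← clTri_shift_one]
  exact clTri_iso ((shiftFunctorAdd C k 1).app Y)

theorem clTri_shift_add_two (Y : C) (k : ℤ) : clTri (Y⟦k + 2⟧) = clTri (Y⟦k⟧) := by
  have h : k + 2 = (k + 1) + 1 := by ring
  rw [h, clTri_shift_add_one, clTri_shift_add_one, neg_neg]

theorem clTri_shift_zero (Y : C) : clTri (Y⟦(0 : ℤ)⟧) = clTri Y :=
  clTri_iso ((shiftFunctorZero C ℤ).app Y)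

theorem clTri_shift_two_mul (Y : C) (k : ℤ) : clTri (Y⟦2 * k⟧) = clTri Y := by
  induction k using Int.induction_on with
  | zero => rw [mul_zero]; exact clTri_shift_zero Y
  | succ i ih =>
    have h : 2 * ((i : ℤ) + 1) = 2 * i + 2 := by ring
    rw [h, clTri_shift_add_two, ih]
  | pred i ih =>
    have h : 2 * (-(i : ℤ)) = (2 * (-(i : ℤ) - 1)) + 2 := by ring
    rw [h, clTri_shift_add_two] at ih
    exact ih

theorem clTri_biprod (A B : C) : clTri (A ⊞ B) = clTri A + clTri B :=
  clTri_rel _ (binaryBiproductTriangle_distinguished A B)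

end Groth.Agent.H28
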