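import Groth.Agent.H5.ResDerivLeft
import Groth.Agent.H5.TriDerivLeftTriangle

/-!
# Weak triangulatedness of left derived functors computed by resolutions
-/

set_option autoImplicit false

universe w w' v' u' v u

open CategoryTheory CategoryTheory.Limits Pretriangulated ZeroObject

namespace Groth.Agent.H28.LDerivTri

open Groth.Agent.H5 Groth.Agent.H5.ResDerivLeft

variable {A : Type u} [Category.{v} A] [Abelian A]
  {kf : ObjectProperty (CochainComplex A ℤ)} (H : Hyp kf)
  {B : Type u'} [Category.{v'} B] [Abelian B] [HasDerivedCategory.{w'} B]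
  (F : A ⥤ B) [F.Additive]
  (hF : ∀ P : CochainComplex A ℤ, kf P → (∀ i, P.ExactAt i) →
    ∀ i, ((F.mapHomologicalComplex (ComplexShape.up ℤ)).obj P).ExactAt i)

include H hF in
theorem exists_distTriang_aux
    (W₂ : MorphismProperty (HomotopyCategory A (ComplexShape.up ℤ)))
    (hW : W₂ = (ℬ A).trW) {E : Type*} [Category E] [HasZeroObject E] [HasShift E ℤ]
    [Preadditive E] [∀ (n : ℤ), (shiftFunctor E n).Additive] [Pretriangulated E]
    (L : HomotopyCategory A (ComplexShape.up ℤ) ⥤ E) [L.CommShift ℤ] [L.IsTriangulated]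
    [L.IsLocalization W₂] [L.mapArrow.EssSurj]
    (LF : E ⥤ DerivedCategory B) (α : L ⋙ LF ⟶ G F) [LF.IsLeftDerivedFunctor α W₂]
    (T : Triangle E) (hT : T ∈ distTriang E) :
    ∃ T' ∈ distTriang (DerivedCategory B), Nonempty (T'.obj₁ ≅ LF.obj T.obj₁) ∧
      Nonempty (T'.obj₂ ≅ LF.obj T.obj₂) ∧ Nonempty (T'.obj₃ ≅ LF.obj T.obj₃) := by
  subst hW
  have := isTriangulated H
  exact TriDerivLeftTriangle.exists_distTriang (𝒜 kf) (ℬ A) (hres H) (G F)
    (isZero_G_obj F hF) L LF α T hT

include H hF in
/-- the total left derived functor (on the derived category) sends distinguished triangles to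
distinguished triangles, up to isomorphisms on the vertices -/
theorem exists_distTriang [HasDerivedCategory.{w} A]
    [(G F).HasLeftDerivedFunctor (HomotopyCategory.quasiIso A (ComplexShape.up ℤ))]
    (T : Triangle (DerivedCategory A)) (hT : T ∈ distTriang (DerivedCategory A)) :
    ∃ T' ∈ distTriang (DerivedCategory B),
      Nonempty (T'.obj₁ ≅ ((G F).totalLeftDerived DerivedCategory.Qh
        (HomotopyCategory.quasiIso A (ComplexShape.up ℤ))).obj T.obj₁) ∧
      Nonempty (T'.obj₂ ≅ ((G F).totalLeftDerived DerivedCategory.Qh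
        (HomotopyCategory.quasiIso A (ComplexShape.up ℤ))).obj T.obj₂) ∧
      Nonempty (T'.obj₃ ≅ ((G F).totalLeftDerived DerivedCategory.Qh
        (HomotopyCategory.quasiIso A (ComplexShape.up ℤ))).obj T.obj₃) :=
  exists_distTriang_aux H F hF _ (HomotopyCategory.quasiIso_eq_trW_subcategoryAcyclic _)
    DerivedCategory.Qh _ ((G F).totalLeftDerivedCounit DerivedCategory.Qh
      (HomotopyCategory.quasiIso A (ComplexShape.up ℤ))) T hT

end Groth.Agent.H28.LDerivTri
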