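import Mathlib
import Groth.Agent.H35.TorNilpMain
import Groth.Agent.H35.LTensorAmp
import Groth.Agent.H28.PCohLocal

/-!
# Vanishing of `H^i(P ⊗^L N)` for modules of finite length over a local ring (helper28)
-/

open CategoryTheory Limits MonoidalCategory

namespace Groth.Agent.H28.LTensorFinLen

universe u

open DerivedCategory Groth.Agent.H35.KF Groth.Agent.H35.LT

attribute [local instance] HasDerivedCategory.standard

variable {R : Type u} [CommRing R]

/-- a short exact sequence of modules from a submodule -/
lemma shortExact_of_submodule {M : Type u} [AddCommGroup M] [Module R M] (N : Submodule R M) :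
    (ShortComplex.mk (ModuleCat.ofHom N.subtype) (ModuleCat.ofHom N.mkQ) (by
      ext x
      exact (Submodule.Quotient.mk_eq_zero N).2 x.2)).ShortExact := by
  refine ShortComplex.ShortExact.mk' ?_ ?_ ?_
  · rw [ShortComplex.moduleCat_exact_iff]
    intro x hx
    exact ⟨⟨x, (Submodule.Quotient.mk_eq_zero N).1 hx⟩, rfl⟩
  · exact (ModuleCat.mono_iff_injective _).2 N.injective_subtype
  · exact (ModuleCat.epi_iff_surjective _).2 N.mkQ_surjective

/-- dévissage over a local ring: from the residue field to all modules of finite length -/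
theorem tensExactAt_of_isFiniteLength [IsLocalRing R] (F : CochainComplex (ModuleCat.{u} R) ℤ)
    (hF : ∀ p, Module.Flat R (F.X p)) (i : ℤ)
    (hκ : TensExactAt F (ModuleCat.of R (R ⧸ IsLocalRing.maximalIdeal R)) i)
    (N : Type u) [AddCommGroup N] [Module R N] (hN : IsFiniteLength R N) :
    TensExactAt F (ModuleCat.of R N) i := by
  induction hN with
  | of_subsingleton =>
    rename_i M _ _ _
    have hz : IsZero (ModuleCat.of R M) := ModuleCat.isZero_of_subsingleton _
    rw [← exactAt_map_tensorRight_iff, HomologicalComplex.exactAt_iff' _ (i - 1) i (i + 1)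
      (by simp) (by simp)]
    refine ShortComplex.exact_of_isZero_X₂ _ ?_
    have : IsZero ((tensorRight (ModuleCat.of R M)).obj (F.X i)) := by
      rw [IsZero.iff_id_eq_zero]
      have h0 : 𝟙 (ModuleCat.of R M) = 0 := hz.eq_of_src _ _
      change 𝟙 (F.X i ⊗ ModuleCat.of R M) = 0
      rw [← MonoidalCategory.id_tensorHom_id, h0, MonoidalPreadditive.tensor_zero]
    exact this
  | of_simple_quotient hN' ih =>
    rename_i M _ _ N' hs
    obtain ⟨I, hI, ⟨e⟩⟩ := isSimpleModule_iff_quot_maximal.1 hs
    have hIm : I = IsLocalRing.maximalIdeal R := IsLocalRing.eq_maximalIdeal hI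
    subst hIm
    have h3 : TensExactAt F (ModuleCat.of R (M ⧸ N')) i :=
      (tensExactAt_iff_of_iso F e.toModuleIso i).2 hκ
    exact tensExactAt_of_shortExact F hF _ (shortExact_of_submodule N') i ih h3

end Groth.Agent.H28.LTensorFinLen
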