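import Mathlib

/-!
# Laurent series in `x⁻¹` with module coefficients (helper28)

For a commutative ring `S` and an `S`-module `M`:
* `Lam S M = M((x⁻¹))`, an `S[X]`-module (a `HahnModule` over `HahnSeries ℤ S`, restricted along
  `X ↦ y⁻¹`, `y = x⁻¹`); monic polynomials act bijectively on it (`smul_bijective_of_monic`);
* `Prin S M = x⁻¹ M[[x⁻¹]]`, sequences with `X` acting by the left shift;
* the short exact sequence `0 → M[x] → M((x⁻¹)) → x⁻¹M[[x⁻¹]] → 0` (`iota`, `rho`).
-/

set_option autoImplicit false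
set_option linter.style.haveILetI false
universe u
open Polynomial

namespace Groth.Agent.H28.LaurentMod

variable (S : Type u) [CommRing S]

noncomputable def xinv : HahnSeries ℤ S := HahnSeries.single (-1) 1
/-- `y = x⁻¹`... the inverse of `xinv` is `x`, here `single 1 1` is `y`-coordinate -/
noncomputable def yy : HahnSeries ℤ S := HahnSeries.single 1 1

lemma xinv_mul_yy : xinv S * yy S = 1 := by
  unfold xinv yy
  rw [HahnSeries.single_mul_single]
  simp

lemma yy_mul_xinv : yy S * xinv S = 1 := by
  rw [mul_comm, xinv_mul_yy]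

noncomputable def phi : S[X] →+* HahnSeries ℤ S :=
  Polynomial.eval₂RingHom HahnSeries.C (xinv S)
lemma phi_X : phi S X = xinv S := by simp [phi]
lemma phi_C (a : S) : phi S (C a) = HahnSeries.C a := by simp [phi]

theorem isUnit_phi_of_monic (f : S[X]) (hf : f.Monic) : IsUnit (phi S f) := by
  letI : Invertible (xinv S) := ⟨yy S, yy_mul_xinv S, xinv_mul_yy S⟩
  have h0 : phi S f = Polynomial.eval₂ (HahnSeries.C : S →+* HahnSeries ℤ S) (xinv S) f := rfl
  have h1 : Polynomial.eval₂ (HahnSeries.C : S →+* HahnSeries ℤ S) (xinv S) f =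
      Polynomial.eval₂ (HahnSeries.C : S →+* HahnSeries ℤ S) (⅟(xinv S)) (reverse f) *
      (xinv S) ^ f.natDegree :=
    (Polynomial.eval₂_reverse_mul_pow (HahnSeries.C : S →+* HahnSeries ℤ S) (xinv S) f).symm
  have h2 : Polynomial.eval₂ (HahnSeries.C : S →+* HahnSeries ℤ S) (⅟(xinv S)) (reverse f) =
      HahnSeries.ofPowerSeries ℤ S ((reverse f : S[X]) : PowerSeries S) := by
    have h3 : Polynomial.eval₂RingHom (HahnSeries.C : S →+* HahnSeries ℤ S) (yy S) =
        (HahnSeries.ofPowerSeries ℤ S).comp (Polynomial.coeToPowerSeries.ringHom) := by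
      refine Polynomial.ringHom_ext (fun a => ?_) ?_
      · simp [HahnSeries.ofPowerSeries_C]
      · simp [HahnSeries.ofPowerSeries_X, yy]
    exact congrArg (fun g => g (reverse f)) h3
  rw [h0, h1, h2]
  refine IsUnit.mul (IsUnit.map _ ?_) (IsUnit.pow _ ⟨⟨xinv S, yy S, xinv_mul_yy S, yy_mul_xinv S⟩, rfl⟩)
  rw [PowerSeries.isUnit_iff_constantCoeff]
  have : PowerSeries.constantCoeff ((reverse f : S[X]) : PowerSeries S) = 1 := by
    rw [← PowerSeries.coeff_zero_eq_constantCoeff_apply, Polynomial.coeff_coe,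
      Polynomial.coeff_zero_reverse, hf.leadingCoeff]
  rw [this]
  exact isUnit_one


variable (M : Type u) [AddCommGroup M] [Module S M]

/-- Laurent series in `x⁻¹` with coefficients in `M` -/
def Lam : Type u := HahnModule ℤ S M

noncomputable instance : AddCommGroup (Lam S M) := inferInstanceAs (AddCommGroup (HahnModule ℤ S M))
noncomputable instance : Module S (Lam S M) := inferInstanceAs (Module S (HahnModule ℤ S M))
noncomputable instance : Module (HahnSeries ℤ S) (Lam S M) :=
  inferInstanceAs (Module (HahnSeries ℤ S) (HahnModule ℤ S M))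
noncomputable instance instModPoly : Module S[X] (Lam S M) := Module.compHom (Lam S M) (phi S)

variable {S M}

/-- the coefficient of `y^j = x^{-j}` -/
noncomputable def Lam.coeff (g : Lam S M) (j : ℤ) : M := ((HahnModule.of S).symm g).coeff j

lemma Lam.ext {g g' : Lam S M} (h : ∀ j, g.coeff j = g'.coeff j) : g = g' :=
  HahnModule.ext g g' (funext h)

@[simp] lemma Lam.coeff_add (g g' : Lam S M) (j : ℤ) : (g + g').coeff j = g.coeff j + g'.coeff j := rfl
@[simp] lemma Lam.coeff_zero (j : ℤ) : (0 : Lam S M).coeff j = 0 := rfl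
@[simp] lemma Lam.coeff_smul (a : S) (g : Lam S M) (j : ℤ) : (a • g).coeff j = a • g.coeff j := rfl

lemma Lam.poly_smul_def (p : S[X]) (g : Lam S M) : p • g = phi S p • g := rfl

lemma Lam.coeff_X_smul (g : Lam S M) (j : ℤ) : ((X : S[X]) • g).coeff j = g.coeff (j + 1) := by
  rw [Lam.poly_smul_def, phi_X]
  have h := HahnModule.coeff_single_smul_vadd (Γ := ℤ) (Γ' := ℤ) (R := S) (V := M) (r := (1 : S))
    (x := g) (a := j + 1) (b := -1)
  rw [one_smul] at h
  have h2 : ((-1 : ℤ) +ᵥ (j + 1)) = j := by
    change (-1 : ℤ) + (j + 1) = j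
    ring
  rw [h2] at h
  exact h

instance : IsScalarTower S S[X] (Lam S M) where
  smul_assoc a p g := by
    rw [Lam.poly_smul_def, Lam.poly_smul_def, Algebra.smul_def, map_mul]
    change (phi S (C a) * phi S p) • g = _
    rw [phi_C, mul_smul]
    change HahnSeries.C a • (phi S p • g) = a • (phi S p • g)
    rw [HahnSeries.C_apply]
    exact HahnModule.single_zero_smul_eq_smul ℤ

/-- build a Laurent series from its coefficients -/
noncomputable def Lam.mk (c : ℤ → M) (h : BddBelow (Function.support c)) : Lam S M :=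
  HahnModule.of S (HahnSeries.ofSuppBddBelow c h)

@[simp] lemma Lam.coeff_mk (c : ℤ → M) (h : BddBelow (Function.support c)) (j : ℤ) :
    (Lam.mk (S := S) c h).coeff j = c j := by
  change (HahnSeries.ofSuppBddBelow c h).coeff j = c j
  rw [HahnSeries.coeff_ofSuppBddBelow]

lemma Lam.exists_coeff_eq_zero (g : Lam S M) : ∃ n : ℤ, ∀ m : ℤ, m < n → g.coeff m = 0 := by
  refine ⟨((HahnModule.of S).symm g).order, fun m hm => ?_⟩
  by_contra h
  exact absurd (HahnSeries.order_le_of_coeff_ne_zero h) (not_le.mpr hm)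

/-- build a Laurent series from coefficients vanishing below `n` -/
noncomputable def Lam.mk' (c : ℤ → M) (n : ℤ) (h : ∀ m : ℤ, m < n → c m = 0) : Lam S M :=
  Lam.mk c ⟨n, fun m hm => le_of_not_gt fun hlt => hm (h m hlt)⟩

@[simp] lemma Lam.coeff_mk' (c : ℤ → M) (n : ℤ) (h : ∀ m : ℤ, m < n → c m = 0) (j : ℤ) :
    (Lam.mk' (S := S) c n h).coeff j = c j := Lam.coeff_mk _ _ _


/-- an additive map between `S[X]`-modules commuting with constants and with `X` is
`S[X]`-linear -/
def polyLinearOfX' {N N' : Type*} [AddCommGroup N] [Module S[X] N]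
    [AddCommGroup N'] [Module S[X] N'] (T : N →+ N')
    (hC : ∀ (a : S) (n : N), T ((C a : S[X]) • n) = (C a : S[X]) • T n)
    (hT : ∀ n : N, T ((X : S[X]) • n) = (X : S[X]) • T n) :
    N →ₗ[S[X]] N' where
  toFun := T
  map_add' := T.map_add
  map_smul' p n := by
    induction p using Polynomial.induction_on generalizing n with
    | C a => exact hC a n
    | add p q hp hq => simp only [RingHom.id_apply, add_smul, map_add] at hp hq ⊢; rw [hp, hq]
    | monomial k a h =>
      simp only [RingHom.id_apply] at h ⊢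
      rw [pow_succ, ← mul_assoc, mul_smul, h, hT, ← mul_smul]

@[simp] lemma polyLinearOfX'_apply {N N' : Type*} [AddCommGroup N] [Module S[X] N]
    [AddCommGroup N'] [Module S[X] N'] (T : N →+ N')
    (hC : ∀ (a : S) (n : N), T ((C a : S[X]) • n) = (C a : S[X]) • T n)
    (hT : ∀ n : N, T ((X : S[X]) • n) = (X : S[X]) • T n) (n : N) :
    polyLinearOfX' T hC hT n = T n := rfl

/-- an `S`-linear map between `S[X]`-modules commuting with `X` is `S[X]`-linear -/
def polyLinearOfX {N N' : Type*} [AddCommGroup N] [Module S N] [Module S[X] N]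
    [IsScalarTower S S[X] N] [AddCommGroup N'] [Module S N'] [Module S[X] N']
    [IsScalarTower S S[X] N'] (T : N →ₗ[S] N') (hT : ∀ n : N, T ((X : S[X]) • n) = (X : S[X]) • T n) :
    N →ₗ[S[X]] N' where
  toFun := T
  map_add' := T.map_add
  map_smul' p n := by
    induction p using Polynomial.induction_on generalizing n with
    | C a =>
      simp only [RingHom.id_apply]
      rw [Polynomial.C_eq_algebraMap, algebraMap_smul, algebraMap_smul, map_smul]
    | add p q hp hq => simp only [RingHom.id_apply, add_smul, map_add] at hp hq ⊢; rw [hp, hq]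
    | monomial k a h =>
      simp only [RingHom.id_apply] at h ⊢
      rw [pow_succ, ← mul_assoc, mul_smul, h, hT, ← mul_smul]


section Single

/-- the constant Laurent series `m · x⁰` -/
noncomputable def Lam.single0 (m : M) : Lam S M :=
  Lam.mk' (fun j => if j = 0 then m else 0) 0 (fun j hj => if_neg (by omega))

lemma Lam.coeff_single0 (m : M) (j : ℤ) :
    (Lam.single0 (S := S) m).coeff j = if j = 0 then m else 0 := Lam.coeff_mk' _ _ _ _

end Single

section Bij

theorem smul_bijective_of_monic (f : S[X]) (hf : f.Monic) :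
    Function.Bijective (fun g : Lam S M => f • g) := by
  obtain ⟨u, hu⟩ := isUnit_phi_of_monic S f hf
  refine ⟨fun g g' h => ?_, fun g => ⟨(↑u⁻¹ : HahnSeries ℤ S) • g, ?_⟩⟩
  · have h2 := congrArg (fun z => (↑u⁻¹ : HahnSeries ℤ S) • z) h
    simp only [Lam.poly_smul_def, ← hu, smul_smul, Units.inv_mul, one_smul] at h2
    exact h2
  · simp only [Lam.poly_smul_def, ← hu, smul_smul, Units.mul_inv, one_smul]

end Bij

section Map

variable {M' : Type u} [AddCommGroup M'] [Module S M']

/-- functoriality of Laurent series in the coefficient module, `S`-linear version -/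
noncomputable def lamMapS (ℓ : M →ₗ[S] M') : Lam S M →ₗ[S] Lam S M' where
  toFun g := HahnModule.of S (((HahnModule.of S).symm g).map ℓ)
  map_add' g g' := Lam.ext fun j => by
    change ℓ ((g + g').coeff j) = ℓ (g.coeff j) + ℓ (g'.coeff j)
    rw [Lam.coeff_add, map_add]
  map_smul' a g := Lam.ext fun j => by
    change ℓ ((a • g).coeff j) = a • ℓ (g.coeff j)
    rw [Lam.coeff_smul, map_smul]

@[simp] lemma coeff_lamMapS (ℓ : M →ₗ[S] M') (g : Lam S M) (j : ℤ) :
    (lamMapS ℓ g).coeff j = ℓ (g.coeff j) := rfl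

/-- functoriality of Laurent series in the coefficient module -/
noncomputable def lamMap (ℓ : M →ₗ[S] M') : Lam S M →ₗ[S[X]] Lam S M' :=
  polyLinearOfX (lamMapS ℓ) (fun g => Lam.ext fun j => by
    rw [Lam.coeff_X_smul, coeff_lamMapS, coeff_lamMapS, Lam.coeff_X_smul])

@[simp] lemma coeff_lamMap (ℓ : M →ₗ[S] M') (g : Lam S M) (j : ℤ) :
    (lamMap ℓ g).coeff j = ℓ (g.coeff j) := rfl

end Map

section PrinPart

variable (S M) in
/-- shift to the left on sequences -/
def slMap : (ℕ → M) →ₗ[S] (ℕ → M) where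
  toFun c := fun n => c (n + 1)
  map_add' _ _ := rfl
  map_smul' _ _ := rfl

variable (S M) in
/-- the principal parts `x⁻¹ M[[x⁻¹]]`: sequences with `X` acting by the left shift -/
abbrev Prin : Type u := Module.AEval' (slMap S M)

/-- the coefficient of `x^{-1-n}` -/
def Prin.coeff (c : Prin S M) (n : ℕ) : M := (Module.AEval'.of (slMap S M)).symm c n

lemma Prin.ext {c c' : Prin S M} (h : ∀ n, c.coeff n = c'.coeff n) : c = c' :=
  (Module.AEval'.of (slMap S M)).symm.injective (funext h)

@[simp] lemma Prin.coeff_add (c c' : Prin S M) (n : ℕ) : (c + c').coeff n = c.coeff n + c'.coeff n :=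
  rfl
@[simp] lemma Prin.coeff_smul (a : S) (c : Prin S M) (n : ℕ) : (a • c).coeff n = a • c.coeff n := rfl

lemma Prin.coeff_X_smul (c : Prin S M) (n : ℕ) : ((X : S[X]) • c).coeff n = c.coeff (n + 1) := by
  unfold Prin.coeff
  rw [Module.AEval'.of_symm_X_smul]
  rfl

/-- build a principal part from its coefficients -/
def Prin.mk (c : ℕ → M) : Prin S M := Module.AEval'.of (slMap S M) c

@[simp] lemma Prin.coeff_mk (c : ℕ → M) (n : ℕ) : (Prin.mk (S := S) c).coeff n = c n := rfl

/-- the principal part of a Laurent series, `S`-linear version -/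
noncomputable def rhoS : Lam S M →ₗ[S] Prin S M where
  toFun g := Prin.mk fun n => g.coeff ((n : ℤ) + 1)
  map_add' _ _ := rfl
  map_smul' _ _ := rfl

/-- the principal part of a Laurent series -/
noncomputable def rho : Lam S M →ₗ[S[X]] Prin S M :=
  polyLinearOfX rhoS (fun g => Prin.ext fun n => by
    rw [Prin.coeff_X_smul]
    change ((X : S[X]) • g).coeff ((n : ℤ) + 1) = g.coeff (((n + 1 : ℕ) : ℤ) + 1)
    rw [Lam.coeff_X_smul]
    push_cast
    rfl)

@[simp] lemma coeff_rho (g : Lam S M) (n : ℕ) : (rho g).coeff n = g.coeff ((n : ℤ) + 1) := rfl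

lemma rho_surjective : Function.Surjective (rho (S := S) (M := M)) := by
  intro c
  refine ⟨Lam.mk' (fun j => if 1 ≤ j then c.coeff (j - 1).toNat else 0) 1
    (fun m hm => if_neg (not_le.mpr hm)), Prin.ext fun n => ?_⟩
  rw [coeff_rho, Lam.coeff_mk', if_pos (by omega)]
  congr 1
  omega

end PrinPart


section PolyPart

/-- the inclusion of polynomials into Laurent series, `S`-linear version -/
noncomputable def iotaS : PolynomialModule S M →ₗ[S] Lam S M where
  toFun q := Lam.mk' (fun j => if j ≤ 0 then q.coeff (-j).toNat else 0)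
    (-(q.coeff.support.sup id : ℕ)) (fun m hm => by
      rw [if_pos (by omega)]
      by_contra h
      have h1 : (-m).toNat ∈ q.coeff.support := Finsupp.mem_support_iff.mpr h
      have h2 : (-m).toNat ≤ q.coeff.support.sup id := Finset.le_sup (f := id) h1
      omega)
  map_add' q q' := Lam.ext fun j => by
    rw [Lam.coeff_add, Lam.coeff_mk', Lam.coeff_mk', Lam.coeff_mk']
    split_ifs
    · rfl
    · rw [add_zero]
  map_smul' a q := Lam.ext fun j => by
    rw [Lam.coeff_smul, Lam.coeff_mk', Lam.coeff_mk']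
    split_ifs
    · rfl
    · rw [RingHom.id_apply, smul_zero]

lemma coeff_iotaS (q : PolynomialModule S M) (j : ℤ) :
    (iotaS q).coeff j = if j ≤ 0 then q.coeff (-j).toNat else 0 := by
  unfold iotaS
  simp only [LinearMap.coe_mk, AddHom.coe_mk, Lam.coeff_mk']

/-- the inclusion of polynomials into Laurent series -/
noncomputable def iota : PolynomialModule S M →ₗ[S[X]] Lam S M :=
  polyLinearOfX iotaS (fun q => Lam.ext fun j => by
    rw [Lam.coeff_X_smul, coeff_iotaS, coeff_iotaS]
    have hX : (X : S[X]) = Polynomial.monomial 1 1 := (Polynomial.monomial_one_one_eq_X).symm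
    rw [hX, PolynomialModule.monomial_smul_apply, one_smul]
    by_cases h1 : j ≤ 0
    · rw [if_pos h1]
      by_cases h2 : j + 1 ≤ 0
      · rw [if_pos h2, if_pos (by omega)]
        congr 1
        omega
      · rw [if_neg h2, if_neg (by omega)]
    · rw [if_neg h1, if_neg (by omega)])

lemma coeff_iota (q : PolynomialModule S M) (j : ℤ) :
    (iota q).coeff j = if j ≤ 0 then q.coeff (-j).toNat else 0 := coeff_iotaS q j

lemma iota_injective : Function.Injective (iota (S := S) (M := M)) := by
  intro q q' h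
  apply PolynomialModule.coeff_injective
  ext n
  have h1 := congrArg (fun g => g.coeff (-(n : ℤ))) h
  simp only [coeff_iota] at h1
  rw [if_pos (by omega), if_pos (by omega)] at h1
  simpa using h1

lemma rho_iota (q : PolynomialModule S M) : rho (iota q) = 0 := Prin.ext fun n => by
  rw [coeff_rho, coeff_iota, if_neg (by omega)]
  rfl

lemma exists_iota_eq_of_rho_eq_zero (g : Lam S M) (h : rho g = 0) : ∃ q, iota q = g := by
  obtain ⟨n₀, hn₀⟩ := g.exists_coeff_eq_zero
  have hpos : ∀ j : ℤ, 1 ≤ j → g.coeff j = 0 := fun j hj => by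
    have h1 := congrArg (fun c => c.coeff (j - 1).toNat) h
    simp only [coeff_rho] at h1
    have h2 : (((j - 1).toNat : ℕ) : ℤ) + 1 = j := by omega
    rw [h2] at h1
    exact h1
  refine ⟨PolynomialModule.ofCoeff S (Finsupp.onFinset (Finset.range ((-n₀).toNat + 1))
    (fun n => g.coeff (-(n : ℤ))) (fun n hn => ?_)), Lam.ext fun j => ?_⟩
  · rw [Finset.mem_range]
    by_contra hlt
    exact hn (hn₀ _ (by omega))
  · rw [coeff_iota]
    by_cases h1 : j ≤ 0
    · rw [if_pos h1]
      change g.coeff (-(((-j).toNat : ℕ) : ℤ)) = g.coeff j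
      congr 1
      omega
    · rw [if_neg h1]
      exact (hpos j (by omega)).symm

end PolyPart

end Groth.Agent.H28.LaurentMod
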