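import Mathlib
import Groth.Agent.H28.LaurentMod
import Groth.Agent.H12.Bridge
import Groth.Agent.H26.FlatBCHom

/-!
# The Laurent sequence as a short exact sequence of exact functors (helper28)

`M ↦ M((x⁻¹))` (`LamF`) and `M ↦ x⁻¹M[[x⁻¹]]` (`PrinF`) are exact additive functors
`ModuleCat S ⥤ ModuleCat S[X]`; there is a natural short exact sequence
`0 → S[X] ⊗_S M → M((x⁻¹)) → x⁻¹M[[x⁻¹]] → 0` (`iotaNat`, `rhoNat`, `sc_shortExact`); `PrinF` is
right adjoint to restriction of scalars along `S → S[X]` (`adjPrin`); monic polynomials act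
invertibly on `M((x⁻¹))` (`isIso_smul_id_LamF`).
-/

set_option autoImplicit false
set_option linter.style.haveILetI false
universe u
open CategoryTheory Limits Polynomial TensorProduct ChangeOfRings

namespace Groth.Agent.H28.LaurentFun

open Groth.Agent.H28.LaurentMod Groth.Agent.H26.FlatBCHom

variable (S : Type u) [CommRing S]

section PrinMap

variable {S} {M M' : Type u} [AddCommGroup M] [Module S M] [AddCommGroup M'] [Module S M']

/-- functoriality of principal parts, `S`-linear version -/
def prinMapS (ℓ : M →ₗ[S] M') : Prin S M →ₗ[S] Prin S M' where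
  toFun c := Prin.mk fun n => ℓ (c.coeff n)
  map_add' c c' := Prin.ext fun n => by
    change ℓ ((c + c').coeff n) = ℓ (c.coeff n) + ℓ (c'.coeff n)
    rw [Prin.coeff_add, map_add]
  map_smul' a c := Prin.ext fun n => by
    change ℓ ((a • c).coeff n) = a • ℓ (c.coeff n)
    rw [Prin.coeff_smul, map_smul]

/-- functoriality of principal parts -/
noncomputable def prinMap (ℓ : M →ₗ[S] M') : Prin S M →ₗ[S[X]] Prin S M' :=
  polyLinearOfX (prinMapS ℓ) (fun c => Prin.ext fun n => by
    rw [Prin.coeff_X_smul]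
    change ℓ (((X : S[X]) • c).coeff n) = ℓ (c.coeff (n + 1))
    rw [Prin.coeff_X_smul])

@[simp] lemma coeff_prinMap (ℓ : M →ₗ[S] M') (c : Prin S M) (n : ℕ) :
    (prinMap ℓ c).coeff n = ℓ (c.coeff n) := rfl

end PrinMap

/-- `M ↦ M((x⁻¹))` -/
noncomputable def LamF : ModuleCat.{u} S ⥤ ModuleCat.{u} S[X] where
  obj M := ModuleCat.of S[X] (Lam S M)
  map ℓ := ModuleCat.ofHom (lamMap ℓ.hom)
  map_id M := by
    ext g
    exact Lam.ext (S := S) fun j => rfl
  map_comp ℓ ℓ' := by
    ext g
    exact Lam.ext (S := S) fun j => rfl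

/-- `M ↦ x⁻¹M[[x⁻¹]]` -/
noncomputable def PrinF : ModuleCat.{u} S ⥤ ModuleCat.{u} S[X] where
  obj M := ModuleCat.of S[X] (Prin S M)
  map ℓ := ModuleCat.ofHom (prinMap ℓ.hom)
  map_id M := by
    ext c
    exact Prin.ext (S := S) fun n => rfl
  map_comp ℓ ℓ' := by
    ext c
    exact Prin.ext (S := S) fun n => rfl

instance : (LamF S).Additive where
  map_add := by
    intro M M' ℓ ℓ'
    ext g
    exact Lam.ext (S := S) fun j => rfl

instance : (PrinF S).Additive where
  map_add := by
    intro M M' ℓ ℓ'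
    ext c
    exact Prin.ext (S := S) fun n => rfl

lemma LamF_map_exact (T : ShortComplex (ModuleCat.{u} S)) (h : T.Exact) :
    (T.map (LamF S)).Exact := by
  rw [CategoryTheory.ShortComplex.ShortExact.moduleCat_exact_iff_function_exact] at h ⊢
  intro g
  constructor
  · intro hg
    have hg' : ∀ j, T.g (Lam.coeff (S := S) (M := T.X₂) g j) = 0 := fun j =>
      congrArg (fun z : Lam S T.X₃ => z.coeff j) hg
    have hex : ∀ j, ∃ x : T.X₁, T.f x = Lam.coeff (S := S) (M := T.X₂) g j := fun j =>
      (h _).mp (hg' j)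
    obtain ⟨n₀, hn₀⟩ := Lam.exists_coeff_eq_zero (S := S) (M := T.X₂) g
    classical
    refine ⟨Lam.mk' (S := S) (M := T.X₁) (fun j => if Lam.coeff (S := S) (M := T.X₂) g j = 0 then 0
      else (hex j).choose) n₀ (fun m hm => if_pos (hn₀ m hm)), Lam.ext (S := S) fun j => ?_⟩
    change T.f (Lam.coeff (S := S) (M := T.X₁) (Lam.mk' _ _ _) j) = _
    rw [Lam.coeff_mk']
    split_ifs with h0
    · rw [map_zero, h0]
    · exact (hex j).choose_spec
  · rintro ⟨g₁, rfl⟩
    exact Lam.ext (S := S) fun j => (h _).mpr ⟨_, rfl⟩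

lemma PrinF_map_exact (T : ShortComplex (ModuleCat.{u} S)) (h : T.Exact) :
    (T.map (PrinF S)).Exact := by
  rw [CategoryTheory.ShortComplex.ShortExact.moduleCat_exact_iff_function_exact] at h ⊢
  intro c
  constructor
  · intro hc
    have hc' : ∀ n, T.g (Prin.coeff (S := S) (M := T.X₂) c n) = 0 := fun n =>
      congrArg (fun z : Prin S T.X₃ => z.coeff n) hc
    have hex : ∀ n, ∃ x : T.X₁, T.f x = Prin.coeff (S := S) (M := T.X₂) c n := fun n =>
      (h _).mp (hc' n)
    refine ⟨Prin.mk (S := S) (M := T.X₁) (fun n => (hex n).choose), Prin.ext (S := S) fun n => ?_⟩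
    exact (hex n).choose_spec
  · rintro ⟨c₁, rfl⟩
    exact Prin.ext (S := S) fun n => (h _).mpr ⟨_, rfl⟩

instance : PreservesFiniteLimits (LamF S) := by
  have := ((Functor.exact_tfae (LamF S)).out 1 3).mp (LamF_map_exact S)
  exact this.1
instance : PreservesFiniteColimits (LamF S) := by
  have := ((Functor.exact_tfae (LamF S)).out 1 3).mp (LamF_map_exact S)
  exact this.2
instance : PreservesFiniteLimits (PrinF S) := by
  have := ((Functor.exact_tfae (PrinF S)).out 1 3).mp (PrinF_map_exact S)
  exact this.1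
instance : PreservesFiniteColimits (PrinF S) := by
  have := ((Functor.exact_tfae (PrinF S)).out 1 3).mp (PrinF_map_exact S)
  exact this.2


section NatTrans

/-- the isomorphism `S[X] ⊗_S M ≅ M[x]` composed with the bridge -/
noncomputable def polyEquiv (M : ModuleCat.{u} S) :
    ((F0 S S[X]).obj M) ≃ₗ[S[X]] PolynomialModule S M :=
  (Groth.Agent.H12.BC.bridge (B := S[X]) M).trans
    (PolynomialModule.polynomialTensorProductLEquivPolynomialModule S M)

lemma polyEquiv_apply (M : ModuleCat.{u} S) (z : (F0 S S[X]).obj M) :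
    polyEquiv S M z = PolynomialModule.polynomialTensorProductLEquivPolynomialModule S M
      (Groth.Agent.H12.BC.bridge (B := S[X]) M z) := rfl

lemma polyEquiv_one_tmul (M : ModuleCat.{u} S) (m : M) :
    polyEquiv S M ((1 : S[X]) ⊗ₜ[S, algebraMap S S[X]] m) = PolynomialModule.single S 0 m := by
  have h1 : Groth.Agent.H12.BC.bridge (B := S[X]) M ((1 : S[X]) ⊗ₜ[S, algebraMap S S[X]] m) =
      (1 : S[X]) ⊗ₜ[S] m := rfl
  refine (polyEquiv_apply S M _).trans ((congrArg _ h1).trans ?_)
  have h2 : PolynomialModule.polynomialTensorProductLEquivPolynomialModule S M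
      ((1 : S[X]) ⊗ₜ[S] m) =
      (LinearMap.liftBaseChange S[X] (PolynomialModule.lsingle S (M := M) 0))
        ((1 : S[X]) ⊗ₜ[S] m) := rfl
  rw [h2, LinearMap.liftBaseChange_tmul, one_smul]
  rfl

/-- the inclusion `M[x] → M((x⁻¹))` as a morphism out of the base change -/
noncomputable def iotaApp (M : ModuleCat.{u} S) : (F0 S S[X]).obj M ⟶ (LamF S).obj M :=
  ModuleCat.ofHom (X := (F0 S S[X]).obj M) (Y := (LamF S).obj M)
    ((iota (S := S) (M := M)).comp (polyEquiv S M).toLinearMap)

lemma iotaApp_apply (M : ModuleCat.{u} S) (z : (F0 S S[X]).obj M) :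
    (iotaApp S M).hom z = iota (S := S) (M := M) (polyEquiv S M z) := rfl

lemma iota_single_zero (M : Type u) [AddCommGroup M] [Module S M] (m : M) :
    iota (PolynomialModule.single S 0 m) = Lam.single0 (S := S) m := by
  refine Lam.ext fun j => ?_
  rw [coeff_iota, Lam.coeff_single0]
  by_cases h0 : j = 0
  · subst h0
    simp
  · rw [if_neg h0]
    by_cases h1 : j ≤ 0
    · rw [if_pos h1]
      change (Finsupp.single 0 m) (-j).toNat = 0
      rw [Finsupp.single_apply, if_neg (by omega)]
    · rw [if_neg h1]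

lemma iotaApp_one_tmul (M : ModuleCat.{u} S) (m : M) :
    (iotaApp S M).hom ((1 : S[X]) ⊗ₜ[S, algebraMap S S[X]] m) = Lam.single0 (S := S) m := by
  refine (iotaApp_apply S M _).trans ((congrArg _ (polyEquiv_one_tmul S M m)).trans ?_)
  exact iota_single_zero S M m

/-- the natural transformation `M[x] → M((x⁻¹))` -/
noncomputable def iotaNat : F0 S S[X] ⟶ LamF S where
  app M := iotaApp S M
  naturality M M' ℓ := by
    apply ModuleCat.ExtendScalars.hom_ext
    intro m
    have h1 : ((F0 S S[X]).map ℓ ≫ iotaApp S M').hom ((1 : S[X]) ⊗ₜ[S, algebraMap S S[X]] m) =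
        (iotaApp S M').hom ((1 : S[X]) ⊗ₜ[S, algebraMap S S[X]] (ℓ.hom m)) := rfl
    have h2 : (iotaApp S M ≫ (LamF S).map ℓ).hom ((1 : S[X]) ⊗ₜ[S, algebraMap S S[X]] m) =
        lamMap ℓ.hom ((iotaApp S M).hom ((1 : S[X]) ⊗ₜ[S, algebraMap S S[X]] m)) := rfl
    refine h1.trans (Eq.trans ?_ h2.symm)
    rw [iotaApp_one_tmul, iotaApp_one_tmul]
    refine Lam.ext (S := S) fun j => ?_
    rw [coeff_lamMap, Lam.coeff_single0, Lam.coeff_single0]
    split_ifs
    · rfl
    · rw [map_zero]

/-- the natural transformation `M((x⁻¹)) → x⁻¹M[[x⁻¹]]` -/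
noncomputable def rhoNat : LamF S ⟶ PrinF S where
  app M := ModuleCat.ofHom (rho (S := S) (M := M))
  naturality M M' ℓ := by
    ext g
    exact Prin.ext (S := S) fun n => rfl

lemma iota_rho (M : ModuleCat.{u} S) : (iotaNat S).app M ≫ (rhoNat S).app M = 0 := by
  apply ModuleCat.hom_ext
  apply LinearMap.ext
  intro z
  exact rho_iota (S := S) (M := M) (polyEquiv S M z)

/-- the short complex `M[x] → M((x⁻¹)) → x⁻¹M[[x⁻¹]]` -/
noncomputable def sc (M : ModuleCat.{u} S) :=
  ShortComplex.mk ((iotaNat S).app M) ((rhoNat S).app M) (iota_rho S M)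

lemma sc_shortExact (M : ModuleCat.{u} S) : (sc S M).ShortExact := by
  refine ModuleCat.shortComplex_shortExact _ ?_ ?_ ?_
  · intro g
    constructor
    · intro hg
      obtain ⟨q, hq⟩ := exists_iota_eq_of_rho_eq_zero (S := S) (M := M) g hg
      refine ⟨(polyEquiv S M).symm q, ?_⟩
      have h1 : (sc S M).f.hom ((polyEquiv S M).symm q) =
          iota (S := S) (M := M) (polyEquiv S M ((polyEquiv S M).symm q)) := rfl
      refine h1.trans ?_
      rw [LinearEquiv.apply_symm_apply, hq]
    · rintro ⟨z, rfl⟩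
      exact rho_iota (S := S) (M := M) (polyEquiv S M z)
  · intro z z' h
    have h1 : iota (S := S) (M := M) (polyEquiv S M z) = iota (polyEquiv S M z') := h
    exact (polyEquiv S M).injective (iota_injective (S := S) (M := M) h1)
  · exact rho_surjective (S := S) (M := M)

end NatTrans


section Adjunction

/-- restriction of scalars along `S → S[X]` -/
noncomputable abbrev cStar : ModuleCat.{u} S[X] ⥤ ModuleCat.{u} S :=
  ModuleCat.restrictScalars.{u} (algebraMap S S[X])

variable {S}

lemma Prin.coeff_C_smul {M : Type u} [AddCommGroup M] [Module S M] (a : S) (c : Prin S M) (n : ℕ) :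
    ((C a : S[X]) • c).coeff n = a • c.coeff n := by
  rw [Module.AEval.C_smul]
  rfl

lemma Prin.coeff_X_pow_smul {M : Type u} [AddCommGroup M] [Module S M] (c : Prin S M) (k n : ℕ) :
    ((X ^ k : S[X]) • c).coeff n = c.coeff (n + k) := by
  induction k generalizing n c with
  | zero => rw [pow_zero, one_smul, add_zero]
  | succ k ih =>
    rw [pow_succ, mul_smul, ih, Prin.coeff_X_smul]
    congr 1

lemma cStar_smul_def (T : ModuleCat.{u} S[X]) (a : S) (t : (cStar S).obj T) :
    a • t = ((C a : S[X]) • (show T from t) : T) := rfl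

/-- `Hom_S(T, M) → Hom_{S[X]}(T, x⁻¹M[[x⁻¹]])`, `ℓ ↦ (t ↦ Σ ℓ(xⁿt) x⁻¹⁻ⁿ)` -/
noncomputable def toPrin (T : ModuleCat.{u} S[X]) (M : ModuleCat.{u} S)
    (ℓ : (cStar S).obj T →ₗ[S] M) : T →ₗ[S[X]] Prin S M :=
  polyLinearOfX' (S := S)
    { toFun := fun t => Prin.mk (S := S) (M := M) fun n =>
        ℓ (show (cStar S).obj T from ((X ^ n : S[X]) • t : T))
      map_zero' := Prin.ext (S := S) fun n => by
        change ℓ (show (cStar S).obj T from ((X ^ n : S[X]) • (0 : T) : T)) = 0
        rw [smul_zero]
        exact map_zero ℓ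
      map_add' := fun t t' => Prin.ext (S := S) fun n => by
        change ℓ (show (cStar S).obj T from ((X ^ n : S[X]) • (t + t') : T)) =
          ℓ (show (cStar S).obj T from ((X ^ n : S[X]) • t : T)) +
          ℓ (show (cStar S).obj T from ((X ^ n : S[X]) • t' : T))
        rw [smul_add]
        exact map_add ℓ _ _ }
    (fun a t => Prin.ext (S := S) fun n => by
      rw [Prin.coeff_C_smul]
      change ℓ (show (cStar S).obj T from ((X ^ n : S[X]) • ((C a : S[X]) • t) : T)) =
        a • ℓ (show (cStar S).obj T from ((X ^ n : S[X]) • t : T))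
      rw [smul_comm, ← map_smul]
      rfl)
    (fun t => Prin.ext (S := S) fun n => by
      rw [Prin.coeff_X_smul]
      change ℓ (show (cStar S).obj T from ((X ^ n : S[X]) • ((X : S[X]) • t) : T)) =
        ℓ (show (cStar S).obj T from ((X ^ (n + 1) : S[X]) • t : T))
      rw [← mul_smul, ← pow_succ])

lemma coeff_toPrin (T : ModuleCat.{u} S[X]) (M : ModuleCat.{u} S)
    (ℓ : (cStar S).obj T →ₗ[S] M) (t : T) (n : ℕ) :
    (toPrin T M ℓ t).coeff n = ℓ (show (cStar S).obj T from ((X ^ n : S[X]) • t : T)) := rfl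

/-- `Hom_{S[X]}(T, x⁻¹M[[x⁻¹]]) → Hom_S(T, M)`, the coefficient of `x⁻¹` -/
noncomputable def fromPrin (T : ModuleCat.{u} S[X]) (M : ModuleCat.{u} S)
    (Ψ : T →ₗ[S[X]] Prin S M) : (cStar S).obj T →ₗ[S] M where
  toFun t := (Ψ (show T from t)).coeff 0
  map_add' t t' := by
    change (Ψ ((show T from t) + (show T from t'))).coeff 0 = _
    rw [map_add, Prin.coeff_add]
  map_smul' a t := by
    change (Ψ ((C a : S[X]) • (show T from t))).coeff 0 = a • (Ψ (show T from t)).coeff 0
    rw [map_smul, Prin.coeff_C_smul]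

variable (S) in
/-- the adjunction between restriction of scalars along `S → S[X]` and `M ↦ x⁻¹M[[x⁻¹]]` -/
noncomputable def adjPrin : cStar S ⊣ PrinF S :=
  Adjunction.mkOfHomEquiv
    { homEquiv := fun T M =>
        { toFun := fun ℓ => ModuleCat.ofHom (X := T) (Y := (PrinF S).obj M) (toPrin T M ℓ.hom)
          invFun := fun Ψ => ModuleCat.ofHom (X := (cStar S).obj T) (Y := M) (fromPrin T M Ψ.hom)
          left_inv := fun ℓ => by
            apply ModuleCat.hom_ext
            apply LinearMap.ext
            intro t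
            change ℓ.hom (show (cStar S).obj T from ((X ^ 0 : S[X]) • (show T from t) : T)) = _
            rw [pow_zero, one_smul]
            rfl
          right_inv := fun Ψ => by
            apply ModuleCat.hom_ext
            apply LinearMap.ext
            intro t
            refine Prin.ext (S := S) fun n => ?_
            have h0 : Ψ.hom ((X ^ n : S[X]) • (show T from t)) =
                (X ^ n : S[X]) • Ψ.hom (show T from t) := map_smul _ _ _
            have h1 : Prin.coeff (S := S) (M := M) (Ψ.hom ((X ^ n : S[X]) • (show T from t))) 0 =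
                Prin.coeff (S := S) (M := M) (Ψ.hom (show T from t)) n :=
              (congrArg (fun c : Prin S M => c.coeff 0) h0).trans
                ((Prin.coeff_X_pow_smul (S := S) (M := M) _ n 0).trans (by rw [zero_add]))
            exact h1 }
      homEquiv_naturality_left_symm := fun f g => by
        apply ModuleCat.hom_ext
        apply LinearMap.ext
        intro t
        rfl
      homEquiv_naturality_right := fun ℓ h => by
        apply ModuleCat.hom_ext
        apply LinearMap.ext
        intro t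
        exact Prin.ext (S := S) fun n => rfl }

end Adjunction


section Monic

variable {S}

lemma isIso_smul_id_LamF (f : S[X]) (hf : f.Monic) (M : ModuleCat.{u} S) :
    IsIso (f • 𝟙 ((LamF S).obj M)) := by
  rw [ConcreteCategory.isIso_iff_bijective]
  exact smul_bijective_of_monic (S := S) (M := M) f hf

end Monic

end Groth.Agent.H28.LaurentFun
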