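import Mathlib
import Groth.Agent.H28.LaurentFun
import Groth.Agent.H28.ShriekTools
import Groth.Agent.H33.DerAdjExact

/-!
# The Laurent triangle in `D(S[X])` (helper28)

For `K` in `D(S)` there is a distinguished triangle
`K[x] → K((x⁻¹)) → x⁻¹K[[x⁻¹]] → K[x][1]` in `D(S[X])` (`exists_triangle_laurent`), where
`K ↦ x⁻¹K[[x⁻¹]]` is right adjoint to restriction of scalars `D(S[X]) ⥤ D(S)` (`adjRPrin`) and monic
polynomials act invertibly on `K((x⁻¹))` (`isIso_smul_id_RLam`).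
-/

set_option autoImplicit false
set_option linter.style.haveILetI false
universe u
open CategoryTheory Limits Polynomial TensorProduct Pretriangulated DerivedCategory

namespace Groth.Agent.H28.LaurentTri

open Groth.Agent.H26.FlatBCHom Groth.Agent.H28.LaurentFun

attribute [local instance] HasDerivedCategory.standard

variable (S : Type u) [CommRing S]

/-- `K ↦ K((x⁻¹))` on derived categories -/
noncomputable abbrev RLam : Dual.D S ⥤ Dual.D S[X] := (LamF S).mapDerivedCategory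

/-- `K ↦ x⁻¹K[[x⁻¹]]` on derived categories -/
noncomputable abbrev RPrin : Dual.D S ⥤ Dual.D S[X] := (PrinF S).mapDerivedCategory

/-- `RPrin` is right adjoint to restriction of scalars along `S → S[X]` -/
noncomputable def adjRPrin : DRing.restrictD (algebraMap S S[X]) ⊣ RPrin S :=
  Groth.Agent.H33.DerAdjExact.derivedAdj (adjPrin S)

/-- the short exact sequence of complexes -/
noncomputable def scC (K : CochainComplex (ModuleCat.{u} S) ℤ) :=
  ShortComplex.mk ((NatTrans.mapHomologicalComplex (iotaNat S) (ComplexShape.up ℤ)).app K)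
    ((NatTrans.mapHomologicalComplex (rhoNat S) (ComplexShape.up ℤ)).app K)
    (by ext p : 1; exact iota_rho S (K.X p))

lemma scC_shortExact (K : CochainComplex (ModuleCat.{u} S) ℤ) : (scC S K).ShortExact :=
  HomologicalComplex.shortExact_of_degreewise_shortExact _ (fun p => sc_shortExact S (K.X p))

/-- **The Laurent triangle** `K[x] → K((x⁻¹)) → x⁻¹K[[x⁻¹]] → K[x][1]` in `D(S[X])`. -/
theorem exists_triangle_laurent (K : Dual.D S) :
    ∃ (a : (LB S S[X]).obj K ⟶ (RLam S).obj K) (b : (RLam S).obj K ⟶ (RPrin S).obj K)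
      (c : (RPrin S).obj K ⟶ ((LB S S[X]).obj K)⟦(1 : ℤ)⟧),
      Triangle.mk a b c ∈ distTriang (Dual.D S[X]) := by
  let K' := Q.objPreimage K
  let e : Q.obj K' ≅ K := Q.objObjPreimageIso K
  let P1 : CochainComplex (ModuleCat.{u} S[X]) ℤ :=
    ((F0 S S[X]).mapHomologicalComplex (ComplexShape.up ℤ)).obj K'
  let P2 : CochainComplex (ModuleCat.{u} S[X]) ℤ :=
    ((LamF S).mapHomologicalComplex (ComplexShape.up ℤ)).obj K'
  let P3 : CochainComplex (ModuleCat.{u} S[X]) ℤ :=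
    ((PrinF S).mapHomologicalComplex (ComplexShape.up ℤ)).obj K'
  let m1 : Q.obj P1 ⟶ Q.obj P2 := Q.map (scC S K').f
  let m2 : Q.obj P2 ⟶ Q.obj P3 := Q.map (scC S K').g
  let m3 : Q.obj P3 ⟶ (Q.obj P1)⟦(1 : ℤ)⟧ := triangleOfSESδ (scC_shortExact S K')
  have hT : Triangle.mk m1 m2 m3 ∈ distTriang (Dual.D S[X]) :=
    triangleOfSES_distinguished (scC_shortExact S K')
  let iso1 : (LB S S[X]).obj K ≅ Q.obj P1 :=
    (LB S S[X]).mapIso e.symm ≪≫ (F0 S S[X]).mapDerivedCategoryFactors.app K'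
  let iso2 : (RLam S).obj K ≅ Q.obj P2 :=
    (RLam S).mapIso e.symm ≪≫ (LamF S).mapDerivedCategoryFactors.app K'
  let iso3 : (RPrin S).obj K ≅ Q.obj P3 :=
    (RPrin S).mapIso e.symm ≪≫ (PrinF S).mapDerivedCategoryFactors.app K'
  refine ⟨iso1.hom ≫ m1 ≫ iso2.inv, iso2.hom ≫ m2 ≫ iso3.inv,
    iso3.hom ≫ m3 ≫ iso1.inv⟦(1 : ℤ)⟧', ?_⟩
  refine isomorphic_distinguished _ hT _ (Triangle.isoMk _ _ iso1 iso2 iso3 ?_ ?_ ?_)
  · change (iso1.hom ≫ m1 ≫ iso2.inv) ≫ iso2.hom = iso1.hom ≫ m1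
    rw [Category.assoc, Category.assoc, Iso.inv_hom_id, Category.comp_id]
  · change (iso2.hom ≫ m2 ≫ iso3.inv) ≫ iso3.hom = iso2.hom ≫ m2
    rw [Category.assoc, Category.assoc, Iso.inv_hom_id, Category.comp_id]
  · change (iso3.hom ≫ m3 ≫ iso1.inv⟦(1 : ℤ)⟧') ≫ iso1.hom⟦(1 : ℤ)⟧' = iso3.hom ≫ m3
    rw [Category.assoc, Category.assoc, ← Functor.map_comp, Iso.inv_hom_id,
      CategoryTheory.Functor.map_id, Category.comp_id]

/-- monic polynomials act invertibly on `K((x⁻¹))` -/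
theorem isIso_smul_id_RLam (f : S[X]) (hf : f.Monic) (K : Dual.D S) :
    IsIso (f • 𝟙 ((RLam S).obj K)) := by
  let K' := Q.objPreimage K
  let e : Q.obj K' ≅ K := Q.objObjPreimageIso K
  let P2 : CochainComplex (ModuleCat.{u} S[X]) ℤ :=
    ((LamF S).mapHomologicalComplex (ComplexShape.up ℤ)).obj K'
  let iso2 : (RLam S).obj K ≅ Q.obj P2 :=
    (RLam S).mapIso e.symm ≪≫ (LamF S).mapDerivedCategoryFactors.app K'
  have h1 : IsIso (f • 𝟙 P2) := by
    haveI : ∀ i, IsIso ((f • 𝟙 P2 : P2 ⟶ P2).f i) := fun i =>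
      isIso_smul_id_LamF f hf (K'.X i)
    exact HomologicalComplex.Hom.isIso_of_components _
  have h2 : f • 𝟙 ((RLam S).obj K) = iso2.hom ≫ Q.map (f • 𝟙 P2) ≫ iso2.inv := by
    rw [Functor.map_smul, CategoryTheory.Functor.map_id, Linear.smul_comp, Linear.comp_smul,
      Category.id_comp, Iso.hom_inv_id]
  rw [h2]
  infer_instance

end Groth.Agent.H28.LaurentTri
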