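import Mathlib
import Groth.Agent.H28.LiftJac3
import Groth.Agent.H3.ProjLift

/-!
# Lifting complexes of finite projective modules along a henselian pair (helper28)
-/

open CategoryTheory TensorProduct

namespace Groth.Agent.H28.LiftHens

universe u

attribute [local instance] HasDerivedCategory.standard

variable {R : Type u} [CommRing R] (I : Ideal R)

/-- the class of finite projective modules -/
def fpClass (R : Type u) [CommRing R] : ObjectProperty (ModuleCat.{u} R) :=
  fun X => Module.Finite R X ∧ Module.Projective R X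

instance : (fpClass R).IsClosedUnderIsomorphisms where
  of_iso e h := ⟨@Module.Finite.equiv _ _ _ _ _ _ _ _ h.1 e.toLinearEquiv,
    by have := h.2; exact Module.Projective.of_equiv e.toLinearEquiv⟩

lemma fpClass_projective (X : ModuleCat.{u} R) (h : fpClass R X) : Module.Projective R X := h.2

lemma fpClass_prod_iff (X Y : ModuleCat.{u} R) (hX : fpClass R X) :
    fpClass R (ModuleCat.of R (X × Y)) ↔ fpClass R Y := by
  have := hX.1
  have := hX.2
  constructor
  · rintro ⟨hf, hs⟩
    have hfin : Module.Finite R (X × Y) := hf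
    have hpr : Module.Projective R (X × Y) := hs
    refine ⟨Module.Finite.of_surjective (LinearMap.snd R X Y) LinearMap.snd_surjective, ?_⟩
    exact Module.Projective.of_split (LinearMap.inr R X Y) (LinearMap.snd R X Y)
      (LinearMap.snd_comp_inr R X Y)
  · rintro ⟨hf, hs⟩
    have hfin : Module.Finite R Y := hf
    have hpr : Module.Projective R Y := hs
    exact ⟨(inferInstance : Module.Finite R (X × Y)), (inferInstance : Module.Projective R (X × Y))⟩

/-- S6973 -/
theorem exists_lift_finProj_rep [HenselianRing R I]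
    [DRing.HasLBaseChange (Ideal.Quotient.mk I)] (K : Dual.D R)
    (hK : DRing.IsPseudoCoherent' R K) (E : DRing.Cx (R ⧸ I)) (b : ℤ) (hEb : DRing.VanishesAbove E b)
    (hEp : DRing.TermwiseFiniteProjective E)
    (hE : Nonempty (DRing.toD E ≅ (DRing.LBaseChange (Ideal.Quotient.mk I)).obj K)) :
    ∃ (P : DRing.Cx R) (b' : ℤ), DRing.VanishesAbove P b' ∧ DRing.TermwiseFiniteProjective P ∧
      Nonempty (DRing.toD P ≅ K) ∧ Nonempty ((((ModuleCat.extendScalars (Ideal.Quotient.mk I)).mapHomologicalComplex (ComplexShape.up ℤ)).obj P) ≅ E) ∧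
      ∀ i : ℤ, Module.Free (R ⧸ I) (E.X i) → Module.Free R (P.X i) := by
  have hI : I ≤ Ideal.jacobson (⊥ : Ideal R) := HenselianRing.jac
  obtain ⟨Qc, c, hQc, hQff, ⟨eK⟩⟩ := hK
  have hK' : ∃ (Q : DRing.Cx R) (c : ℤ), DRing.VanishesAbove Q c ∧ (∀ i : ℤ, fpClass R (Q.X i)) ∧
      Nonempty (DRing.toD Q ≅ K) :=
    ⟨Qc, c, hQc, fun i => ⟨(hQff i).1, by have := (hQff i).2; infer_instance⟩, ⟨eK⟩⟩
  have hEt : ∀ i : ℤ, ∃ X : ModuleCat.{u} R, fpClass R X ∧
      Nonempty (TensorProduct R (R ⧸ I) X ≃ₗ[R ⧸ I] E.X i) := by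
    intro i
    have := (hEp i).1
    have := (hEp i).2
    obtain ⟨P, _, _, hPf, hPp, ⟨e⟩⟩ :=
      Groth.Agent.H3.exists_finite_projective_lift (A := R) (I := I) inferInstance (E.X i)
    exact ⟨ModuleCat.of R P, ⟨hPf, hPp⟩, ⟨e⟩⟩
  obtain ⟨P, b', hPb, hPc, hPK, ⟨eP⟩⟩ := Groth.Agent.H28.LiftQIso.exists_lift_rep I (fpClass R)
    fpClass_projective fpClass_prod_iff
    (fun X Y f _ hY h => by
      have := hY.1
      exact Groth.Agent.H28.LiftJac.surjective_of_sup_smul_eq_top I hI f.hom h)
    K hK' E b hEb hEt hE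
  refine ⟨P, b', hPb, hPc, hPK, ⟨eP⟩, ?_⟩
  intro i hfree
  let ei : (ModuleCat.extendScalars.{u, u, u} (Ideal.Quotient.mk I)).obj (P.X i) ≅ E.X i :=
    (HomologicalComplex.eval _ _ i).mapIso eP
  have := (hPc i).1
  have : Module.Projective R (P.X i) := fpClass_projective _ (hPc i)
  have hbij : Function.Bijective ei.hom.hom :=
    (ConcreteCategory.isIso_iff_bijective ei.hom).1 inferInstance
  refine Groth.Agent.H28.LiftJac.free_of_free_reduction I hI (P.X i) (E.X i)
    (Groth.Agent.H28.LiftRed.cred I (P.X i) ≫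
      (ModuleCat.restrictScalars (Ideal.Quotient.mk I)).map ei.hom) ?_ ?_
  · intro m
    obtain ⟨t, ht⟩ := hbij.2 m
    obtain ⟨x, hx⟩ := Groth.Agent.H28.LiftRed.cred_surjective I (P.X i) t
    refine ⟨x, ?_⟩
    change ei.hom.hom ((Groth.Agent.H28.LiftRed.cred I (P.X i)).hom x) = m
    rw [hx, ht]
  · rw [← Groth.Agent.H28.LiftRed.ker_cred I (P.X i)]
    ext x
    rw [LinearMap.mem_ker, LinearMap.mem_ker]
    change ei.hom.hom ((Groth.Agent.H28.LiftRed.cred I (P.X i)).hom x) = 0 ↔ _
    constructor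
    · intro h
      exact hbij.1 (h.trans (map_zero _).symm)
    · intro h
      have : ei.hom.hom ((Groth.Agent.H28.LiftRed.cred I (P.X i)).hom x) = ei.hom.hom 0 :=
        congrArg ei.hom.hom h
      exact this.trans (map_zero _)

end Groth.Agent.H28.LiftHens
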