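import Mathlib
import Groth.Agent.H28.LiftTensor

/-!
# Lifting projective modules along `R → R ⧸ I`, `I` nilpotent (helper28)
-/

open CategoryTheory TensorProduct

namespace Groth.Agent.H28.LiftNilp

universe u

variable {R : Type u} [CommRing R] (I : Ideal R)

/-- coefficientwise reduction of finitely supported functions, as a function -/
noncomputable def redFun (ι : Type u) (y : ι →₀ R) : ι →₀ R ⧸ I :=
  Finsupp.mapRange (Ideal.Quotient.mk I) (map_zero _) y

lemma redFun_apply (ι : Type u) (y : ι →₀ R) (k : ι) :
    redFun I ι y k = Ideal.Quotient.mk I (y k) := rfl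

/-- coefficientwise reduction of finitely supported functions -/
noncomputable def redF (ι : Type u) : ModuleCat.of R (ι →₀ R) ⟶
    (ModuleCat.restrictScalars (Ideal.Quotient.mk I)).obj (ModuleCat.of (R ⧸ I) (ι →₀ R ⧸ I)) :=
  ModuleCat.ofHom (Y := (ModuleCat.restrictScalars (Ideal.Quotient.mk I)).obj
      (ModuleCat.of (R ⧸ I) (ι →₀ R ⧸ I)))
    { toFun := fun y => redFun I ι y
      map_add' := fun y z => by
        apply Finsupp.ext
        intro k
        change redFun I ι (y + z) k = redFun I ι y k + redFun I ι z k
        rw [redFun_apply, redFun_apply, redFun_apply, Finsupp.add_apply, map_add]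
      map_smul' := fun r y => by
        apply Finsupp.ext
        intro k
        change redFun I ι (r • y) k = Ideal.Quotient.mk I r * redFun I ι y k
        rw [redFun_apply, redFun_apply, Finsupp.smul_apply, smul_eq_mul, map_mul] }

lemma redF_hom_apply (ι : Type u) (y : ι →₀ R) :
    (show ι →₀ R ⧸ I from (redF I ι).hom y) = redFun I ι y := rfl

lemma redF_surjective (ι : Type u) : Function.Surjective (redF I ι).hom := by
  intro z
  exact Finsupp.mapRange_surjective (Ideal.Quotient.mk I) (map_zero _)
    Ideal.Quotient.mk_surjective z

lemma ker_redF (ι : Type u) :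
    LinearMap.ker (redF I ι).hom = I • (⊤ : Submodule R (ι →₀ R)) := by
  apply le_antisymm
  · intro y hy
    have hy' : ∀ k, y k ∈ I := by
      intro k
      have h0 : redFun I ι y = 0 := LinearMap.mem_ker.1 hy
      have := DFunLike.congr_fun h0 k
      rw [redFun_apply] at this
      exact Ideal.Quotient.eq_zero_iff_mem.1 this
    have : y = y.sum (fun k a => a • Finsupp.single k (1 : R)) := by
      conv_lhs => rw [← Finsupp.sum_single y]
      refine Finsupp.sum_congr (fun k _ => ?_)
      rw [Finsupp.smul_single, smul_eq_mul, mul_one]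
    rw [this]
    exact Submodule.sum_mem _ (fun k _ => Submodule.smul_mem_smul (hy' k) Submodule.mem_top)
  · rw [Submodule.smul_le]
    intro a ha y _
    rw [LinearMap.mem_ker]
    change redFun I ι (a • y) = 0
    apply Finsupp.ext
    intro k
    rw [redFun_apply]
    exact Ideal.Quotient.eq_zero_iff_mem.2 (I.mul_mem_right _ ha)

end Groth.Agent.H28.LiftNilp
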