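import Mathlib
import Groth.Agent.H28.LiftNilp

/-!
# Lifting projective modules along `R → R ⧸ I`, `I` nilpotent: idempotent lifting (helper28)
-/

open CategoryTheory TensorProduct

namespace Groth.Agent.H28.LiftNilp

universe u

variable {R : Type u} [CommRing R] (I : Ideal R)

/-- `α` lifts `β` -/
def IsLift (ι : Type u) (α : Module.End R (ι →₀ R)) (β : Module.End (R ⧸ I) (ι →₀ R ⧸ I)) : Prop :=
  ∀ y, redFun I ι (α y) = β (redFun I ι y)

lemma redFun_sub (ι : Type u) (y z : ι →₀ R) :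
    redFun I ι (y - z) = redFun I ι y - redFun I ι z := by
  apply Finsupp.ext
  intro k
  rw [Finsupp.sub_apply, redFun_apply, redFun_apply, redFun_apply, Finsupp.sub_apply, map_sub]

lemma IsLift.one (ι : Type u) : IsLift I ι 1 1 := fun _ => rfl

lemma IsLift.mul {ι : Type u} {α₁ α₂ : Module.End R (ι →₀ R)}
    {β₁ β₂ : Module.End (R ⧸ I) (ι →₀ R ⧸ I)} (h₁ : IsLift I ι α₁ β₁) (h₂ : IsLift I ι α₂ β₂) :
    IsLift I ι (α₁ * α₂) (β₁ * β₂) := by
  intro y
  change redFun I ι (α₁ (α₂ y)) = β₁ (β₂ (redFun I ι y))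
  rw [h₁, h₂]

lemma IsLift.sub {ι : Type u} {α₁ α₂ : Module.End R (ι →₀ R)}
    {β₁ β₂ : Module.End (R ⧸ I) (ι →₀ R ⧸ I)} (h₁ : IsLift I ι α₁ β₁) (h₂ : IsLift I ι α₂ β₂) :
    IsLift I ι (α₁ - α₂) (β₁ - β₂) := by
  intro y
  change redFun I ι (α₁ y - α₂ y) = β₁ (redFun I ι y) - β₂ (redFun I ι y)
  rw [redFun_sub, h₁, h₂]

lemma IsLift.pow {ι : Type u} {α : Module.End R (ι →₀ R)}
    {β : Module.End (R ⧸ I) (ι →₀ R ⧸ I)} (h : IsLift I ι α β) (n : ℕ) :
    IsLift I ι (α ^ n) (β ^ n) := by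
  induction n with
  | zero => simpa using IsLift.one I ι
  | succ n ih =>
    rw [pow_succ, pow_succ]
    exact ih.mul I h

/-- powers of an endomorphism with image in `I F` have image in `I ^ n F` -/
lemma range_pow_le {M : Type u} [AddCommGroup M] [Module R M] (ψ : Module.End R M)
    (h : LinearMap.range ψ ≤ I • (⊤ : Submodule R M)) (n : ℕ) :
    LinearMap.range (ψ ^ n) ≤ (I ^ n) • (⊤ : Submodule R M) := by
  induction n with
  | zero => simp
  | succ n ih =>
    rintro _ ⟨y, rfl⟩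
    rw [pow_succ]
    change (ψ ^ n) (ψ y) ∈ _
    have h1 : ψ y ∈ I • (⊤ : Submodule R M) := h ⟨y, rfl⟩
    have h2 : (ψ ^ n) (ψ y) ∈ Submodule.map (ψ ^ n) (I • (⊤ : Submodule R M)) := ⟨_, h1, rfl⟩
    rw [Submodule.map_smul'', Submodule.map_top] at h2
    have h3 : I • LinearMap.range (ψ ^ n) ≤ I • ((I ^ n) • (⊤ : Submodule R M)) :=
      Submodule.smul_mono le_rfl ih
    have h4 := h3 h2
    rw [← Submodule.mul_smul, ← pow_succ'] at h4
    exact h4

/-- lifting a projective module along `R → R ⧸ I`, `I` nilpotent -/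
theorem exists_lift_projective (hI : IsNilpotent I) (E : ModuleCat.{u} (R ⧸ I))
    [Module.Projective (R ⧸ I) E] :
    ∃ (X : ModuleCat.{u} R), Module.Projective R X ∧
      ∃ ρ : X ⟶ (ModuleCat.restrictScalars (Ideal.Quotient.mk I)).obj E,
        Function.Surjective ρ.hom ∧ LinearMap.ker ρ.hom = I • (⊤ : Submodule R X) := by
  classical
  let ι : Type u := E
  let F := ModuleCat.restrictScalars (Ideal.Quotient.mk I)
  let pb : (ι →₀ R ⧸ I) →ₗ[R ⧸ I] E := Finsupp.linearCombination (R ⧸ I) (id : E → E)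
  have hpb : Function.Surjective pb := Finsupp.linearCombination_id_surjective (R ⧸ I) E
  obtain ⟨sb, hsb⟩ := Module.projective_lifting_property pb LinearMap.id hpb
  have hsb' : ∀ m, pb (sb m) = m := fun m => LinearMap.congr_fun hsb m
  let eb : Module.End (R ⧸ I) (ι →₀ R ⧸ I) := sb ∘ₗ pb
  have heb : IsIdempotentElem eb := by
    apply LinearMap.ext
    intro z
    change sb (pb (sb (pb z))) = sb (pb z)
    rw [hsb']
  obtain ⟨φ, hφ⟩ := Module.projective_lifting_property (redF I ι).hom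
    ((redF I ι ≫ F.map (ModuleCat.ofHom eb)).hom) (redF_surjective I ι)
  have hφl : IsLift I ι φ eb := fun y => LinearMap.congr_fun hφ y
  obtain ⟨n, hn⟩ := hI
  have hn' : I ^ (n + 1) = 0 := by rw [pow_succ, hn, zero_mul]
  -- `φ - φ ^ 2` is nilpotent
  have hψl : IsLift I ι (φ - φ ^ 2) (eb - eb ^ 2) := hφl.sub I (hφl.pow I 2)
  have heb2 : eb - eb ^ 2 = 0 := by
    rw [pow_two, heb.eq]
    exact sub_self eb
  have hψ : LinearMap.range (φ - φ ^ 2) ≤ I • (⊤ : Submodule R (ι →₀ R)) := by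
    rintro _ ⟨y, rfl⟩
    rw [← ker_redF, LinearMap.mem_ker]
    change redFun I ι ((φ - φ ^ 2) y) = 0
    rw [hψl y, heb2]
    rfl
  have hψn : (φ - φ ^ 2) ^ (n + 1) = 0 := by
    apply LinearMap.ext
    intro y
    have := range_pow_le I (φ - φ ^ 2) hψ (n + 1) ⟨y, rfl⟩
    rw [hn', Ideal.zero_eq_bot, Submodule.bot_smul] at this
    exact (Submodule.mem_bot R).1 this
  let e' : Module.End R (ι →₀ R) := 1 - (1 - φ ^ (n + 1)) ^ (n + 1)
  have he' : IsIdempotentElem e' := isIdempotentElem_one_sub_one_sub_pow_pow φ (n + 1) hψn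
  have he'l : IsLift I ι e' eb := by
    have h1 : IsLift I ι e' (1 - (1 - eb ^ (n + 1)) ^ (n + 1)) :=
      (IsLift.one I ι).sub I ((((IsLift.one I ι).sub I (hφl.pow I (n + 1)))).pow I (n + 1))
    have h1m : IsIdempotentElem (1 - eb) := by
      have := @IsIdempotentElem.one_sub (Module.End (R ⧸ I) (ι →₀ R ⧸ I)) _ eb heb
      exact this
    have h2 : (1 - (1 - eb ^ (n + 1)) ^ (n + 1)) = eb := by
      rw [heb.pow_succ_eq, h1m.pow_succ_eq]
      exact sub_sub_cancel 1 eb
    rwa [h2] at h1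
  let X : Submodule R (ι →₀ R) := LinearMap.range e'
  have hX : ∀ x ∈ X, e' x = x := by
    rintro _ ⟨y, rfl⟩
    exact LinearMap.congr_fun he'.eq y
  have hXproj : Module.Projective R X :=
    Module.Projective.of_split X.subtype (LinearMap.rangeRestrict e') (by
      apply LinearMap.ext
      rintro ⟨x, hx⟩
      apply Subtype.ext
      exact hX x hx)
  let ρ : ModuleCat.of R X ⟶ F.obj E :=
    ModuleCat.ofHom X.subtype ≫ redF I ι ≫ F.map (ModuleCat.ofHom pb)
  have hρ : ∀ x : X, (show E from ρ.hom x) = pb (redFun I ι (x : ι →₀ R)) := fun x => rfl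
  refine ⟨ModuleCat.of R X, hXproj, ρ, ?_, ?_⟩
  · intro m
    obtain ⟨y, hy⟩ := redF_surjective I ι (sb (show E from m))
    have hy' : redFun I ι y = sb (show E from m) := hy
    refine ⟨⟨e' y, ⟨y, rfl⟩⟩, ?_⟩
    change pb (redFun I ι (e' y)) = m
    rw [he'l y, hy']
    change pb (sb (pb (sb m))) = m
    rw [hsb', hsb']
  · apply le_antisymm
    · rintro ⟨x, hx⟩ hxρ
      have h0 : pb (redFun I ι x) = 0 := LinearMap.mem_ker.1 hxρ
      have h1 : redFun I ι x = 0 := by
        rw [← hX x hx, he'l x]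
        change sb (pb (redFun I ι x)) = 0
        rw [h0, map_zero]
      have h2 : x ∈ I • (⊤ : Submodule R (ι →₀ R)) := by
        rw [← ker_redF]
        exact h1
      have h3 : e' x ∈ Submodule.map e' (I • (⊤ : Submodule R (ι →₀ R))) := ⟨x, h2, rfl⟩
      rw [Submodule.map_smul'', Submodule.map_top, hX x hx] at h3
      have h4 : I • X = Submodule.map X.subtype (I • (⊤ : Submodule R X)) := by
        rw [Submodule.map_smul'', Submodule.map_subtype_top]
      rw [h4] at h3
      obtain ⟨x', hx', hx''⟩ := h3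
      have : x' = ⟨x, hx⟩ := Subtype.ext hx''
      rw [← this]
      exact hx'
    · rw [Submodule.smul_le]
      intro a ha x _
      rw [LinearMap.mem_ker, map_smul]
      change (Ideal.Quotient.mk I a) • (show E from ρ.hom x) = 0
      rw [Ideal.Quotient.eq_zero_iff_mem.2 ha, zero_smul]

end Groth.Agent.H28.LiftNilp
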