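import Mathlib
import Groth.Agent.H28.LiftNilp2
import Groth.Agent.H28.LiftQIso
import Groth.Agent.H35.NilpPC

/-!
# Lifting complexes of projective modules along `R → R ⧸ I`, `I` nilpotent (helper28)
-/

open CategoryTheory Limits TensorProduct

namespace Groth.Agent.H28.LiftNilp

universe u

open Groth.Agent.H35.KF Groth.Agent.H35.LT DerivedCategory

attribute [local instance] HasDerivedCategory.standard

variable {R : Type u} [CommRing R] (I : Ideal R)

/-- the class of projective modules -/
def projClass (R : Type u) [CommRing R] : ObjectProperty (ModuleCat.{u} R) :=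
  fun X => Module.Projective R X

instance : (projClass R).IsClosedUnderIsomorphisms where
  of_iso {X Y} e h := by
    have h' : Module.Projective R X := h
    exact Module.Projective.of_equiv e.toLinearEquiv

lemma projClass_prod_iff (X Y : ModuleCat.{u} R) (hX : projClass R X) :
    projClass R (ModuleCat.of R (X × Y)) ↔ projClass R Y := by
  have hX' : Module.Projective R X := hX
  constructor
  · intro h
    have h' : Module.Projective R (X × Y) := h
    exact Module.Projective.of_split (LinearMap.inr R X Y) (LinearMap.snd R X Y)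
      (LinearMap.ext fun _ => rfl)
  · intro h
    have h' : Module.Projective R Y := h
    exact (inferInstance : Module.Projective R (X × Y))

/-- S6970 -/
theorem exists_lift_projective_rep (hI : IsNilpotent I)
    [DRing.HasLBaseChange (Ideal.Quotient.mk I)] (K : Dual.D R)
    (E : DRing.Cx (R ⧸ I)) (b : ℤ) (hEb : DRing.VanishesAbove E b)
    (hEp : ∀ i : ℤ, Module.Projective (R ⧸ I) (E.X i))
    (hE : Nonempty (DRing.toD E ≅ (DRing.LBaseChange (Ideal.Quotient.mk I)).obj K)) :
    ∃ (P : DRing.Cx R) (b' : ℤ), DRing.VanishesAbove P b' ∧ (∀ i : ℤ, Module.Projective R (P.X i)) ∧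
      Nonempty (DRing.toD P ≅ K) ∧ Nonempty ((((ModuleCat.extendScalars (Ideal.Quotient.mk I)).mapHomologicalComplex (ComplexShape.up ℤ)).obj P) ≅ E) := by
  obtain ⟨e⟩ := hE
  have hnil : IsNilpotent (RingHom.ker (Ideal.Quotient.mk I)) := by
    rw [Ideal.mk_ker]
    exact hI
  have hacY : ∀ i : ℤ, b < i → IsZero ((DerivedCategory.homologyFunctor (ModuleCat.{u} (R ⧸ I)) i).obj
      ((DRing.LBaseChange (Ideal.Quotient.mk I)).obj K)) := by
    intro i hi
    refine IsZero.of_iso ?_
      ((DerivedCategory.homologyFunctor (ModuleCat.{u} (R ⧸ I)) i).mapIso e.symm)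
    exact isZero_homology_of_exactAt _ i (HomologicalComplex.ExactAt.of_isZero (hEb i hi))
  have hac := Groth.Agent.H35.NilpPC.isZero_homology_above_of_LBaseChange (Ideal.Quotient.mk I)
    Ideal.Quotient.mk_surjective hnil K b hacY
  obtain ⟨Qc, hQb, hQproj, ⟨eQ⟩⟩ := Groth.Agent.H35.exists_projective_rep K b hac
  have hEt : ∀ i : ℤ, ∃ X : ModuleCat.{u} R, projClass R X ∧
      Nonempty (TensorProduct R (R ⧸ I) X ≃ₗ[R ⧸ I] E.X i) := by
    intro i
    have := hEp i
    obtain ⟨X, hXp, ρ, hρ, hk⟩ := exists_lift_projective I hI (E.X i)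
    exact ⟨X, hXp, Groth.Agent.H28.LiftTensor.nonempty_tensor_equiv I X (E.X i) ρ hρ hk⟩
  exact Groth.Agent.H28.LiftQIso.exists_lift_rep I (projClass R) (fun _ h => h)
    projClass_prod_iff
    (fun X Y f _ _ h => LinearMap.range_eq_top.1
      (Groth.Agent.H35.NilpPC.eq_top_of_sup_smul_eq_top_of_isNilpotent I hI _ h))
    K ⟨Qc, b, hQb, hQproj, ⟨eQ⟩⟩ E b hEb hEt ⟨e⟩

end Groth.Agent.H28.LiftNilp
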