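import Mathlib
import Groth.Agent.H28.MinCx2
import Groth.Agent.H28.LiftJac3

/-!
# Minimal complexes over a local ring (helper28)
-/

open CategoryTheory Limits Pretriangulated

namespace Groth.Agent.H28.MinCx

universe u

open CochainComplex DerivedCategory Groth.Agent.H35.KF Groth.Agent.H35.LT

attribute [local instance] HasDerivedCategory.standard

section Rank

variable {A B : Type u} [CommRing A] [CommRing B] (φ : A →+* B)

lemma finrank_extendScalars [Nontrivial A] [Nontrivial B] (X : ModuleCat.{u} A) [Module.Free A X] :
    Module.finrank B ((ModuleCat.extendScalars.{u, u, u} φ).obj X) = Module.finrank A X := by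
  algebraize [φ]
  change Module.finrank B (TensorProduct A B X) = _
  exact Module.finrank_baseChange

end Rank

section Local

variable {R : Type u} [CommRing R] [IsLocalRing R]
  [DRing.HasLBaseChange (IsLocalRing.residue R)]

/-- the minimality predicate of S6972 -/
def IsMinimal (K : Dual.D R) (P : DRing.Cx R) : Prop :=
  (∃ b : ℤ, DRing.VanishesAbove P b) ∧
    (∀ i : ℤ, Module.Free R (P.X i) ∧ Module.Finite R (P.X i) ∧
      Module.finrank R (P.X i) = Module.finrank (IsLocalRing.ResidueField R)
        (Dual.HD (IsLocalRing.ResidueField R)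
          ((DRing.LBaseChange (IsLocalRing.residue R)).obj K) i)) ∧
    Nonempty (DRing.toD P ≅ K)

lemma isKFlat_of_isMinimal (K : Dual.D R) (P : DRing.Cx R) (h : IsMinimal K P) : IsKFlat P := by
  obtain ⟨⟨b, hb⟩, hP, -⟩ := h
  exact isKFlat_of_bounded_flat P b hb (fun i => by
    have := (hP i).1
    infer_instance)

/-- the reduction of a minimal complex has zero differentials -/
lemma extCx_d_eq_zero (K : Dual.D R) (P : DRing.Cx R) (h : IsMinimal K P) (i j : ℤ) :
    ((extCx (IsLocalRing.residue R)).obj P).d i j = 0 := by
  have hKF := isKFlat_of_isMinimal K P h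
  obtain ⟨⟨b, hb⟩, hP, ⟨eP⟩⟩ := h
  let V := (extCx (IsLocalRing.residue R)).obj P
  have key : ∀ i : ℤ, V.d (i - 1) i = 0 ∧ V.d i (i + 1) = 0 := by
    intro i
    have := (hP i).1
    have := (hP i).2.1
    haveI : Module.Finite (IsLocalRing.ResidueField R) (V.X i) :=
      finite_extendScalars (IsLocalRing.residue R) (P.X i)
    refine d_eq_zero_of_finrank_homology_eq V i ?_
    have e1 : Module.finrank (IsLocalRing.ResidueField R) (V.X i) = Module.finrank R (P.X i) :=
      finrank_extendScalars (IsLocalRing.residue R) (P.X i)
    let ι : (DerivedCategory.homologyFunctor (ModuleCat.{u} (IsLocalRing.ResidueField R)) i).obj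
        ((DRing.LBaseChange (IsLocalRing.residue R)).obj K) ≅ V.homology i :=
      (DerivedCategory.homologyFunctor _ i).mapIso
        ((DRing.LBaseChange (IsLocalRing.residue R)).mapIso eP.symm) ≪≫
        Groth.Agent.H28.PCohLocal.homologyLBaseChangeIso (IsLocalRing.residue R) P hKF i
    have e2 := ι.toLinearEquiv.finrank_eq
    rw [e1, (hP i).2.2]
    exact e2.symm
  by_cases hij : i + 1 = j
  · subst hij
    exact (key i).2
  · exact V.shape i j hij

end Local

end Groth.Agent.H28.MinCx
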