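import Groth.Agent.H35.ConeRep
import Groth.Agent.H73.ConeQis

/-!
# Strictly perfect complexes relative to a liftable class of objects (SGA 6 I §2, punctual case)
-/

set_option autoImplicit false

universe w v u

open CategoryTheory CategoryTheory.Limits

namespace Groth.Agent.H28.StrictPerf

variable {C : Type u} [Category.{v} C] [Abelian C] (P : ObjectProperty C)

/-- objects onto which every epimorphism splits are projective -/
lemma projective_of_lift (hlift : ∀ (E F : C) (u : E ⟶ F), Epi u → P F → IsSplitEpi u) {F : C}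
    (hF : P F) : Projective F := by
  constructor
  intro X Y f e he
  have hepi : Epi (pullback.snd e f) := inferInstance
  obtain ⟨⟨s, hs⟩⟩ := hlift _ _ (pullback.snd e f) hepi hF
  refine ⟨s ≫ pullback.fst e f, ?_⟩
  rw [Category.assoc, pullback.condition, ← Category.assoc, hs, Category.id_comp]

lemma prop_biprod [P.IsClosedUnderIsomorphisms] (hsum : ∀ X Y : C, P X → P Y → P (X ⨯ Y))
    {X Y : C} (hX : P X) (hY : P Y) : P (X ⊞ Y) :=
  P.prop_of_iso (biprod.isoProd X Y).symm (hsum X Y hX hY)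

lemma isKProjective_of_bounded
    (hlift : ∀ (E F : C) (u : E ⟶ F), Epi u → P F → IsSplitEpi u)
    (E : CochainComplex C ℤ) (hP : ∀ i : ℤ, P (E.X i)) (b : ℤ)
    (hb : ∀ i : ℤ, b < i → IsZero (E.X i)) : E.IsKProjective := by
  have : E.IsStrictlyLE b := by
    rw [CochainComplex.isStrictlyLE_iff]
    exact hb
  have : ∀ n : ℤ, Projective (E.X n) := fun n => projective_of_lift P hlift (hP n)
  exact CochainComplex.isKProjective_of_projective E b

lemma prop_mappingCone [P.IsClosedUnderIsomorphisms]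
    (hsum : ∀ X Y : C, P X → P Y → P (X ⨯ Y)) {E₁ E₂ : CochainComplex C ℤ} (a : E₁ ⟶ E₂) (i : ℤ)
    (h₁ : P (E₁.X (i + 1))) (h₂ : P (E₂.X i)) : P ((CochainComplex.mappingCone a).X i) :=
  P.prop_of_iso (Groth.Agent.H35.mappingConeXIso a i).symm (prop_biprod P hsum h₁ h₂)

lemma isZero_mappingCone {E₁ E₂ : CochainComplex C ℤ} (a : E₁ ⟶ E₂) (i : ℤ)
    (h₁ : IsZero (E₁.X (i + 1))) (h₂ : IsZero (E₂.X i)) :
    IsZero ((CochainComplex.mappingCone a).X i) := by
  refine IsZero.of_iso ?_ (Groth.Agent.H35.mappingConeXIso a i)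
  rw [IsZero.iff_id_eq_zero]
  apply biprod.hom_ext
  · rw [Category.id_comp, zero_comp]; exact h₁.eq_of_tgt _ _
  · rw [Category.id_comp, zero_comp]; exact h₂.eq_of_tgt _ _

/-- an extension of objects of `P` is in `P` (the quotient being projective) -/
lemma prop_of_epi_of_kernel [P.IsClosedUnderIsomorphisms]
    (hsum : ∀ X Y : C, P X → P Y → P (X ⨯ Y))
    (hlift : ∀ (E F : C) (u : E ⟶ F), Epi u → P F → IsSplitEpi u)
    {B C' : C} (p : B ⟶ C') [Epi p] (hK : P (kernel p)) (hC : P C') : P B := by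
  obtain ⟨⟨s, hs⟩⟩ := hlift _ _ p inferInstance hC
  let S : ShortComplex C := ShortComplex.mk (kernel.ι p) p (kernel.condition p)
  have hS : S.Exact := ShortComplex.exact_of_f_is_kernel S (kernelIsKernel p)
  have hm : Mono S.f := inferInstanceAs (Mono (kernel.ι p))
  have spl := ShortComplex.Splitting.ofExactOfSection S hS s hs hm
  exact P.prop_of_iso spl.isoBinaryBiproduct.symm (prop_biprod P hsum hK hC)

lemma prop_of_biprod_left [P.IsClosedUnderIsomorphisms]
    (hst : ∀ (E F : C) (u : E ⟶ F), Epi u → P E → P F → P (kernel u))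
    {X Y : C} (h : P (X ⊞ Y)) (hX : P X) : P Y :=
  P.prop_of_iso (kernelBiprodFstIso (X := X) (Y := Y)) (hst _ _ (biprod.fst : X ⊞ Y ⟶ X) inferInstance h hX)

section Cycles

variable (K : CochainComplex C ℤ)

lemma epi_toCycles_of_exactAt (i j : ℤ) (hij : i + 1 = j) (h : K.ExactAt j) :
    Epi (K.toCycles i j) := by
  rw [epi_iff_surjective_up_to_refinements]
  intro A y
  obtain ⟨A', π, hπ, x₁, hx₁⟩ := (K.exactAt_iff_exact_up_to_refinements i j (j + 1)
    (by simp [← hij]) (by simp)).mp h (y ≫ K.iCycles j) (by simp)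
  refine ⟨A', π, hπ, x₁, ?_⟩
  rw [← cancel_mono (K.iCycles j), Category.assoc, Category.assoc, K.toCycles_i, hx₁]

lemma mono_d_of_exactAt (i j : ℤ) (hij : i + 1 = j) (h : K.ExactAt i)
    (h0 : IsZero (K.X (i - 1))) : Mono (K.d i j) := by
  apply Preadditive.mono_of_cancel_zero
  intro A x hx
  obtain ⟨A', π, hπ, x₁, hx₁⟩ := (K.exactAt_iff_exact_up_to_refinements (i - 1) i j
    (by simp) (by simp [← hij])).mp h x hx
  rw [h0.eq_of_tgt x₁ 0, zero_comp] at hx₁
  rw [← cancel_epi π, hx₁, comp_zero]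

/-- the kernel of `Kⁱ ⟶ Z^{i+1}` is `Zⁱ` -/
noncomputable def kernelToCyclesIso (i j : ℤ) (hij : i + 1 = j) :
    kernel (K.toCycles i j) ≅ K.cycles i :=
  (kernelCompMono (K.toCycles i j) (K.iCycles j)).symm ≪≫
    kernelIsoOfEq (K.toCycles_i i j) ≪≫
    IsLimit.conePointUniqueUpToIso (kernelIsKernel (K.d i j))
      (K.cyclesIsKernel i j (by simp [← hij]))

lemma isZero_cycles_of_isZero (i : ℤ) (h : IsZero (K.X i)) : IsZero (K.cycles i) :=
  IsZero.of_mono (K.iCycles i) h

/-- cycles of an exact bounded above complex with terms in `P` from degree `m` on are in `P`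
from degree `m` on -/
lemma prop_cycles_of_exact [P.IsClosedUnderIsomorphisms] [P.ContainsZero]
    (hst : ∀ (E F : C) (u : E ⟶ F), Epi u → P E → P F → P (kernel u))
    (b : ℤ) (hb : ∀ i : ℤ, b < i → IsZero (K.X i)) (m : ℤ)
    (hK : ∀ i : ℤ, m < i → K.ExactAt i)
    (hP : ∀ i : ℤ, m ≤ i → P (K.X i)) : ∀ i : ℤ, m ≤ i → P (K.cycles i) := by
  have key : ∀ (k : ℕ) (i : ℤ), m ≤ i → b + 1 - i ≤ k → P (K.cycles i) := by
    intro k
    induction k with
    | zero =>
      intro i _ hik
      exact P.prop_of_isZero (isZero_cycles_of_isZero K i (hb i (by omega)))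
    | succ k ih =>
      intro i hmi hik
      have hepi : Epi (K.toCycles i (i + 1)) := epi_toCycles_of_exactAt K i (i + 1) rfl
        (hK _ (by omega))
      have h1 : P (K.cycles (i + 1)) := ih (i + 1) (by omega) (by push_cast at hik; omega)
      exact P.prop_of_iso (kernelToCyclesIso K i (i + 1) rfl)
        (hst _ _ (K.toCycles i (i + 1)) hepi (hP i hmi) h1)
  intro i hi
  exact key (b + 1 - i).toNat i hi (by omega)

end Cycles

end Groth.Agent.H28.StrictPerf
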