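import Groth.Agent.H28.PCohModify
import Groth.Agent.H28.StrictPerf

/-!
# The one-degree modification, split form
-/

set_option autoImplicit false

universe v u

open CategoryTheory CategoryTheory.Limits CochainComplex HomComplex

namespace Groth.Agent.H28.PCohCore

open Groth.Agent.H28.ConeCoord

variable {C : Type u} [Category.{v} C] [Abelian C]

section Attach

variable {E F : CochainComplex C ℤ} (u : E ⟶ F) {n n1 n2 : ℤ} (hn1 : n + 1 = n1)
  (hn2 : n1 + 1 = n2) {L : C} (ζ₁ : L ⟶ E.X n1) (ζ₂ : L ⟶ F.X n)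
  (hζ₁ : ζ₁ ≫ E.d n1 n2 = 0) (hζ : ζ₁ ≫ u.f n1 + ζ₂ ≫ F.d n n1 = 0)

include hn1 hn2 hζ₁ hζ in
/-- the one-degree modification: general form -/
theorem exists_modification_split
    (hyp : ∀ ⦃T : C⦄ (a : T ⟶ E.X n1) (f : T ⟶ F.X n), a ≫ E.d n1 n2 = 0 →
      a ≫ u.f n1 + f ≫ F.d n n1 = 0 →
      ∃ (T' : C) (π : T' ⟶ T) (_ : Epi π) (l : T' ⟶ L) (e' : T' ⟶ E.X n)
        (y' : T' ⟶ F.X (n - 1)),
        π ≫ a = l ≫ ζ₁ - e' ≫ E.d n n1 ∧
          π ≫ f = l ≫ ζ₂ + e' ≫ u.f n + y' ≫ F.d (n - 1) n) :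
    ∃ (E' : CochainComplex C ℤ) (v : E ⟶ E') (u' : E' ⟶ F), v ≫ u' = u ∧
      (∀ i : ℤ, Mono (v.f i)) ∧ (∀ i : ℤ, i ≠ n → IsIso (v.f i)) ∧
      Nonempty (cokernel (v.f n) ≅ L) ∧ Nonempty (E'.X n ≅ L ⊞ E.X n) ∧
      Epi (HomologicalComplex.homologyMap u' n) ∧
      Mono (HomologicalComplex.homologyMap u' n1) := by
  let φ := attachMap hn2 ζ₁ hζ₁
  let α := attachCochain hn1 ζ₂
  have eq : δ (-1) 0 α = Cochain.ofHom (φ ≫ u) := δ_attachCochain u hn1 hn2 ζ₁ ζ₂ hζ₁ hζ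
  let s : ((singleFunctor C n1).obj L).X n1 ≅ L :=
    HomologicalComplex.singleObjXSelf (.up ℤ) n1 L
  have hφ : ∀ {T : C} (l : T ⟶ L), (l ≫ s.inv) ≫ φ.f n1 = l ≫ ζ₁ := by
    intro T l
    rw [attachMap_f]
    change (l ≫ s.inv) ≫ (s.hom ≫ ζ₁) = _
    rw [Category.assoc, Iso.inv_hom_id_assoc]
  have hα : ∀ {T : C} (l : T ⟶ L), (l ≫ s.inv) ≫ α.v n1 n (by lia) = -l ≫ ζ₂ := by
    intro T l
    rw [attachCochain_v]
    change (l ≫ s.inv) ≫ (s.hom ≫ (-ζ₂)) = _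
    rw [Category.assoc, Iso.inv_hom_id_assoc, Preadditive.comp_neg]
  have hAd : ∀ i j : ℤ, ((singleFunctor C n1).obj L).d i j = 0 := fun i j => rfl
  have hAz : ∀ i : ℤ, i ≠ n1 → IsZero (((singleFunctor C n1).obj L).X i) := fun i hi =>
    HomologicalComplex.isZero_single_obj_X (.up ℤ) n1 L i hi
  refine ⟨mappingCone φ, mappingCone.inr φ, mappingCone.desc φ α u eq,
    mappingCone.inr_desc φ α u eq, ?_, ?_, ?_, ?_, ?_, ?_⟩
  · intro i
    exact mono_of_mono_fac (mappingCone.inr_f_snd_v φ i)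
  · intro i hi
    have hz : (mappingCone.fst φ).1.v i (i + 1) rfl = 0 :=
      (hAz (i + 1) (by lia)).eq_of_tgt _ _
    have h := mappingCone.id_X φ i (i + 1) rfl
    rw [hz, zero_comp, zero_add] at h
    exact ⟨(mappingCone.snd φ).v i i (add_zero i), mappingCone.inr_f_snd_v φ i, h⟩
  · refine ⟨⟨cokernel.desc _ ((mappingCone.fst φ).1.v n n1 hn1 ≫ s.hom) (by simp),
      s.inv ≫ (mappingCone.inl φ).v n1 n (by lia) ≫ cokernel.π _, ?_, ?_⟩⟩
    · rw [← cancel_epi (cokernel.π _)]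
      have h := mappingCone.id_X φ n n1 hn1
      simp only [cokernel.π_desc_assoc, Category.assoc, Iso.hom_inv_id_assoc, Category.comp_id]
      rw [← Category.assoc, eq_sub_of_add_eq h, Preadditive.sub_comp, Category.id_comp,
        Category.assoc, cokernel.condition, comp_zero, sub_zero]
    · simp
  · exact ⟨HomologicalComplex.homotopyCofiber.XIsoBiprod φ n n1 hn1 ≪≫
      biprod.mapIso s (Iso.refl _)⟩
  · rw [HomologicalComplex.epi_homologyMap_iff_up_to_refinements _ (n - 1) n n1 (by simp)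
      (by simp [hn1])]
    intro T y₂ hy₂
    obtain ⟨T', π, hπ, l, e', y', h1, h2⟩ := hyp (0 : T ⟶ E.X n1) y₂ (by simp) (by simpa using hy₂)
    rw [comp_zero] at h1
    refine ⟨T', π, hπ, mk φ hn1 (-l ≫ s.inv) e', ?_, y', ?_⟩
    · rw [mk_d hn1 hn2, mk_eq_zero_iff]
      constructor
      · rw [hAd]
        simp
      · rw [Preadditive.neg_comp, hφ, sub_eq_zero.mp h1.symm]
        simp
    · rw [mk_desc, Preadditive.neg_comp, hα, h2]
      simp
  · rw [HomologicalComplex.mono_homologyMap_iff_up_to_refinements _ n n1 n2 (by simp [← hn1])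
      (by simp [hn2])]
    intro T x₂ hx₂ y₁ hy₁
    rw [eq_mk hn2 x₂] at hx₂ hy₁ ⊢
    have hz : x₂ ≫ (mappingCone.fst φ).1.v n1 n2 hn2 = 0 :=
      (hAz n2 (by lia)).eq_of_tgt _ _
    rw [hz] at hx₂ hy₁ ⊢
    generalize x₂ ≫ (mappingCone.snd φ).v n1 n1 (add_zero n1) = e at hx₂ hy₁ ⊢
    have hn3 : n2 + 1 = n2 + 1 := rfl
    rw [mk_d hn2 hn3, mk_eq_zero_iff] at hx₂
    simp only [zero_comp, neg_zero, zero_add, true_and] at hx₂
    rw [mk_desc] at hy₁
    simp only [zero_comp, zero_add] at hy₁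
    obtain ⟨T', π, hπ, l, e', y', h1, h2⟩ := hyp (-e) y₁ (by simp [hx₂])
      (by rw [Preadditive.neg_comp, hy₁]; simp)
    refine ⟨T', π, hπ, mk φ hn1 (-l ≫ s.inv) e', ?_⟩
    rw [mk_d hn1 hn2, comp_mk, mk_eq_mk_iff]
    constructor
    · rw [hAd]
      simp
    · rw [Preadditive.neg_comp, hφ]
      rw [Preadditive.comp_neg] at h1
      rw [neg_eq_iff_eq_neg.mp h1]
      abel

end Attach

/-- SGA 6 I 2.?: one step modification -/
theorem exists_modification_of_finiteType_split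
    (P : ObjectProperty C) [P.IsClosedUnderIsomorphisms]
    (hsum : ∀ X Y : C, P X → P Y → P (X ⨯ Y)) (hql : PCoh.IsQuasiLiftable P)
    (n : ℤ) (E F : CochainComplex C ℤ) (u : E ⟶ F)
    (hiso : ∀ i : ℤ, n + 1 < i → IsIso (HomologicalComplex.homologyMap u i))
    (hepi : Epi (HomologicalComplex.homologyMap u (n + 1)))
    (hcone : PCoh.IsOfFiniteType P ((CochainComplex.mappingCone u).homology n)) :
    ∃ (E' : CochainComplex C ℤ) (v : E ⟶ E') (u' : E' ⟶ F), v ≫ u' = u ∧ (∀ i : ℤ, Mono (v.f i)) ∧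
      (∀ i : ℤ, i ≠ n → IsIso (v.f i)) ∧ P (cokernel (v.f n)) ∧ (P (E.X n) → P (E'.X n)) ∧
      (∀ i : ℤ, n < i → IsIso (HomologicalComplex.homologyMap u' i)) ∧
      Epi (HomologicalComplex.homologyMap u' n) := by
  obtain ⟨L, ζ, hL, hζepi⟩ := exists_epi_to_homology P hql (mappingCone u) n hcone
  have hn1 : n + 1 = n + 1 := rfl
  have hn2 : (n + 1) + 1 = n + 2 := by lia
  have hn0 : (n - 1) + 1 = n := by lia
  have hζ₀ : (ζ ≫ (mappingCone u).iCycles n) ≫ (mappingCone u).d n (n + 1) = 0 := by simp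
  rw [eq_mk hn1 (ζ ≫ (mappingCone u).iCycles n), mk_d hn1 hn2, mk_eq_zero_iff] at hζ₀
  obtain ⟨hζ₁, hζ⟩ := hζ₀
  rw [neg_eq_zero] at hζ₁
  obtain ⟨E', v, u', hvu, hmono, hisov, ⟨e⟩, ⟨e'⟩, hepi', hmono'⟩ :=
    exists_modification_split u hn1 hn2 _ _ hζ₁ hζ (by
      intro T a f ha haf
      obtain ⟨T', π, hπ, l, c', hc'⟩ := cycle_decomp (mappingCone u) (n - 1) n (n + 1) hn0 hn1 ζ
        hζepi (mk u hn1 a f) (by rw [mk_d hn1 hn2, ha, haf]; simp [mk_eq_zero_iff])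
      refine ⟨T', π, hπ, l, c' ≫ (mappingCone.fst u).1.v (n - 1) n hn0,
        c' ≫ (mappingCone.snd u).v (n - 1) (n - 1) (add_zero _), ?_⟩
      rw [eq_mk hn0 c', eq_mk hn1 (ζ ≫ (mappingCone u).iCycles n), mk_d hn0 hn1, comp_mk, comp_mk,
        mk_add, mk_eq_mk_iff] at hc'
      obtain ⟨h1, h2⟩ := hc'
      refine ⟨?_, ?_⟩
      · rw [h1]
        abel
      · rw [h2]
        abel)
  refine ⟨E', v, u', hvu, hmono, hisov, P.prop_of_iso e.symm hL,
    fun hE => P.prop_of_iso e'.symm (StrictPerf.prop_biprod P hsum hL hE), ?_, hepi'⟩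
  intro i hi
  have hcomp := HomologicalComplex.homologyMap_comp v u' i
  rw [hvu] at hcomp
  by_cases hi' : i = n + 1
  · subst hi'
    have : Epi (HomologicalComplex.homologyMap u' (n + 1)) := by
      rw [hcomp] at hepi
      exact epi_of_epi (HomologicalComplex.homologyMap v (n + 1)) _
    exact isIso_of_mono_of_epi _
  · have : QuasiIsoAt v i := quasiIsoAt_of_isIso_f v (i - 1) i (i + 1) (by lia) rfl
      (by have := hisov (i - 1) (by lia); infer_instance) (hisov i (by lia)) (hmono _)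
    have := hiso i (by lia)
    have : IsIso (HomologicalComplex.homologyMap v i) :=
      (quasiIsoAt_iff_isIso_homologyMap v i).mp inferInstance
    exact IsIso.of_isIso_fac_left hcomp.symm

end Groth.Agent.H28.PCohCore
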