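import Groth.Agent.H28.PCohResolve
import Groth.Agent.H28.PCohStep
import Mathlib.Algebra.Homology.DerivedCategory.Fractions

/-!
# Pseudo-coherence in the derived category (punctual site)
-/

set_option autoImplicit false

universe w v u

open CategoryTheory CategoryTheory.Limits CochainComplex HomComplex

open scoped ZeroObject

namespace Groth.Agent.H28.PCohDer

open Groth.Agent.H28 Groth.Agent.H28.PCohCore DerivedCategory

variable {C : Type u} [Category.{v} C] [Abelian C]

section Translate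

variable [HasDerivedCategory.{w} C]

lemma isIso_homologyMap_iff {K L : CochainComplex C ℤ} (t : K ⟶ L) (i : ℤ) :
    IsIso (HomologicalComplex.homologyMap t i) ↔
      IsIso ((DerivedCategory.homologyFunctor C i).map (Q.map t)) :=
  (NatIso.isIso_map_iff (DerivedCategory.homologyFunctorFactors C i) t).symm

lemma epi_homologyMap_iff {K L : CochainComplex C ℤ} (t : K ⟶ L) (i : ℤ) :
    Epi (HomologicalComplex.homologyMap t i) ↔
      Epi ((DerivedCategory.homologyFunctor C i).map (Q.map t)) :=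
  (epi_map_iff_of_natIso (DerivedCategory.homologyFunctorFactors C i) t).symm

lemma mono_homologyMap_iff {K L : CochainComplex C ℤ} (t : K ⟶ L) (i : ℤ) :
    Mono (HomologicalComplex.homologyMap t i) ↔
      Mono ((DerivedCategory.homologyFunctor C i).map (Q.map t)) :=
  (mono_map_iff_of_natIso (DerivedCategory.homologyFunctorFactors C i) t).symm

/-- the homology of `Q.obj K` -/
noncomputable def homologyQIso (K : CochainComplex C ℤ) (i : ℤ) :
    (DerivedCategory.homologyFunctor C i).obj (Q.obj K) ≅ K.homology i :=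
  (DerivedCategory.homologyFunctorFactors C i).app K

lemma quasiIso_of_isIso_Q_map {K L : CochainComplex C ℤ} (t : K ⟶ L) (h : IsIso (Q.map t)) :
    QuasiIso t :=
  (DerivedCategory.isIso_Q_map_iff_quasiIso (φ := t)).mp h

lemma isIso_Q_map_of_quasiIso {K L : CochainComplex C ℤ} (t : K ⟶ L) (h : QuasiIso t) :
    IsIso (Q.map t) :=
  (DerivedCategory.isIso_Q_map_iff_quasiIso (φ := t)).mpr h

end Translate

section

variable (P : ObjectProperty C) [P.IsClosedUnderIsomorphisms] [P.ContainsZero]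

/-- approximation with an explicit bound -/
def ApproxB (E : CochainComplex C ℤ) (k m : ℤ) : Prop :=
  ∃ (F' : CochainComplex C ℤ) (w : F' ⟶ E), (∀ i : ℤ, m ≤ i → IsZero (F'.X i)) ∧
    (∀ i : ℤ, P (F'.X i)) ∧ (∀ i : ℤ, i < k → IsZero (F'.X i)) ∧
    (∀ i : ℤ, k < i → IsIso (HomologicalComplex.homologyMap w i)) ∧
    Epi (HomologicalComplex.homologyMap w k)

lemma approxB_of_isZero_homology (E : CochainComplex C ℤ) (k m : ℤ)
    (hE : ∀ i : ℤ, k ≤ i → IsZero (E.homology i)) : ApproxB P E k m := by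
  have h0 : IsZero (0 : CochainComplex C ℤ) := isZero_zero _
  have h0X : ∀ i : ℤ, IsZero ((0 : CochainComplex C ℤ).X i) := fun i =>
    (HomologicalComplex.eval C (ComplexShape.up ℤ) i).map_isZero h0
  refine ⟨0, 0, fun i _ => h0X i, fun i => P.prop_of_isZero (h0X i), fun i _ => h0X i,
    ?_, ?_⟩
  · intro i hi
    have h1 := isZero_homology_of_isZero_X _ i (h0X i)
    exact ⟨⟨0, h1.eq_of_src _ _, (hE i hi.le).eq_of_src _ _⟩⟩
  · exact (hE k le_rfl).epi _

variable (hql : PCoh.IsQuasiLiftable P)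

include hql in
lemma approxB_step {E : CochainComplex C ℤ} {k m : ℤ} (hkm : k < m)
    (h : ApproxB P E (k + 1) m)
    (hcone : ∀ (F' : CochainComplex C ℤ) (w : F' ⟶ E), (∀ i : ℤ, m ≤ i → IsZero (F'.X i)) →
      (∀ i : ℤ, P (F'.X i)) → (∀ i : ℤ, k + 1 < i → IsIso (HomologicalComplex.homologyMap w i)) →
      Epi (HomologicalComplex.homologyMap w (k + 1)) →
      PCoh.IsOfFiniteType P ((mappingCone w).homology k)) :
    ApproxB P E k m := by
  obtain ⟨F', w, hb, hP, hz, hiso, hepi⟩ := h
  have hcone' := hcone F' w hb hP hiso hepi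
  obtain ⟨E', v, u', -, -, hisov, hcok, hiso', hepi'⟩ :=
    exists_modification_of_finiteType P hql k F' E w hiso hepi hcone'
  refine ⟨E', u', fun i hi => ?_, fun i => ?_, fun i hi => ?_, hiso', hepi'⟩
  · have := hisov i (by omega)
    exact IsZero.of_iso (hb i hi) (asIso (v.f i)).symm
  · by_cases hi : i = k
    · subst hi
      have h0 : v.f i = 0 := (hz i (by omega)).eq_of_src _ _
      have := isIso_cokernel_π_of_eq_zero _ h0
      exact P.prop_of_iso (asIso (cokernel.π (v.f i))).symm hcok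
    · have := hisov i hi
      exact P.prop_of_iso (asIso (v.f i)) (hP i)
  · have := hisov i (by omega)
    exact IsZero.of_iso (hz i (by omega)) (asIso (v.f i)).symm

variable (hsum : ∀ X Y : C, P X → P Y → P (X ⨯ Y))
  (hqs : PCoh.IsQuasiStableUnderKernels P)

include hsum hqs hql in
/-- approximations of a complex quasi-isomorphic to a strictly `n`-pseudo-coherent one -/
lemma approxB_of_quasiIso {n m : ℤ} (hnm : n ≤ m) {E F : CochainComplex C ℤ}
    (hF : PCoh.IsStrictPC P n F) (u : E ⟶ F) (hu : QuasiIso u)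
    (hE : ∀ i : ℤ, m ≤ i → IsZero (E.homology i)) : ApproxB P E n m := by
  have key : ∀ k : ℤ, k ≤ m → n ≤ k → ApproxB P E k m := by
    intro k hk
    induction k, hk using Int.leInductionDown with
    | base =>
      intro _
      exact approxB_of_isZero_homology P E _ _ hE
    | pred k hk ih =>
      intro hnk
      have := ih (by omega)
      rw [show k = k - 1 + 1 by omega] at this
      refine approxB_step P hql (by omega) this ?_
      intro F' w hb hP hiso hepi
      exact finiteType_homology_cone P hsum hqs hnk hF u hu w ⟨m, fun i hi => hb i hi.le⟩ hP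
        hiso hepi
  exact key n hnm le_rfl

include hsum hqs hql in
/-- Lemma A': a complex isomorphic in `D(C)` to a strictly `n`-pseudo-coherent complex receives
a quasi-isomorphism from a strictly `n`-pseudo-coherent complex -/
lemma exists_resolution_of_iso [HasDerivedCategory.{w} C] (n : ℤ) (E F₀ : CochainComplex C ℤ)
    (hF₀ : PCoh.IsStrictPC P n F₀) (e : Q.obj E ≅ Q.obj F₀) :
    ∃ (F' : CochainComplex C ℤ) (v : F' ⟶ E), PCoh.IsStrictPC P n F' ∧ QuasiIso v := by
  obtain ⟨X', s, hs, g, hg⟩ := DerivedCategory.right_fac e.hom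
  have hQg : IsIso (Q.map g) := by
    have : Q.map g = Q.map s ≫ e.hom := by rw [hg]; simp
    rw [this]
    infer_instance
  obtain ⟨F', v', hF', hv'⟩ := exists_strictPC_resolution P hsum hqs hql n X' F₀ hF₀ g
    (quasiIso_of_isIso_Q_map g hQg)
  refine ⟨F', v' ≫ s, hF', ?_⟩
  apply quasiIso_of_isIso_Q_map
  rw [Q.map_comp]
  have := isIso_Q_map_of_quasiIso v' hv'
  infer_instance

include hsum hqs hql in
/-- representing a morphism of `D(C)` out of a strictly `n`-pseudo-coherent complex -/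
lemma exists_rep_of_hom [HasDerivedCategory.{w} C] (n : ℤ) (E₀ F₁ : CochainComplex C ℤ)
    (hE₀ : PCoh.IsStrictPC P n E₀) (α : Q.obj E₀ ⟶ Q.obj F₁) :
    ∃ (E₁ : CochainComplex C ℤ) (r : E₁ ⟶ E₀) (t : E₁ ⟶ F₁), PCoh.IsStrictPC P n E₁ ∧
      QuasiIso r ∧ Q.map t = Q.map r ≫ α := by
  obtain ⟨X', s, hs, g, hg⟩ := DerivedCategory.right_fac α
  obtain ⟨E₁, r', hE₁, hr'⟩ := exists_resolution_of_iso P hql hsum hqs n X' E₀ hE₀
    (asIso (Q.map s))
  have := isIso_Q_map_of_quasiIso r' hr'
  refine ⟨E₁, r' ≫ s, r' ≫ g, hE₁, ?_, ?_⟩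
  · apply quasiIso_of_isIso_Q_map
    rw [Q.map_comp]
    infer_instance
  · rw [Q.map_comp, Q.map_comp, hg]
    simp

omit [P.ContainsZero] in
/-- an `n`-quasi-isomorphism from a strictly `n`-pseudo-coherent complex -/
lemma exists_strictPC_of_nQuasiIso (n : ℤ) (E₁ F₁ : CochainComplex C ℤ)
    (hE₁ : PCoh.IsStrictPC P n E₁) (t : E₁ ⟶ F₁)
    (hiso : ∀ i : ℤ, n < i → IsIso (HomologicalComplex.homologyMap t i))
    (hepi : Epi (HomologicalComplex.homologyMap t n)) :
    ∃ (E' : CochainComplex C ℤ) (u' : E' ⟶ F₁), PCoh.IsStrictPC P n E' ∧ QuasiIso u' := by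
  obtain ⟨E', v, u', -, hu', -, hisov⟩ := exists_quasiIso_of_nQuasiIso n E₁ F₁ t hiso hepi
  obtain ⟨⟨b, hb⟩, hP⟩ := hE₁
  refine ⟨E', u', ⟨⟨max b n, fun i hi => ?_⟩, fun i hi => ?_⟩, hu'⟩
  · have := hisov i (by omega)
    exact IsZero.of_iso (hb i (by omega)) (asIso (v.f i)).symm
  · have := hisov i hi
    exact P.prop_of_iso (asIso (v.f i)) (hP i hi)

include hsum hqs hql in
/-- Lemma C': an `n`-isomorphism in `D(C)` from a strictly `n`-pseudo-coherent complex has
`n`-pseudo-coherent target -/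
lemma isNPC_of_nIso [HasDerivedCategory.{w} C] (n : ℤ) (E₀ : CochainComplex C ℤ)
    (hE₀ : PCoh.IsStrictPC P n E₀) (F : DerivedCategory C) (α : Q.obj E₀ ⟶ F)
    (hiso : ∀ i : ℤ, n < i → IsIso ((DerivedCategory.homologyFunctor C i).map α))
    (hepi : Epi ((DerivedCategory.homologyFunctor C n).map α)) :
    ∃ E : CochainComplex C ℤ, PCoh.IsStrictPC P n E ∧ Nonempty (Q.obj E ≅ F) := by
  let F₁ := Q.objPreimage F
  let φ : Q.obj F₁ ≅ F := Q.objObjPreimageIso F
  obtain ⟨E₁, r, t, hE₁, hr, ht⟩ := exists_rep_of_hom P hql hsum hqs n E₀ F₁ hE₀ (α ≫ φ.inv)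
  have hQr := isIso_Q_map_of_quasiIso r hr
  obtain ⟨E', u', hE', hu'⟩ := exists_strictPC_of_nQuasiIso P n E₁ F₁ hE₁ t
    (by
      intro i hi
      rw [isIso_homologyMap_iff, ht, Functor.map_comp, Functor.map_comp]
      have := hiso i hi
      infer_instance)
    (by
      rw [epi_homologyMap_iff, ht, Functor.map_comp, Functor.map_comp]
      infer_instance)
  have := isIso_Q_map_of_quasiIso u' hu'
  exact ⟨E', hE', ⟨asIso (Q.map u') ≪≫ φ⟩⟩

end

end Groth.Agent.H28.PCohDer
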