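import Mathlib
import Groth.Agent.H28.MinCx3
import Groth.Agent.H28.PCohDer

/-!
# Minimal complexes over a local ring: uniqueness (helper28)
-/

open CategoryTheory Limits Pretriangulated

namespace Groth.Agent.H28.MinCx

universe u

open CochainComplex DerivedCategory Groth.Agent.H35.KF Groth.Agent.H35.LT

attribute [local instance] HasDerivedCategory.standard

section Nakayama

variable {R : Type u} [CommRing R] (I : Ideal R)

/-- a map into a finite module which is surjective modulo `I ≤ rad R` is surjective -/
lemma surjective_of_extendScalars_surjective (hI : I ≤ Ideal.jacobson (⊥ : Ideal R))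
    {X Y : ModuleCat.{u} R} [Module.Finite R Y] (f : X ⟶ Y)
    (h : Function.Surjective
      ((ModuleCat.extendScalars.{u, u, u} (Ideal.Quotient.mk I)).map f).hom) :
    Function.Surjective f.hom := by
  refine LiftJac.surjective_of_sup_smul_eq_top I hI f.hom ?_
  rw [eq_top_iff]
  intro y _
  obtain ⟨t, ht⟩ := h ((LiftRed.cred I Y).hom y)
  obtain ⟨x, rfl⟩ := LiftRed.cred_surjective I X t
  have h1 : (LiftRed.cred I Y).hom (y - f.hom x) = 0 := by
    rw [map_sub, ← ht]
    exact sub_self _
  have h2 : y - f.hom x ∈ I • (⊤ : Submodule R Y) := by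
    rw [← LiftRed.ker_cred I Y]
    exact h1
  have h3 : y = f.hom x + (y - f.hom x) := by abel
  rw [h3]
  exact Submodule.add_mem_sup ⟨x, rfl⟩ h2

/-- a surjection between finite free modules of the same rank is bijective -/
lemma bijective_of_surjective_of_finrank_eq {X Y : Type u} [AddCommGroup X] [Module R X]
    [AddCommGroup Y] [Module R Y] [Module.Free R X] [Module.Finite R X] [Module.Free R Y]
    [Module.Finite R Y] (f : X →ₗ[R] Y) (hs : Function.Surjective f)
    (hr : Module.finrank R X = Module.finrank R Y) : Function.Bijective f := by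
  rcases subsingleton_or_nontrivial R with hR | hR
  · haveI : Subsingleton X := Module.subsingleton R X
    exact ⟨fun a b _ => Subsingleton.elim a b, hs⟩
  · obtain ⟨e⟩ := FiniteDimensional.nonempty_linearEquiv_of_finrank_eq hr.symm
    have h1 : Function.Surjective (e.toLinearMap ∘ₗ f) := e.surjective.comp hs
    have h2 : Function.Injective (e.toLinearMap ∘ₗ f) :=
      OrzechProperty.injective_of_surjective_endomorphism _ h1
    refine ⟨fun a b hab => h2 ?_, hs⟩
    change e (f a) = e (f b)
    rw [hab]

end Nakayama

section Local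

variable {R : Type u} [CommRing R] [IsLocalRing R]
  [DRing.HasLBaseChange (IsLocalRing.residue R)]

/-- two minimal complexes representing the same object are isomorphic -/
theorem nonempty_iso_of_isMinimal (K : Dual.D R) (P P' : DRing.Cx R) (h : IsMinimal K P)
    (h' : IsMinimal K P') : Nonempty (P ≅ P') := by
  have hd := extCx_d_eq_zero K P h
  have hd' := extCx_d_eq_zero K P' h'
  obtain ⟨⟨b, hb⟩, hP, ⟨eP⟩⟩ := h
  obtain ⟨⟨b', hb'⟩, hP', ⟨eP'⟩⟩ := h'
  haveI : P.IsKProjective := Groth.Agent.H35.isKProjective_of_vanishesAbove P b hb (fun i => by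
    have := (hP i).1
    infer_instance)
  obtain ⟨f, hf⟩ := Groth.Agent.H35.Q_map_surjective_of_isKProjective (K := P) P'
    (eP.hom ≫ eP'.inv)
  haveI : QuasiIso f := Groth.Agent.H28.PCohDer.quasiIso_of_isIso_Q_map f (by
    rw [hf]
    infer_instance)
  haveI : QuasiIso ((extCx (IsLocalRing.residue R)).map f) :=
    quasiIso_extCx_map (IsLocalRing.residue R) f (max b b')
      (fun i hi => hb i (lt_of_le_of_lt (le_max_left _ _) hi))
      (fun i hi => hb' i (lt_of_le_of_lt (le_max_right _ _) hi))
      (fun i => by have := (hP i).1; infer_instance)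
      (fun i => by have := (hP' i).1; infer_instance)
  have hiso : ∀ i, IsIso (((extCx (IsLocalRing.residue R)).map f).f i) := fun i =>
    isIso_f_of_quasiIsoAt _ i (hd _ _) (hd _ _) (hd' _ _) (hd' _ _)
  have hI : IsLocalRing.maximalIdeal R ≤ Ideal.jacobson (⊥ : Ideal R) := by
    rw [IsLocalRing.jacobson_eq_maximalIdeal ⊥ bot_ne_top]
  have hsurj : ∀ i, Function.Surjective (f.f i).hom := by
    intro i
    have := (hP' i).2.1
    refine surjective_of_extendScalars_surjective (IsLocalRing.maximalIdeal R) hI (f.f i) ?_
    have := hiso i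
    exact (ConcreteCategory.bijective_of_isIso
      (((extCx (IsLocalRing.residue R)).map f).f i)).2
  have hbij : ∀ i, Function.Bijective (f.f i).hom := by
    intro i
    have := (hP i).1
    have := (hP i).2.1
    have := (hP' i).1
    have := (hP' i).2.1
    exact bijective_of_surjective_of_finrank_eq (f.f i).hom (hsurj i)
      ((hP i).2.2.trans (hP' i).2.2.symm)
  haveI : ∀ i, IsIso (f.f i) := fun i =>
    (ConcreteCategory.isIso_iff_bijective (f.f i)).2 (hbij i)
  haveI : IsIso f := HomologicalComplex.Hom.isIso_of_components f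
  exact ⟨asIso f⟩

end Local

end Groth.Agent.H28.MinCx
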