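import Groth.Prelude.Def_PCoh
import Mathlib.Algebra.Homology.Refinements
import Mathlib.Algebra.Homology.HomologicalComplexAbelian

/-!
# Cycles of a strictly pseudo-coherent complex acyclic in high degrees are of finite type
-/

set_option autoImplicit false

universe v u

open CategoryTheory CategoryTheory.Limits

namespace Groth.Agent.H28.PCohCore

variable {C : Type u} [Category.{v} C] [Abelian C]

/-- terms of the complex `Zⁿ → Eⁿ → Eⁿ⁺¹ → ⋯` -/
noncomputable def cyclesX (E : CochainComplex C ℤ) (n : ℤ) : ℕ → C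
  | 0 => E.cycles n
  | (k + 1) => E.X (n + k)

/-- differentials of the complex `Zⁿ → Eⁿ → Eⁿ⁺¹ → ⋯` -/
noncomputable def cyclesD (E : CochainComplex C ℤ) (n : ℤ) :
    ∀ k : ℕ, cyclesX E n k ⟶ cyclesX E n (k + 1)
  | 0 => E.iCycles n ≫ (E.XIsoOfEq (by simp : n = n + ((0 : ℕ) : ℤ))).hom
  | (k + 1) => E.d (n + k) (n + ((k + 1 : ℕ) : ℤ))

lemma cyclesD_sq (E : CochainComplex C ℤ) (n : ℤ) (k : ℕ) :
    cyclesD E n k ≫ cyclesD E n (k + 1) = 0 := by
  cases k with
  | zero =>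
    change (E.iCycles n ≫ (E.XIsoOfEq _).hom) ≫ E.d _ _ = 0
    rw [Category.assoc, HomologicalComplex.XIsoOfEq_hom_comp_d, HomologicalComplex.iCycles_d]
  | succ k =>
    change E.d _ _ ≫ E.d _ _ = 0
    exact E.d_comp_d _ _ _

/-- the complex `Zⁿ → Eⁿ → Eⁿ⁺¹ → ⋯` -/
noncomputable def cyclesComplex (E : CochainComplex C ℤ) (n : ℤ) : CochainComplex C ℕ :=
  CochainComplex.of (cyclesX E n) (cyclesD E n) (cyclesD_sq E n)

/-- the term of index `0` -/
noncomputable def cyclesComplexXZero (E : CochainComplex C ℤ) (n : ℤ) :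
    (cyclesComplex E n).X 0 ≅ E.cycles n := Iso.refl _

/-- the term of index `k + 1` -/
noncomputable def cyclesComplexXSucc (E : CochainComplex C ℤ) (n : ℤ) (k : ℕ) :
    (cyclesComplex E n).X (k + 1) ≅ E.X (n + k) := Iso.refl _

lemma cyclesComplex_d_zero (E : CochainComplex C ℤ) (n : ℤ) :
    (cyclesComplex E n).d 0 1 = (cyclesComplexXZero E n).hom ≫ E.iCycles n ≫
      (E.XIsoOfEq (by simp : n = n + ((0 : ℕ) : ℤ))).hom ≫ (cyclesComplexXSucc E n 0).inv := by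
  have h : (cyclesComplex E n).d 0 1 = cyclesD E n 0 :=
    CochainComplex.of_d (cyclesX E n) (cyclesD E n) 0
  rw [h]
  change _ = 𝟙 _ ≫ E.iCycles n ≫ (E.XIsoOfEq _).hom ≫ 𝟙 _
  rw [Category.id_comp, Category.comp_id]
  rfl

lemma cyclesComplex_d_succ (E : CochainComplex C ℤ) (n : ℤ) (k : ℕ) :
    (cyclesComplex E n).d (k + 1) (k + 1 + 1) = (cyclesComplexXSucc E n k).hom ≫
      E.d (n + k) (n + ((k + 1 : ℕ) : ℤ)) ≫ (cyclesComplexXSucc E n (k + 1)).inv := by
  have h : (cyclesComplex E n).d (k + 1) (k + 1 + 1) = cyclesD E n (k + 1) :=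
    CochainComplex.of_d (cyclesX E n) (cyclesD E n) (k + 1)
  rw [h]
  change _ = 𝟙 _ ≫ E.d _ _ ≫ 𝟙 _
  rw [Category.id_comp, Category.comp_id]
  rfl

lemma cyclesComplex_exactAt (E : CochainComplex C ℤ) (n : ℤ)
    (hE : ∀ i : ℤ, n < i → E.ExactAt i) (j : ℕ) : (cyclesComplex E n).ExactAt j := by
  match j with
  | 0 =>
    rw [HomologicalComplex.exactAt_iff_exact_up_to_refinements _ 0 0 1 (by simp) (by simp)]
    intro A x₂ hx₂
    refine ⟨A, 𝟙 A, inferInstance, 0, ?_⟩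
    rw [cyclesComplex_d_zero] at hx₂
    rw [Category.id_comp, zero_comp]
    have h1 : (x₂ ≫ (cyclesComplexXZero E n).hom) ≫ E.iCycles n = 0 := by
      rw [← cancel_mono ((E.XIsoOfEq (by simp : n = n + ((0 : ℕ) : ℤ))).hom ≫
        (cyclesComplexXSucc E n 0).inv), zero_comp]
      simpa only [Category.assoc] using hx₂
    have h2 : x₂ ≫ (cyclesComplexXZero E n).hom = 0 := by
      rw [← cancel_mono (E.iCycles n), zero_comp]
      exact h1
    rw [← cancel_mono (cyclesComplexXZero E n).hom, zero_comp]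
    exact h2
  | 1 =>
    rw [HomologicalComplex.exactAt_iff_exact_up_to_refinements _ 0 1 2 (by simp) (by simp)]
    intro A x₂ hx₂
    have hd : (cyclesComplex E n).d 1 2 = (cyclesComplexXSucc E n 0).hom ≫
      E.d (n + ((0 : ℕ) : ℤ)) (n + ((0 + 1 : ℕ) : ℤ)) ≫ (cyclesComplexXSucc E n (0 + 1)).inv :=
      cyclesComplex_d_succ E n 0
    rw [hd] at hx₂
    have hx₂' : (x₂ ≫ (cyclesComplexXSucc E n 0).hom) ≫
        E.d (n + ((0 : ℕ) : ℤ)) (n + ((0 + 1 : ℕ) : ℤ)) = 0 := by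
      rw [← cancel_mono (cyclesComplexXSucc E n (0 + 1)).inv, zero_comp]
      simpa only [Category.assoc] using hx₂
    have hz : ((x₂ ≫ (cyclesComplexXSucc E n 0).hom) ≫
        (E.XIsoOfEq (by simp : n = n + ((0 : ℕ) : ℤ))).inv) ≫
        E.d n (n + ((0 + 1 : ℕ) : ℤ)) = 0 := by
      rw [Category.assoc, HomologicalComplex.XIsoOfEq_inv_comp_d, hx₂']
    refine ⟨A, 𝟙 A, inferInstance,
      E.liftCycles ((x₂ ≫ (cyclesComplexXSucc E n 0).hom) ≫
        (E.XIsoOfEq (by simp : n = n + ((0 : ℕ) : ℤ))).inv)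
        (n + ((0 + 1 : ℕ) : ℤ)) (by simp) hz ≫ (cyclesComplexXZero E n).inv, ?_⟩
    rw [Category.id_comp, cyclesComplex_d_zero]
    simp only [Category.assoc, Iso.inv_hom_id_assoc, HomologicalComplex.liftCycles_i_assoc,
      Iso.hom_inv_id, Category.comp_id]
  | (k + 2) =>
    rw [HomologicalComplex.exactAt_iff_exact_up_to_refinements _ (k + 1) (k + 2) (k + 3)
      (by simp) (by simp)]
    intro A x₂ hx₂
    have hd : (cyclesComplex E n).d (k + 2) (k + 3) = (cyclesComplexXSucc E n (k + 1)).hom ≫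
      E.d (n + ((k + 1 : ℕ) : ℤ)) (n + ((k + 1 + 1 : ℕ) : ℤ)) ≫
        (cyclesComplexXSucc E n (k + 1 + 1)).inv := cyclesComplex_d_succ E n (k + 1)
    rw [hd] at hx₂
    have hx₂' : (x₂ ≫ (cyclesComplexXSucc E n (k + 1)).hom) ≫
        E.d (n + ((k + 1 : ℕ) : ℤ)) (n + ((k + 1 + 1 : ℕ) : ℤ)) = 0 := by
      rw [← cancel_mono (cyclesComplexXSucc E n (k + 1 + 1)).inv, zero_comp]
      simpa only [Category.assoc] using hx₂
    have hex := hE (n + ((k + 1 : ℕ) : ℤ)) (by push_cast; omega)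
    rw [HomologicalComplex.exactAt_iff_exact_up_to_refinements _ (n + (k : ℤ))
      (n + ((k + 1 : ℕ) : ℤ)) (n + ((k + 1 + 1 : ℕ) : ℤ)) (by simp; omega) (by simp; omega)]
      at hex
    obtain ⟨A', π, hπ, x₁, hx₁⟩ := hex _ hx₂'
    refine ⟨A', π, hπ, x₁ ≫ (cyclesComplexXSucc E n k).inv, ?_⟩
    have hd' : (cyclesComplex E n).d (k + 1) (k + 2) = (cyclesComplexXSucc E n k).hom ≫
      E.d (n + (k : ℤ)) (n + ((k + 1 : ℕ) : ℤ)) ≫ (cyclesComplexXSucc E n (k + 1)).inv :=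
      cyclesComplex_d_succ E n k
    rw [hd']
    simp only [Category.assoc, Iso.inv_hom_id_assoc]
    rw [← reassoc_of% hx₁]
    simp only [Iso.hom_inv_id, Category.comp_id]

lemma isOfFiniteType_of_iso (P : ObjectProperty C) {X Y : C} (e : X ≅ Y)
    (h : PCoh.IsOfFiniteType P X) : PCoh.IsOfFiniteType P Y := by
  obtain ⟨E, π, hE, hπ⟩ := h
  exact ⟨E, π ≫ e.hom, hE, epi_comp _ _⟩

lemma isOfFiniteType_of_epi (P : ObjectProperty C) {X Y : C} (f : X ⟶ Y) [Epi f]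
    (h : PCoh.IsOfFiniteType P X) : PCoh.IsOfFiniteType P Y := by
  obtain ⟨E, π, hE, hπ⟩ := h
  exact ⟨E, π ≫ f, hE, epi_comp _ _⟩

/-- If `E` is bounded above, has terms in `P` from degree `n` on and is exact in degrees `> n`,
then `Zⁿ(E)` is of `P`-finite type. -/
theorem isOfFiniteType_cycles (P : ObjectProperty C)
    (hqs : PCoh.IsQuasiStableUnderKernels P) (n : ℤ) (E : CochainComplex C ℤ)
    (hE : PCoh.IsStrictPC P n E) (hac : ∀ i : ℤ, n < i → E.ExactAt i) :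
    PCoh.IsOfFiniteType P (E.cycles n) := by
  obtain ⟨⟨b, hb⟩, hP⟩ := hE
  have h := hqs (cyclesComplex E n) (cyclesComplex_exactAt E n hac)
    ⟨(b - n).toNat + 1, fun i hi => by
      obtain ⟨k, rfl⟩ : ∃ k, i = k + 1 := ⟨i - 1, by omega⟩
      exact IsZero.of_iso (hb _ (by omega)) (cyclesComplexXSucc E n k)⟩
    (fun i hi => by
      obtain ⟨k, rfl⟩ : ∃ k, i = k + 1 := ⟨i - 1, by omega⟩
      exact hP (n + k) (by omega))
  exact isOfFiniteType_of_iso P (cyclesComplexXZero E n) h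

theorem isOfFiniteType_homology (P : ObjectProperty C)
    (hqs : PCoh.IsQuasiStableUnderKernels P) (n : ℤ) (E : CochainComplex C ℤ)
    (hE : PCoh.IsStrictPC P n E) (hac : ∀ i : ℤ, n < i → E.ExactAt i) :
    PCoh.IsOfFiniteType P (E.homology n) :=
  isOfFiniteType_of_epi P (E.homologyπ n) (isOfFiniteType_cycles P hqs n E hE hac)

end Groth.Agent.H28.PCohCore
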