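import Mathlib.Algebra.Homology.HomotopyCategory.HomologicalFunctor
import Mathlib.Algebra.Homology.HomotopyCategory.ShiftSequence
import Mathlib.Algebra.Homology.HomotopyCategory.Triangulated
import Mathlib.Algebra.Homology.Refinements

/-!
# `n`-quasi-isomorphisms and acyclicity of the mapping cone
-/

set_option autoImplicit false

universe v u

open CategoryTheory CategoryTheory.Limits

namespace Groth.Agent.H28.PCohCore

section NatIso

variable {A B : Type*} [Category A] [Category B] {G G' : A ⥤ B}

lemma epi_map_iff_of_natIso (e : G ≅ G') {X Y : A} (f : X ⟶ Y) : Epi (G.map f) ↔ Epi (G'.map f) := by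
  constructor
  · intro h
    have h1 : Epi (e.hom.app X ≫ G'.map f) := by
      rw [← e.hom.naturality f]
      infer_instance
    exact epi_of_epi (e.hom.app X) _
  · intro h
    have h1 : Epi (e.inv.app X ≫ G.map f) := by
      rw [← e.inv.naturality f]
      infer_instance
    exact epi_of_epi (e.inv.app X) _

lemma mono_map_iff_of_natIso (e : G ≅ G') {X Y : A} (f : X ⟶ Y) : Mono (G.map f) ↔ Mono (G'.map f) := by
  constructor
  · intro h
    have h1 : Mono (G'.map f ≫ e.inv.app Y) := by
      rw [e.inv.naturality f]
      infer_instance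
    exact mono_of_mono _ (e.inv.app Y)
  · intro h
    have h1 : Mono (G.map f ≫ e.hom.app Y) := by
      rw [e.hom.naturality f]
      infer_instance
    exact mono_of_mono _ (e.hom.app Y)

end NatIso

variable {C : Type u} [Category.{v} C] [Abelian C]

open HomotopyCategory in
/-- `Hⁱ` of the cone of `u` vanishes iff `Hⁱ(u)` is an epimorphism and `Hⁱ⁺¹(u)` a monomorphism -/
theorem isZero_homology_mappingCone_iff {E F : CochainComplex C ℤ} (u : E ⟶ F) (i j : ℤ)
    (hij : i + 1 = j) :
    IsZero ((CochainComplex.mappingCone u).homology i) ↔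
      Epi (HomologicalComplex.homologyMap u i) ∧ Mono (HomologicalComplex.homologyMap u j) := by
  have hT := HomotopyCategory.mappingCone_triangleh_distinguished u
  have hex := (homologyFunctor C (ComplexShape.up ℤ) 0).homologySequence_exact₃ _ hT i j hij
  have h1 := (homologyFunctor C (ComplexShape.up ℤ) 0).homologySequence_epi_shift_map_mor₁_iff _ hT i
  have h2 := (homologyFunctor C (ComplexShape.up ℤ) 0).homologySequence_mono_shift_map_mor₁_iff _
    hT i j hij
  have h3 : Epi (HomologicalComplex.homologyMap u i) ↔
      Epi (((homologyFunctor C (ComplexShape.up ℤ) 0).shift i).map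
        (CochainComplex.mappingCone.triangleh u).mor₁) :=
    (epi_map_iff_of_natIso (homologyFunctorFactors C (ComplexShape.up ℤ) i) u).symm
  have h4 : Mono (HomologicalComplex.homologyMap u j) ↔
      Mono (((homologyFunctor C (ComplexShape.up ℤ) 0).shift j).map
        (CochainComplex.mappingCone.triangleh u).mor₁) :=
    (mono_map_iff_of_natIso (homologyFunctorFactors C (ComplexShape.up ℤ) j) u).symm
  rw [h3, h4, h1, h2, ← hex.isZero_X₂_iff]
  exact Iso.isZero_iff ((homologyFunctorFactors C (ComplexShape.up ℤ) i).app
    (CochainComplex.mappingCone u)).symm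

end Groth.Agent.H28.PCohCore
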