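import Groth.Agent.H28.ConeCoord
import Groth.Agent.H28.CoconeCoord
import Groth.Agent.H28.PCohQI
import Mathlib.Algebra.Homology.Embedding.CochainComplex
import Mathlib.Algebra.Homology.QuasiIso

/-!
# From `n`-quasi-isomorphisms to quasi-isomorphisms (SGA 6 I 2.?)
-/

set_option autoImplicit false

universe v u

open CategoryTheory CategoryTheory.Limits CochainComplex HomComplex

namespace Groth.Agent.H28.PCohCore

open Groth.Agent.H28

variable {C : Type u} [Category.{v} C] [Abelian C]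

section

variable {E F B : CochainComplex C ℤ} (u : E ⟶ F) (ψ : B ⟶ mappingCocone u)
  (g : B ⟶ E) (β : Cochain B F (-1))
  (hg : ∀ j : ℤ, g.f j = ψ.f j ≫ (mappingCocone.fst u).f j)
  (hβ : ∀ (j q : ℤ) (hjq : j + -1 = q), β.v j q hjq = -ψ.f j ≫ (mappingCocone.snd u).v j q hjq)
  (eq : δ (-1) 0 β = Cochain.ofHom (g ≫ u))

include hg hβ in
lemma comp_ψ_f {T : C} {j q : ℤ} (hjq : j + -1 = q) (b : T ⟶ B.X j) :
    b ≫ ψ.f j = CoconeCoord.mk u hjq (b ≫ g.f j) (-b ≫ β.v j q hjq) := by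
  apply CoconeCoord.ext_to u j q hjq
  · rw [CoconeCoord.mk_fst, hg, Category.assoc]
  · rw [CoconeCoord.mk_snd, hβ, Preadditive.comp_neg, neg_neg, Category.assoc]

include hg hβ in
lemma epi_homologyMap_desc (i i1 : ℤ) (hi1 : i + 1 = i1)
    (h : Epi (HomologicalComplex.homologyMap ψ i1)) :
    Epi (HomologicalComplex.homologyMap (mappingCone.desc g β u eq) i) := by
  have hi0 : (i - 1) + 1 = i := by omega
  have hi2 : i1 + 1 = i1 + 1 := rfl
  have hq1 : i1 + -1 = i := by omega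
  have hq0 : i + -1 = i - 1 := by omega
  rw [HomologicalComplex.epi_homologyMap_iff_up_to_refinements _ (i - 1) i i1 (by simp)
    (by simp [hi1])]
  intro T y hy
  rw [HomologicalComplex.epi_homologyMap_iff_up_to_refinements _ i i1 (i1 + 1) (by simp [← hi1])
    (by simp)] at h
  obtain ⟨T', π, hπ, b, hb, w', hw'⟩ := h (CoconeCoord.mk u hq1 0 y) (by
    rw [CoconeCoord.mk_d _ hi2, CoconeCoord.mk_eq_zero_iff]
    simp [hy])
  rw [CoconeCoord.eq_mk hq0 w',
    CoconeCoord.mk_d _ hi1, comp_ψ_f u ψ g β hg hβ hq1 b,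
    CoconeCoord.comp_mk, CoconeCoord.mk_add, CoconeCoord.mk_eq_mk_iff] at hw'
  obtain ⟨h1, h2⟩ := hw'
  rw [comp_zero] at h1
  refine ⟨T', π, hπ, ConeCoord.mk g hi1 (-b) (-(w' ≫ (mappingCocone.fst u).f i)), ?_,
    -(w' ≫ (mappingCocone.snd u).v i (i - 1) hq0), ?_⟩
  · rw [ConeCoord.mk_d hi1 hi2, ConeCoord.mk_eq_zero_iff]
    constructor
    · simp [hb]
    · rw [Preadditive.neg_comp, Preadditive.neg_comp, ← neg_add, neg_eq_zero, ← h1]
  · rw [ConeCoord.mk_desc, h2]
    simp only [Preadditive.neg_comp, Category.assoc]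
    abel

include hg hβ in
lemma mono_homologyMap_desc (i i1 : ℤ) (hi1 : i + 1 = i1)
    (hepi : Epi (HomologicalComplex.homologyMap ψ i))
    (hmono : Mono (HomologicalComplex.homologyMap ψ i1)) :
    Mono (HomologicalComplex.homologyMap (mappingCone.desc g β u eq) i) := by
  have hi0 : (i - 1) + 1 = i := by omega
  have hi2 : i1 + 1 = i1 + 1 := rfl
  have hq1 : i1 + -1 = i := by omega
  have hq0 : i + -1 = i - 1 := by omega
  have hq00 : (i - 1) + -1 = i - 1 - 1 := by omega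
  rw [HomologicalComplex.mono_homologyMap_iff_up_to_refinements _ (i - 1) i i1 (by simp)
    (by simp [hi1])]
  intro T x hx y hy
  rw [HomologicalComplex.mono_homologyMap_iff_up_to_refinements _ i i1 (i1 + 1)
    (by simp [← hi1]) (by simp)] at hmono
  rw [HomologicalComplex.epi_homologyMap_iff_up_to_refinements _ (i - 1) i i1 (by simp)
    (by simp [hi1])] at hepi
  -- coordinates of `x`
  obtain ⟨b, e, rfl⟩ : ∃ (b : T ⟶ B.X i1) (e : T ⟶ E.X i), x = ConeCoord.mk g hi1 b e :=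
    ⟨_, _, ConeCoord.eq_mk hi1 x⟩
  rw [ConeCoord.mk_d hi1 hi2, ConeCoord.mk_eq_zero_iff, neg_eq_zero] at hx
  obtain ⟨hb, hbe⟩ := hx
  rw [ConeCoord.mk_desc] at hy
  -- step 1: `b` is a boundary
  obtain ⟨T₁, π₁, hπ₁, b', hb'⟩ := hmono b hb (CoconeCoord.mk u hq0 (-e) y) (by
    rw [comp_ψ_f u ψ g β hg hβ hq1 b, CoconeCoord.mk_d _ hi1, CoconeCoord.mk_eq_mk_iff]
    constructor
    · rw [Preadditive.neg_comp, eq_neg_iff_add_eq_zero]
      exact hbe
    · rw [← hy]
      simp)
  -- step 2: modify `x` by a boundary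
  have hx' : π₁ ≫ ConeCoord.mk g hi1 b e + ConeCoord.mk g hi0 b' 0 ≫ (mappingCone g).d (i - 1) i =
      ConeCoord.mk g hi1 0 (π₁ ≫ e + b' ≫ g.f i) := by
    rw [ConeCoord.comp_mk, ConeCoord.mk_d hi0 hi1, ConeCoord.mk_add, hb']
    simp
  have he₁d : (π₁ ≫ e + b' ≫ g.f i) ≫ E.d i i1 = 0 := by
    have h := hx' =≫ (mappingCone g).d i i1
    simp only [Preadditive.add_comp, Category.assoc, HomologicalComplex.d_comp_d, comp_zero,
      add_zero] at h
    rw [ConeCoord.mk_d hi1 hi2, ConeCoord.mk_d hi1 hi2, ConeCoord.comp_mk,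
      ConeCoord.mk_eq_mk_iff] at h
    have h2 := h.2
    rw [zero_comp, zero_add, hbe, comp_zero] at h2
    exact h2.symm
  have he₁u : (π₁ ≫ e + b' ≫ g.f i) ≫ u.f i =
      (π₁ ≫ y + b' ≫ β.v i (i - 1) hq0) ≫ F.d (i - 1) i := by
    have h := hx' =≫ (mappingCone.desc g β u eq).f i
    rw [Preadditive.add_comp, Category.assoc, Category.assoc,
      ← (mappingCone.desc g β u eq).comm (i - 1) i, ConeCoord.mk_desc, ConeCoord.mk_desc,
      ← Category.assoc, ConeCoord.mk_desc] at h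
    simp only [zero_comp, zero_add, add_zero] at h
    rw [← h, hy]
    simp
  -- step 3: the modified cycle comes from `B`
  obtain ⟨T₂, π₂, hπ₂, b'', hb'', w'', hw''⟩ := hepi
    (CoconeCoord.mk u hq0 (π₁ ≫ e + b' ≫ g.f i) (-(π₁ ≫ y + b' ≫ β.v i (i - 1) hq0))) (by
      rw [CoconeCoord.mk_d _ hi1, CoconeCoord.mk_eq_zero_iff]
      refine ⟨he₁d, ?_⟩
      rw [he₁u]
      simp)
  rw [CoconeCoord.eq_mk hq00 w'', CoconeCoord.mk_d _ hi0, comp_ψ_f u ψ g β hg hβ hq0 b'',
    CoconeCoord.comp_mk, CoconeCoord.mk_add, CoconeCoord.mk_eq_mk_iff] at hw''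
  obtain ⟨h1, -⟩ := hw''
  refine ⟨T₂, π₂ ≫ π₁, epi_comp _ _,
    ConeCoord.mk g hi0 b'' (w'' ≫ (mappingCocone.fst u).f (i - 1)) -
      π₂ ≫ ConeCoord.mk g hi0 b' 0, ?_⟩
  rw [Preadditive.sub_comp, Category.assoc, Category.assoc, eq_sub_iff_add_eq,
    ← Preadditive.comp_add, hx', ConeCoord.mk_d hi0 hi1, ConeCoord.comp_mk,
    ConeCoord.mk_eq_mk_iff]
  constructor
  · simp [hb'']
  · rw [h1]

end

/-- SGA 6 I 2.?: an `n`-quasi-isomorphism factors as a degreewise monomorphism, which is an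
isomorphism in degrees `≥ n`, followed by a quasi-isomorphism. -/
theorem exists_quasiIso_of_nQuasiIso (n : ℤ) (E F : CochainComplex C ℤ) (u : E ⟶ F)
    (hiso : ∀ i : ℤ, n < i → IsIso (HomologicalComplex.homologyMap u i))
    (hepi : Epi (HomologicalComplex.homologyMap u n)) :
    ∃ (E' : CochainComplex C ℤ) (v : E ⟶ E') (u' : E' ⟶ F), v ≫ u' = u ∧ QuasiIso u' ∧
      (∀ i : ℤ, Mono (v.f i)) ∧ (∀ i : ℤ, n ≤ i → IsIso (v.f i)) := by
  have hK : ∀ i : ℤ, n ≤ i → IsZero ((mappingCone u).homology i) := by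
    intro i hi
    rw [isZero_homology_mappingCone_iff u i (i + 1) rfl]
    constructor
    · rcases hi.eq_or_lt with rfl | hi'
      · exact hepi
      · have := hiso i hi'
        infer_instance
    · have := hiso (i + 1) (by omega)
      infer_instance
  have hKLE : (mappingCone u).IsLE (n - 1) := by
    rw [isLE_iff]
    intro i hi
    rw [HomologicalComplex.exactAt_iff_isZero_homology]
    exact hK i (by omega)
  have hWLE : (mappingCocone u).IsLE n := (mappingCone u).isLE_shift (n - 1) (-1) n (by omega)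
  let ι := (mappingCocone u).ιTruncLE n
  have hι : QuasiIso ι := inferInstance
  let g := ι ≫ mappingCocone.fst u
  let β : Cochain ((mappingCocone u).truncLE n) F (-1) :=
    -(Cochain.ofHom ι).comp (mappingCocone.snd u) (zero_add (-1))
  have hg : ∀ j : ℤ, g.f j = ι.f j ≫ (mappingCocone.fst u).f j := fun j => rfl
  have hβ : ∀ (j q : ℤ) (hjq : j + -1 = q),
      β.v j q hjq = -ι.f j ≫ (mappingCocone.snd u).v j q hjq := by
    intro j q hjq
    simp [β]
  have eq : δ (-1) 0 β = Cochain.ofHom (g ≫ u) := by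
    simp only [β, g, δ_neg, δ_ofHom_comp, CoconeCoord.δ_snd, Cochain.comp_neg, neg_neg,
      ← Cochain.ofHom_comp, Category.assoc]
  have hBz : ∀ j : ℤ, n < j → IsZero (((mappingCocone u).truncLE n).X j) := fun j hj =>
    ((mappingCocone u).truncLE n).isZero_of_isStrictlyLE n j hj
  refine ⟨mappingCone g, mappingCone.inr g, mappingCone.desc g β u eq,
    mappingCone.inr_desc g β u eq, ?_, ?_, ?_⟩
  · refine ⟨fun i => ?_⟩
    rw [quasiIsoAt_iff_isIso_homologyMap]
    have h1 : ∀ j : ℤ, IsIso (HomologicalComplex.homologyMap ι j) := fun j =>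
      (quasiIsoAt_iff_isIso_homologyMap ι j).mp inferInstance
    have := epi_homologyMap_desc u ι g β hg hβ eq i (i + 1) rfl
      (by have := h1 (i + 1); infer_instance)
    have := mono_homologyMap_desc u ι g β hg hβ eq i (i + 1) rfl
      (by have := h1 i; infer_instance) (by have := h1 (i + 1); infer_instance)
    exact isIso_of_mono_of_epi _
  · intro i
    exact mono_of_mono_fac (mappingCone.inr_f_snd_v g i)
  · intro i hi
    have hz : (mappingCone.fst g).1.v i (i + 1) rfl = 0 :=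
      (hBz (i + 1) (by omega)).eq_of_tgt _ _
    have h := mappingCone.id_X g i (i + 1) rfl
    rw [hz, zero_comp, zero_add] at h
    exact ⟨(mappingCone.snd g).v i i (add_zero i), mappingCone.inr_f_snd_v g i, h⟩

end Groth.Agent.H28.PCohCore
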