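import Groth.Agent.H28.PCohModify
import Groth.Agent.H28.PCohQIso
import Groth.Agent.H28.PCohCycles
import Groth.Agent.H28.StrictPerf

/-!
# Strictly `n`-pseudo-coherent resolutions (SGA 6 I 2.?)
-/

set_option autoImplicit false

universe w v u

open CategoryTheory CategoryTheory.Limits CochainComplex HomComplex

open scoped ZeroObject

namespace Groth.Agent.H28.PCohCore

open Groth.Agent.H28

variable {C : Type u} [Category.{v} C] [Abelian C]

/-- an isomorphism in the derived category induces isomorphisms in homology -/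
noncomputable def homologyIsoOfQIso [HasDerivedCategory.{w} C] {K L : CochainComplex C ℤ}
    (e : DerivedCategory.Q.obj K ≅ DerivedCategory.Q.obj L) (k : ℤ) :
    K.homology k ≅ L.homology k :=
  ((DerivedCategory.homologyFunctorFactors C k).app K).symm ≪≫
    (DerivedCategory.homologyFunctor C k).mapIso e ≪≫
    (DerivedCategory.homologyFunctorFactors C k).app L

/-- the cones of `w` and of `w ≫ u` have the same homology when `u` is a quasi-isomorphism -/
lemma nonempty_homology_mappingCone_iso {F' E F : CochainComplex C ℤ} (w : F' ⟶ E) (u : E ⟶ F)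
    (hu : QuasiIso u) (k : ℤ) :
    Nonempty ((mappingCone w).homology k ≅ (mappingCone (w ≫ u)).homology k) := by
  letI : HasDerivedCategory.{max u v} C := HasDerivedCategory.standard C
  have hT : DerivedCategory.Q.mapTriangle.obj (CochainComplex.mappingCone.triangle (w ≫ u)) ∈
      Pretriangulated.distinguishedTriangles := by
    rw [DerivedCategory.mem_distTriang_iff]
    exact ⟨_, _, w ≫ u, ⟨Iso.refl _⟩⟩
  have hQu : IsIso (DerivedCategory.Q.map u) := by
    rw [DerivedCategory.isIso_Q_map_iff_quasiIso]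
    exact hu
  obtain ⟨e⟩ := Groth.Agent.H35.nonempty_mappingCone_iso _ hT F' E (Iso.refl _)
    (@asIso _ _ _ _ (DerivedCategory.Q.map u) hQu) w (by
      change _ = 𝟙 _ ≫ DerivedCategory.Q.map (w ≫ u) ≫ inv (DerivedCategory.Q.map u)
      simp)
  exact ⟨homologyIsoOfQIso e k⟩

lemma isZero_homology_of_isZero_X (K : CochainComplex C ℤ) (i : ℤ) (h : IsZero (K.X i)) :
    IsZero (K.homology i) := by
  have : K.ExactAt i := (K.sc i).exact_of_isZero_X₂ h
  exact this.isZero_homology

lemma isIso_cokernel_π_of_eq_zero {X Y : C} (f : X ⟶ Y) (h : f = 0) : IsIso (cokernel.π f) := by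
  subst h
  infer_instance

section

variable (P : ObjectProperty C) [P.IsClosedUnderIsomorphisms] [P.ContainsZero]

/-- the `k`-th approximation of `E`: a bounded complex with terms in `P`, zero below `k`, with a
`k`-quasi-isomorphism to `E` -/
def Approx (E : CochainComplex C ℤ) (k : ℤ) : Prop :=
  ∃ (F' : CochainComplex C ℤ) (w : F' ⟶ E), (∃ b : ℤ, ∀ i : ℤ, b < i → IsZero (F'.X i)) ∧
    (∀ i : ℤ, P (F'.X i)) ∧ (∀ i : ℤ, i < k → IsZero (F'.X i)) ∧
    (∀ i : ℤ, k < i → IsIso (HomologicalComplex.homologyMap w i)) ∧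
    Epi (HomologicalComplex.homologyMap w k)

lemma approx_of_isZero_homology (E : CochainComplex C ℤ) (k : ℤ)
    (hE : ∀ i : ℤ, k ≤ i → IsZero (E.homology i)) : Approx P E k := by
  have h0 : IsZero (0 : CochainComplex C ℤ) := isZero_zero _
  have h0X : ∀ i : ℤ, IsZero ((0 : CochainComplex C ℤ).X i) := fun i =>
    (HomologicalComplex.eval C (ComplexShape.up ℤ) i).map_isZero h0
  refine ⟨0, 0, ⟨0, fun i _ => h0X i⟩, fun i => P.prop_of_isZero (h0X i), fun i _ => h0X i,
    ?_, ?_⟩
  · intro i hi
    have h1 := isZero_homology_of_isZero_X _ i (h0X i)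
    exact ⟨⟨0, h1.eq_of_src _ _, (hE i hi.le).eq_of_src _ _⟩⟩
  · exact (hE k le_rfl).epi _

variable (hsum : ∀ X Y : C, P X → P Y → P (X ⨯ Y))
  (hqs : PCoh.IsQuasiStableUnderKernels P) (hql : PCoh.IsQuasiLiftable P)

include hsum hqs in
lemma finiteType_homology_cone {n k : ℤ} (hk : n ≤ k) {F' E F : CochainComplex C ℤ}
    (hF : PCoh.IsStrictPC P n F) (u : E ⟶ F) (hu : QuasiIso u) (w : F' ⟶ E)
    (hb : ∃ b : ℤ, ∀ i : ℤ, b < i → IsZero (F'.X i)) (hP : ∀ i : ℤ, P (F'.X i))
    (hiso : ∀ i : ℤ, k + 1 < i → IsIso (HomologicalComplex.homologyMap w i))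
    (hepi : Epi (HomologicalComplex.homologyMap w (k + 1))) :
    PCoh.IsOfFiniteType P ((mappingCone w).homology k) := by
  obtain ⟨e⟩ := nonempty_homology_mappingCone_iso w u hu k
  refine isOfFiniteType_of_iso P e.symm ?_
  obtain ⟨b, hb⟩ := hb
  obtain ⟨⟨bF, hbF⟩, hPF⟩ := hF
  have hui : ∀ i : ℤ, IsIso (HomologicalComplex.homologyMap u i) := fun i =>
    (quasiIsoAt_iff_isIso_homologyMap u i).mp inferInstance
  apply isOfFiniteType_homology P hqs k
  · refine ⟨⟨max b bF, fun i hi => ?_⟩, fun i hi => ?_⟩
    · exact StrictPerf.isZero_mappingCone _ i (hb _ (by omega)) (hbF _ (by omega))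
    · exact StrictPerf.prop_mappingCone P hsum _ i (hP _) (hPF i (by omega))
  · intro i hi
    rw [HomologicalComplex.exactAt_iff_isZero_homology,
      isZero_homology_mappingCone_iff _ i (i + 1) rfl, HomologicalComplex.homologyMap_comp,
      HomologicalComplex.homologyMap_comp]
    have := hui i
    have := hui (i + 1)
    have := hiso (i + 1) (by omega)
    constructor
    · have : Epi (HomologicalComplex.homologyMap w i) := by
        rcases (show k + 1 ≤ i by omega).eq_or_lt with rfl | h
        · exact hepi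
        · have := hiso i h
          infer_instance
      infer_instance
    · infer_instance

include hsum hqs hql in
lemma approx_step {n k : ℤ} (hk : n ≤ k) {E F : CochainComplex C ℤ}
    (hF : PCoh.IsStrictPC P n F) (u : E ⟶ F) (hu : QuasiIso u) (h : Approx P E (k + 1)) :
    Approx P E k := by
  obtain ⟨F', w, hb, hP, hz, hiso, hepi⟩ := h
  have hcone := finiteType_homology_cone P hsum hqs hk hF u hu w hb hP hiso hepi
  obtain ⟨E', v, u', -, -, hisov, hcok, hiso', hepi'⟩ :=
    exists_modification_of_finiteType P hql k F' E w hiso hepi hcone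
  obtain ⟨b, hb⟩ := hb
  refine ⟨E', u', ⟨max b k, fun i hi => ?_⟩, fun i => ?_, fun i hi => ?_, hiso', hepi'⟩
  · have := hisov i (by omega)
    exact IsZero.of_iso (hb i (by omega)) (asIso (v.f i)).symm
  · by_cases hi : i = k
    · subst hi
      have h0 : v.f i = 0 := (hz i (by omega)).eq_of_src _ _
      have := isIso_cokernel_π_of_eq_zero _ h0
      exact P.prop_of_iso (asIso (cokernel.π (v.f i))).symm hcok
    · have := hisov i hi
      exact P.prop_of_iso (asIso (v.f i)) (hP i)
  · have := hisov i (by omega)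
    exact IsZero.of_iso (hz i (by omega)) (asIso (v.f i)).symm

include hsum hqs hql in
/-- SGA 6 I 2.?: a complex quasi-isomorphic to a strictly `n`-pseudo-coherent complex receives a
quasi-isomorphism from a strictly `n`-pseudo-coherent complex -/
theorem exists_strictPC_resolution (n : ℤ) (E F : CochainComplex C ℤ)
    (hF : PCoh.IsStrictPC P n F) (u : E ⟶ F) (hu : QuasiIso u) :
    ∃ (F' : CochainComplex C ℤ) (v : F' ⟶ E), PCoh.IsStrictPC P n F' ∧ QuasiIso v := by
  obtain ⟨bF, hbF⟩ := hF.1
  have hui : ∀ i : ℤ, IsIso (HomologicalComplex.homologyMap u i) := fun i =>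
    (quasiIsoAt_iff_isIso_homologyMap u i).mp inferInstance
  have hEz : ∀ i : ℤ, bF < i → IsZero (E.homology i) := fun i hi => by
    have := hui i
    exact IsZero.of_iso (isZero_homology_of_isZero_X F i (hbF i hi))
      (asIso (HomologicalComplex.homologyMap u i))
  have key : ∀ k : ℤ, k ≤ max (bF + 1) n → n ≤ k → Approx P E k := by
    intro k hk
    induction k, hk using Int.leInductionDown with
    | base =>
      intro _
      exact approx_of_isZero_homology P E _ (fun i hi => hEz i (by omega))
    | pred k hk ih =>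
      intro hnk
      have := ih (by omega)
      rw [show k = k - 1 + 1 by omega] at this
      exact approx_step P hsum hqs hql hnk hF u hu this
  obtain ⟨F₀, w, ⟨b, hb⟩, hP, -, hiso, hepi⟩ := key n (le_max_right _ _) le_rfl
  obtain ⟨F', v, u', -, hu', -, hisov⟩ := exists_quasiIso_of_nQuasiIso n F₀ E w hiso hepi
  refine ⟨F', u', ⟨⟨max b n, fun i hi => ?_⟩, fun i hi => ?_⟩, hu'⟩
  · have := hisov i (by omega)
    exact IsZero.of_iso (hb i (by omega)) (asIso (v.f i)).symm
  · have := hisov i hi
    exact P.prop_of_iso (asIso (v.f i)) (hP i)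

end

end Groth.Agent.H28.PCohCore
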