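import Mathlib
import Groth.Agent.H28.MinCx4
import Groth.Agent.H28.PCohResolve

/-!
# Minimal complexes over a local ring: existence (helper28)
-/

open CategoryTheory Limits Pretriangulated

namespace Groth.Agent.H28.MinCx

universe u

open CochainComplex DerivedCategory Groth.Agent.H35.KF Groth.Agent.H35.LT

attribute [local instance] HasDerivedCategory.standard

variable {R : Type u} [CommRing R] [IsLocalRing R]
  [DRing.HasLBaseChange (IsLocalRing.residue R)]

/-- finiteness and vanishing of the derived fibre of a pseudo-coherent complex, and existence of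
a minimal complex -/
theorem exists_isMinimal (K : Dual.D R) (hK : DRing.IsPseudoCoherent' R K) :
    (∀ i : ℤ, Module.Finite (IsLocalRing.ResidueField R) (Dual.HD (IsLocalRing.ResidueField R)
        ((DRing.LBaseChange (IsLocalRing.residue R)).obj K) i)) ∧
      (∃ b : ℤ, ∀ i : ℤ, b < i → Subsingleton (Dual.HD (IsLocalRing.ResidueField R)
        ((DRing.LBaseChange (IsLocalRing.residue R)).obj K) i)) ∧
      ∃ P : DRing.Cx R, IsMinimal K P := by
  obtain ⟨E₀, b, hb, hff, ⟨eK⟩⟩ := id hK
  have hKF : IsKFlat E₀ := isKFlat_of_bounded_flat E₀ b hb (fun i => by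
    have := (hff i).2
    infer_instance)
  let V := (extCx (IsLocalRing.residue R)).obj E₀
  let ι : ∀ i : ℤ,
      (DerivedCategory.homologyFunctor (ModuleCat.{u} (IsLocalRing.ResidueField R)) i).obj
        ((DRing.LBaseChange (IsLocalRing.residue R)).obj K) ≅ V.homology i := fun i =>
    (DerivedCategory.homologyFunctor _ i).mapIso
        ((DRing.LBaseChange (IsLocalRing.residue R)).mapIso eK.symm) ≪≫
      Groth.Agent.H28.PCohLocal.homologyLBaseChangeIso (IsLocalRing.residue R) E₀ hKF i
  have hVfin : ∀ i, Module.Finite (IsLocalRing.ResidueField R) (V.homology i) := by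
    intro i
    have := (hff i).1
    haveI : Module.Finite (IsLocalRing.ResidueField R) (V.X i) :=
      finite_extendScalars (IsLocalRing.residue R) (E₀.X i)
    have hinj : Function.Injective (V.iCycles i).hom :=
      (ModuleCat.mono_iff_injective _).1 inferInstance
    have hsurj : Function.Surjective (V.homologyπ i).hom :=
      (ModuleCat.epi_iff_surjective _).1 inferInstance
    haveI : Module.Finite (IsLocalRing.ResidueField R) (V.cycles i) :=
      Module.Finite.of_injective (V.iCycles i).hom hinj
    exact Module.Finite.of_surjective (V.homologyπ i).hom hsurj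
  have hVz : ∀ i, b < i → IsZero (V.homology i) := by
    intro i hi
    exact Groth.Agent.H28.PCohCore.isZero_homology_of_isZero_X V i
      ((ModuleCat.extendScalars.{u, u, u} (IsLocalRing.residue R)).map_isZero (hb i hi))
  refine ⟨fun i => ?_, ⟨b, fun i hi => ?_⟩, ?_⟩
  · have := hVfin i
    exact Module.Finite.equiv (ι i).toLinearEquiv.symm
  · haveI := ModuleCat.subsingleton_of_isZero (hVz i hi)
    exact (ι i).toLinearEquiv.toEquiv.subsingleton
  · obtain ⟨s, hs⟩ := exists_quasiIso_homologyCx V
    let E := homologyCx V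
    have hsiso : IsIso (Q.map s) := Groth.Agent.H28.PCohDer.isIso_Q_map_of_quasiIso s hs
    let hE : DRing.toD E ≅ (DRing.LBaseChange (IsLocalRing.residue R)).obj K :=
      asIso (Q.map s) ≪≫ (LBaseChangeIso (IsLocalRing.residue R) E₀ hKF).symm ≪≫
        (DRing.LBaseChange (IsLocalRing.residue R)).mapIso eK
    have hI : IsLocalRing.maximalIdeal R ≤ Ideal.jacobson (⊥ : Ideal R) := by
      rw [IsLocalRing.jacobson_eq_maximalIdeal ⊥ bot_ne_top]
    haveI : DRing.HasLBaseChange (Ideal.Quotient.mk (IsLocalRing.maximalIdeal R)) :=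
      ‹DRing.HasLBaseChange (IsLocalRing.residue R)›
    let E' : DRing.Cx (R ⧸ IsLocalRing.maximalIdeal R) := E
    have hEs : ∀ i : ℤ, Module.Finite (R ⧸ IsLocalRing.maximalIdeal R) (E'.X i) ∧
        Module.IsStablyFree (R ⧸ IsLocalRing.maximalIdeal R) (E'.X i) := fun i => by
      haveI : Module.Free (IsLocalRing.ResidueField R) (V.homology i) :=
        Module.Free.of_divisionRing (IsLocalRing.ResidueField R) (V.homology i)
      have h2 : Module.IsStablyFree (IsLocalRing.ResidueField R) (V.homology i) := inferInstance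
      exact ⟨hVfin i, h2⟩
    obtain ⟨P, b', hPb, hPs, ⟨eP⟩, ⟨eN⟩, hfree⟩ :=
      LiftJac.exists_lift_stablyFree_rep (IsLocalRing.maximalIdeal R) hI K hK E' b
        (fun i hi => hVz i hi)
        hEs ⟨hE⟩
    refine ⟨P, ⟨b', hPb⟩, fun i => ?_, ⟨eP⟩⟩
    have hfr : Module.Free R (P.X i) :=
      hfree i (Module.Free.of_divisionRing (IsLocalRing.ResidueField R) (V.homology i))
    refine ⟨hfr, (hPs i).1, ?_⟩
    have e1 : Module.finrank (IsLocalRing.ResidueField R)
        ((ModuleCat.extendScalars.{u, u, u} (IsLocalRing.residue R)).obj (P.X i)) =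
          Module.finrank R (P.X i) :=
      finrank_extendScalars (IsLocalRing.residue R) (P.X i)
    have e2 := ((HomologicalComplex.eval _ _ i).mapIso eN).toLinearEquiv.finrank_eq
    have e3 := (ι i).toLinearEquiv.finrank_eq
    rw [← e1, e3]
    exact e2

end Groth.Agent.H28.MinCx
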