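import Groth.Agent.H28.PCohRing2
import Groth.Agent.H32.Coherent

/-!
# Pseudo-coherence over a coherent ring
-/

set_option autoImplicit false

universe u

open CategoryTheory CategoryTheory.Limits

open scoped ZeroObject

namespace Groth.Agent.H28.PCohCoherent

open Groth.Agent.H28 Groth.Agent.H28.PCohCore Groth.Agent.H28.PCohDer Groth.Agent.H28.PCohSum
  Groth.Agent.H28.PCohDev Groth.Agent.H28.PCohSES Groth.Agent.H28.PCohTri
  Groth.Agent.H28.PCohRing DerivedCategory

attribute [local instance] HasDerivedCategory.standard

variable (A : Type u) [CommRing A]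
  (hR : ∀ I : Ideal A, I.FG → Module.FinitePresentation A I)

include hR in
lemma ker_fg_of_coherent {E X : Type u} [AddCommGroup E] [Module A E] [AddCommGroup X]
    [Module A X] [Module.Finite A E] [Module.FinitePresentation A X] (f : E →ₗ[A] X) :
    (LinearMap.ker f).FG := by
  have hX := Groth.Agent.H32.isCoh_of_finitePresentation hR X
  have h1 : (LinearMap.range f).FG := by
    rw [LinearMap.range_eq_map]
    exact Module.Finite.fg_top.map f
  have := hX.2 _ h1
  have h2 := Module.FinitePresentation.fg_ker f.rangeRestrict f.surjective_rangeRestrict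
  rwa [LinearMap.ker_rangeRestrict] at h2

include hR in
lemma isOfFiniteType_kernel_of_coherent (X E : ModuleCat.{u} A) (u : E ⟶ X)
    (hX : Module.FinitePresentation A X) (hE : finFree A E) :
    PCoh.IsOfFiniteType (finFree A) (kernel u) := by
  rw [isOfFiniteType_finFree_iff]
  have := hE.1
  have : Module.Finite A (LinearMap.ker u.hom) :=
    Module.Finite.iff_fg.mpr (ker_fg_of_coherent A hR u.hom)
  exact Module.Finite.equiv (ModuleCat.kernelIsoKer u).symm.toLinearEquiv

include hR in
lemma hcoh_finFree_of_coherent (X E : ModuleCat.{u} A) (u : E ⟶ X) (hX : finFree A X)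
    (hE : finFree A E) : PCoh.IsOfFiniteType (finFree A) (kernel u) := by
  have := hX.1
  have := hX.2
  have : Module.Projective A X := Module.Projective.of_free
  exact isOfFiniteType_kernel_of_coherent A hR X E u
    (Module.finitePresentation_of_projective A X) hE

include hR in
lemma isCoh_iff_finitePresentation_of_coherent (X : ModuleCat.{u} A) :
    PCohCoh.IsCoh (finFree A) X ↔ Module.FinitePresentation A X := by
  constructor
  · intro h
    have hfin : Module.Finite A X := (isOfFiniteType_finFree_iff A X).mp h.1
    obtain ⟨n, f, hf⟩ := Module.Finite.exists_fin' A X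
    have h2 := h.2 (ModuleCat.of A (Fin n → A)) (ModuleCat.ofHom f)
      ⟨inferInstanceAs (Module.Finite A (Fin n → A)), inferInstanceAs (Module.Free A (Fin n → A))⟩
    rw [isOfFiniteType_finFree_iff] at h2
    have h3 : Module.Finite A (LinearMap.ker f) :=
      Module.Finite.equiv (ModuleCat.kernelIsoKer (ModuleCat.ofHom f)).toLinearEquiv
    exact (Module.FinitePresentation.fg_ker_iff f hf).mp (Module.Finite.iff_fg.mp h3)
  · intro h
    have : Module.Finite A X := inferInstance
    exact ⟨(isOfFiniteType_finFree_iff A X).mpr this, fun E u hE =>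
      isOfFiniteType_kernel_of_coherent A hR X E u h hE⟩

include hR in
/-- the coherent ring criterion -/
theorem isNPC_iff_of_coherent (m : ℤ) (K : Dual.D A) (b : ℤ)
    (hb : ∀ i : ℤ, b < i →
      IsZero ((DerivedCategory.homologyFunctor (ModuleCat.{u} A) i).obj K)) :
    IsNPC (finFree A) m K ↔
      Module.Finite A ((DerivedCategory.homologyFunctor (ModuleCat.{u} A) m).obj K) ∧
      ∀ i : ℤ, m < i → Module.FinitePresentation A
        ((DerivedCategory.homologyFunctor (ModuleCat.{u} A) i).obj K) := by
  constructor
  · intro h
    have h' := PCohCoh.coh_homology_of_isNPC (finFree A) (hcoh_finFree_of_coherent A hR)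
      (hql_finFree A) (finFree_prod A) m K h
    exact ⟨(isOfFiniteType_finFree_iff A _).mp h'.1, fun i hi =>
      (isCoh_iff_finitePresentation_of_coherent A hR _).mp (h'.2 i hi)⟩
  · rintro ⟨h1, h2⟩
    exact PCohCoh.isNPC_of_coh_homology (finFree A) (hcoh_finFree_of_coherent A hR)
      (hql_finFree A) (finFree_prod A) m K b hb
      ((isOfFiniteType_finFree_iff A _).mpr h1)
      (fun i hi => (isCoh_iff_finitePresentation_of_coherent A hR _).mpr (h2 i hi))

end Groth.Agent.H28.PCohCoherent
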