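import Groth.Agent.H28.PCohDer

/-!
# Pseudo-coherence in the derived category, II
-/

set_option autoImplicit false

universe w v u

open CategoryTheory CategoryTheory.Limits CochainComplex HomComplex

open scoped ZeroObject

namespace Groth.Agent.H28.PCohDer

open Groth.Agent.H28 Groth.Agent.H28.PCohCore DerivedCategory

variable {C : Type u} [Category.{v} C] [Abelian C]

/-- the cone of a map from a termwise zero complex -/
lemma nonempty_homology_iso_mappingCone_of_isZero {F' E : CochainComplex C ℤ} (w : F' ⟶ E)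
    (hF' : ∀ i : ℤ, IsZero (F'.X i)) (k : ℤ) :
    Nonempty (E.homology k ≅ (mappingCone w).homology k) := by
  have : ∀ i : ℤ, IsIso ((mappingCone.inr w).f i) := by
    intro i
    have hz : (mappingCone.fst w).1.v i (i + 1) rfl = 0 := (hF' (i + 1)).eq_of_tgt _ _
    have h := mappingCone.id_X w i (i + 1) rfl
    rw [hz, zero_comp, zero_add] at h
    exact ⟨(mappingCone.snd w).v i i (add_zero i), mappingCone.inr_f_snd_v w i, h⟩
  have : IsIso (mappingCone.inr w) := HomologicalComplex.Hom.isIso_of_components _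
  exact ⟨(HomologicalComplex.homologyFunctor C _ k).mapIso (asIso (mappingCone.inr w))⟩

section

variable (P : ObjectProperty C) [P.IsClosedUnderIsomorphisms] [P.ContainsZero]
  (hql : PCoh.IsQuasiLiftable P)

include hql in
/-- a complex acyclic in degrees `> n` with `Hⁿ` of finite type is `n`-pseudo-coherent -/
lemma exists_strictPC_of_finiteType_homology (n : ℤ) (F₁ : CochainComplex C ℤ)
    (hac : ∀ i : ℤ, n < i → IsZero (F₁.homology i))
    (hft : PCoh.IsOfFiniteType P (F₁.homology n)) :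
    ∃ (E' : CochainComplex C ℤ) (u' : E' ⟶ F₁), PCoh.IsStrictPC P n E' ∧ QuasiIso u' := by
  have h0 : IsZero (0 : CochainComplex C ℤ) := isZero_zero _
  have h0X : ∀ i : ℤ, IsZero ((0 : CochainComplex C ℤ).X i) := fun i =>
    (HomologicalComplex.eval C (ComplexShape.up ℤ) i).map_isZero h0
  obtain ⟨e⟩ := nonempty_homology_iso_mappingCone_of_isZero (0 : (0 : CochainComplex C ℤ) ⟶ F₁)
    h0X n
  obtain ⟨E', v, u', -, -, hisov, hcok, hiso', hepi'⟩ :=
    exists_modification_of_finiteType P hql n 0 F₁ 0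
      (fun i hi => ⟨⟨0, (isZero_homology_of_isZero_X _ i (h0X i)).eq_of_src _ _,
        (hac i (by omega)).eq_of_src _ _⟩⟩)
      ((hac (n + 1) (by omega)).epi _) (isOfFiniteType_of_iso P e hft)
  refine exists_strictPC_of_nQuasiIso P n E' F₁ ⟨⟨n, fun i hi => ?_⟩, fun i hi => ?_⟩ u' hiso'
    hepi'
  · have := hisov i (by omega)
    exact IsZero.of_iso (h0X i) (asIso (v.f i)).symm
  · by_cases hi' : i = n
    · subst hi'
      have h0' : v.f i = 0 := (h0X i).eq_of_src _ _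
      have := isIso_cokernel_π_of_eq_zero _ h0'
      exact P.prop_of_iso (asIso (cokernel.π (v.f i))).symm hcok
    · have := hisov i hi'
      exact P.prop_of_isZero (IsZero.of_iso (h0X i) (asIso (v.f i)).symm)

/-- `n`-pseudo-coherent objects of the derived category -/
def IsNPC [HasDerivedCategory.{w} C] (n : ℤ) (F : DerivedCategory C) : Prop :=
  ∃ E : CochainComplex C ℤ, PCoh.IsStrictPC P n E ∧ Nonempty (Q.obj E ≅ F)

omit [P.IsClosedUnderIsomorphisms] [P.ContainsZero] in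
lemma IsNPC.of_iso [HasDerivedCategory.{w} C] {n : ℤ} {F G : DerivedCategory C}
    (h : IsNPC P n F) (e : F ≅ G) : IsNPC P n G := by
  obtain ⟨E, hE, ⟨e'⟩⟩ := h
  exact ⟨E, hE, ⟨e' ≪≫ e⟩⟩

omit [P.ContainsZero] in
lemma isStrictPC_shift {n : ℤ} {E : CochainComplex C ℤ} (hE : PCoh.IsStrictPC P n E)
    (a n' : ℤ) (hn' : n' + a = n) : PCoh.IsStrictPC P n' (E⟦a⟧) := by
  obtain ⟨⟨b, hb⟩, hP⟩ := hE
  refine ⟨⟨b - a, fun i hi => ?_⟩, fun i hi => ?_⟩
  · exact IsZero.of_iso (hb (i + a) (by omega)) (E.shiftFunctorObjXIso a i (i + a) rfl)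
  · exact P.prop_of_iso (E.shiftFunctorObjXIso a i (i + a) rfl).symm (hP (i + a) (by omega))

omit [P.ContainsZero] in
lemma IsNPC.shift [HasDerivedCategory.{w} C] {n : ℤ} {F : DerivedCategory C}
    (h : IsNPC P n F) (a n' : ℤ) (hn' : n' + a = n) : IsNPC P n' (F⟦a⟧) := by
  obtain ⟨E, hE, ⟨e⟩⟩ := h
  exact ⟨E⟦a⟧, isStrictPC_shift P hE a n' hn',
    ⟨(Q.commShiftIso a).app E ≪≫ (CategoryTheory.shiftFunctor (DerivedCategory C) a).mapIso e⟩⟩

variable (hsum : ∀ X Y : C, P X → P Y → P (X ⨯ Y))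
  (hqs : PCoh.IsQuasiStableUnderKernels P)

omit [P.ContainsZero] in
include hsum in
lemma isStrictPC_mappingCone {n : ℤ} {E₁ E₂ : CochainComplex C ℤ}
    (h₁ : PCoh.IsStrictPC P (n + 1) E₁) (h₂ : PCoh.IsStrictPC P n E₂) (t : E₁ ⟶ E₂) :
    PCoh.IsStrictPC P n (mappingCone t) := by
  obtain ⟨⟨b₁, hb₁⟩, hP₁⟩ := h₁
  obtain ⟨⟨b₂, hb₂⟩, hP₂⟩ := h₂
  refine ⟨⟨max b₁ b₂, fun i hi => ?_⟩, fun i hi => ?_⟩
  · exact StrictPerf.isZero_mappingCone _ i (hb₁ _ (by omega)) (hb₂ _ (by omega))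
  · exact StrictPerf.prop_mappingCone P hsum _ i (hP₁ _ (by omega)) (hP₂ _ hi)

include hsum hqs hql in
/-- the cone of a morphism from an `(n+1)`-pseudo-coherent to an `n`-pseudo-coherent object is
`n`-pseudo-coherent -/
lemma isNPC_obj₃ [HasDerivedCategory.{w} C] {n : ℤ} (T : Pretriangulated.Triangle (DerivedCategory C))
    (hT : T ∈ Pretriangulated.distinguishedTriangles)
    (h₁ : IsNPC P (n + 1) T.obj₁) (h₂ : IsNPC P n T.obj₂) : IsNPC P n T.obj₃ := by
  obtain ⟨E₁, hE₁, ⟨e₁⟩⟩ := h₁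
  obtain ⟨F₁, hF₁, ⟨e₂⟩⟩ := h₂
  obtain ⟨E₂, r, t, hE₂, hr, ht⟩ := exists_rep_of_hom P hql hsum hqs (n + 1) E₁ F₁ hE₁
    (e₁.hom ≫ T.mor₁ ≫ e₂.inv)
  have := isIso_Q_map_of_quasiIso r hr
  obtain ⟨e₃⟩ := Groth.Agent.H35.nonempty_mappingCone_iso T hT E₂ F₁
    (asIso (Q.map r) ≪≫ e₁) e₂ t (by rw [ht]; simp)
  exact ⟨mappingCone t, isStrictPC_mappingCone P hsum hE₂ hF₁ t, ⟨e₃⟩⟩

end

end Groth.Agent.H28.PCohDer
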