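import Groth.Agent.H28.PCohTower

/-!
# Strictly pseudo-coherent resolutions of pseudo-coherent objects
-/

set_option autoImplicit false

universe w v u

open CategoryTheory CategoryTheory.Limits CochainComplex HomComplex

open scoped ZeroObject

namespace Groth.Agent.H28.PCohTower

open Groth.Agent.H28 Groth.Agent.H28.PCohCore Groth.Agent.H28.PCohDer DerivedCategory

variable {C : Type u} [Category.{v} C] [Abelian C]

variable {P : ObjectProperty C} [P.IsClosedUnderIsomorphisms] [P.ContainsZero]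
  [HasDerivedCategory.{w} C]
  (hql : PCoh.IsQuasiLiftable P) (hsum : ∀ X Y : C, P X → P Y → P (X ⨯ Y))
  (hqs : PCoh.IsQuasiStableUnderKernels P)

include hql hsum hqs in
/-- a complex with pseudo-coherent image in `D(C)`, acyclic in degrees `≥ m`, receives a
quasi-isomorphism from a strictly pseudo-coherent complex vanishing in degrees `≥ m` -/
lemma exists_strictPCAll_resolution (m : ℤ) (F₁ : CochainComplex C ℤ)
    (hF : PCoh.IsPC P (Q.obj F₁)) (hac : ∀ i : ℤ, m ≤ i → IsZero (F₁.homology i)) :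
    ∃ (E' : CochainComplex C ℤ) (u' : E' ⟶ F₁), PCoh.IsStrictPCAll P E' ∧ QuasiIso u' ∧
      ∀ i : ℤ, m ≤ i → IsZero (E'.X i) := by
  have h0 : IsZero (0 : CochainComplex C ℤ) := isZero_zero _
  have h0X : ∀ i : ℤ, IsZero ((0 : CochainComplex C ℤ).X i) := fun i =>
    (HomologicalComplex.eval C (ComplexShape.up ℤ) i).map_isZero h0
  obtain ⟨E', v, u', -, hE', hu', -, hisov⟩ :=
    exists_strictPCAll_factorisation hql hsum hqs m 0 F₁
      ⟨⟨0, fun i _ => h0X i⟩, fun i => P.prop_of_isZero (h0X i)⟩ hF 0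
      (fun j hj => ⟨⟨0, (isZero_homology_of_isZero_X _ j (h0X j)).eq_of_src _ _,
        (hac j hj.le).eq_of_src _ _⟩⟩)
      ((hac m le_rfl).epi _)
  refine ⟨E', u', hE', hu', fun i hi => ?_⟩
  have := hisov i hi
  exact IsZero.of_iso (h0X i) (asIso (v.f i)).symm

include hql hsum hqs in
/-- a pseudo-coherent object of `D(C)` acyclic in degrees `≥ m` is represented by a strictly
pseudo-coherent complex vanishing in degrees `≥ m` -/
lemma exists_strictPCAll_iso (m : ℤ) (F : DerivedCategory C) (hF : PCoh.IsPC P F)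
    (hac : ∀ i : ℤ, m ≤ i → IsZero ((DerivedCategory.homologyFunctor C i).obj F)) :
    ∃ E : CochainComplex C ℤ, PCoh.IsStrictPCAll P E ∧ (∀ i : ℤ, m ≤ i → IsZero (E.X i)) ∧
      Nonempty (Q.obj E ≅ F) := by
  let F₁ := Q.objPreimage F
  let φ : Q.obj F₁ ≅ F := Q.objObjPreimageIso F
  have hF₁ : PCoh.IsPC P (Q.obj F₁) := by
    intro k
    obtain ⟨E, hE, ⟨e⟩⟩ := hF k
    exact ⟨E, hE, ⟨e ≪≫ φ.symm⟩⟩
  obtain ⟨E', u', hE', hu', hz⟩ := exists_strictPCAll_resolution hql hsum hqs m F₁ hF₁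
    (fun i hi => IsZero.of_iso (hac i hi)
      ((homologyQIso F₁ i).symm ≪≫ (DerivedCategory.homologyFunctor C i).mapIso φ))
  have := isIso_Q_map_of_quasiIso u' hu'
  exact ⟨E', hE', hz, ⟨asIso (Q.map u') ≪≫ φ⟩⟩

include hql hsum hqs in
/-- any complex quasi-isomorphic (through an iso in `D(C)`) to a strictly pseudo-coherent complex
receives a quasi-isomorphism from a strictly pseudo-coherent complex -/
lemma exists_strictPCAll_over (E X' : CochainComplex C ℤ) (hE : PCoh.IsStrictPCAll P E)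
    (e : Q.obj X' ≅ Q.obj E) :
    ∃ (E'' : CochainComplex C ℤ) (r : E'' ⟶ X'), PCoh.IsStrictPCAll P E'' ∧ QuasiIso r := by
  obtain ⟨⟨b, hb⟩, hP⟩ := hE
  have hX' : PCoh.IsPC P (Q.obj X') := fun k => ⟨E, ⟨⟨b, hb⟩, fun i _ => hP i⟩, ⟨e.symm⟩⟩
  have hac : ∀ i : ℤ, b + 1 ≤ i → IsZero (X'.homology i) := by
    intro i hi
    exact IsZero.of_iso (isZero_homology_of_isZero_X E i (hb i (by omega)))
      (homologyIsoOfQIso e i)
  obtain ⟨E'', r, hE'', hr, -⟩ := exists_strictPCAll_resolution hql hsum hqs (b + 1) X' hX' hac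
  exact ⟨E'', r, hE'', hr⟩

omit [P.IsClosedUnderIsomorphisms] [P.ContainsZero] in
/-- two chain maps with the same image in `D(C)` become homotopic after precomposition with a
quasi-isomorphism -/
lemma exists_quasiIso_homotopy_of_Q_map_eq {K L : CochainComplex C ℤ} (f g : K ⟶ L)
    (h : Q.map f = Q.map g) :
    ∃ (X : CochainComplex C ℤ) (t : X ⟶ K), QuasiIso t ∧
      Nonempty (Homotopy (t ≫ f) (t ≫ g)) := by
  have h' : Qh.map ((HomotopyCategory.quotient _ _).map f) =
      Qh.map ((HomotopyCategory.quotient _ _).map g) := by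
    have hf := quotientCompQhIso_hom_naturality f
    have hg := quotientCompQhIso_hom_naturality g
    rw [← cancel_mono ((quotientCompQhIso C).hom.app L), hf, hg, h]
  rw [MorphismProperty.map_eq_iff_precomp Qh (HomotopyCategory.quasiIso C (ComplexShape.up ℤ))]
    at h'
  obtain ⟨X, s, hs, fac⟩ := h'
  obtain ⟨X, rfl⟩ := HomotopyCategory.quotient_obj_surjective X
  obtain ⟨s, rfl⟩ := (HomotopyCategory.quotient _ _).map_surjective s
  rw [HomotopyCategory.quotient_map_mem_quasiIso_iff, HomologicalComplex.mem_quasiIso_iff] at hs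
  refine ⟨X, s, hs, ⟨HomotopyCategory.homotopyOfEq _ _ ?_⟩⟩
  rw [Functor.map_comp, Functor.map_comp, fac]

include hql hsum hqs in
/-- faithfulness: two chain maps out of a strictly pseudo-coherent complex with the same image in
`D(C)` become homotopic after precomposition with a quasi-isomorphism from a strictly
pseudo-coherent complex -/
lemma exists_strictPCAll_homotopy (E L : CochainComplex C ℤ) (hE : PCoh.IsStrictPCAll P E)
    (f g : E ⟶ L) (h : Q.map f = Q.map g) :
    ∃ (E'' : CochainComplex C ℤ) (s : E'' ⟶ E), PCoh.IsStrictPCAll P E'' ∧ QuasiIso s ∧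
      Nonempty (Homotopy (s ≫ f) (s ≫ g)) := by
  obtain ⟨X, t, ht, ⟨H⟩⟩ := exists_quasiIso_homotopy_of_Q_map_eq f g h
  have hQt := isIso_Q_map_of_quasiIso t ht
  obtain ⟨E'', r, hE'', hr⟩ := exists_strictPCAll_over hql hsum hqs E X hE
    (@asIso _ _ _ _ (Q.map t) hQt)
  refine ⟨E'', r ≫ t, hE'', quasiIso_comp r t, ⟨?_⟩⟩
  exact (Homotopy.ofEq (Category.assoc _ _ _)).trans
    ((H.compLeft r).trans (Homotopy.ofEq (Category.assoc _ _ _).symm))

end Groth.Agent.H28.PCohTower
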