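import Groth.Agent.H28.PCohFlat
import Groth.Agent.H28.PCohTower2
import Groth.Agent.H35.TorAmpD
import Groth.Agent.H35.TorAmpCone
import Groth.Agent.H35.TorAmpSummand
import Groth.Agent.H35.PseudoCohMap

/-!
# Perfect complexes: pseudo-coherent + finite tor amplitude
-/

set_option autoImplicit false

universe u

open CategoryTheory CategoryTheory.Limits

open scoped ZeroObject

namespace Groth.Agent.H28.PCohPerf

open Groth.Agent.H28 Groth.Agent.H28.PCohCore Groth.Agent.H28.PCohDer Groth.Agent.H28.PCohSum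
  Groth.Agent.H28.PCohDev Groth.Agent.H28.PCohSES Groth.Agent.H28.PCohTri
  Groth.Agent.H28.PCohRing Groth.Agent.H28.PCohDescent DerivedCategory

attribute [local instance] HasDerivedCategory.standard

section StupidTrunc

variable {C : Type*} [Category C] [Abelian C]

lemma isIso_homologyMap_of_isStupidTrunc {F G : CochainComplex C ℤ} (ι : G ⟶ F) (n : ℤ)
    (hG : IsStupidTrunc F G ι n) (i : ℤ) (hi : n < i) :
    IsIso (HomologicalComplex.homologyMap ι i) := by
  have h1 := hG.isIso (i - 1) (by omega)
  have h2 := hG.isIso i (by omega)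
  have h3 := hG.isIso (i + 1) (by omega)
  have : QuasiIsoAt ι i := quasiIsoAt_of_isIso_f ι (i - 1) i (i + 1) (by omega) rfl
    inferInstance h2 inferInstance
  exact (quasiIsoAt_iff_isIso_homologyMap ι i).mp this

lemma epi_homologyMap_of_isStupidTrunc {F G : CochainComplex C ℤ} (ι : G ⟶ F) (n : ℤ)
    (hG : IsStupidTrunc F G ι n) : Epi (HomologicalComplex.homologyMap ι n) := by
  rw [HomologicalComplex.epi_homologyMap_iff_up_to_refinements _ (n - 1) n (n + 1) (by simp)
    (by simp)]
  intro T y hy
  have h2 := hG.isIso n le_rfl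
  have h3 := hG.isIso (n + 1) (by omega)
  refine ⟨T, 𝟙 T, inferInstance, y ≫ inv (ι.f n), ?_, 0, ?_⟩
  · rw [← cancel_mono (ι.f (n + 1)), Category.assoc, Category.assoc, ← ι.comm,
      IsIso.inv_hom_id_assoc, hy, zero_comp]
  · simp

end StupidTrunc

variable (A : Type u) [CommRing A]

/-- projective modules -/
def projMod : ObjectProperty (ModuleCat.{u} A) := fun M => Projective M

instance : (projMod A).IsClosedUnderIsomorphisms where
  of_iso e h := Projective.of_iso e h

instance : (projMod A).ContainsZero where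
  exists_zero := ⟨0, isZero_zero _, (isZero_zero _).projective⟩

lemma hql_projMod : PCoh.IsQuasiLiftable (projMod A) :=
  isQuasiLiftable_of_projective (projMod A) (fun _ h => h)

lemma hqs_projMod : PCoh.IsQuasiStableUnderKernels (projMod A) :=
  isQuasiStable_of_projective (projMod A) (fun _ h => h)

lemma projMod_prod (X Y : ModuleCat.{u} A) (hX : projMod A X) (hY : projMod A Y) :
    projMod A (X ⨯ Y) := by
  have : Projective X := hX
  have : Projective Y := hY
  exact Projective.of_iso (biprod.isoProd X Y) (inferInstanceAs (Projective (X ⊞ Y)))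

lemma isOfFiniteType_projMod (M : ModuleCat.{u} A) : PCoh.IsOfFiniteType (projMod A) M :=
  ⟨Projective.over M, Projective.π M, Projective.projective_over M, inferInstance⟩

/-- every object with bounded above cohomology is pseudo-coherent relative to projective modules -/
lemma isPC_projMod (K : Dual.D A) (b : ℤ)
    (hb : ∀ i : ℤ, b < i → IsZero ((DerivedCategory.homologyFunctor (ModuleCat.{u} A) i).obj K)) :
    PCoh.IsPC (projMod A) K := by
  intro n
  exact PCohCoh.isNPC_of_coh_homology (projMod A) (fun _ _ _ _ _ => isOfFiniteType_projMod A _)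
    (hql_projMod A) (projMod_prod A) n K b hb (isOfFiniteType_projMod A _)
    (fun i _ => ⟨isOfFiniteType_projMod A _, fun _ _ _ => isOfFiniteType_projMod A _⟩)

/-- Lemma A: an `k`-pseudo-coherent object is represented by a bounded above complex of projective
modules whose terms in degrees `≥ k` are finite free -/
lemma exists_projective_strict (k : ℤ) (K : Dual.D A) (h : IsNPC (finFree A) k K) :
    ∃ P : CochainComplex (ModuleCat.{u} A) ℤ, (∃ b : ℤ, ∀ i : ℤ, b < i → IsZero (P.X i)) ∧
      (∀ i : ℤ, Projective (P.X i)) ∧ (∀ i : ℤ, k ≤ i → finFree A (P.X i)) ∧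
      Nonempty (Q.obj P ≅ K) := by
  obtain ⟨E₀, ⟨⟨b, hb⟩, hP⟩, ⟨e⟩⟩ := id h
  obtain ⟨G, ι, hG, -⟩ := PCohFun.exists_stupidTrunc_of_prop (C := ModuleCat.{u} A)
    (fun _ => True) (fun _ => True)
    (fun _ _ => trivial) (fun _ _ _ _ => trivial) k E₀ b hb (fun _ _ => trivial) k
    (le_max_right _ _) le_rfl
  have hGX : ∀ i : ℤ, k ≤ i → (G.X i ≅ E₀.X i) := fun i hi =>
    have := hG.isIso i hi
    asIso (ι.f i)
  have hGall : PCoh.IsStrictPCAll (projMod A) G := by
    refine ⟨⟨b, fun i hi => ?_⟩, fun i => ?_⟩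
    · by_cases hik : i < k
      · exact hG.isZero i hik
      · exact IsZero.of_iso (hb i hi) (hGX i (by omega))
    · by_cases hik : i < k
      · exact (hG.isZero i hik).projective
      · exact Projective.of_iso (hGX i (by omega)).symm
          (projective_of_finFree A _ (hP i (by omega)))
  have hac : ∀ i : ℤ, b < i →
      IsZero ((DerivedCategory.homologyFunctor (ModuleCat.{u} A) i).obj (Q.obj E₀)) := fun i hi =>
    IsZero.of_iso (isZero_homology_of_isZero_X E₀ i (hb i hi)) (homologyQIso E₀ i)
  obtain ⟨E', v, u', -, hE', hu', -, hv⟩ :=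
    PCohTower.exists_strictPCAll_factorisation (hql_projMod A) (projMod_prod A) (hqs_projMod A)
      k G E₀ hGall (isPC_projMod A _ b hac) ι
      (fun j hj => isIso_homologyMap_of_isStupidTrunc ι k hG j hj)
      (epi_homologyMap_of_isStupidTrunc ι k hG)
  refine ⟨E', hE'.1, hE'.2, fun i hi => ?_, ⟨?_⟩⟩
  · have := hv i hi
    exact (finFree A).prop_of_iso ((hGX i hi).symm ≪≫ asIso (v.f i)) (hP i hi)
  · have := isIso_Q_map_of_quasiIso u' hu'
    exact asIso (Q.map u') ≪≫ e

open Groth.Agent.H35 Groth.Agent.H35.KF in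
/-- Lemma B: truncation of a bounded above complex of flat modules with finite projective terms in
degrees `≥ m - 1` representing an object with tor amplitude in `[m, n]` -/
lemma exists_finProj_truncation (m n b : ℤ) (P : CochainComplex (ModuleCat.{u} A) ℤ)
    (hb : ∀ i : ℤ, b < i → IsZero (P.X i)) (hflat : ∀ i : ℤ, Module.Flat A (P.X i))
    (hfin : ∀ i : ℤ, m - 1 ≤ i → finProj A (P.X i))
    (htor : DRing.HasTorAmplitudeIn A m n (Q.obj P)) :
    ∃ E : DRing.Cx A, DRing.VanishesOutside E m b ∧ DRing.TermwiseFiniteProjective E ∧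
      Nonempty (DRing.toD E ≅ Q.obj P) := by
  have hv : TorVanishing P m n :=
    torVanishing_of_hasTorAmplitudeIn (Q.obj P) m n htor P b hb hflat (Iso.refl _)
  have hGE : P.IsGE m := by
    rw [CochainComplex.isGE_iff]
    intro i hi
    exact exactAt_of_tensExactAt_unit P i (hv _ i (Or.inl hi))
  have hq : QuasiIso (P.πTruncGE m) := inferInstance
  have hiso : IsIso (DerivedCategory.Q.map (P.πTruncGE m)) :=
    (DerivedCategory.isIso_Q_map_iff_quasiIso (φ := P.πTruncGE m)).2 hq
  refine ⟨P.truncGE m, ?_, ?_, ⟨(asIso (DerivedCategory.Q.map (P.πTruncGE m))).symm⟩⟩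
  · intro i hi
    by_cases h1 : i < m
    · exact (P.truncGE m).isZero_of_isStrictlyGE m i h1
    · have h2 : b < i := by omega
      by_cases h3 : i = m
      · subst h3
        refine IsZero.of_iso ?_ (P.truncGEXIsoOpcycles i)
        have hepi : Epi (P.pOpcycles i) := inferInstance
        exact @IsZero.of_epi _ _ _ _ _ (P.pOpcycles i) hepi (hb i h2)
      · exact IsZero.of_iso (hb i h2) (P.truncGEXIso m i (by omega))
  · intro i
    by_cases h1 : i < m
    · have hz := (P.truncGE m).isZero_of_isStrictlyGE m i h1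
      have : Subsingleton ((P.truncGE m).X i) := ModuleCat.subsingleton_of_isZero hz
      exact ⟨inferInstance, inferInstance⟩
    · by_cases h3 : i = m
      · subst h3
        have hfl : Module.Flat A (P.opcycles i) :=
          flat_opcycles P i (hflat i) (fun N => hv N (i - 1) (Or.inl (by omega)))
        have h1' := (hfin (i - 1) le_rfl).1
        have h2' := (hfin i (by omega)).1
        have h2'' := (hfin i (by omega)).2
        have hfp : Module.FinitePresentation A (P.opcycles i) :=
          finitePresentation_opcycles P i h1' (Module.finitePresentation_of_projective A _)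
        have hpr : Module.Projective A (P.opcycles i) :=
          Module.Flat.projective_of_finitePresentation
        have hfi : Module.Finite A (P.opcycles i) := inferInstance
        exact (finProj A).prop_of_iso (P.truncGEXIsoOpcycles i).symm ⟨hfi, hpr⟩
      · exact (finProj A).prop_of_iso (P.truncGEXIso m i (by omega)).symm (hfin i (by omega))

lemma flat_of_categorical_projective (M : ModuleCat.{u} A) (h : Projective M) :
    Module.Flat A M := by
  have : Module.Projective A M := (IsProjective.iff_projective (R := A) (P := M)).mpr h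
  infer_instance

/-- a bounded above complex of finite projective modules is pseudo-coherent -/
lemma isNPC_of_finProj_rep (E : DRing.Cx A) (b : ℤ) (hb : ∀ i : ℤ, b < i → IsZero (E.X i))
    (hE : DRing.TermwiseFiniteProjective E) (j : ℤ) : IsNPC (finFree A) j (Q.obj E) :=
  (isNPC_finProj_iff A j _).mp ⟨E, ⟨⟨b, hb⟩, fun i _ => hE i⟩, ⟨Iso.refl _⟩⟩

open Groth.Agent.H35 Groth.Agent.H35.KF in
/-- the core theorem: an `(m - 1)`-pseudo-coherent object with tor amplitude in `[m, n]` is
represented by a complex of finite projective modules vanishing outside `[m, n]` -/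
theorem exists_finProj_rep (m n : ℤ) (K : Dual.D A) (hpc : IsNPC (finFree A) (m - 1) K)
    (htor : DRing.HasTorAmplitudeIn A m n K) :
    ∃ E : DRing.Cx A, DRing.VanishesOutside E m n ∧ DRing.TermwiseFiniteProjective E ∧
      Nonempty (DRing.toD E ≅ K) := by
  obtain ⟨P₁, ⟨b₁, hb₁⟩, hproj₁, hfin₁, ⟨e₁⟩⟩ := exists_projective_strict A (m - 1) K hpc
  obtain ⟨E₁, hE₁v, hE₁p, ⟨e₁'⟩⟩ := exists_finProj_truncation A m n b₁ P₁ hb₁
    (fun i => flat_of_categorical_projective A _ (hproj₁ i))
    (fun i hi => finFree_le_finProj A _ (hfin₁ i hi)) (hasTorAmplitudeIn_of_iso e₁.symm m n htor)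
  have hPC : PCoh.IsPC (finFree A) K := fun j =>
    IsNPC.of_iso _ (isNPC_of_finProj_rep A E₁ b₁ (fun i hi => hE₁v i (Or.inr hi)) hE₁p j)
      (e₁' ≪≫ e₁)
  have hac : ∀ i : ℤ, n + 1 ≤ i →
      IsZero ((DerivedCategory.homologyFunctor (ModuleCat.{u} A) i).obj K) := fun i hi =>
    isZero_homology_of_hasTorAmplitudeIn K m n htor i (Or.inr (by omega))
  obtain ⟨E₂, hE₂, hz₂, ⟨e₂⟩⟩ := PCohTower.exists_strictPCAll_iso (hql_finFree A) (finFree_prod A)
    (hqs_finFree A) (n + 1) K hPC hac
  obtain ⟨E, hEv, hEp, ⟨e⟩⟩ := exists_finProj_truncation A m n n E₂ (fun i hi => hz₂ i (by omega))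
    (fun i => flat_of_categorical_projective A _ (projective_of_finFree A _ (hE₂.2 i)))
    (fun i _ => finFree_le_finProj A _ (hE₂.2 i)) (hasTorAmplitudeIn_of_iso e₂.symm m n htor)
  exact ⟨E, hEv, hEp, ⟨e ≪≫ e₂⟩⟩

/-- finite projective representatives are pseudo-coherent with the expected tor amplitude -/
lemma isNPC_and_torAmp_of_finProj_rep (m n : ℤ) (K : Dual.D A) (E : DRing.Cx A)
    (hE : DRing.VanishesOutside E m n) (hp : DRing.TermwiseFiniteProjective E)
    (e : DRing.toD E ≅ K) :
    (∀ j : ℤ, IsNPC (finFree A) j K) ∧ DRing.HasTorAmplitudeIn A m n K := by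
  refine ⟨fun j => IsNPC.of_iso _ (isNPC_of_finProj_rep A E n (fun i hi => hE i (Or.inr hi)) hp j) e,
    ⟨E, hE, fun i => ?_, ⟨e⟩⟩⟩
  have := (hp i).2
  infer_instance

/-- perfect objects: the two-sided characterization used below -/
lemma isPerfect_iff (K : Dual.D A) :
    DRing.IsPerfect A K ↔ (∀ j : ℤ, IsNPC (finFree A) j K) ∧ DRing.HasFiniteTorDimCx A K := by
  constructor
  · rintro ⟨E, a, b, hab, hp, ⟨e⟩⟩
    obtain ⟨h1, h2⟩ := isNPC_and_torAmp_of_finProj_rep A a b K E hab hp e
    exact ⟨h1, a, b, h2⟩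
  · rintro ⟨hpc, a, b, htor⟩
    obtain ⟨E, hE, hp, he⟩ := exists_finProj_rep A a b K (hpc _) htor
    exact ⟨E, a, b, hE, hp, he⟩

/-- direct summands of perfect objects are perfect -/
theorem isPerfect_of_biprod (K L : Dual.D A) [HasBinaryBiproduct K L]
    (h : DRing.IsPerfect A (K ⊞ L)) : DRing.IsPerfect A K ∧ DRing.IsPerfect A L := by
  rw [isPerfect_iff] at h
  obtain ⟨hpc, a, b, htor⟩ := h
  obtain ⟨hK, hL⟩ := Groth.Agent.H35.KF.hasTorAmplitudeIn_of_biprod a b K L htor
  refine ⟨(isPerfect_iff A K).mpr ⟨fun j => ?_, a, b, hK⟩,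
    (isPerfect_iff A L).mpr ⟨fun j => ?_, a, b, hL⟩⟩
  · exact isNPC_left_of_biprod (finFree A) (hql_finFree A) (finFree_prod A) (hqs_finFree A) K L
      (hpc j)
  · exact isNPC_left_of_biprod (finFree A) (hql_finFree A) (finFree_prod A) (hqs_finFree A) L K
      (IsNPC.of_iso _ (hpc j) (biprod.braiding K L))

end Groth.Agent.H28.PCohPerf
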