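import Groth.Agent.H28.PCohPerf
import Groth.Agent.H35.PerfectBounded
import Groth.Agent.H35.FinProjClosure

/-!
# Perfect complexes and restriction of scalars
-/

set_option autoImplicit false

universe u

open CategoryTheory CategoryTheory.Limits

open scoped ZeroObject

namespace Groth.Agent.H28.PCohPerf

open Groth.Agent.H28 Groth.Agent.H28.PCohCore Groth.Agent.H28.PCohDer Groth.Agent.H28.PCohSum
  Groth.Agent.H28.PCohDev Groth.Agent.H28.PCohSES Groth.Agent.H28.PCohTri
  Groth.Agent.H28.PCohRing Groth.Agent.H28.PCohDescent DerivedCategory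

attribute [local instance] HasDerivedCategory.standard

variable {A B : Type u} [CommRing A] [CommRing B]

/-- perfect objects are stable under binary direct sums -/
lemma isPerfect_biprod (X Y : Dual.D A) (hX : DRing.IsPerfect A X) (hY : DRing.IsPerfect A Y) :
    DRing.IsPerfect A (X ⊞ Y) :=
  (Groth.Agent.H35.isPerfect_two_out_of_three A _
    (Pretriangulated.binaryBiproductTriangle_distinguished X Y)).2.1 hX hY

/-- an additive functor from `B`-modules to `D(A)` sending `B` to a perfect object sends finite
projective modules to perfect objects -/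
lemma isPerfect_obj_of_finProj (G : ModuleCat.{u} B ⥤ Dual.D A) [G.Additive]
    (hB : DRing.IsPerfect A (G.obj (ModuleCat.of B B))) (N : ModuleCat.{u} B)
    [Module.Finite B N] [Module.Projective B N] : DRing.IsPerfect A (G.obj N) := by
  refine Groth.Agent.H35.finite_projective_closure (fun N => DRing.IsPerfect A (G.obj N))
    ?_ hB ?_ ?_ ?_ N
  · intro M N e h
    exact Groth.Agent.H35.isPerfect_of_iso A (G.mapIso e) h
  · intro M hM
    exact Groth.Agent.H35.isPerfect_of_isZero A _
      (G.map_isZero (ModuleCat.isZero_of_subsingleton M))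
  · intro M N hM hN
    have e : G.obj (ModuleCat.of B (M × N)) ≅ G.obj M ⊞ G.obj N :=
      G.mapIso (ModuleCat.biprodIsoProd M N).symm ≪≫ mapBiprodIso G M N _ _ (Iso.refl _) (Iso.refl _)
    exact Groth.Agent.H35.isPerfect_of_iso A e.symm (isPerfect_biprod _ _ hM hN)
  · intro M N h
    have e : G.obj (ModuleCat.of B (M × N)) ≅ G.obj M ⊞ G.obj N :=
      G.mapIso (ModuleCat.biprodIsoProd M N).symm ≪≫ mapBiprodIso G M N _ _ (Iso.refl _) (Iso.refl _)
    exact (isPerfect_of_biprod A _ _ (Groth.Agent.H35.isPerfect_of_iso A e h)).1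

/-- restriction of scalars along `φ : A → B` with `B` perfect over `A` preserves perfect
objects -/
theorem isPerfect_restrictD (φ : A →+* B)
    (hB : DRing.IsPerfect A ((DerivedCategory.singleFunctor (ModuleCat.{u} A) 0).obj
      ((ModuleCat.restrictScalars φ).obj (ModuleCat.of B B))))
    (K : Dual.D B) (hK : DRing.IsPerfect B K) :
    DRing.IsPerfect A ((DRing.restrictD φ).obj K) := by
  obtain ⟨E, a, b, hab, hp, ⟨e⟩⟩ := hK
  have e' : (DRing.restrictD φ).obj K ≅ Q.obj ((DRing.restrictCx φ).obj E) :=
    (DRing.restrictD φ).mapIso e.symm ≪≫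
      (ModuleCat.restrictScalars.{u} φ).mapDerivedCategoryFactors.app E
  refine Groth.Agent.H35.isPerfect_of_iso A e'.symm ?_
  refine Groth.Agent.H35.isPerfect_of_bounded_termwise A _ a b ?_ ?_
  · intro i hi
    exact (ModuleCat.restrictScalars.{u} φ).map_isZero (hab i hi)
  · intro i
    have := (hp i).1
    have := (hp i).2
    exact isPerfect_obj_of_finProj
      (ModuleCat.restrictScalars.{u} φ ⋙ DerivedCategory.singleFunctor (ModuleCat.{u} A) 0) hB (E.X i)

end Groth.Agent.H28.PCohPerf
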