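import Groth.Agent.H28.PCohCoh

/-!
# Finite presentations and pseudo-coherence of an object placed in degree `0`
-/

set_option autoImplicit false

universe w v u

open CategoryTheory CategoryTheory.Limits

open scoped ZeroObject

namespace Groth.Agent.H28.PCohPres

open Groth.Agent.H28 Groth.Agent.H28.PCohCore Groth.Agent.H28.PCohDer Groth.Agent.H28.PCohSum
  Groth.Agent.H28.PCohDev Groth.Agent.H28.PCohSES DerivedCategory

variable {C : Type u} [Category.{v} C] [Abelian C]

section Cycles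

variable {ι : Type*} {c : ComplexShape ι} (K : HomologicalComplex C c)

/-- the short complex `Zᵢ ⟶ Kᵢ ⟶ Zⱼ` -/
noncomputable def cyclesSCGen (i j : ι) : ShortComplex C :=
  ShortComplex.mk (K.iCycles i) (K.toCycles i j) (by
    rw [← cancel_mono (K.iCycles j), Category.assoc, HomologicalComplex.toCycles_i,
      HomologicalComplex.iCycles_d, zero_comp])

lemma epi_toCycles_gen (i j : ι) (hij : c.prev j = i) (h : K.ExactAt j) :
    Epi (K.toCycles i j) := by
  rw [epi_iff_surjective_up_to_refinements]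
  intro A x
  rw [HomologicalComplex.exactAt_iff_exact_up_to_refinements K i j (c.next j) hij rfl] at h
  obtain ⟨A', π, hπ, x₁, hx₁⟩ := h (x ≫ K.iCycles j) (by simp)
  refine ⟨A', π, hπ, x₁, ?_⟩
  rw [← cancel_mono (K.iCycles j), Category.assoc, Category.assoc,
    HomologicalComplex.toCycles_i]
  exact hx₁

lemma cyclesSCGen_shortExact (i j : ι) (hij : c.Rel i j) (h : K.ExactAt j) :
    (cyclesSCGen K i j).ShortExact := by
  have : Mono (cyclesSCGen K i j).f := by dsimp [cyclesSCGen]; infer_instance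
  have : Epi (cyclesSCGen K i j).g := epi_toCycles_gen K i j (c.prev_eq' hij) h
  refine ShortComplex.ShortExact.mk ?_
  rw [ShortComplex.exact_iff_exact_up_to_refinements]
  intro A x₂ hx₂
  have key : ∀ (y : A ⟶ K.X i), y ≫ K.toCycles i j = 0 →
      ∃ (A' : C) (π : A' ⟶ A) (_ : Epi π) (x₁ : A' ⟶ K.cycles i), π ≫ y = x₁ ≫ K.iCycles i := by
    intro y hy
    have hy' : y ≫ K.d i j = 0 := by
      rw [← HomologicalComplex.toCycles_i, reassoc_of% hy, zero_comp]
    exact ⟨A, 𝟙 A, inferInstance, K.liftCycles y j (c.next_eq' hij) hy', by simp⟩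
  exact key x₂ hx₂

end Cycles

section Prepend

variable {E F Z : C} (p : E ⟶ F) (i : Z ⟶ E) (K' : ChainComplex C ℕ) (e : K'.X 0 ≅ Z)

/-- terms of the prepended complex -/
def prependX : ℕ → C
  | 0 => F
  | 1 => E
  | (j + 2) => K'.X (j + 1)

/-- differentials of the prepended complex -/
def prependD : ∀ j : ℕ, prependX (E := E) (F := F) K' (j + 1) ⟶ prependX (E := E) (F := F) K' j
  | 0 => p
  | 1 => K'.d 1 0 ≫ e.hom ≫ i
  | (j + 2) => K'.d (j + 2) (j + 1)

variable (hip : i ≫ p = 0)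

include hip in
lemma prependD_sq (j : ℕ) : prependD p i K' e (j + 1) ≫ prependD p i K' e j = 0 := by
  match j with
  | 0 =>
    change (K'.d 1 0 ≫ e.hom ≫ i) ≫ p = 0
    simp [hip]
  | 1 =>
    change K'.d 2 1 ≫ K'.d 1 0 ≫ e.hom ≫ i = 0
    simp
  | (j + 2) =>
    change K'.d (j + 3) (j + 2) ≫ K'.d (j + 2) (j + 1) = 0
    simp

/-- the complex `⋯ ⟶ K'₂ ⟶ K'₁ ⟶ E ⟶ F` -/
def prepend : ChainComplex C ℕ :=
  ChainComplex.of (prependX (E := E) (F := F) K') (prependD p i K' e) (prependD_sq p i K' e hip)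

lemma prepend_d_zero : (prepend p i K' e hip).d 1 0 = p :=
  ChainComplex.of_d _ (prependD p i K' e) 0

lemma prepend_d_one : (prepend p i K' e hip).d 2 1 = K'.d 1 0 ≫ e.hom ≫ i :=
  ChainComplex.of_d _ (prependD p i K' e) 1

lemma prepend_d_succ (j : ℕ) : (prepend p i K' e hip).d (j + 3) (j + 2) = K'.d (j + 2) (j + 1) :=
  ChainComplex.of_d _ (prependD p i K' e) (j + 2)

lemma prepend_exactAt_zero [Epi p] : (prepend p i K' e hip).ExactAt 0 := by
  rw [HomologicalComplex.exactAt_iff_exact_up_to_refinements _ 1 0 0 (by simp) (by simp)]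
  intro A x₂ _
  obtain ⟨A', π, hπ, x₁, hx₁⟩ := surjective_up_to_refinements_of_epi p x₂
  refine ⟨A', π, hπ, x₁, ?_⟩
  rw [prepend_d_zero]
  exact hx₁

lemma prepend_exactAt_one [Mono i] (hex : (ShortComplex.mk i p hip).Exact) (h0 : K'.ExactAt 0) :
    (prepend p i K' e hip).ExactAt 1 := by
  rw [HomologicalComplex.exactAt_iff_exact_up_to_refinements _ 2 1 0 (by simp) (by simp)]
  intro A x₂ hx₂
  rw [prepend_d_zero] at hx₂
  rw [HomologicalComplex.exactAt_iff_exact_up_to_refinements K' 1 0 0 (by simp) (by simp)] at h0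
  have key : ∀ (y : A ⟶ E), y ≫ p = 0 → ∃ (A' : C) (π : A' ⟶ A) (_ : Epi π)
      (x₁ : A' ⟶ K'.X 1), π ≫ y = x₁ ≫ K'.d 1 0 ≫ e.hom ≫ i := by
    intro y hy
    obtain ⟨A₁, π₁, hπ₁, z, hz⟩ := hex.exact_up_to_refinements y hy
    replace hz : π₁ ≫ y = z ≫ i := hz
    obtain ⟨A₂, π₂, hπ₂, x₁, hx₁⟩ := h0 (z ≫ e.inv) (by simp)
    refine ⟨A₂, π₂ ≫ π₁, epi_comp _ _, x₁, ?_⟩
    rw [← reassoc_of% hx₁, Category.assoc, hz]
    simp
  obtain ⟨A', π, hπ, x₁, hx₁⟩ := key x₂ hx₂
  refine ⟨A', π, hπ, x₁, ?_⟩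
  rw [prepend_d_one]
  exact hx₁

lemma prepend_exactAt_two [Mono i] (h1 : K'.ExactAt 1) :
    (prepend p i K' e hip).ExactAt 2 := by
  rw [HomologicalComplex.exactAt_iff_exact_up_to_refinements _ 3 2 1 (by simp) (by simp)]
  intro A x₂ hx₂
  rw [prepend_d_one] at hx₂
  have hx₂' : x₂ ≫ K'.d 1 0 = 0 := by
    rw [← cancel_mono (e.hom ≫ i), zero_comp, Category.assoc]
    exact hx₂
  rw [HomologicalComplex.exactAt_iff_exact_up_to_refinements K' 2 1 0 (by simp) (by simp)] at h1
  obtain ⟨A₂, π₂, hπ₂, x₁, hx₁⟩ := h1 x₂ hx₂'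
  refine ⟨A₂, π₂, hπ₂, x₁, ?_⟩
  rw [prepend_d_succ p i K' e hip 0]
  exact hx₁

lemma prepend_exactAt_succ (j : ℕ) (h : K'.ExactAt (j + 2)) :
    (prepend p i K' e hip).ExactAt (j + 3) := by
  rw [HomologicalComplex.exactAt_iff_exact_up_to_refinements _ (j + 4) (j + 3) (j + 2) (by simp)
    (by simp)]
  intro A x₂ hx₂
  rw [prepend_d_succ p i K' e hip j] at hx₂
  rw [HomologicalComplex.exactAt_iff_exact_up_to_refinements K' (j + 3) (j + 2) (j + 1) (by simp)
    (by simp)] at h
  obtain ⟨A₂, π₂, hπ₂, x₁, hx₁⟩ := h x₂ hx₂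
  refine ⟨A₂, π₂, hπ₂, x₁, ?_⟩
  rw [prepend_d_succ p i K' e hip (j + 1)]
  exact hx₁

lemma prepend_exactAt [Epi p] [Mono i] (hex : (ShortComplex.mk i p hip).Exact) (j : ℕ)
    (h : ∀ k : ℕ, k + 1 = j → K'.ExactAt k) : (prepend p i K' e hip).ExactAt j := by
  match j with
  | 0 => exact prepend_exactAt_zero p i K' e hip
  | 1 => exact prepend_exactAt_one p i K' e hip hex (h 0 rfl)
  | 2 => exact prepend_exactAt_two p i K' e hip (h 1 rfl)
  | (j + 3) => exact prepend_exactAt_succ p i K' e hip j (h (j + 2) rfl)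

end Prepend

section Pres

variable (P : ObjectProperty C)

/-- `m`-step presentations: `K_m ⟶ ⋯ ⟶ K_1 ⟶ F ⟶ 0` exact at `0, …, m - 1` with
`K_1, …, K_m` in `C₀` -/
def HasPres (m : ℕ) (F : C) : Prop :=
  ∃ K : ChainComplex C ℕ, Nonempty (K.X 0 ≅ F) ∧ (∀ j : ℕ, j < m → K.ExactAt j) ∧
    (∀ j : ℕ, m < j → IsZero (K.X j)) ∧ (∀ j : ℕ, 1 ≤ j → j ≤ m → P (K.X j))

lemma hasPres_zero (F : C) : HasPres P 0 F :=
  ⟨(HomologicalComplex.single C (ComplexShape.down ℕ) 0).obj F,
    ⟨HomologicalComplex.singleObjXSelf _ 0 F⟩, fun j hj => by omega,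
    fun j hj => HomologicalComplex.isZero_single_obj_X _ 0 F j (by omega),
    fun j h1 h2 => by omega⟩

lemma hasPres_succ {m : ℕ} {E F : C} (p : E ⟶ F) [Epi p] (hE : P E)
    (h : HasPres P m (kernel p)) : HasPres P (m + 1) F := by
  obtain ⟨K', ⟨e⟩, hex, hz, hP⟩ := h
  have hip : kernel.ι p ≫ p = 0 := kernel.condition p
  refine ⟨prepend p (kernel.ι p) K' e hip, ⟨Iso.refl _⟩, ?_, ?_, ?_⟩
  · intro j hj
    exact prepend_exactAt p _ K' e hip (ShortComplex.exact_of_f_is_kernel _ (kernelIsKernel p)) j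
      (fun k hk => hex k (by omega))
  · intro j hj
    match j, hj with
    | 0, h => omega
    | 1, h => omega
    | (j + 2), h => exact hz (j + 1) (by omega)
  · intro j h1 h2
    match j, h1, h2 with
    | 1, _, _ => exact hE
    | (j + 2), _, h2 => exact hP (j + 1) (by omega) (by omega)

variable [HasDerivedCategory.{w} C] [P.IsClosedUnderIsomorphisms] [P.ContainsZero]
  (hql : PCoh.IsQuasiLiftable P) (hsum : ∀ X Y : C, P X → P Y → P (X ⨯ Y))
  (hqs : PCoh.IsQuasiStableUnderKernels P)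

include hql hsum hqs in
/-- an object which is `(1 - m)`-pseudo-coherent in degree `0` has an `m`-step presentation -/
lemma hasPres_of_isNPC : ∀ (m : ℕ) (F : C),
    IsNPC P (1 - (m : ℤ)) ((DerivedCategory.singleFunctor C 0).obj F) → HasPres P m F := by
  intro m
  induction m with
  | zero => intro F _; exact hasPres_zero P F
  | succ m ih =>
    intro F hF
    have h0 : IsNPC P 0 ((DerivedCategory.singleFunctor C 0).obj F) := by
      obtain ⟨E, hE, he⟩ := hF
      exact ⟨E, isStrictPC_of_le P (by push_cast; omega) hE, he⟩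
    obtain ⟨E, p, hE, hp⟩ := isOfFiniteType_of_isNPC_single P hqs F h0
    let S : ShortComplex C := ShortComplex.mk (kernel.ι p) p (kernel.condition p)
    have hS : S.ShortExact :=
      { exact := ShortComplex.exact_of_f_is_kernel _ (kernelIsKernel p)
        mono_f := by dsimp [S]; infer_instance
        epi_g := hp }
    have h₃ : IsNPC P (1 - (m : ℤ) - 1) ((DerivedCategory.singleFunctor C 0).obj F) := by
      rw [show (1 : ℤ) - (m : ℤ) - 1 = 1 - ((m + 1 : ℕ) : ℤ) by push_cast; ring]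
      exact hF
    have hK := isNPC_obj₁ P hql hsum hqs hS.singleTriangle hS.singleTriangle_distinguished
      (PCohCoh.isNPC_single_of_mem P _ E hE) h₃
    exact hasPres_succ P p hE (ih (kernel p) hK)

include hql hsum hqs in
/-- an object with an `m`-step presentation is `(1 - m)`-pseudo-coherent in degree `0` -/
lemma isNPC_of_hasPres (m : ℕ) (F : C) (h : HasPres P m F) :
    IsNPC P (1 - (m : ℤ)) ((DerivedCategory.singleFunctor C 0).obj F) := by
  obtain ⟨K, ⟨e⟩, hex, -, hP⟩ := h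
  have key : ∀ (i j : ℕ), i + j = m →
      IsNPC P (1 - (i : ℤ)) ((DerivedCategory.singleFunctor C 0).obj (K.cycles j)) := by
    intro i
    induction i with
    | zero =>
      intro j _
      exact isNPC_of_acyclic P _ _ (fun k hk => DerivedCategory.isZero_of_isLE _ 0 k (by
        simp at hk; omega))
    | succ i ih =>
      intro j hj
      have hS := cyclesSCGen_shortExact K (j + 1) j (by simp) (hex j (by omega))
      have h₁ := ih (j + 1) (by omega)
      rw [show (1 : ℤ) - (i : ℤ) = (1 - ((i + 1 : ℕ) : ℤ)) + 1 by push_cast; ring] at h₁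
      exact isNPC_obj₃ P hql hsum hqs hS.singleTriangle hS.singleTriangle_distinguished h₁
        (PCohCoh.isNPC_single_of_mem P _ _ (hP (j + 1) (by omega) (by omega)))
  have h0 := key m 0 (by omega)
  have := K.isIso_iCycles 0 0 (by simp) (K.shape 0 0 (by simp))
  exact IsNPC.of_iso P h0 ((DerivedCategory.singleFunctor C 0).mapIso (asIso (K.iCycles 0) ≪≫ e))

end Pres

end Groth.Agent.H28.PCohPres
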