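import Groth.Agent.H28.PCohDer3

/-!
# The infinite tower: strictly pseudo-coherent resolutions
-/

set_option autoImplicit false

universe w v u

open CategoryTheory CategoryTheory.Limits CochainComplex HomComplex

namespace Groth.Agent.H28.PCohTower

open Groth.Agent.H28 Groth.Agent.H28.PCohCore Groth.Agent.H28.PCohDer DerivedCategory

variable {C : Type u} [Category.{v} C] [Abelian C]

variable (P : ObjectProperty C) (F : CochainComplex C ℤ) (n : ℤ)

/-- stage `j` of the tower: a strictly pseudo-coherent complex with an `(n-j)`-quasi-isomorphism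
to `F` -/
structure Stage (j : ℕ) where
  /-- the complex -/
  E : CochainComplex C ℤ
  /-- the map -/
  u : E ⟶ F
  bdd : ∃ b : ℤ, ∀ i : ℤ, b < i → IsZero (E.X i)
  prop : ∀ i : ℤ, P (E.X i)
  isIso : ∀ i : ℤ, n - j < i → IsIso (HomologicalComplex.homologyMap u i)
  epi : Epi (HomologicalComplex.homologyMap u (n - j))

variable {P F n}

section

variable [P.IsClosedUnderIsomorphisms] [P.ContainsZero] [HasDerivedCategory.{w} C]
  (hql : PCoh.IsQuasiLiftable P) (hsum : ∀ X Y : C, P X → P Y → P (X ⨯ Y))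
  (hqs : PCoh.IsQuasiStableUnderKernels P) (hF : ∀ k : ℤ, IsNPC P k (Q.obj F))

include hql hsum hqs hF in
lemma Stage.exists_next {j : ℕ} (S : Stage P F n j) :
    ∃ (S' : Stage P F n (j + 1)) (v : S.E ⟶ S'.E), v ≫ S'.u = S.u ∧
      (∀ i : ℤ, Mono (v.f i)) ∧ (∀ i : ℤ, i ≠ n - j - 1 → IsIso (v.f i)) := by
  have hiso' : ∀ i : ℤ, n - j - 1 + 1 < i → IsIso (HomologicalComplex.homologyMap S.u i) :=
    fun i hi => S.isIso i (by omega)
  have hepi' : Epi (HomologicalComplex.homologyMap S.u (n - j - 1 + 1)) := by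
    rw [show n - (j : ℤ) - 1 + 1 = n - j by omega]
    exact S.epi
  have hE : PCoh.IsStrictPC P (n - j - 1) S.E := ⟨S.bdd, fun i _ => S.prop i⟩
  have hcone := finiteType_homology_cone_of_isNPC P hql hsum hqs le_rfl hE (hF _) S.u hiso' hepi'
  obtain ⟨E₂, v₂, u₂, hvu₂, hmono₂, hisov₂, -, hP₂, hiso₂, hepi₂⟩ :=
    exists_modification_of_finiteType_split P hsum hql (n - j - 1) S.E F S.u hiso' hepi' hcone
  obtain ⟨b, hb⟩ := S.bdd
  refine ⟨⟨E₂, u₂, ⟨max b (n - j - 1), fun i hi => ?_⟩, fun i => ?_, fun i hi => ?_, ?_⟩, v₂, hvu₂,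
    hmono₂, hisov₂⟩
  · have := hisov₂ i (by omega)
    exact IsZero.of_iso (hb i (by omega)) (asIso (v₂.f i)).symm
  · by_cases hi : i = n - j - 1
    · subst hi
      exact hP₂ (S.prop _)
    · have := hisov₂ i hi
      exact P.prop_of_iso (asIso (v₂.f i)) (S.prop i)
  · exact hiso₂ i (by push_cast at hi; omega)
  · rw [show n - ((j + 1 : ℕ) : ℤ) = n - j - 1 by push_cast; omega]
    exact hepi₂

/-- the tower -/
noncomputable def tower (S₀ : Stage P F n 0) : (j : ℕ) → Stage P F n j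
  | 0 => S₀
  | j + 1 => (Stage.exists_next hql hsum hqs hF (tower S₀ j)).choose

/-- the transition maps -/
noncomputable def tv (S₀ : Stage P F n 0) (j : ℕ) :
    (tower hql hsum hqs hF S₀ j).E ⟶ (tower hql hsum hqs hF S₀ (j + 1)).E :=
  (Stage.exists_next hql hsum hqs hF (tower hql hsum hqs hF S₀ j)).choose_spec.choose

lemma tv_u (S₀ : Stage P F n 0) (j : ℕ) :
    tv hql hsum hqs hF S₀ j ≫ (tower hql hsum hqs hF S₀ (j + 1)).u =
      (tower hql hsum hqs hF S₀ j).u :=
  (Stage.exists_next hql hsum hqs hF (tower hql hsum hqs hF S₀ j)).choose_spec.choose_spec.1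

lemma tv_mono (S₀ : Stage P F n 0) (j : ℕ) (i : ℤ) : Mono ((tv hql hsum hqs hF S₀ j).f i) :=
  (Stage.exists_next hql hsum hqs hF (tower hql hsum hqs hF S₀ j)).choose_spec.choose_spec.2.1 i

lemma tv_isIso (S₀ : Stage P F n 0) (j : ℕ) (i : ℤ) (hi : i ≠ n - j - 1) :
    IsIso ((tv hql hsum hqs hF S₀ j).f i) :=
  (Stage.exists_next hql hsum hqs hF (tower hql hsum hqs hF S₀ j)).choose_spec.choose_spec.2.2 i hi

end

variable (P F n) in
/-- abstract tower data -/
structure TowerData where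
  /-- the stages -/
  S : (j : ℕ) → Stage P F n j
  /-- the transition maps -/
  v : (j : ℕ) → (S j).E ⟶ (S (j + 1)).E
  v_u : ∀ j : ℕ, v j ≫ (S (j + 1)).u = (S j).u
  v_mono : ∀ (j : ℕ) (i : ℤ), Mono ((v j).f i)
  v_isIso : ∀ (j : ℕ) (i : ℤ), i ≠ n - j - 1 → IsIso ((v j).f i)

/-- the tower data built from an initial stage -/
noncomputable def towerData [P.IsClosedUnderIsomorphisms] [P.ContainsZero]
    [HasDerivedCategory.{w} C]
    (hql : PCoh.IsQuasiLiftable P) (hsum : ∀ X Y : C, P X → P Y → P (X ⨯ Y))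
    (hqs : PCoh.IsQuasiStableUnderKernels P) (hF : ∀ k : ℤ, IsNPC P k (Q.obj F))
    (S₀ : Stage P F n 0) : TowerData P F n where
  S := tower hql hsum hqs hF S₀
  v := tv hql hsum hqs hF S₀
  v_u := tv_u hql hsum hqs hF S₀
  v_mono := tv_mono hql hsum hqs hF S₀
  v_isIso := tv_isIso hql hsum hqs hF S₀

namespace TowerData

variable (T : TowerData P F n)

/-- the composite transition maps -/
noncomputable def V (a b : ℕ) (h : a ≤ b) : (T.S a).E ⟶ (T.S b).E :=
  Nat.leRecOn (C := fun k => (T.S a).E ⟶ (T.S k).E) h (fun {k} f => f ≫ T.v k) (𝟙 _)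

lemma V_self (a : ℕ) (h : a ≤ a) : T.V a a h = 𝟙 _ :=
  Nat.leRecOn_self _

lemma V_succ (a b : ℕ) (h : a ≤ b) (h' : a ≤ b + 1) : T.V a (b + 1) h' = T.V a b h ≫ T.v b :=
  Nat.leRecOn_succ h _

lemma V_trans (a b c : ℕ) (hab : a ≤ b) (hbc : b ≤ c) :
    T.V a b hab ≫ T.V b c hbc = T.V a c (hab.trans hbc) := by
  induction c, hbc using Nat.le_induction with
  | base => rw [V_self, Category.comp_id]
  | succ c hbc ih =>
    rw [T.V_succ b c hbc, T.V_succ a c (hab.trans hbc), ← Category.assoc, ih]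

lemma V_u (a b : ℕ) (h : a ≤ b) : T.V a b h ≫ (T.S b).u = (T.S a).u := by
  induction b, h using Nat.le_induction with
  | base => rw [V_self, Category.id_comp]
  | succ b h ih => rw [T.V_succ a b h, Category.assoc, T.v_u, ih]

lemma V_mono (a b : ℕ) (h : a ≤ b) (i : ℤ) : Mono ((T.V a b h).f i) := by
  induction b, h using Nat.le_induction with
  | base => rw [V_self]; infer_instance
  | succ b h ih =>
    rw [T.V_succ a b h, HomologicalComplex.comp_f]
    have := T.v_mono b i
    exact mono_comp _ _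

lemma V_isIso (a b : ℕ) (h : a ≤ b) (i : ℤ) (hi : n - i ≤ a) : IsIso ((T.V a b h).f i) := by
  induction b, h using Nat.le_induction with
  | base => rw [V_self]; infer_instance
  | succ b h ih =>
    rw [T.V_succ a b h, HomologicalComplex.comp_f]
    have := T.v_isIso b i (by omega)
    infer_instance

variable (n) in
/-- the stage at which degree `i` becomes final -/
def st (i : ℤ) : ℕ := (n - i).toNat

lemma le_st (i : ℤ) : n - i ≤ st n i := Int.self_le_toNat _

lemma st_succ_le (i : ℤ) : st n (i + 1) ≤ st n i := Int.toNat_le_toNat (by omega)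

lemma st_eq_zero (i : ℤ) (hi : n ≤ i) : st n i = 0 := by
  simp [st, hi]

/-- the terms of the limit complex -/
noncomputable def limX (i : ℤ) : C := (T.S (st n i)).E.X i

/-- identification of the terms of the limit complex with those of a late stage -/
noncomputable def θ (i : ℤ) (M : ℕ) (h : st n i ≤ M) : T.limX i ⟶ (T.S M).E.X i :=
  (T.V (st n i) M h).f i

lemma θ_isIso (i : ℤ) (M : ℕ) (h : st n i ≤ M) : IsIso (T.θ i M h) :=
  T.V_isIso _ _ h i (le_st i)

lemma θ_trans (i : ℤ) (M M' : ℕ) (h : st n i ≤ M) (h' : M ≤ M') :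
    T.θ i M h ≫ (T.V M M' h').f i = T.θ i M' (h.trans h') := by
  change (T.V (st n i) M h).f i ≫ (T.V M M' h').f i = (T.V (st n i) M' (h.trans h')).f i
  rw [← HomologicalComplex.comp_f, V_trans]

/-- the differential of the limit complex -/
noncomputable def limD (i : ℤ) : T.limX i ⟶ T.limX (i + 1) :=
  haveI := T.θ_isIso (i + 1) (st n i) (st_succ_le i)
  (T.S (st n i)).E.d i (i + 1) ≫ inv (T.θ (i + 1) (st n i) (st_succ_le i))

lemma limD_θ (i : ℤ) (M : ℕ) (h : st n i ≤ M) :
    T.limD i ≫ T.θ (i + 1) M ((st_succ_le i).trans h) =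
      T.θ i M h ≫ (T.S M).E.d i (i + 1) := by
  have := T.θ_isIso (i + 1) (st n i) (st_succ_le i)
  rw [← T.θ_trans (i + 1) (st n i) M (st_succ_le i) h, limD, Category.assoc,
    IsIso.inv_hom_id_assoc]
  exact ((T.V (st n i) M h).comm i (i + 1)).symm

lemma limD_sq (i : ℤ) : T.limD i ≫ T.limD (i + 1) = 0 := by
  have := T.θ_isIso (i + 1 + 1) (st n i) ((st_succ_le (i + 1)).trans (st_succ_le i))
  rw [← cancel_mono (T.θ (i + 1 + 1) (st n i) ((st_succ_le (i + 1)).trans (st_succ_le i))),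
    zero_comp, Category.assoc, T.limD_θ (i + 1) (st n i) (st_succ_le i), ← Category.assoc,
    T.limD_θ i (st n i) le_rfl, Category.assoc, HomologicalComplex.d_comp_d, comp_zero]

/-- the limit complex -/
noncomputable def limE : CochainComplex C ℤ := CochainComplex.of T.limX T.limD T.limD_sq

lemma limE_d (i : ℤ) : T.limE.d i (i + 1) = T.limD i := CochainComplex.of_d _ _ _

lemma θ_u (i : ℤ) (M : ℕ) (h : st n i ≤ M) :
    T.θ i M h ≫ (T.S M).u.f i = (T.S (st n i)).u.f i := by
  change (T.V (st n i) M h).f i ≫ (T.S M).u.f i = _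
  rw [← HomologicalComplex.comp_f, V_u]

lemma θ_self (i : ℤ) : T.θ i (st n i) le_rfl = 𝟙 _ := by
  change (T.V (st n i) (st n i) le_rfl).f i = _
  rw [V_self]
  rfl

/-- the map from stage `a` to the limit, in degree `i` -/
noncomputable def Wf (a : ℕ) (i : ℤ) : (T.S a).E.X i ⟶ T.limX i :=
  haveI := T.θ_isIso i (max a (st n i)) (le_max_right _ _)
  (T.V a (max a (st n i)) (le_max_left _ _)).f i ≫
    inv (T.θ i (max a (st n i)) (le_max_right _ _))

lemma Wf_θ (a : ℕ) (i : ℤ) (M : ℕ) (h₁ : a ≤ M) (h₂ : st n i ≤ M) :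
    T.Wf a i ≫ T.θ i M h₂ = (T.V a M h₁).f i := by
  have hm : max a (st n i) ≤ M := max_le h₁ h₂
  have := T.θ_isIso i (max a (st n i)) (le_max_right _ _)
  rw [← T.θ_trans i (max a (st n i)) M (le_max_right _ _) hm, Wf, Category.assoc,
    IsIso.inv_hom_id_assoc, ← HomologicalComplex.comp_f, V_trans]

lemma Wf_comm (a : ℕ) (i : ℤ) :
    T.Wf a i ≫ T.limD i = (T.S a).E.d i (i + 1) ≫ T.Wf a (i + 1) := by
  have h₁ : a ≤ max a (st n i) := le_max_left _ _
  have h₂ : st n i ≤ max a (st n i) := le_max_right _ _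
  have h₃ : st n (i + 1) ≤ max a (st n i) := (st_succ_le i).trans h₂
  have := T.θ_isIso (i + 1) _ h₃
  rw [← cancel_mono (T.θ (i + 1) _ h₃), Category.assoc, T.limD_θ i _ h₂, ← Category.assoc,
    T.Wf_θ a i _ h₁ h₂, Category.assoc, T.Wf_θ a (i + 1) _ h₁ h₃]
  exact (T.V a _ h₁).comm i (i + 1)

/-- the map from stage `a` to the limit -/
noncomputable def W (a : ℕ) : (T.S a).E ⟶ T.limE where
  f i := T.Wf a i
  comm' i j hij := by
    obtain rfl : i + 1 = j := hij
    rw [limE_d]
    exact T.Wf_comm a i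

lemma limU_comm (i : ℤ) :
    (T.S (st n i)).u.f i ≫ F.d i (i + 1) = T.limD i ≫ (T.S (st n (i + 1))).u.f (i + 1) := by
  rw [← T.θ_u (i + 1) (st n i) (st_succ_le i), ← Category.assoc,
    T.limD_θ i (st n i) le_rfl, Category.assoc, ← (T.S (st n i)).u.comm, ← Category.assoc,
    T.θ_u i (st n i) le_rfl]
  rfl

/-- the map from the limit to `F` -/
noncomputable def limU : T.limE ⟶ F where
  f i := (T.S (st n i)).u.f i
  comm' i j hij := by
    obtain rfl : i + 1 = j := hij
    rw [limE_d]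
    exact T.limU_comm i

lemma W_u (a : ℕ) : T.W a ≫ T.limU = (T.S a).u := by
  ext i
  change T.Wf a i ≫ (T.S (st n i)).u.f i = _
  rw [← T.θ_u i (max a (st n i)) (le_max_right _ _), ← Category.assoc,
    T.Wf_θ a i _ (le_max_left _ _) (le_max_right _ _), ← HomologicalComplex.comp_f, V_u]

lemma W_mono (a : ℕ) (i : ℤ) : Mono ((T.W a).f i) := by
  have := T.θ_isIso i (max a (st n i)) (le_max_right _ _)
  have := T.V_mono a (max a (st n i)) (le_max_left _ _) i
  change Mono ((T.V a (max a (st n i)) (le_max_left _ _)).f i ≫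
    inv (T.θ i (max a (st n i)) (le_max_right _ _)))
  infer_instance

lemma W_isIso (a : ℕ) (i : ℤ) (h : st n i ≤ a) : IsIso ((T.W a).f i) := by
  have := T.θ_isIso i (max a (st n i)) (le_max_right _ _)
  have := T.V_isIso a (max a (st n i)) (le_max_left _ _) i ((le_st i).trans (by exact_mod_cast h))
  change IsIso ((T.V a (max a (st n i)) (le_max_left _ _)).f i ≫
    inv (T.θ i (max a (st n i)) (le_max_right _ _)))
  infer_instance

lemma st_anti {i j : ℤ} (h : i ≤ j) : st n j ≤ st n i := Int.toNat_le_toNat (by omega)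

lemma quasiIso_limU : QuasiIso T.limU := by
  refine ⟨fun i => ?_⟩
  rw [quasiIsoAt_iff_isIso_homologyMap]
  have hM1 : st n (i - 1) ≤ max (st n (i - 1)) ((n - i).toNat + 1) := le_max_left _ _
  have hM0 : (n - i).toNat + 1 ≤ max (st n (i - 1)) ((n - i).toNat + 1) := le_max_right _ _
  generalize max (st n (i - 1)) ((n - i).toNat + 1) = M at hM1 hM0
  have h1 := T.W_isIso M (i - 1) hM1
  have h2 := T.W_isIso M i ((st_anti (by omega)).trans hM1)
  have h3 := T.W_isIso M (i + 1) ((st_anti (by omega)).trans hM1)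
  have : QuasiIsoAt (T.W M) i := quasiIsoAt_of_isIso_f (T.W M) (i - 1) i (i + 1) (by omega) rfl
    inferInstance h2 inferInstance
  have : IsIso (HomologicalComplex.homologyMap (T.W M) i) :=
    (quasiIsoAt_iff_isIso_homologyMap (T.W M) i).mp this
  have hu : IsIso (HomologicalComplex.homologyMap (T.S M).u i) := by
    apply (T.S M).isIso i
    have := Int.self_le_toNat (n - i)
    omega
  have hcomp : HomologicalComplex.homologyMap (T.W M) i ≫
      HomologicalComplex.homologyMap T.limU i = HomologicalComplex.homologyMap (T.S M).u i := by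
    rw [← HomologicalComplex.homologyMap_comp, W_u]
  exact IsIso.of_isIso_fac_left hcomp

lemma limX_of_le (i : ℤ) (hi : n ≤ i) : T.limX i = (T.S 0).E.X i := by
  rw [limX, st_eq_zero i hi]

end TowerData

section

variable [P.IsClosedUnderIsomorphisms] [P.ContainsZero] [HasDerivedCategory.{w} C]
  (hql : PCoh.IsQuasiLiftable P) (hsum : ∀ X Y : C, P X → P Y → P (X ⨯ Y))
  (hqs : PCoh.IsQuasiStableUnderKernels P)

include hql hsum hqs in
/-- SGA 6 I 2.?: improving an `n`-quasi-isomorphism from a strictly pseudo-coherent complex to a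
pseudo-coherent one into a quasi-isomorphism -/
theorem exists_strictPCAll_factorisation (n : ℤ) (E F : CochainComplex C ℤ)
    (hE : PCoh.IsStrictPCAll P E) (hF : PCoh.IsPC P (Q.obj F)) (u : E ⟶ F)
    (hiso : ∀ j : ℤ, n < j → IsIso (HomologicalComplex.homologyMap u j))
    (hepi : Epi (HomologicalComplex.homologyMap u n)) :
    ∃ (E' : CochainComplex C ℤ) (v : E ⟶ E') (u' : E' ⟶ F), v ≫ u' = u ∧
      PCoh.IsStrictPCAll P E' ∧ QuasiIso u' ∧ (∀ j : ℤ, Mono (v.f j)) ∧
      (∀ j : ℤ, n ≤ j → IsIso (v.f j)) := by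
  let S₀ : Stage P F n 0 :=
    ⟨E, u, hE.1, hE.2, fun i hi => hiso i (by simpa using hi), by
      rw [Nat.cast_zero, sub_zero]
      exact hepi⟩
  let T := towerData hql hsum hqs hF S₀
  obtain ⟨b, hb⟩ := hE.1
  refine ⟨T.limE, T.W 0, T.limU, T.W_u 0, ⟨⟨max b n, fun i hi => ?_⟩, fun i => ?_⟩,
    T.quasiIso_limU, fun j => T.W_mono 0 j, fun j hj => T.W_isIso 0 j ?_⟩
  · change IsZero (T.limX i)
    rw [T.limX_of_le i (by omega)]
    exact hb i (by omega)
  · exact (T.S (TowerData.st n i)).prop i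
  · rw [TowerData.st_eq_zero j hj]

end

end Groth.Agent.H28.PCohTower
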