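import Groth.Agent.H28.PCohPres
import Groth.Agent.H28.PCohFun
import Groth.Agent.H28.PCohTower2
import Mathlib.Algebra.Homology.DerivedCategory.HomologySequence

/-!
# Pseudo-coherence relative to a class of projective objects; the approximation form
-/

set_option autoImplicit false

universe w v u

open CategoryTheory CategoryTheory.Limits

open scoped ZeroObject

namespace Groth.Agent.H28.PCohTri

open Groth.Agent.H28 Groth.Agent.H28.PCohCore Groth.Agent.H28.PCohDer Groth.Agent.H28.PCohSum
  Groth.Agent.H28.PCohDev Groth.Agent.H28.PCohSES DerivedCategory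

variable {C : Type u} [Category.{v} C] [Abelian C]

section Projective

variable (P : ObjectProperty C) (hproj : ∀ X : C, P X → Projective X)

include hproj in
lemma isQuasiLiftable_of_projective : PCoh.IsQuasiLiftable P := by
  intro E F u hu hF
  have := hproj F hF
  refine ⟨F, Projective.factorThru (𝟙 F) u, hF, ?_⟩
  rw [Projective.factorThru_comp]
  infer_instance

include hproj in
lemma isQuasiStable_of_projective : PCoh.IsQuasiStableUnderKernels P := by
  rintro K hK ⟨n, hb⟩ hP
  -- the cycles in positive degrees are projective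
  have key : ∀ (j i : ℕ), n + 1 ≤ i + j → 1 ≤ i → Projective (K.cycles i) := by
    intro j
    induction j with
    | zero =>
      intro i hi _
      have hz : IsZero (K.cycles i) := by
        rw [IsZero.iff_id_eq_zero, ← cancel_mono (K.iCycles i), zero_comp]
        exact (hb i (by omega)).eq_of_tgt _ _
      exact hz.projective
    | succ j ih =>
      intro i hi hi1
      have hS := cyclesSC_shortExact K i (hK (i + 1))
      have : Projective (cyclesSC K i).X₃ := ih (i + 1) (by omega) (by omega)
      have σ := hS.splittingOfProjective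
      have : Projective (K.X i) := hproj _ (hP i hi1)
      exact Retract.projective (Y := K.X i) ⟨K.iCycles i, σ.r, σ.f_r⟩
  have hS := cyclesSC_shortExact K 1 (hK 2)
  have : Projective (cyclesSC K 1).X₃ := key n 2 (by omega) (by omega)
  have σ := hS.splittingOfProjective
  let r' : K.X 1 ⟶ K.cycles 1 := σ.r
  have hr : K.iCycles 1 ≫ r' = 𝟙 _ := σ.f_r
  have : IsSplitEpi r' := ⟨⟨⟨K.iCycles 1, hr⟩⟩⟩
  have := isIso_toCycles_zero K (hK 0) (hK 1)
  exact ⟨K.X 1, r' ≫ inv (K.toCycles 0 1), hP 1 le_rfl, epi_comp _ _⟩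

end Projective

section Triangle

variable [HasDerivedCategory.{w} C]

/-- in a distinguished triangle, `Hⁱ` of the third vertex vanishes iff `Hⁱ` of the first morphism
is an epimorphism and `Hⁱ⁺¹` a monomorphism -/
lemma isZero_homology_obj₃_iff (T : Pretriangulated.Triangle (DerivedCategory C))
    (hT : T ∈ Pretriangulated.distinguishedTriangles) (i j : ℤ) (hij : i + 1 = j) :
    IsZero ((DerivedCategory.homologyFunctor C i).obj T.obj₃) ↔
      Epi ((DerivedCategory.homologyFunctor C i).map T.mor₁) ∧
        Mono ((DerivedCategory.homologyFunctor C j).map T.mor₁) := by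
  have hex := (DerivedCategory.homologyFunctor C 0).homologySequence_exact₃ _ hT i j hij
  have h1 := (DerivedCategory.homologyFunctor C 0).homologySequence_epi_shift_map_mor₁_iff _ hT i
  have h2 := (DerivedCategory.homologyFunctor C 0).homologySequence_mono_shift_map_mor₁_iff _
    hT i j hij
  change _ ↔ Epi (((DerivedCategory.homologyFunctor C 0).shift i).map T.mor₁) ∧
    Mono (((DerivedCategory.homologyFunctor C 0).shift j).map T.mor₁)
  rw [h1, h2, ← hex.isZero_X₂_iff]
  rfl

end Triangle

section Approx

variable [HasDerivedCategory.{w} C] (P : ObjectProperty C)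

/-- the "approximation" form of `n`-pseudo-coherence: a bounded complex with terms in `C₀` and a
morphism to `K` in `D(C)` which is an isomorphism on `Hⁱ` for `i > n` and an epimorphism on `Hⁿ` -/
def IsNPCApprox (n : ℤ) (K : DerivedCategory C) : Prop :=
  ∃ (E : CochainComplex C ℤ) (a b : ℤ) (α : Q.obj E ⟶ K),
    (∀ i : ℤ, i < a ∨ b < i → IsZero (E.X i)) ∧ (∀ i : ℤ, P (E.X i)) ∧
    (∀ i : ℤ, n < i → IsIso ((DerivedCategory.homologyFunctor C i).map α)) ∧
    Epi ((DerivedCategory.homologyFunctor C n).map α)

variable [P.IsClosedUnderIsomorphisms] [P.ContainsZero]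
  (hql : PCoh.IsQuasiLiftable P) (hsum : ∀ X Y : C, P X → P Y → P (X ⨯ Y))
  (hqs : PCoh.IsQuasiStableUnderKernels P)

include hql hsum hqs in
lemma isNPC_of_approx {n : ℤ} {K : DerivedCategory C} (h : IsNPCApprox P n K) : IsNPC P n K := by
  obtain ⟨E, a, b, α, hE, hP, hiso, hepi⟩ := h
  obtain ⟨R, g, δ, hT⟩ := Pretriangulated.distinguished_cocone_triangle α
  have hR : IsNPC P n R := by
    refine isNPC_of_acyclic P n R (fun i hi => ?_)
    refine (isZero_homology_obj₃_iff _ hT i (i + 1) rfl).mpr ?_
    have h1 : IsIso ((DerivedCategory.homologyFunctor C (i + 1)).map α) := hiso (i + 1) (by omega)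
    have h2 : Epi ((DerivedCategory.homologyFunctor C i).map α) := by
      rcases hi.eq_or_lt with rfl | hi'
      · exact hepi
      · have := hiso i hi'
        infer_instance
    have h3 : Mono ((DerivedCategory.homologyFunctor C (i + 1)).map α) := inferInstance
    exact ⟨h2, h3⟩
  have hQE : IsNPC P n (Q.obj E) :=
    ⟨E, ⟨⟨b, fun i hi => hE i (Or.inr hi)⟩, fun i _ => hP i⟩, ⟨Iso.refl _⟩⟩
  exact isNPC_obj₂ P hql hsum hqs _ hT hQE hR

include hql hsum hqs in
lemma approx_of_isNPC {n : ℤ} {K : DerivedCategory C} (h : IsNPC P n K) : IsNPCApprox P n K := by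
  obtain ⟨E, hE, ⟨e⟩⟩ := h
  obtain ⟨b, hb⟩ := hE.1
  have hEac : ∀ i : ℤ, max (b + 1) n ≤ i → IsZero (E.homology i) := fun i hi =>
    isZero_homology_of_isZero_X E i (hb i (by omega))
  obtain ⟨F', w, hz, hP, hz', hiso, hepi⟩ :=
    approxB_of_quasiIso P hql hsum hqs (le_max_right (b + 1) n) hE (𝟙 E) inferInstance hEac
  refine ⟨F', n, max (b + 1) n - 1, Q.map w ≫ e.hom, ?_, hP, ?_, ?_⟩
  · rintro i (hi | hi)
    · exact hz' i hi
    · exact hz i (by omega)
  · intro i hi
    have := (isIso_homologyMap_iff w i).mp (hiso i hi)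
    rw [Functor.map_comp]
    infer_instance
  · have := (epi_homologyMap_iff w n).mp hepi
    rw [Functor.map_comp]
    infer_instance

include hql hsum hqs in
lemma isNPC_iff_approx (n : ℤ) (K : DerivedCategory C) : IsNPC P n K ↔ IsNPCApprox P n K :=
  ⟨approx_of_isNPC P hql hsum hqs, isNPC_of_approx P hql hsum hqs⟩

end Approx

end Groth.Agent.H28.PCohTri
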