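import Groth.Agent.H28.StrictPerf
import Groth.Agent.S5610

/-!
# Direct factors of objects of perfect amplitude in `[a, b]` (SGA 6 I 4.?, punctual case)
-/

set_option autoImplicit false

universe w v u

open CategoryTheory CategoryTheory.Limits

namespace Groth.Agent.H28.StrictPerf

variable {C : Type u} [Category.{v} C] [Abelian C] [HasDerivedCategory.{w} C]
  (P : ObjectProperty C)

/-- `G` has perfect amplitude in `[a, b]` -/
def PA (a b : ℤ) (G : DerivedCategory C) : Prop :=
  ∃ E : CochainComplex C ℤ, (∀ i : ℤ, P (E.X i)) ∧ (∀ i : ℤ, i < a ∨ b < i → IsZero (E.X i)) ∧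
    Nonempty (DerivedCategory.Q.obj E ≅ G)

variable {P}

lemma PA.of_iso {a b : ℤ} {G G' : DerivedCategory C} (h : PA P a b G) (e : G ≅ G') :
    PA P a b G' := by
  obtain ⟨E, h1, h2, ⟨θ⟩⟩ := h
  exact ⟨E, h1, h2, ⟨θ ≪≫ e⟩⟩

section Single

variable [P.IsClosedUnderIsomorphisms] [P.ContainsZero]

lemma prop_single_X {A : C} (hA : P A) (j i : ℤ) :
    P (((HomologicalComplex.single C (ComplexShape.up ℤ) j).obj A).X i) := by
  by_cases h : i = j
  · subst h
    exact P.prop_of_iso (HomologicalComplex.singleObjXSelf (ComplexShape.up ℤ) i A).symm hA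
  · exact P.prop_of_isZero (HomologicalComplex.isZero_single_obj_X _ _ _ _ h)

end Single

/-- a direct factor of an object of `P` is in `P`, in terms of idempotents -/
lemma prop_of_split_idempotent [P.IsClosedUnderIsomorphisms]
    (hfac : ∀ (E' E'' : C) [HasBinaryBiproduct E' E''], P (E' ⊞ E'') → P E' ∧ P E'')
    {X I : C} (hX : P X) (ι : I ⟶ X) (π : X ⟶ I) (h : ι ≫ π = 𝟙 I) : P I := by
  -- split the complementary idempotent
  have hidem : (𝟙 X - π ≫ ι) ≫ (𝟙 X - π ≫ ι) = 𝟙 X - π ≫ ι := by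
    simp only [Preadditive.sub_comp, Preadditive.comp_sub, Category.id_comp, Category.comp_id,
      Category.assoc]
    rw [reassoc_of% h]
    abel
  obtain ⟨I', ι', π', h1, h2⟩ := IsIdempotentComplete.idempotents_split X _ hidem
  have h3 : ι ≫ π' = 0 := by
    have : ι ≫ π' = ι ≫ (π' ≫ ι') ≫ π' := by rw [Category.assoc, h1, Category.comp_id]
    rw [this, h2]
    simp only [Preadditive.sub_comp, Preadditive.comp_sub, Category.id_comp, Category.comp_id,
      Category.assoc]
    rw [reassoc_of% h, sub_self]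
  have h4 : ι' ≫ π = 0 := by
    have : ι' ≫ π = ι' ≫ (π' ≫ ι') ≫ π := by rw [← Category.assoc ι', ← Category.assoc, h1,
      Category.id_comp]
    rw [this, h2]
    simp only [Preadditive.sub_comp, Preadditive.comp_sub, Category.id_comp, Category.comp_id,
      Category.assoc]
    rw [h, Category.comp_id, sub_self]
  let e : X ≅ I ⊞ I' :=
    { hom := biprod.lift π π'
      inv := biprod.desc ι ι'
      hom_inv_id := by
        rw [biprod.lift_desc, h2]
        abel
      inv_hom_id := by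
        apply biprod.hom_ext <;> apply biprod.hom_ext' <;>
          simp [h, h1, h3, h4] }
  exact (hfac I I' (P.prop_of_iso e hX)).1

open DerivedCategory in
/-- base case: a retract of an object of perfect amplitude in `[a, a]` -/
theorem PA_retract_base [P.IsClosedUnderIsomorphisms] [P.ContainsZero]
    (hlift : ∀ (E F : C) (u : E ⟶ F), Epi u → P F → IsSplitEpi u)
    (hfac : ∀ (E' E'' : C) [HasBinaryBiproduct E' E''], P (E' ⊞ E'') → P E' ∧ P E'')
    (a : ℤ) {G G' : DerivedCategory C} (i : G' ⟶ G) (p : G ⟶ G') (hip : i ≫ p = 𝟙 G')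
    (hG : PA P a a G) : PA P a a G' := by
  obtain ⟨E, hPE, hvE, ⟨θ⟩⟩ := hG
  have : E.IsKProjective := isKProjective_of_bounded P hlift E hPE a
    (fun i hi => hvE i (Or.inr hi))
  have he : (θ.hom ≫ p ≫ i ≫ θ.inv) ≫ (θ.hom ≫ p ≫ i ≫ θ.inv) = θ.hom ≫ p ≫ i ≫ θ.inv := by
    simp only [Category.assoc, Iso.inv_hom_id_assoc]
    rw [reassoc_of% hip]
  obtain ⟨ε, hε⟩ := Groth.Agent.H35.Q_map_surjective_of_isKProjective (K := E) E
    (θ.hom ≫ p ≫ i ≫ θ.inv)
  have hzero : Q.map (ε ≫ ε - ε) = 0 := by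
    rw [Functor.map_sub, Functor.map_comp, hε, he, sub_self]
  have hq := (Groth.Agent.H35.Q_map_eq_zero_iff_of_isKProjective (ε ≫ ε - ε)).mp hzero
  have hh : Homotopy (ε ≫ ε - ε) 0 :=
    HomotopyCategory.homotopyOfEq _ _ (by rw [hq, Functor.map_zero])
  have hidem : ε.f a ≫ ε.f a = ε.f a := by
    have h0 := hh.comm a
    have h1 : (dNext a) hh.hom = 0 := by
      rw [dNext_eq hh.hom (show (ComplexShape.up ℤ).Rel a (a + 1) from rfl),
        (hvE (a + 1) (Or.inr (by omega))).eq_of_tgt (E.d a (a + 1)) 0, zero_comp]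
    have h2 : (prevD a) hh.hom = 0 := by
      rw [prevD_eq hh.hom (show (ComplexShape.up ℤ).Rel (a - 1) a by simp),
        (hvE (a - 1) (Or.inl (by omega))).eq_of_tgt (hh.hom a (a - 1)) 0, zero_comp]
    rw [h1, h2, add_zero, HomologicalComplex.zero_f, add_zero, HomologicalComplex.sub_f_apply,
      HomologicalComplex.comp_f, sub_eq_zero] at h0
    exact h0
  obtain ⟨I, ιI, πI, h1, h2⟩ := IsIdempotentComplete.idempotents_split (E.X a) (ε.f a) hidem
  have hI : P I := prop_of_split_idempotent hfac (hPE a) ιI πI h1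
  let E' := (HomologicalComplex.single C (ComplexShape.up ℤ) a).obj I
  let j : E' ⟶ E := HomologicalComplex.mkHomFromSingle ιI (fun k hk =>
    (hvE k (Or.inr (by simp at hk; omega))).eq_of_tgt _ _)
  let q : E ⟶ E' := HomologicalComplex.mkHomToSingle πI (fun k hk =>
    (hvE k (Or.inl (by simp at hk; omega))).eq_of_src _ _)
  have hjq : j ≫ q = 𝟙 E' := by
    apply HomologicalComplex.from_single_hom_ext
    rw [HomologicalComplex.comp_f, HomologicalComplex.mkHomFromSingle_f,
      HomologicalComplex.mkHomToSingle_f, Category.assoc, reassoc_of% h1,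
      Iso.hom_inv_id, HomologicalComplex.id_f]
  have hqj : q ≫ j = ε := by
    ext k
    by_cases hk : k = a
    · subst hk
      rw [HomologicalComplex.comp_f, HomologicalComplex.mkHomFromSingle_f,
        HomologicalComplex.mkHomToSingle_f, Category.assoc, Iso.inv_hom_id_assoc, h2]
    · apply (hvE k ?_).eq_of_src
      rcases lt_or_gt_of_ne hk with h | h
      · exact Or.inl h
      · exact Or.inr h
  refine ⟨E', fun k => prop_single_X hI a k, ?_, ⟨?_⟩⟩
  · intro k hk
    apply HomologicalComplex.isZero_single_obj_X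
    rcases hk with hk | hk <;> omega
  · refine ⟨Q.map j ≫ θ.hom ≫ p, i ≫ θ.inv ≫ Q.map q, ?_, ?_⟩
    · have : Q.map j ≫ (θ.hom ≫ p ≫ i ≫ θ.inv) ≫ Q.map q = 𝟙 _ := by
        rw [← hε, ← Functor.map_comp, ← Functor.map_comp, ← hqj]
        have : j ≫ (q ≫ j) ≫ q = 𝟙 E' := by
          rw [Category.assoc, hjq, Category.comp_id, hjq]
        rw [this, CategoryTheory.Functor.map_id]
      simpa only [Category.assoc] using this
    · have : i ≫ θ.inv ≫ Q.map (q ≫ j) ≫ θ.hom ≫ p = 𝟙 _ := by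
        rw [hqj, hε]
        simp only [Category.assoc, Iso.inv_hom_id_assoc]
        rw [reassoc_of% hip, hip]
      simpa only [Category.assoc, Functor.map_comp] using this

/-- the top cohomology of the cone of a map from a one-term complex which is a split
epimorphism in top degree vanishes -/
lemma exactAt_mappingCone_of_section {B : C} {E : CochainComplex C ℤ} (b : ℤ)
    (ψ : (HomologicalComplex.single C (ComplexShape.up ℤ) b).obj B ⟶ E)
    (σ : E.X b ⟶ ((HomologicalComplex.single C (ComplexShape.up ℤ) b).obj B).X b)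
    (hσ : σ ≫ ψ.f b = 𝟙 _) :
    (CochainComplex.mappingCone ψ).ExactAt b := by
  rw [HomologicalComplex.exactAt_iff_exact_up_to_refinements _ (b - 1) b (b + 1) (by simp)
    (by simp)]
  intro X x₂ _
  refine ⟨X, 𝟙 X, inferInstance, x₂ ≫ (CochainComplex.mappingCone.snd ψ).v b b (add_zero b) ≫ σ ≫
    (CochainComplex.mappingCone.inl ψ).v b (b - 1) (by omega), ?_⟩
  have h1 := CochainComplex.mappingCone.inl_v_d ψ b (b - 1) (b + 1) (by omega) (by omega)
  have h2 := CochainComplex.mappingCone.id_X ψ b (b + 1) rfl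
  have h3 : (CochainComplex.mappingCone.fst ψ).1.v b (b + 1) rfl = 0 :=
    (HomologicalComplex.isZero_single_obj_X (ComplexShape.up ℤ) b B (b + 1)
      (by omega)).eq_of_tgt _ _
  rw [h3, zero_comp, zero_add] at h2
  rw [Category.id_comp, Category.assoc, Category.assoc, Category.assoc, h1,
    HomologicalComplex.single_obj_d, zero_comp, sub_zero, reassoc_of% hσ, h2, Category.comp_id]

open DerivedCategory Pretriangulated in
/-- inductive step: peeling off the top degree -/
theorem PA_retract_step [P.IsClosedUnderIsomorphisms] [P.ContainsZero]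
    (hsum : ∀ X Y : C, P X → P Y → P (X ⨯ Y))
    (hlift : ∀ (E F : C) (u : E ⟶ F), Epi u → P F → IsSplitEpi u)
    (hst : ∀ (E F : C) (u : E ⟶ F), Epi u → P E → P F → P (kernel u))
    (a b : ℤ) (hab : a < b)
    (IH : ∀ {G G' : DerivedCategory C} (i : G' ⟶ G) (p : G ⟶ G'), i ≫ p = 𝟙 G' →
      PA P a (b - 1) G → PA P a (b - 1) G')
    {G G' : DerivedCategory C} (i : G' ⟶ G) (p : G ⟶ G') (hip : i ≫ p = 𝟙 G')
    (hG : PA P a b G) : PA P a b G' := by
  obtain ⟨E, hPE, hvE, ⟨θ⟩⟩ := hG
  have : E.IsKProjective := isKProjective_of_bounded P hlift E hPE b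
    (fun i hi => hvE i (Or.inr hi))
  obtain ⟨ε, hε⟩ := Groth.Agent.H35.Q_map_surjective_of_isKProjective (K := E) E
    (θ.hom ≫ p ≫ i ≫ θ.inv)
  have hεp : Q.map ε ≫ θ.hom ≫ p = θ.hom ≫ p := by
    rw [hε]
    simp only [Category.assoc, Iso.inv_hom_id_assoc]
    rw [hip, Category.comp_id]
  -- the one-term complexes
  have hd0 : ∀ (k : ℤ), (ComplexShape.up ℤ).Rel b k → ∀ {X : C} (f : X ⟶ E.X b),
      f ≫ E.d b k = 0 := by
    intro k hk X f
    exact (hvE k (Or.inr (by simp at hk; omega))).eq_of_tgt _ _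
  let A := (HomologicalComplex.single C (ComplexShape.up ℤ) b).obj (E.X b)
  let A₂ := (HomologicalComplex.single C (ComplexShape.up ℤ) b).obj (E.X b ⊞ E.X b)
  let ι : A ⟶ E := HomologicalComplex.mkHomFromSingle (𝟙 (E.X b)) (fun k hk => hd0 k hk _)
  let ψ : A₂ ⟶ E := HomologicalComplex.mkHomFromSingle
    (biprod.desc (ε.f b) (𝟙 (E.X b) - ε.f b)) (fun k hk => hd0 k hk _)
  let inl' : A ⟶ A₂ := (HomologicalComplex.single C (ComplexShape.up ℤ) b).map biprod.inl
  let fst' : A₂ ⟶ A := (HomologicalComplex.single C (ComplexShape.up ℤ) b).map biprod.fst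
  let snd' : A₂ ⟶ A := (HomologicalComplex.single C (ComplexShape.up ℤ) b).map biprod.snd
  have h_inl_fst : inl' ≫ fst' = 𝟙 A := by
    rw [← Functor.map_comp, biprod.inl_fst, CategoryTheory.Functor.map_id]
  have h_inl_ψ : inl' ≫ ψ = ι ≫ ε := by
    apply HomologicalComplex.from_single_hom_ext
    rw [HomologicalComplex.comp_f, HomologicalComplex.comp_f,
      HomologicalComplex.single_map_f_self, HomologicalComplex.mkHomFromSingle_f,
      HomologicalComplex.mkHomFromSingle_f]
    simp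
  have h_ψ : ψ = fst' ≫ ι ≫ ε + snd' ≫ ι ≫ (𝟙 E - ε) := by
    apply HomologicalComplex.from_single_hom_ext
    rw [HomologicalComplex.add_f_apply, HomologicalComplex.comp_f, HomologicalComplex.comp_f,
      HomologicalComplex.comp_f, HomologicalComplex.comp_f,
      HomologicalComplex.single_map_f_self, HomologicalComplex.single_map_f_self,
      HomologicalComplex.mkHomFromSingle_f, HomologicalComplex.mkHomFromSingle_f,
      HomologicalComplex.sub_f_apply, HomologicalComplex.id_f, biprod.desc_eq]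
    simp
  have h_ψp : Q.map ψ ≫ θ.hom ≫ p = Q.map fst' ≫ Q.map ι ≫ θ.hom ≫ p := by
    rw [h_ψ, Functor.map_add, Functor.map_comp, Functor.map_comp, Functor.map_comp,
      Functor.map_comp, Functor.map_sub, CategoryTheory.Functor.map_id, Preadditive.add_comp]
    simp only [Category.assoc, Preadditive.sub_comp, Preadditive.comp_sub, Category.id_comp]
    rw [hεp, sub_self]
    simp
  -- the cone of ψ
  have hPA₂ : ∀ k : ℤ, P (A₂.X k) := fun k => prop_single_X (prop_biprod P hsum (hPE b) (hPE b)) b k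
  have hPM : ∀ k : ℤ, P ((CochainComplex.mappingCone ψ).X k) := fun k =>
    prop_mappingCone P hsum ψ k (hPA₂ _) (hPE k)
  have hvM : ∀ k : ℤ, k < a ∨ b < k → IsZero ((CochainComplex.mappingCone ψ).X k) := by
    intro k hk
    apply isZero_mappingCone ψ k _ (hvE k hk)
    apply HomologicalComplex.isZero_single_obj_X
    rcases hk with hk | hk <;> omega
  have hHM : ∀ k : ℤ, b - 1 < k → IsZero ((CochainComplex.mappingCone ψ).homology k) := by
    intro k hk
    rw [← HomologicalComplex.exactAt_iff_isZero_homology]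
    by_cases hkb : k = b
    · subst hkb
      refine exactAt_mappingCone_of_section k ψ
        (biprod.lift (𝟙 _) (𝟙 _) ≫ (HomologicalComplex.singleObjXSelf _ k _).inv) ?_
      rw [HomologicalComplex.mkHomFromSingle_f, Category.assoc, Iso.inv_hom_id_assoc,
        biprod.lift_desc]
      simp
    · rw [HomologicalComplex.exactAt_iff]
      exact ShortComplex.exact_of_isZero_X₂ _ (hvM k (Or.inr (by omega)))
  obtain ⟨M', hPM', hvM', ⟨eM⟩⟩ := Groth.Agent.S5610.result P hsum hlift hst a (b - 1) b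
    (by omega) (by omega) (CochainComplex.mappingCone ψ) hPM hvM hHM
  rw [min_eq_left (by omega : b - 1 ≤ b)] at hvM'
  have hPAM : PA P a (b - 1) (Q.obj (CochainComplex.mappingCone ψ)) := ⟨M', hPM', hvM', ⟨eM⟩⟩
  -- the triangles
  obtain ⟨N', β, γ, hT'⟩ := distinguished_cocone_triangle (Q.map ι ≫ θ.hom ≫ p)
  have hTM : Q.mapTriangle.obj (CochainComplex.mappingCone.triangle ψ) ∈
      distTriang (DerivedCategory C) := by
    rw [mem_distTriang_iff]
    exact ⟨_, _, ψ, ⟨Iso.refl _⟩⟩
  have comm1 : (Triangle.mk (Q.map ι ≫ θ.hom ≫ p) β γ).mor₁ ≫ (i ≫ θ.inv) =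
      Q.map inl' ≫ (Q.mapTriangle.obj (CochainComplex.mappingCone.triangle ψ)).mor₁ := by
    change (Q.map ι ≫ θ.hom ≫ p) ≫ (i ≫ θ.inv) = Q.map inl' ≫ Q.map ψ
    rw [← Functor.map_comp, h_inl_ψ, Functor.map_comp, hε]
    simp only [Category.assoc]
  have comm2 : (Q.mapTriangle.obj (CochainComplex.mappingCone.triangle ψ)).mor₁ ≫ (θ.hom ≫ p) =
      Q.map fst' ≫ (Triangle.mk (Q.map ι ≫ θ.hom ≫ p) β γ).mor₁ := by
    change Q.map ψ ≫ (θ.hom ≫ p) = Q.map fst' ≫ (Q.map ι ≫ θ.hom ≫ p)
    exact h_ψp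
  let φ₁ := completeDistinguishedTriangleMorphism _ _ hT' hTM (Q.map inl') (i ≫ θ.inv) comm1
  let φ₂ := completeDistinguishedTriangleMorphism _ _ hTM hT' (Q.map fst') (θ.hom ≫ p) comm2
  have hiso1 : IsIso (φ₁ ≫ φ₂).hom₁ := by
    have : (φ₁ ≫ φ₂).hom₁ = 𝟙 _ := by
      change Q.map inl' ≫ Q.map fst' = 𝟙 _
      rw [← Functor.map_comp, h_inl_fst, CategoryTheory.Functor.map_id]
    rw [this]
    infer_instance
  have hiso2 : IsIso (φ₁ ≫ φ₂).hom₂ := by
    have : (φ₁ ≫ φ₂).hom₂ = 𝟙 _ := by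
      change (i ≫ θ.inv) ≫ (θ.hom ≫ p) = 𝟙 _
      simp only [Category.assoc, Iso.inv_hom_id_assoc]
      exact hip
    rw [this]
    infer_instance
  let ν₁ : N' ⟶ Q.obj (CochainComplex.mappingCone ψ) := φ₁.hom₃
  let ν₂ : Q.obj (CochainComplex.mappingCone ψ) ⟶ N' := φ₂.hom₃
  have hiso3 : IsIso (ν₁ ≫ ν₂) :=
    isIso₃_of_isIso₁₂ (φ₁ ≫ φ₂) hT' hT' hiso1 hiso2
  have hN' : PA P a (b - 1) N' :=
    IH ν₁ (ν₂ ≫ inv (ν₁ ≫ ν₂))
      (by rw [← Category.assoc, IsIso.hom_inv_id]) hPAM
  obtain ⟨L, hPL, hvL, ⟨θL⟩⟩ := hN'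
  -- rotate and take the cone
  have hrot := inv_rot_of_distTriang _ hT'
  have hKL : ((shiftFunctor (CochainComplex C ℤ) (-1 : ℤ)).obj L).IsKProjective :=
    isKProjective_of_bounded P hlift _ (fun k => hPL (k + (-1))) b
      (fun k hk => hvL (k + (-1)) (Or.inr (by omega)))
  obtain ⟨g, ⟨e₃⟩⟩ := Groth.Agent.H35.exists_mappingCone_iso _ hrot
    ((shiftFunctor (CochainComplex C ℤ) (-1 : ℤ)).obj L) A
    ((Q.commShiftIso (-1 : ℤ)).app L ≪≫ (shiftFunctor (DerivedCategory C) (-1 : ℤ)).mapIso θL)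
    (Iso.refl _)
  refine ⟨CochainComplex.mappingCone g, ?_, ?_, ⟨e₃⟩⟩
  · intro k
    exact prop_mappingCone P hsum g k (hPL (k + 1 + (-1))) (prop_single_X (hPE b) b k)
  · intro k hk
    apply isZero_mappingCone g k
    · apply hvL (k + 1 + (-1))
      rcases hk with hk | hk
      · left; omega
      · right; omega
    · apply HomologicalComplex.isZero_single_obj_X
      rcases hk with hk | hk <;> omega

/-- a retract of an object of perfect amplitude in `[a, b]` has perfect amplitude in `[a, b]`,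
when `P` is stable under direct factors -/
theorem PA_retract [P.IsClosedUnderIsomorphisms] [P.ContainsZero]
    (hsum : ∀ X Y : C, P X → P Y → P (X ⨯ Y))
    (hlift : ∀ (E F : C) (u : E ⟶ F), Epi u → P F → IsSplitEpi u)
    (hst : ∀ (E F : C) (u : E ⟶ F), Epi u → P E → P F → P (kernel u))
    (hfac : ∀ (E' E'' : C) [HasBinaryBiproduct E' E''], P (E' ⊞ E'') → P E' ∧ P E'') :
    ∀ (n : ℕ) (a b : ℤ), b - a = n → ∀ {G G' : DerivedCategory C} (i : G' ⟶ G) (p : G ⟶ G'),
      i ≫ p = 𝟙 G' → PA P a b G → PA P a b G' := by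
  intro n
  induction n with
  | zero =>
    intro a b hab G G' i p hip hG
    obtain rfl : b = a := by push_cast at hab; omega
    exact PA_retract_base hlift hfac b i p hip hG
  | succ n ih =>
    intro a b hab G G' i p hip hG
    exact PA_retract_step hsum hlift hst a b (by push_cast at hab; omega)
      (fun i p hip h => ih a (b - 1) (by push_cast at hab ⊢; omega) i p hip h) i p hip hG

/-- the direct sum of two objects of perfect amplitude in `[a, b]` -/
theorem PA_biprod [P.IsClosedUnderIsomorphisms]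
    (hsum : ∀ X Y : C, P X → P Y → P (X ⨯ Y)) (a b : ℤ) {F' F'' : DerivedCategory C}
    [HasBinaryBiproduct F' F''] (h' : PA P a b F') (h'' : PA P a b F'') :
    PA P a b (F' ⊞ F'') := by
  obtain ⟨E', hP', hv', ⟨e'⟩⟩ := h'
  obtain ⟨E'', hP'', hv'', ⟨e''⟩⟩ := h''
  have := preservesBinaryBiproducts_of_preservesBiproducts (DerivedCategory.Q (C := C))
  refine ⟨E' ⊞ E'', ?_, ?_, ⟨DerivedCategory.Q.mapBiprod E' E'' ≪≫ biprod.mapIso e' e''⟩⟩
  · intro k
    exact P.prop_of_iso (HomologicalComplex.biprodXIso E' E'' k).symm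
      (prop_biprod P hsum (hP' k) (hP'' k))
  · intro k hk
    refine IsZero.of_iso ?_ (HomologicalComplex.biprodXIso E' E'' k)
    rw [IsZero.iff_id_eq_zero]
    apply biprod.hom_ext
    · rw [Category.id_comp, zero_comp]; exact (hv' k hk).eq_of_tgt _ _
    · rw [Category.id_comp, zero_comp]; exact (hv'' k hk).eq_of_tgt _ _

end Groth.Agent.H28.StrictPerf
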