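import Groth.Prelude.Def_W4sga6xxiiiPolyMap
import Mathlib.Algebra.Group.ForwardDiff
import Mathlib.Algebra.Polynomial.Roots
import Mathlib.Algebra.Polynomial.Degree.Lemmas
import Mathlib.RingTheory.Polynomial.Pochhammer
import Mathlib.Algebra.Polynomial.Smeval

set_option autoImplicit false

namespace Groth.Agent.H28

open Polynomial

/-- The polynomial `X(X-1)⋯(X-j+1)/j!` over `ℚ`. -/
noncomputable def binomPoly (j : ℕ) : ℚ[X] :=
  C ((j.factorial : ℚ)⁻¹) * (descPochhammer ℤ j).map (Int.castRingHom ℚ)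

theorem eval_binomPoly (j : ℕ) (n : ℤ) :
    (binomPoly j).eval (n : ℚ) = ((Ring.choose n j : ℤ) : ℚ) := by
  unfold binomPoly
  rw [eval_mul, eval_C]
  have h1 : ((descPochhammer ℤ j).map (Int.castRingHom ℚ)).eval (n : ℚ) =
      (((descPochhammer ℤ j).eval n : ℤ) : ℚ) := by
    have := Polynomial.eval_intCast_map (Int.castRingHom ℚ) (descPochhammer ℤ j) n
    simp at this ⊢
  rw [h1, Polynomial.eval_eq_smeval, Ring.descPochhammer_eq_factorial_smul_choose]
  have hj : (j.factorial : ℚ) ≠ 0 := by exact_mod_cast Nat.factorial_ne_zero j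
  rw [nsmul_eq_mul]
  push_cast
  field_simp

/-- Along a single element, a polynomial map to `ℚ` is given by a rational polynomial. -/
theorem exists_poly_of_isPolyMap {G : Type*} [AddCommGroup G] {f : G → ℚ}
    (hf : W4sga6xxiii.IsPolyMap f) (y : G) :
    ∃ Q : ℚ[X], ∀ n : ℤ, f (n • y) = Q.eval (n : ℚ) := by
  obtain ⟨m, c, -, hc⟩ := hf 1 (fun _ => y)
  refine ⟨∑ k : Fin 1 → Fin (m + 1), C (c k) * binomPoly (k 0 : ℕ), ?_⟩
  intro n
  have h := hc (fun _ => n)
  simp only [Fin.sum_univ_one, Fin.prod_univ_one] at h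
  rw [h, eval_finsetSum]
  refine Finset.sum_congr rfl fun k _ => ?_
  rw [eval_mul, eval_C, eval_binomPoly, zsmul_eq_mul, mul_comm]

/-- For an integer-valued rational polynomial, `d! · (leading coefficient)` is an integer. -/
theorem exists_int_factorial_mul_leadingCoeff (Q : ℚ[X])
    (hint : ∀ n : ℤ, ∃ z : ℤ, Q.eval (n : ℚ) = z) :
    ∃ b : ℤ, (Q.natDegree.factorial : ℚ) * Q.leadingCoeff = b := by
  have h1 := congrFun (Polynomial.fwdDiff_iter_degree_eq_factorial Q) 0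
  rw [fwdDiff_iter_eq_sum_shift] at h1
  have h2 : ∀ k ∈ Finset.range (Q.natDegree + 1), ∃ z : ℤ,
      ((-1 : ℤ) ^ (Q.natDegree - k) * (Q.natDegree.choose k : ℤ)) • Q.eval ((0 : ℚ) + k • (1 : ℚ)) = z := by
    intro k _
    obtain ⟨z, hz⟩ := hint k
    refine ⟨(-1 : ℤ) ^ (Q.natDegree - k) * (Q.natDegree.choose k : ℤ) * z, ?_⟩
    have : ((0 : ℚ) + k • (1 : ℚ)) = ((k : ℤ) : ℚ) := by simp
    rw [this, hz, zsmul_eq_mul]
    push_cast
    ring
  choose! z hz using h2
  refine ⟨∑ k ∈ Finset.range (Q.natDegree + 1), z k, ?_⟩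
  have h3 : (Q.leadingCoeff • (Q.natDegree.factorial : ℚ → ℚ)) 0 =
      (Q.natDegree.factorial : ℚ) * Q.leadingCoeff := by
    simp [mul_comm]
  rw [← h3, ← h1, Finset.sum_congr rfl hz]
  push_cast
  rfl

end Groth.Agent.H28
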