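import Groth.Agent.H45.Resolution.System

/-!
# The system of resolutions of the canonical truncations `τ_{≤ n} G`, `n ≥ 0` (helper28)

A reindexed variant of helper45's `ResSystem` (which resolves `τ_{≤ n + 1} G`), without any colimit
hypotheses.
-/

open CategoryTheory Limits ZeroObject HomologicalComplex

namespace Groth.Agent.H28.ResSys

open Groth.Agent.H45

universe v' u'

variable {𝒜 : Type u'} [Category.{v'} 𝒜] [Abelian 𝒜]

variable {P : 𝒜 → Prop}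

/-- The state of the construction at step `n`: a resolution of `τ_{≤ n} G`. -/
structure RSt (P : 𝒜 → Prop) (G : CochainComplex 𝒜 ℤ) (n : ℕ) where
  /-- the resolution -/
  K : CochainComplex 𝒜 ℤ
  hK : K.IsStrictlyLE (n : ℤ)
  /-- the quasi-isomorphism -/
  π : K ⟶ G.truncLE (n : ℤ)
  qi : QuasiIso π
  epi : ∀ i, Epi (π.f i)
  hX : ∀ i, P (K.X i)

variable (hP : ∀ M : 𝒜, ∃ (Q : 𝒜) (q : Q ⟶ M), P Q ∧ Epi q)
  (hZ : ∀ Z : 𝒜, IsZero Z → P Z)
  (hSum : ∀ X Y : 𝒜, P X → P Y → P (X ⊞ Y))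
  (hIso : ∀ X Y : 𝒜, (X ≅ Y) → P X → P Y)
  {G : CochainComplex 𝒜 ℤ}

namespace RSt

variable {n : ℕ} (s : RSt P G n)

lemma isStrictlyLE_succ : s.K.IsStrictlyLE ((n + 1 : ℕ) : ℤ) :=
  have := s.hK
  s.K.isStrictlyLE_of_le (n : ℤ) _ (by push_cast; lia)

/-- The map to the next truncation. -/
noncomputable def g : s.K ⟶ G.truncLE ((n + 1 : ℕ) : ℤ) :=
  have := s.isStrictlyLE_succ
  inv (s.K.ιTruncLE ((n + 1 : ℕ) : ℤ)) ≫
    CochainComplex.truncLEMap (s.π ≫ G.ιTruncLE (n : ℤ)) ((n + 1 : ℕ) : ℤ)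

lemma g_ι : s.g ≫ G.ιTruncLE ((n + 1 : ℕ) : ℤ) = s.π ≫ G.ιTruncLE (n : ℤ) := by
  have := s.isStrictlyLE_succ
  dsimp only [g]
  rw [Category.assoc, CochainComplex.ιTruncLE_naturality, IsIso.inv_hom_id_assoc]

/-- The chosen relative resolution. -/
noncomputable def R : BoundedRelRes P s.g ((n + 1 : ℕ) : ℤ) :=
  have := s.isStrictlyLE_succ
  Classical.choice (nonempty_boundedRelRes hP hZ s.g ((n + 1 : ℕ) : ℤ))

/-- The next state. -/
noncomputable def next : RSt P G (n + 1) where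
  K := (s.R hP hZ).B
  hK := (s.R hP hZ).hB
  π := (s.R hP hZ).f
  qi := (s.R hP hZ).qi
  epi := (s.R hP hZ).epi
  hX i := by
    obtain ⟨Q, e, hQ, -⟩ := (s.R hP hZ).split i
    exact hIso _ _ e.symm (hSum _ _ (s.hX i) hQ)

/-- The transition map. -/
noncomputable def ι : s.K ⟶ (s.next hP hZ hSum hIso).K := (s.R hP hZ).ι

lemma ι_π_ι : s.ι hP hZ hSum hIso ≫ (s.next hP hZ hSum hIso).π ≫
    G.ιTruncLE ((n + 1 : ℕ) : ℤ) = s.π ≫ G.ιTruncLE (n : ℤ) := by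
  rw [← s.g_ι, ← Category.assoc]
  congr 1
  exact (s.R hP hZ).fac

lemma split (i : ℤ) : ∃ (Q : 𝒜) (e : (s.next hP hZ hSum hIso).K.X i ≅ s.K.X i ⊞ Q),
    P Q ∧ (s.ι hP hZ hSum hIso).f i ≫ e.hom = biprod.inl :=
  (s.R hP hZ).split i

end RSt

variable (G)

/-- The initial state. -/
noncomputable def state0 : RSt P G 0 := by
  have := isStrictlyLE_zero (𝒜 := 𝒜) ((0 : ℕ) : ℤ)
  let R : BoundedRelRes P (0 : (0 : CochainComplex 𝒜 ℤ) ⟶ G.truncLE ((0 : ℕ) : ℤ))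
    ((0 : ℕ) : ℤ) := Classical.choice (nonempty_boundedRelRes hP hZ _ _)
  exact
    { K := R.B
      hK := R.hB
      π := R.f
      qi := R.qi
      epi := R.epi
      hX := fun i => by
        obtain ⟨Q, e, hQ, -⟩ := R.split i
        exact hIso _ _ e.symm (hSum _ _ (hZ _ (Functor.map_isZero (eval 𝒜 _ i) (isZero_zero _))) hQ) }

/-- The sequence of states. -/
noncomputable def state : ∀ n : ℕ, RSt P G n
  | 0 => state0 hP hZ hSum hIso G
  | n + 1 => (state n).next hP hZ hSum hIso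

include hP hZ hSum hIso in
/-- S1030: the system of resolutions of the canonical truncations `τ_{≤ n} G`. -/
theorem exists_resolution_system :
    ∃ (Q : ℕ → CochainComplex 𝒜 ℤ) (ι : ∀ n, Q n ⟶ Q (n + 1))
      (π : ∀ n : ℕ, Q n ⟶ G.truncLE (n : ℤ)),
      (∀ n, QuasiIso (π n) ∧ ∀ i, Epi ((π n).f i)) ∧
      (∀ n, ∃ b : ℤ, (Q n).IsStrictlyLE b) ∧ (∀ n i, P ((Q n).X i)) ∧
      (∀ n i, (∃ r : (Q (n + 1)).X i ⟶ (Q n).X i, (ι n).f i ≫ r = 𝟙 _) ∧
        P (cokernel ((ι n).f i))) ∧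
      (∀ n : ℕ, π n ≫ G.ιTruncLE (n : ℤ) =
        ι n ≫ π (n + 1) ≫ G.ιTruncLE ((n + 1 : ℕ) : ℤ)) := by
  refine ⟨fun n => (state hP hZ hSum hIso G n).K,
    fun n => (state hP hZ hSum hIso G n).ι hP hZ hSum hIso,
    fun n => (state hP hZ hSum hIso G n).π,
    fun n => ⟨(state hP hZ hSum hIso G n).qi, (state hP hZ hSum hIso G n).epi⟩,
    fun n => ⟨(n : ℤ), (state hP hZ hSum hIso G n).hK⟩,
    fun n i => (state hP hZ hSum hIso G n).hX i, fun n i => ?_, fun n => ?_⟩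
  · obtain ⟨Q, e, hQ, he⟩ := (state hP hZ hSum hIso G n).split hP hZ hSum hIso i
    refine ⟨⟨e.hom ≫ biprod.fst, ?_⟩, hIso _ _ (cokernelIsoOfSplit _ e he).symm hQ⟩
    have h2 := congrArg (fun t => t ≫ biprod.fst) he
    simp only [Category.assoc, biprod.inl_fst] at h2
    exact h2
  · exact ((state hP hZ hSum hIso G n).ι_π_ι hP hZ hSum hIso).symm

end Groth.Agent.H28.ResSys
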