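import Groth.Agent.H28.RootBasic

set_option autoImplicit false

namespace Groth.Agent.H28

open Set Function RootD

variable {ι M N : Type*} [AddCommGroup M] [AddCommGroup N] (P : RootPairing ι ℤ M N)

theorem exists_multiset_of_mem_natSpan (S : Set ι) {x : M} (hx : x ∈ natSpan P S) :
    ∃ l : Multiset ι, (∀ y ∈ l, y ∈ S) ∧ (l.map P.root).sum = x := by
  unfold natSpan at hx
  induction hx using AddSubmonoid.closure_induction with
  | mem x hx =>
    obtain ⟨i, hi, rfl⟩ := hx
    exact ⟨{i}, by simpa using hi, by simp⟩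
  | zero => exact ⟨0, by simp, by simp⟩
  | add x y _ _ hx hy =>
    obtain ⟨l₁, h₁, rfl⟩ := hx
    obtain ⟨l₂, h₂, rfl⟩ := hy
    refine ⟨l₁ + l₂, ?_, by simp⟩
    intro y hy
    rcases Multiset.mem_add.mp hy with h | h
    · exact h₁ y h
    · exact h₂ y h

theorem sum_map_root_mem_natSpan (S : Set ι) (l : Multiset ι) (hl : ∀ y ∈ l, y ∈ S) :
    (l.map P.root).sum ∈ natSpan P S := by
  unfold natSpan
  apply AddSubmonoid.multiset_sum_mem
  intro x hx
  obtain ⟨y, hy, rfl⟩ := Multiset.mem_map.mp hx
  exact AddSubmonoid.subset_closure ⟨y, hl y hy, rfl⟩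

theorem toLinearMap_multiset_sum (l : Multiset ι) (k : ι) :
    P.toLinearMap (l.map P.root).sum (P.coroot k) = (l.map fun y => P.pairing y k).sum := by
  induction l using Multiset.induction_on with
  | empty => simp
  | cons a s ih => simp [ih]

variable [Finite ι]

omit [Finite ι] in
/-- A root which is a sum of a nonempty multiset of roots: one of the summands has positive
pairing with it. -/
theorem exists_mem_pairing_pos_of_root_eq_sum (l : Multiset ι) (k : ι)
    (hk : P.root k = (l.map P.root).sum) : ∃ y ∈ l, 0 < P.pairing y k := by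
  by_contra! hcon
  have h1 : P.toLinearMap (P.root k) (P.coroot k) = 2 := by simp
  rw [hk, toLinearMap_multiset_sum] at h1
  have : (l.map fun y => P.pairing y k).sum ≤ 0 := by
    have := Multiset.sum_le_card_nsmul (l.map fun y => P.pairing y k) 0 (by
      intro x hx
      obtain ⟨y, hy, rfl⟩ := Multiset.mem_map.mp hx
      exact hcon y hy)
    simpa using this
  omega

theorem mem_of_isClosedSub_of_root_eq_sum (S : Set ι) (hS : IsClosedSub P S) :
    ∀ (n : ℕ) (l : Multiset ι), Multiset.card l = n → (∀ y ∈ l, y ∈ S) → ∀ k : ι,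
      P.root k = (l.map P.root).sum → k ∈ S := by
  intro n
  induction n with
  | zero =>
    intro l hl _ k hk
    rw [Multiset.card_eq_zero] at hl
    subst hl
    simp at hk
    exact absurd hk (P.ne_zero k)
  | succ n ih =>
    intro l hl hlS k hk
    obtain ⟨y, hy, hpos⟩ := exists_mem_pairing_pos_of_root_eq_sum P l k hk
    by_cases hyk : y = k
    · exact hyk ▸ hlS y hy
    obtain ⟨l', rfl⟩ := Multiset.exists_cons_of_mem hy
    obtain ⟨k', hk'⟩ := root_sub_root_mem_of_pairing_pos P ((pairing_pos_iff P _ _).mp hpos)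
      (Ne.symm hyk)
    have hk'' : P.root k' = (l'.map P.root).sum := by
      rw [hk', hk]; simp
    have hl' : Multiset.card l' = n := by simpa using hl
    have hk'S : k' ∈ S := ih l' hl' (fun z hz => hlS z (Multiset.mem_cons_of_mem hz)) k' hk''
    refine hS hk'S (hlS y hy) ?_
    rw [hk']; abel

theorem isClosedSub_iff_natSpan (S : Set ι) :
    IsClosedSub P S ↔ ∀ k : ι, P.root k ∈ natSpan P S → k ∈ S := by
  constructor
  · intro hS k hk
    obtain ⟨l, hl, hsum⟩ := exists_multiset_of_mem_natSpan P S hk
    exact mem_of_isClosedSub_of_root_eq_sum P S hS _ l rfl hl k hsum.symm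
  · intro h i j k hi hj hk
    apply h
    rw [hk]
    unfold natSpan
    exact add_mem (AddSubmonoid.subset_closure ⟨i, hi, rfl⟩)
      (AddSubmonoid.subset_closure ⟨j, hj, rfl⟩)

end Groth.Agent.H28
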