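import Groth.Agent.H28.RootPartition
import Mathlib.Logic.Relation

set_option autoImplicit false

namespace Groth.Agent.H28

open Set Function RootD

variable {ι M N : Type*} [AddCommGroup M] [AddCommGroup N] (P : RootPairing ι ℤ M N)

/-- The non-orthogonality relation. -/
def NOrth (a b : ι) : Prop := ¬ P.IsOrthogonal a b

theorem nOrth_symm {a b : ι} (h : NOrth P a b) : NOrth P b a := fun h' => h h'.symm

theorem nOrth_chain_symm {a b : ι} (h : Relation.ReflTransGen (NOrth P) a b) :
    Relation.ReflTransGen (NOrth P) b a := by
  induction h with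
  | refl => exact Relation.ReflTransGen.refl
  | tail _ hbc ih => exact Relation.ReflTransGen.head (nOrth_symm P hbc) ih

theorem nOrth_neg (j : ι) : NOrth P j (P.reflectionPerm j j) := by
  intro h
  have := h.1
  simp at this

theorem nOrth_of_root_eq_add {a b k : ι} (h : P.root k = P.root a + P.root b) :
    NOrth P a k ∨ NOrth P b k := by
  by_contra! hcon
  simp only [NOrth, not_not] at hcon
  have h2 : P.pairing k k = P.pairing a k + P.pairing b k :=
    RootPairing.pairing_eq_add_of_root_eq_add h
  rw [hcon.1.1, hcon.2.1] at h2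
  simp at h2

theorem component_closed_symm (i : ι) :
    IsClosedSub P {j : ι | Relation.ReflTransGen (NOrth P) i j} ∧
      IsSymmSub P {j : ι | Relation.ReflTransGen (NOrth P) i j} ∧
      IsClosedSub P {j : ι | Relation.ReflTransGen (NOrth P) i j}ᶜ ∧
      IsSymmSub P {j : ι | Relation.ReflTransGen (NOrth P) i j}ᶜ := by
  refine ⟨?_, ?_, ?_, ?_⟩
  · intro a b k ha hb hk
    rcases nOrth_of_root_eq_add P hk with h | h
    · exact Relation.ReflTransGen.tail ha h
    · exact Relation.ReflTransGen.tail hb h
  · intro a ha
    exact Relation.ReflTransGen.tail ha (nOrth_neg P a)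
  · intro a b k ha hb hk hkC
    rcases nOrth_of_root_eq_add P hk with h | h
    · exact ha (Relation.ReflTransGen.tail hkC (nOrth_symm P h))
    · exact hb (Relation.ReflTransGen.tail hkC (nOrth_symm P h))
  · intro a ha haC
    exact ha (Relation.ReflTransGen.tail haC (nOrth_symm P (nOrth_neg P a)))

end Groth.Agent.H28
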