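import Groth.Agent.H28.RootBasic

set_option autoImplicit false

namespace Groth.Agent.H28

open Set Function RootD RootPairing

variable {ι M N : Type*} [AddCommGroup M] [AddCommGroup N] (P : RootPairing ι ℤ M N) [Finite ι]

theorem coroot_eq_two_smul_of_root_eq {j k : ι} (h : (2 : ℤ) • P.root j = P.root k) :
    P.coroot j = (2 : ℤ) • P.coroot k := by
  have := isAddTorsionFree_weight P
  have := isAddTorsionFree_coweight P
  exact RootPairing.coroot_eq_smul_coroot_iff.mpr h.symm

theorem reflection_eq_of_root_eq_two_smul {j k : ι} (h : (2 : ℤ) • P.root j = P.root k) :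
    Equiv.reflection P k = Equiv.reflection P j := by
  apply Equiv.weightHom_injective P
  ext x
  change P.reflection k x = P.reflection j x
  rw [RootPairing.reflection_apply, RootPairing.reflection_apply, ← h]
  have hc : P.coroot' j x = 2 * P.coroot' k x := by
    simp [RootPairing.coroot', coroot_eq_two_smul_of_root_eq P h]
  rw [hc, smul_smul, mul_comm]

theorem abs_pairing_le_four (i j : ι) : |P.pairing i j| ≤ 4 := by
  have hmem := P.pairingIn_pairingIn_mem_set_of_isCrystallographic i j
  rw [pairingIn_int, pairingIn_int] at hmem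
  simp only [Set.mem_insert_iff, Set.mem_singleton_iff, Prod.mk.injEq] at hmem
  rcases hmem with h | h | h | h | h | h | h | h | h | h | h | h | h | h | h | h | h <;>
    rw [h.1] <;> norm_num

theorem isIndiv_of_two_smul_eq {j k : ι} (h : (2 : ℤ) • P.root j = P.root k) : IsIndiv P j := by
  intro j' hj'
  have h4 : P.root k = (4 : ℤ) • P.root j' := by
    rw [← h, ← hj', smul_smul]; norm_num
  have h8 : P.pairing k j' = 8 := by
    have := congrArg (fun x => P.toLinearMap x (P.coroot j')) h4
    simpa using this
  have := abs_pairing_le_four P k j'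
  rw [h8] at this
  norm_num at this

theorem isIndiv_or_exists (k : ι) : IsIndiv P k ∨ ∃ j, IsIndiv P j ∧ (2 : ℤ) • P.root j = P.root k := by
  by_cases h : IsIndiv P k
  · exact Or.inl h
  · right
    unfold IsIndiv at h
    push Not at h
    obtain ⟨j, hj⟩ := h
    exact ⟨j, isIndiv_of_two_smul_eq P hj, hj⟩

theorem closure_reflection_indiv_eq_weylGroup :
    Subgroup.closure ((fun i : ι => Equiv.reflection P i) '' {i : ι | IsIndiv P i}) = P.weylGroup := by
  apply le_antisymm
  · apply Subgroup.closure_mono
    rintro _ ⟨i, _, rfl⟩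
    exact mem_range_self i
  · unfold RootPairing.weylGroup
    rw [Subgroup.closure_le]
    rintro _ ⟨k, rfl⟩
    rcases isIndiv_or_exists P k with h | ⟨j, hj, hjk⟩
    · exact Subgroup.subset_closure ⟨k, h, rfl⟩
    · rw [reflection_eq_of_root_eq_two_smul P hjk]
      exact Subgroup.subset_closure ⟨j, hj, rfl⟩

end Groth.Agent.H28
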