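import Groth.Agent.H28.RootLength

set_option autoImplicit false

namespace Groth.Agent.H28

open Set Function RootD

variable {ι M N : Type*} [AddCommGroup M] [AddCommGroup N] (P : RootPairing ι ℤ M N)

/-- Irreducibility in the sense of partitions into closed symmetric subsets. -/
def IsIrred : Prop :=
  ∀ R' : Set ι, IsClosedSub P R' → IsSymmSub P R' → IsClosedSub P R'ᶜ →
    IsSymmSub P R'ᶜ → R' = ∅ ∨ R' = Set.univ

theorem chain_of_isIrred (hirr : IsIrred P) (i j : ι) :
    Relation.ReflTransGen (fun a b : ι => ¬ P.IsOrthogonal a b) i j := by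
  obtain ⟨h1, h2, h3, h4⟩ := component_closed_symm P i
  rcases hirr _ h1 h2 h3 h4 with h | h
  · have : i ∈ {j : ι | Relation.ReflTransGen (NOrth P) i j} := Relation.ReflTransGen.refl
    rw [h] at this
    exact absurd this (Set.notMem_empty i)
  · have : j ∈ {j : ι | Relation.ReflTransGen (NOrth P) i j} := by rw [h]; trivial
    exact this

variable [Finite ι]

theorem isIrred_flip (hirr : IsIrred P) : IsIrred P.flip := by
  intro R' hc hs hc' hs'
  by_cases hne : R' = ∅
  · exact Or.inl hne
  right
  obtain ⟨i, hi⟩ := Set.nonempty_iff_ne_empty.mpr hne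
  rw [Set.eq_univ_iff_forall]
  intro j
  have hchain := chain_of_isIrred P hirr i j
  induction hchain with
  | refl => exact hi
  | tail _ hbc ih =>
    exact partition_mem_of_not_orthogonal P.flip R' hc hs hc' hs' _ _ ih
      (fun h => hbc ⟨h.2, h.1⟩)

end Groth.Agent.H28
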