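import Groth.Agent.H28.RootComponent
import Mathlib.LinearAlgebra.RootSystem.Finite.CanonicalBilinear

set_option autoImplicit false

namespace Groth.Agent.H28

open Set Function RootD

variable {ι M N : Type*} [AddCommGroup M] [AddCommGroup N] (P : RootPairing ι ℤ M N) [Fintype ι]

/-- `ℓ(α_i) (α_j, α_i^v) = 2 B(α_i, α_j)`. -/
theorem rootForm_self_mul_pairing (i j : ι) :
    P.RootForm (P.root i) (P.root i) * P.pairing j i = 2 * P.RootForm (P.root i) (P.root j) := by
  have h := P.rootForm_self_smul_coroot i
  have h2 := congrArg (fun n => P.toLinearMap (P.root j) n) h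
  simp only [map_smul, map_nsmul, RootPairing.toLinearMap_apply_apply_Polarization,
    RootPairing.root_coroot_eq_pairing] at h2
  simpa using h2

theorem rootForm_symm (x y : M) : P.RootForm x y = P.RootForm y x := by
  simp [RootPairing.rootForm_apply_apply, mul_comm]

/-- `ℓ(α_i) (α_j, α_i^v) = ℓ(α_j) (α_i, α_j^v)`. -/
theorem rootForm_self_mul_pairing_comm (i j : ι) :
    P.RootForm (P.root i) (P.root i) * P.pairing j i =
      P.RootForm (P.root j) (P.root j) * P.pairing i j := by
  rw [rootForm_self_mul_pairing, rootForm_self_mul_pairing, rootForm_symm]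

theorem corootForm_self_mul_pairing_comm (i j : ι) :
    P.CorootForm (P.coroot i) (P.coroot i) * P.pairing i j =
      P.CorootForm (P.coroot j) (P.coroot j) * P.pairing j i :=
  rootForm_self_mul_pairing_comm P.flip i j

theorem rootForm_root_self_pos (i : ι) : 0 < P.RootForm (P.root i) (P.root i) := by
  rw [P.rootForm_root_self]
  apply Finset.sum_pos'
  · intro k _
    exact mul_self_nonneg _
  · exact ⟨i, Finset.mem_univ i, by simp⟩

theorem corootForm_coroot_self_pos (i : ι) : 0 < P.CorootForm (P.coroot i) (P.coroot i) :=
  rootForm_root_self_pos P.flip i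

/-- The product `ℓ(α) ℓ(α^v)`. -/
noncomputable def lenProd (i : ι) : ℤ :=
  P.RootForm (P.root i) (P.root i) * P.CorootForm (P.coroot i) (P.coroot i)

theorem lenProd_eq_of_nOrth {i j : ι} (h : ¬ P.IsOrthogonal i j) :
    lenProd P i = lenProd P j := by
  rw [isOrthogonal_iff] at h
  have h' : P.pairing j i ≠ 0 := fun h0 => h ((pairing_zero_iff P i j).mpr h0)
  have e1 := rootForm_self_mul_pairing_comm P i j
  have e2 := corootForm_self_mul_pairing_comm P i j
  have : (P.pairing i j * P.pairing j i) * lenProd P i =
      (P.pairing i j * P.pairing j i) * lenProd P j := by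
    unfold lenProd
    calc (P.pairing i j * P.pairing j i) *
          (P.RootForm (P.root i) (P.root i) * P.CorootForm (P.coroot i) (P.coroot i))
        = (P.RootForm (P.root i) (P.root i) * P.pairing j i) *
          (P.CorootForm (P.coroot i) (P.coroot i) * P.pairing i j) := by ring
      _ = (P.RootForm (P.root j) (P.root j) * P.pairing i j) *
          (P.CorootForm (P.coroot j) (P.coroot j) * P.pairing j i) := by rw [e1, e2]
      _ = _ := by ring
  exact mul_left_cancel₀ (mul_ne_zero h h') this

theorem lenProd_eq_of_chain {i j : ι}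
    (h : Relation.ReflTransGen (fun a b : ι => ¬ P.IsOrthogonal a b) i j) :
    lenProd P i = lenProd P j := by
  induction h with
  | refl => rfl
  | tail _ hbc ih => rw [ih, lenProd_eq_of_nOrth P hbc]

end Groth.Agent.H28
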