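import Groth.Agent.H28.RootIrred
import Groth.Agent.H28.RootIndiv

set_option autoImplicit false

namespace Groth.Agent.H28

open Set Function RootD

variable {ι M N : Type*} [AddCommGroup M] [AddCommGroup N] (P : RootPairing ι ℤ M N) [Fintype ι]

/-- The squared length is invariant under reflections of roots. -/
theorem rootForm_reflectionPerm (b i : ι) :
    P.RootForm (P.root (P.reflectionPerm b i)) (P.root (P.reflectionPerm b i)) =
      P.RootForm (P.root i) (P.root i) := by
  rw [P.root_reflectionPerm, P.rootForm_reflection_reflection_apply]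

theorem pairing_reflectionPerm_right (b i c : ι) :
    P.pairing (P.reflectionPerm b i) c = P.pairing i c - P.pairing i b * P.pairing b c := by
  have h : P.root (P.reflectionPerm b i) = P.root i - P.pairing i b • P.root b := by
    rw [P.root_reflectionPerm, P.reflection_apply_root]
  rw [← P.root_coroot_eq_pairing, h]
  simp [map_sub, map_smul]

/-- Along a chain of non-orthogonal roots from `i` to `j`, some root of the same length as `i`
is non-orthogonal to `j`. -/
theorem exists_same_length_nOrth_of_chain {i j : ι}
    (h : Relation.ReflTransGen (fun a b : ι => ¬ P.IsOrthogonal a b) i j) :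
    ∃ i' : ι, P.RootForm (P.root i') (P.root i') = P.RootForm (P.root i) (P.root i) ∧
      ¬ P.IsOrthogonal i' j := by
  induction h with
  | refl =>
    refine ⟨i, rfl, ?_⟩
    rw [isOrthogonal_iff]
    simp
  | @tail b c _ hbc ih =>
    obtain ⟨i', hlen, hno⟩ := ih
    by_cases hc : P.IsOrthogonal i' c
    · refine ⟨P.reflectionPerm b i', ?_, ?_⟩
      · rw [rootForm_reflectionPerm, hlen]
      · rw [isOrthogonal_iff] at hc hno hbc ⊢
        rw [pairing_reflectionPerm_right, hc, zero_sub]
        exact neg_ne_zero.mpr (mul_ne_zero hno hbc)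
    · exact ⟨i', hlen, hc⟩

/-- For non-orthogonal roots, the smaller squared length divides the larger. -/
theorem rootForm_dvd_of_nOrth_of_le [Finite ι] {i j : ι} (h : ¬ P.IsOrthogonal i j)
    (hle : P.RootForm (P.root i) (P.root i) ≤ P.RootForm (P.root j) (P.root j)) :
    P.RootForm (P.root i) (P.root i) ∣ P.RootForm (P.root j) (P.root j) := by
  have e := rootForm_self_mul_pairing_comm P i j
  have hi := rootForm_root_self_pos P i
  have hj := rootForm_root_self_pos P j
  rw [isOrthogonal_iff] at h
  have hmem := P.pairingIn_pairingIn_mem_set_of_isCrystallographic i j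
  rw [pairingIn_int, pairingIn_int] at hmem
  simp only [Set.mem_insert_iff, Set.mem_singleton_iff, Prod.mk.injEq] at hmem
  generalize P.RootForm (P.root i) (P.root i) = x at *
  generalize P.RootForm (P.root j) (P.root j) = y at *
  rcases hmem with h' | h' | h' | h' | h' | h' | h' | h' | h' | h' | h' | h' | h' | h' | h' | h' | h' <;>
    obtain ⟨h1, h2⟩ := h' <;> rw [h1, h2] at e <;>
    first
      | exact absurd h1 h
      | exact ⟨1, by omega⟩
      | exact ⟨2, by omega⟩
      | exact ⟨3, by omega⟩
      | exact ⟨4, by omega⟩

/-- In an irreducible root pairing, the minimal squared length divides all squared lengths. -/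
theorem rootForm_min_dvd [Finite ι] (hirr : IsIrred P) (i₀ : ι)
    (hmin : ∀ i : ι, P.RootForm (P.root i₀) (P.root i₀) ≤ P.RootForm (P.root i) (P.root i)) (i : ι) :
    P.RootForm (P.root i₀) (P.root i₀) ∣ P.RootForm (P.root i) (P.root i) := by
  obtain ⟨i', hlen, hno⟩ := exists_same_length_nOrth_of_chain P (chain_of_isIrred P hirr i i₀)
  rw [← hlen]
  exact rootForm_dvd_of_nOrth_of_le P (fun h => hno h.symm) (hmin i')

end Groth.Agent.H28
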