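import Groth.Agent.H28.RootClosed

set_option autoImplicit false

namespace Groth.Agent.H28

open Set Function RootD

variable {ι M N : Type*} [AddCommGroup M] [AddCommGroup N] (P : RootPairing ι ℤ M N)

theorem root_neg_idx (i : ι) : P.root (P.reflectionPerm i i) = -P.root i := by
  simp

theorem neg_neg_idx (k : ι) :
    P.reflectionPerm (P.reflectionPerm k k) (P.reflectionPerm k k) = k := by
  apply P.root.injective
  rw [root_neg_idx, root_neg_idx, neg_neg]

/-- For a partition of the roots into two closed symmetric subsets, whenever α, β, α + β are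
roots they lie in the same part. -/
theorem partition_add_mem (R' : Set ι) (hc : IsClosedSub P R')
    (hs : IsSymmSub P R') (hc' : IsClosedSub P R'ᶜ) (hs' : IsSymmSub P R'ᶜ)
    (i j k : ι) (h : P.root k = P.root i + P.root j) :
    (i ∈ R' ∧ j ∈ R' ∧ k ∈ R') ∨ (i ∉ R' ∧ j ∉ R' ∧ k ∉ R') := by
  have hj : P.root j = P.root k + P.root (P.reflectionPerm i i) := by
    rw [root_neg_idx, h]; abel
  have hi : P.root i = P.root k + P.root (P.reflectionPerm j j) := by
    rw [root_neg_idx, h]; abel
  by_cases hiR : i ∈ R'
  · left
    have hjR : j ∈ R' := by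
      by_contra hjR
      by_cases hkR : k ∈ R'
      · exact hjR (hc hkR (hs hiR) hj)
      · exact (hc' hkR (hs' hjR) hi) hiR
    exact ⟨hiR, hjR, hc hiR hjR h⟩
  · right
    have hjR : j ∉ R' := by
      intro hjR
      by_cases hkR : k ∈ R'
      · exact hiR (hc hkR (hs hjR) hi)
      · exact (hc' hkR (hs' hiR) hj) hjR
    exact ⟨hiR, hjR, hc' hiR hjR h⟩

variable [Finite ι]

/-- A subset of roots which, together with its complement, is closed and symmetric contains with any
root every root not orthogonal to it. -/
theorem partition_mem_of_not_orthogonal (R' : Set ι) (hc : IsClosedSub P R')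
    (hs : IsSymmSub P R') (hc' : IsClosedSub P R'ᶜ) (hs' : IsSymmSub P R'ᶜ)
    (i j : ι) (hi : i ∈ R') (hij : ¬ P.IsOrthogonal i j) : j ∈ R' := by
  rw [isOrthogonal_iff] at hij
  by_cases hij' : i = j
  · exact hij' ▸ hi
  rcases lt_or_gt_of_ne hij with hneg | hpos
  · by_cases hn : P.root i = -P.root j
    · have : i = P.reflectionPerm j j := P.root_eq_neg_iff.mp hn
      have hj : j = P.reflectionPerm i i := by
        apply P.root.injective
        rw [root_neg_idx, hn, neg_neg]
      rw [hj]
      exact hs hi
    · obtain ⟨k, hk⟩ := root_add_root_mem_of_pairing_neg P hneg hn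
      rcases partition_add_mem P R' hc hs hc' hs' i j k hk with h | h
      · exact h.2.1
      · exact absurd hi h.1
  · obtain ⟨k, hk⟩ := root_sub_root_mem_of_pairing_pos P hpos hij'
    have : P.root i = P.root k + P.root j := by rw [hk]; abel
    rcases partition_add_mem P R' hc hs hc' hs' k j i this with h | h
    · exact h.2.1
    · exact absurd hi h.2.2

end Groth.Agent.H28
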