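import Groth.Agent.H28.RootBasic
import Mathlib.LinearAlgebra.RootSystem.Hom
import Mathlib.LinearAlgebra.RootSystem.Basic

set_option autoImplicit false

namespace Groth.Agent.H28

open Set Function Submodule

variable {ι M N : Type*} [AddCommGroup M] [AddCommGroup N] (P : RootPairing ι ℤ M N) [Finite ι]

/-- The root span. -/
abbrev rSpan : Submodule ℤ M := Submodule.span ℤ (Set.range P.root)

/-- The restriction of a coroot functional to the root span. -/
noncomputable def corootRes (i : ι) : Module.Dual ℤ (rSpan P) :=
  (P.toLinearMap.flip (P.coroot i)).comp (rSpan P).subtype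

theorem corootRes_apply (i : ι) (x : rSpan P) :
    corootRes P i x = P.toLinearMap x.1 (P.coroot i) := rfl

theorem corootRes_injective : Function.Injective (corootRes P) := by
  intro i j hij
  have : IsAddTorsionFree M := isAddTorsionFree_weight P
  have h := P.injOn_dualMap_subtype_span_root_coroot (mem_range_self i) (mem_range_self j)
  apply P.coroot.injective
  apply h
  ext x
  exact LinearMap.congr_fun hij x

/-- The root pairing restricted to the root span, with coweight lattice the dual of the root span. -/
noncomputable def restrictRootSpan [Module.IsReflexive ℤ (rSpan P)] :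
    RootPairing ι ℤ (rSpan P) (Module.Dual ℤ (rSpan P)) where
  toLinearMap := Module.Dual.eval ℤ (rSpan P)
  root := ⟨fun i => ⟨P.root i, Submodule.subset_span (mem_range_self i)⟩, fun i j h =>
    P.root.injective (congrArg Subtype.val h)⟩
  coroot := ⟨corootRes P, corootRes_injective P⟩
  root_coroot_two i := P.root_coroot_two i
  reflectionPerm := P.reflectionPerm
  reflectionPerm_root i j := by
    apply Subtype.ext
    exact P.reflectionPerm_root i j
  reflectionPerm_coroot i j := by
    ext x
    have h := P.reflectionPerm_coroot i j
    have h2 := congrArg (fun n => P.toLinearMap x.1 n) h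
    simp only [map_sub, map_smul] at h2
    exact h2

end Groth.Agent.H28

namespace Groth.Agent.H28

open Set Function Submodule

variable {ι M N : Type*} [AddCommGroup M] [AddCommGroup N] (P : RootPairing ι ℤ M N) [Finite ι]

/-- The inclusion of the root span as a morphism of root pairings. -/
noncomputable def restrictRootSpanHom [Module.IsReflexive ℤ (rSpan P)] :
    RootPairing.Hom (restrictRootSpan P) P where
  weightMap := (rSpan P).subtype
  coweightMap := (rSpan P).subtype.dualMap ∘ₗ P.toLinearMap.flip
  indexEquiv := Equiv.refl ι
  weight_coweight_transpose := by
    ext n x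
    rfl
  root_weightMap := by
    ext i
    rfl
  coroot_coweightMap := by
    ext i x
    rfl

end Groth.Agent.H28
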