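import Mathlib
import Groth.Agent.H28.LaurentTri
import Groth.Agent.H28.ShriekIndep
import Groth.Agent.H28.RestrAdj
import Groth.Agent.H28.ShriekMain

/-!
# The algebraic upper shriek of an integral ring map (helper28; S1784)

* `nonempty_iso_of_monic`: if `θQ : P[X] → A` kills a monic polynomial then
  `RHom_{P[X]}(A, Y[x])[1] ≅ RHom_P(A, Y)` for every `Y` in `D(P)` (no boundedness), via the Laurent
  triangle `Y[x] → Y((x⁻¹)) → x⁻¹Y[[x⁻¹]]`.
* `nonempty_iso_mvPolynomial_of_integral`: `m` integral variables shift the value by `m`.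
* `nonempty_shriekVia_iso_rightAdjoint`: for `R → A` integral, `φ^!(K) ≅ RHom_R(A, K)`, all `K`.
-/

set_option autoImplicit false
set_option linter.style.haveILetI false
universe u
open CategoryTheory Limits Polynomial Pretriangulated DerivedCategory

namespace Groth.Agent.H28.ShriekFinite

open Groth.Agent.H26.FlatBCHom Groth.Agent.H28.ShriekTools Groth.Agent.H28.LaurentTri
  Groth.Agent.H28.ShriekIndep

attribute [local instance] HasDerivedCategory.standard

section Core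

variable {P A : Type u} [CommRing P] [CommRing A]

/-- a right adjoint of restriction along `θQ : P[X] → A` kills objects on which a monic polynomial
in the kernel of `θQ` acts invertibly -/
theorem isZero_rightAdjoint_of_isIso_smul (θQ : P[X] →+* A) (f : P[X]) (hfθ : θQ f = 0)
    (RθQ : Dual.D P[X] ⥤ Dual.D A) (adjθQ : DRing.restrictD θQ ⊣ RθQ) (Z : Dual.D P[X])
    (hZ : IsIso (f • 𝟙 Z)) : IsZero (RθQ.obj Z) := by
  have key : ∀ (T : Dual.D A) (g : (DRing.restrictD θQ).obj T ⟶ Z), g = 0 := by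
    intro T g
    have h1 : f • 𝟙 ((DRing.restrictD θQ).obj T) = 0 := by
      rw [← Groth.Agent.H28.RestrAdj.restrictD_map_smul_id θQ T f, hfθ, zero_smul,
        Functor.map_zero]
    have h2 : g ≫ (f • 𝟙 Z) = 0 := by
      rw [Linear.comp_smul, Category.comp_id, ← Category.id_comp g, ← Linear.smul_comp, h1,
        Limits.zero_comp]
    exact (cancel_mono (f • 𝟙 Z)).mp (h2.trans Limits.zero_comp.symm)
  rw [IsZero.iff_id_eq_zero]
  apply (adjθQ.homEquiv _ _).symm.injective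
  exact (key _ _).trans (key _ _).symm

/-- **One integral variable.** If `θQ : P[X] → A` kills a monic polynomial, then
`RHom_{P[X]}(A, Y[x])[1] ≅ RHom_P(A, Y)`. -/
theorem nonempty_iso_of_monic (θ : P →+* A) (θQ : P[X] →+* A)
    (hC : θQ.comp (algebraMap P P[X]) = θ) (f : P[X]) (hf : f.Monic) (hfθ : θQ f = 0)
    (Rθ : Dual.D P ⥤ Dual.D A) (adjθ : DRing.restrictD θ ⊣ Rθ)
    (RθQ : Dual.D P[X] ⥤ Dual.D A) (adjθQ : DRing.restrictD θQ ⊣ RθQ) (Y : Dual.D P) :
    Nonempty ((RθQ.obj ((LB P P[X]).obj Y))⟦(1 : ℤ)⟧ ≅ Rθ.obj Y) := by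
  obtain ⟨a, b, c, hT⟩ := exists_triangle_laurent P Y
  letI := adjθQ.rightAdjointCommShift ℤ
  haveI : adjθQ.CommShift ℤ := adjθQ.commShift_of_leftAdjoint ℤ
  haveI : RθQ.IsTriangulated := adjθQ.isTriangulated_rightAdjoint
  have hT' := RθQ.map_distinguished _ hT
  have hZ : IsZero (RθQ.obj ((RLam P).obj Y)) :=
    isZero_rightAdjoint_of_isIso_smul θQ f hfθ RθQ adjθQ _ (isIso_smul_id_RLam P f hf Y)
  have hiso : IsIso (RθQ.mapTriangle.obj (Triangle.mk a b c)).mor₃ :=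
    (Triangle.isZero₂_iff_isIso₃ _ hT').mp hZ
  let e1 : RθQ.obj ((RPrin P).obj Y) ≅ (RθQ.obj ((LB P P[X]).obj Y))⟦(1 : ℤ)⟧ :=
    @asIso _ _ _ _ (RθQ.mapTriangle.obj (Triangle.mk a b c)).mor₃ hiso
  have adj2 : DRing.restrictD θ ⊣ RPrin P ⋙ RθQ :=
    (adjθQ.comp (adjRPrin P)).ofNatIsoLeft
      (restrictDComp' (algebraMap P P[X]) θQ θ hC.symm).symm
  let i2 : Rθ ≅ RPrin P ⋙ RθQ := adjθ.rightAdjointUniq adj2
  exact ⟨e1.symm ≪≫ (i2.app Y).symm⟩

end Core


section LemmaII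

variable {R A P : Type u} [CommRing R] [CommRing A] [CommRing P] [Algebra R P]

/-- **One more integral variable shifts the upper shriek by one.** -/
theorem nonempty_iso_polynomial_of_monic (θ : P →+* A) (θQ : P[X] →+* A)
    (hC : θQ.comp (C : P →+* P[X]) = θ) (f : P[X]) (hf : f.Monic) (hfθ : θQ f = 0)
    (L : Dual.D R ⥤ Dual.D P) (adjL : L ⊣ DRing.restrictD (algebraMap R P))
    (Rθ : Dual.D P ⥤ Dual.D A) (adjθ : DRing.restrictD θ ⊣ Rθ)
    (LQ : Dual.D R ⥤ Dual.D P[X]) (adjLQ : LQ ⊣ DRing.restrictD (algebraMap R P[X]))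
    (RθQ : Dual.D P[X] ⥤ Dual.D A) (adjθQ : DRing.restrictD θQ ⊣ RθQ) (K : Dual.D R) :
    Nonempty ((RθQ.obj (LQ.obj K))⟦(1 : ℤ)⟧ ≅ Rθ.obj (L.obj K)) := by
  have adj1 : L ⋙ LB P P[X] ⊣ DRing.restrictD (algebraMap R P[X]) :=
    (adjL.comp (Groth.Agent.H9.ExtBC.dAdj P P[X])).ofNatIsoRight
      (restrictDComp' (algebraMap R P) (algebraMap P P[X]) (algebraMap R P[X])
        (IsScalarTower.algebraMap_eq R P P[X])).symm
  let i1 : LQ ≅ L ⋙ LB P P[X] := adjLQ.leftAdjointUniq adj1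
  obtain ⟨e⟩ := nonempty_iso_of_monic θ θQ hC f hf hfθ Rθ adjθ RθQ adjθQ (L.obj K)
  exact ⟨(shiftFunctor (Dual.D A) (1 : ℤ)).mapIso (RθQ.mapIso (i1.app K)) ≪≫ e⟩

end LemmaII

section LemmaIII

variable {R A : Type u} [CommRing R] [CommRing A]

/-- a ring map out of a polynomial ring is evaluation -/
lemma ringHom_apply_eq_eval₂ {B : Type u} [CommRing B] (g : B[X] →+* A) (p : B[X]) :
    g p = p.eval₂ (g.comp (C : B →+* B[X])) (g X) := by
  conv_lhs => rw [← Polynomial.eval₂_C_X (p := p)]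
  rw [Polynomial.hom_eval₂]

/-- **Adjoining `m` integral variables shifts the upper shriek by `m`.** -/
theorem nonempty_iso_mvPolynomial_of_integral : ∀ (m : ℕ) (P : Type u) [CommRing P] [Algebra R P]
    (θ : P →+* A) (θQ : MvPolynomial (Fin m) P →+* A)
    (_ : θQ.comp (MvPolynomial.C : P →+* MvPolynomial (Fin m) P) = θ)
    (_ : ∀ j, ∃ f : P[X], f.Monic ∧ f.eval₂ θ (θQ (MvPolynomial.X j)) = 0)
    (L : Dual.D R ⥤ Dual.D P) (_ : L ⊣ DRing.restrictD (algebraMap R P))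
    (Rθ : Dual.D P ⥤ Dual.D A) (_ : DRing.restrictD θ ⊣ Rθ)
    (LQ : Dual.D R ⥤ Dual.D (MvPolynomial (Fin m) P))
    (_ : LQ ⊣ DRing.restrictD (algebraMap R (MvPolynomial (Fin m) P)))
    (RθQ : Dual.D (MvPolynomial (Fin m) P) ⥤ Dual.D A) (_ : DRing.restrictD θQ ⊣ RθQ)
    (K : Dual.D R), Nonempty ((RθQ.obj (LQ.obj K))⟦(m : ℤ)⟧ ≅ Rθ.obj (L.obj K)) := by
  intro m
  induction m with
  | zero =>
    intro P _ _ θ θQ hC hX L adjL Rθ adjθ LQ adjLQ RθQ adjθQ K
    let e : MvPolynomial (Fin 0) P ≃ₐ[P] P := MvPolynomial.isEmptyAlgEquiv P (Fin 0)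
    have he : e.toRingEquiv.toRingHom.comp (algebraMap R (MvPolynomial (Fin 0) P)) =
        algebraMap R P := by
      refine RingHom.ext fun r => ?_
      exact (e.restrictScalars R).commutes r
    have hθ : θ.comp e.toRingEquiv.toRingHom = θQ := by
      refine RingHom.ext fun x => ?_
      obtain ⟨p, rfl⟩ := e.symm.surjective x
      change θ (e (e.symm p)) = θQ (e.symm p)
      rw [e.apply_symm_apply, MvPolynomial.isEmptyAlgEquiv_symm_apply, ← hC]
      rfl
    obtain ⟨i⟩ := nonempty_iso_of_ringEquiv e.toRingEquiv he θQ θ hθ LQ adjLQ RθQ adjθQ L adjL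
      Rθ adjθ K
    exact ⟨(shiftFunctorZero (Dual.D A) ℤ).app _ ≪≫ i⟩
  | succ m ih =>
    intro P _ _ θ θQ hC hX L adjL Rθ adjθ LQ adjLQ RθQ adjθQ K
    let Qm := MvPolynomial (Fin m) P
    let e : MvPolynomial (Fin (m + 1)) P ≃ₐ[P] Polynomial Qm := MvPolynomial.finSuccEquiv P m
    let θ' : Polynomial Qm →+* A := θQ.comp e.symm.toRingEquiv.toRingHom
    let θm : Qm →+* A := θ'.comp (Polynomial.C : Qm →+* Polynomial Qm)
    have hθm : θm.comp (MvPolynomial.C : P →+* Qm) = θ := by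
      rw [← hC]
      refine RingHom.ext fun p => ?_
      change θQ (e.symm (Polynomial.C (MvPolynomial.C p))) = θQ (MvPolynomial.C p)
      congr 1
      rw [AlgEquiv.symm_apply_eq]
      exact ((MvPolynomial.finSuccEquiv P m).commutes p).symm
    have hXm : ∀ j, ∃ f : P[X], f.Monic ∧ f.eval₂ θ (θm (MvPolynomial.X j)) = 0 := by
      intro j
      obtain ⟨f, hf, hf0⟩ := hX j.succ
      refine ⟨f, hf, ?_⟩
      rw [← hf0]
      congr 1
      change θQ (e.symm (Polynomial.C (MvPolynomial.X j))) = θQ (MvPolynomial.X j.succ)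
      congr 1
      rw [AlgEquiv.symm_apply_eq]
      exact MvPolynomial.finSuccEquiv_X_succ.symm
    obtain ⟨f₀, hf₀, hf₀0⟩ := hX 0
    have hX' : θ' Polynomial.X = θQ (MvPolynomial.X 0) := by
      change θQ (e.symm Polynomial.X) = θQ (MvPolynomial.X 0)
      congr 1
      rw [AlgEquiv.symm_apply_eq]
      exact MvPolynomial.finSuccEquiv_X_zero.symm
    have hf' : θ' (f₀.map (MvPolynomial.C : P →+* Qm)) = 0 := by
      rw [ringHom_apply_eq_eval₂, Polynomial.eval₂_map, hX']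
      have h1 : (θ'.comp (Polynomial.C : Qm →+* Polynomial Qm)).comp
          (MvPolynomial.C : P →+* Qm) = θ := hθm
      rw [h1]
      exact hf₀0
    -- data on `Qm`
    have adjLm : L ⋙ LB P Qm ⊣ DRing.restrictD (algebraMap R Qm) :=
      (adjL.comp (Groth.Agent.H9.ExtBC.dAdj P Qm)).ofNatIsoRight
        (restrictDComp' (algebraMap R P) (algebraMap P Qm) (algebraMap R Qm)
          (IsScalarTower.algebraMap_eq R P Qm)).symm
    obtain ⟨Rθm, ⟨adjθm⟩⟩ := exists_rightAdjoint θm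
    -- data on `Qm[X]`
    have adjL' : (L ⋙ LB P Qm) ⋙ LB Qm (Polynomial Qm) ⊣
        DRing.restrictD (algebraMap R (Polynomial Qm)) :=
      (adjLm.comp (Groth.Agent.H9.ExtBC.dAdj Qm (Polynomial Qm))).ofNatIsoRight
        (restrictDComp' (algebraMap R Qm) (algebraMap Qm (Polynomial Qm))
          (algebraMap R (Polynomial Qm)) (IsScalarTower.algebraMap_eq R Qm (Polynomial Qm))).symm
    obtain ⟨Rθ', ⟨adjθ'⟩⟩ := exists_rightAdjoint θ'
    have he : e.toRingEquiv.toRingHom.comp (algebraMap R (MvPolynomial (Fin (m + 1)) P)) =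
        algebraMap R (Polynomial Qm) := by
      refine RingHom.ext fun r => ?_
      exact (e.restrictScalars R).commutes r
    have hθ' : θ'.comp e.toRingEquiv.toRingHom = θQ := by
      refine RingHom.ext fun x => ?_
      change θQ (e.symm (e x)) = θQ x
      rw [e.symm_apply_apply]
    obtain ⟨i1⟩ := nonempty_iso_of_ringEquiv e.toRingEquiv he θQ θ' hθ' LQ adjLQ RθQ adjθQ _ adjL'
      Rθ' adjθ' K
    obtain ⟨i2⟩ := nonempty_iso_polynomial_of_monic θm θ' rfl
      (f₀.map (MvPolynomial.C : P →+* Qm)) (hf₀.map _) hf' _ adjLm Rθm adjθm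
      _ adjL' Rθ' adjθ' K
    obtain ⟨i3⟩ := ih P θ θm hθm hXm L adjL Rθ adjθ _ adjLm Rθm adjθm K
    have hadd : (1 : ℤ) + (m : ℤ) = ((m + 1 : ℕ) : ℤ) := by push_cast; ring
    exact ⟨(shiftFunctorAdd' (Dual.D A) (1 : ℤ) (m : ℤ) ((m + 1 : ℕ) : ℤ) hadd).app _ ≪≫
      (shiftFunctor (Dual.D A) (m : ℤ)).mapIso
        ((shiftFunctor (Dual.D A) (1 : ℤ)).mapIso i1 ≪≫ i2) ≪≫ i3⟩

end LemmaIII


section Main

variable {R A : Type u} [CommRing R] [CommRing A] [Algebra R A]

/-- **For an integral (e.g. finite) ring map the algebraic upper shriek is the right adjoint of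
restriction of scalars**, for every `K` in `D(R)`. -/
theorem nonempty_shriekVia_iso_rightAdjoint [Algebra.IsIntegral R A] (n : ℕ)
    (ψ : MvPolynomial (Fin n) R →ₐ[R] A)
    [DRing.HasLBaseChange (algebraMap R (MvPolynomial (Fin n) R))]
    (Rψ : Dual.D (MvPolynomial (Fin n) R) ⥤ Dual.D A) (adj : DRing.restrictD ψ.toRingHom ⊣ Rψ)
    (R' : Dual.D R ⥤ Dual.D A) (adjR : DRing.restrictD (algebraMap R A) ⊣ R') (K : Dual.D R) :
    Nonempty (Dual2.shriekVia n Rψ K ≅ R'.obj K) := by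
  have hC : ψ.toRingHom.comp (MvPolynomial.C : R →+* MvPolynomial (Fin n) R) = algebraMap R A :=
    RingHom.ext fun r => ψ.commutes r
  have hX : ∀ j, ∃ f : R[X], f.Monic ∧
      f.eval₂ (algebraMap R A) (ψ.toRingHom (MvPolynomial.X j)) = 0 := fun j =>
    Algebra.IsIntegral.isIntegral (R := R) (ψ (MvPolynomial.X j))
  have adjL : 𝟭 (Dual.D R) ⊣ DRing.restrictD (algebraMap R R) :=
    (Adjunction.id).ofNatIsoRight (restrictDId' (algebraMap R R) rfl).symm
  exact nonempty_iso_mvPolynomial_of_integral n R (algebraMap R A) ψ.toRingHom hC hX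
    (𝟭 (Dual.D R)) adjL R' adjR _ (Groth.Agent.H28.ShriekMain.lbcAdj (A := R)
      (B := MvPolynomial (Fin n) R)) Rψ adj K

end Main

end Groth.Agent.H28.ShriekFinite
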