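import Mathlib
import Groth.Agent.H26.CoextBC5
import Groth.Agent.H28.ShriekMain

set_option autoImplicit false
set_option linter.style.haveILetI false
universe u
open CategoryTheory Limits AlgebraicGeometry TensorProduct

namespace Groth.Agent.H28.ShriekOpen

open Groth.Agent.H26.FlatBCHom Groth.Agent.H28.ShriekTools Groth.Agent.H28.ShriekIndep
  Groth.Agent.H26.CoextBC

attribute [local instance] HasDerivedCategory.standard

section OpenImm

variable {R R' : Type u} [CommRing R] [CommRing R'] [Algebra R R']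

/-- a ring map inducing an open immersion on spectra is flat -/
theorem flat_of_isOpenImmersion
    (h : IsOpenImmersion (Spec.map (CommRingCat.ofHom (algebraMap R R')))) : Module.Flat R R' := by
  haveI := h
  have h1 : Flat (Spec.map (CommRingCat.ofHom (algebraMap R R'))) := inferInstance
  rw [Flat.SpecMap_iff] at h1
  exact (RingHom.flat_algebraMap_iff).mp h1

/-- a ring map inducing an open immersion on spectra is an epimorphism -/
theorem isEpi_of_isOpenImmersion
    (h : IsOpenImmersion (Spec.map (CommRingCat.ofHom (algebraMap R R')))) : Algebra.IsEpi R R' := by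
  haveI := h
  rw [← CommRingCat.epi_iff_epi]
  have h1 : Mono (Spec.map (CommRingCat.ofHom (algebraMap R R'))) := inferInstance
  have h2 : Mono (CommRingCat.ofHom (algebraMap R R')).op :=
    Scheme.Spec.mono_of_mono_map h1
  exact unop_epi_of_mono (CommRingCat.ofHom (algebraMap R R')).op

end OpenImm


section FlatEpi

attribute [local instance] MvPolynomial.algebraMvPolynomial

variable {R R' : Type u} [CommRing R] [CommRing R'] [Algebra R R']

set_option maxHeartbeats 1600000 in
/-- **The algebraic upper shriek of a flat epimorphism of finite type is base change**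
(bounded below objects). -/
theorem nonempty_shriekVia_iso_of_flat_epi [IsNoetherianRing R] [Module.Flat R R']
    [Algebra.IsEpi R R'] (n : ℕ) (ψ : MvPolynomial (Fin n) R →ₐ[R] R')
    (hψ : Function.Surjective ψ) [DRing.HasLBaseChange (algebraMap R (MvPolynomial (Fin n) R))]
    (Rψ : Dual.D (MvPolynomial (Fin n) R) ⥤ Dual.D R') (adj : DRing.restrictD ψ.toRingHom ⊣ Rψ)
    [DRing.HasLBaseChange (algebraMap R R')] (K : Dual.D R) (c : ℤ) [hK : K.IsGE c] :
    Nonempty (Dual2.shriekVia n Rψ K ≅ (DRing.LBaseChange (algebraMap R R')).obj K) := by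
  haveI f1 : Module.Flat R (MvPolynomial (Fin n) R') := Module.Flat.trans R R' (MvPolynomial (Fin n) R')
  haveI f2 : Module.Flat (MvPolynomial (Fin n) R) (MvPolynomial (Fin n) R') :=
    Module.Flat.isBaseChange R (MvPolynomial (Fin n) R) R' (MvPolynomial (Fin n) R')
      (Algebra.IsPushout.out (R := R) (S := (MvPolynomial (Fin n) R)) (R' := R') (S' := MvPolynomial (Fin n) R'))
  letI algPA : Algebra (MvPolynomial (Fin n) R) R' := ψ.toRingHom.toAlgebra
  let ψ' : (MvPolynomial (Fin n) R') →ₐ[R'] R' := MvPolynomial.aeval (fun i => ψ (MvPolynomial.X i))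
  letI algP'A' : Algebra (MvPolynomial (Fin n) R') R' := ψ'.toRingHom.toAlgebra
  have hψψ' : ∀ p : (MvPolynomial (Fin n) R), ψ' (MvPolynomial.map (algebraMap R R') p) = ψ p := by
    intro p
    have h1 : ψ' (MvPolynomial.map (algebraMap R R') p) =
        MvPolynomial.aeval (fun i => ψ (MvPolynomial.X i)) p :=
      MvPolynomial.aeval_map_algebraMap _ _ _
    rw [h1]
    exact (congrArg (fun g : (MvPolynomial (Fin n) R) →ₐ[R] R' => g p) (MvPolynomial.aeval_unique ψ)).symm
  haveI t2 : IsScalarTower (MvPolynomial (Fin n) R) (MvPolynomial (Fin n) R') R' :=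
    IsScalarTower.of_algebraMap_eq (fun p => by
      change ψ p = ψ' (MvPolynomial.map (algebraMap R R') p)
      exact (hψψ' p).symm)
  haveI t3 : IsScalarTower R (MvPolynomial (Fin n) R) R' := IsScalarTower.of_algebraMap_eq (fun r => (ψ.commutes r).symm)
  haveI t4 : IsScalarTower R' (MvPolynomial (Fin n) R') R' :=
    IsScalarTower.of_algebraMap_eq (fun r => (ψ'.commutes r).symm)
  haveI t5 : IsScalarTower R (MvPolynomial (Fin n) R') R' := IsScalarTower.of_algebraMap_eq (fun r => by
    rw [IsScalarTower.algebraMap_apply R R' (MvPolynomial (Fin n) R'), ← IsScalarTower.algebraMap_apply R' (MvPolynomial (Fin n) R') R']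
    rfl)
  haveI po1 : Algebra.IsPushout R R' R' R' := by
    rw [Algebra.isPushout_iff]
    exact IsBaseChange.of_equiv (TensorProduct.lid' R R' R') (fun x => by simp)
  haveI po2 : Algebra.IsPushout (MvPolynomial (Fin n) R) R' (MvPolynomial (Fin n) R') R' :=
    (Algebra.IsPushout.comp_iff R (MvPolynomial (Fin n) R) R' (S' := MvPolynomial (Fin n) R') (T := R') (T' := R')).mp po1
  haveI po3 : Algebra.IsPushout (MvPolynomial (Fin n) R) (MvPolynomial (Fin n) R') R' R' := Algebra.IsPushout.symm po2
  haveI fin : Module.Finite (MvPolynomial (Fin n) R) R' :=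
    Module.Finite.of_surjective (Algebra.linearMap (MvPolynomial (Fin n) R) R') hψ
  have e0 := shriekBaseChangeIso (R := R) (R' := R') (P := MvPolynomial (Fin n) R) (P' := MvPolynomial (Fin n) R') (A := R') (A' := R') K c
  have adjId : 𝟭 (Dual.D R') ⊣ DRing.restrictD (algebraMap R' R') :=
    (Adjunction.id).ofNatIsoRight (restrictDId' (algebraMap R' R') rfl).symm
  have adjθ : DRing.restrictD (RingHom.id R') ⊣ 𝟭 (Dual.D R') :=
    (Adjunction.id).ofNatIsoLeft (restrictDId' (RingHom.id R') rfl).symm
  let i0 : LB R' R' ≅ 𝟭 (Dual.D R') := (Groth.Agent.H9.ExtBC.dAdj R' R').leftAdjointUniq adjId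
  have hC : (algebraMap (MvPolynomial (Fin n) R') R').comp
      (MvPolynomial.C : R' →+* MvPolynomial (Fin n) R') = RingHom.id R' :=
    RingHom.ext fun r => ψ'.commutes r
  have hX : ∀ j, ∃ g : R', algebraMap (MvPolynomial (Fin n) R') R' (MvPolynomial.X j) =
      RingHom.id R' g := fun j => ⟨_, rfl⟩
  obtain ⟨i3⟩ := nonempty_iso_mvPolynomial (R := R') (A := R') n R' (RingHom.id R')
    (algebraMap (MvPolynomial (Fin n) R') R') hC hX (𝟭 (Dual.D R')) adjId (𝟭 (Dual.D R')) adjθ
    (LB R' (MvPolynomial (Fin n) R')) (Groth.Agent.H9.ExtBC.dAdj R' (MvPolynomial (Fin n) R'))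
    (RR (MvPolynomial (Fin n) R') R') (adjRR (MvPolynomial (Fin n) R') R') ((LB R R').obj K)
  have eR : Rψ ≅ RR (MvPolynomial (Fin n) R) R' :=
    adj.rightAdjointUniq (adjRR (MvPolynomial (Fin n) R) R')
  refine ⟨(shiftFunctor (Dual.D R') (n : ℤ)).mapIso (eR.app _ ≪≫
      (RR (MvPolynomial (Fin n) R) R').mapIso
        ((Groth.Agent.H26.FlatBCDual.lbcIso (A := R) (B := MvPolynomial (Fin n) R)).app K) ≪≫
      (i0.app _).symm ≪≫ e0) ≪≫ i3 ≪≫
    ((Groth.Agent.H26.FlatBCDual.lbcIso (A := R) (B := R')).app K).symm⟩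

end FlatEpi

end Groth.Agent.H28.ShriekOpen
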