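import Mathlib
import Groth.Agent.H26.CoextBC7
import Groth.Agent.H28.ShriekOpen
import Groth.Agent.H28.ShriekFinite
import Groth.Agent.H35.LTensorRing

/-!
# Lower cohomological bound of `φ^!(R)` through a quasi-finite factorisation (helper28; for S1785)

If `R → C` (finite type, `R` Noetherian) factors as `R → R[x_1..x_d] → S' → C` with
`R[x_1..x_d] → S'` finite and `S' → C` a flat epimorphism, then `φ^!(R[0])` lies in `D^{≥ -d}(C)`.
-/

set_option autoImplicit false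
set_option linter.style.haveILetI false
set_option linter.unusedSectionVars false
universe u
open CategoryTheory Limits Pretriangulated DerivedCategory

namespace Groth.Agent.H28.ShriekQF

open Groth.Agent.H26.FlatBCHom Groth.Agent.H26.FlatBCDual Groth.Agent.H28.ShriekTools
  Groth.Agent.H28.ShriekIndep

attribute [local instance] HasDerivedCategory.standard

section Poly

variable {R : Type u} [CommRing R]

/-- the upper shriek of `R → R[x_1..x_d]` through the identity presentation is `K ⊗ P [d]` -/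
theorem nonempty_shriekVia_mvPolynomial_iso (d : ℕ)
    (ψ₀ : MvPolynomial (Fin d) R →ₐ[R] MvPolynomial (Fin d) R)
    (hψ₀ : ψ₀.toRingHom = RingHom.id _)
    [DRing.HasLBaseChange (algebraMap R (MvPolynomial (Fin d) R))]
    (Rψ₀ : Dual.D (MvPolynomial (Fin d) R) ⥤ Dual.D (MvPolynomial (Fin d) R))
    (adj₀ : DRing.restrictD ψ₀.toRingHom ⊣ Rψ₀) (K : Dual.D R) :
    Nonempty (Dual2.shriekVia d Rψ₀ K ≅
      ((DRing.LBaseChange (algebraMap R (MvPolynomial (Fin d) R))).obj K)⟦(d : ℤ)⟧) := by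
  have adjId : DRing.restrictD ψ₀.toRingHom ⊣ 𝟭 (Dual.D (MvPolynomial (Fin d) R)) :=
    (Adjunction.id).ofNatIsoLeft (restrictDId' ψ₀.toRingHom hψ₀).symm
  have e : Rψ₀ ≅ 𝟭 _ := adj₀.rightAdjointUniq adjId
  exact ⟨(shiftFunctor _ (d : ℤ)).mapIso (e.app _)⟩

end Poly

section Main

set_option maxHeartbeats 1600000 in
/-- **Lower bound through a quasi-finite factorisation.** -/
theorem isGE_shriekVia_of_finite_flat_epi (R : Type u) [CommRing R] [IsNoetherianRing R] (d : ℕ)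
    (S' C : Type u) [CommRing S'] [CommRing C]
    [Algebra R S'] [Algebra (MvPolynomial (Fin d) R) S']
    [IsScalarTower R (MvPolynomial (Fin d) R) S'] [Module.Finite (MvPolynomial (Fin d) R) S']
    [Algebra S' C] [Algebra R C] [IsScalarTower R S' C] [Module.Flat S' C] [Algebra.IsEpi S' C]
    (k : ℕ) (θ : MvPolynomial (Fin k) R →ₐ[R] C)
    (hθ : Function.Surjective θ) [DRing.HasLBaseChange (algebraMap R (MvPolynomial (Fin k) R))]
    (Rθ : Dual.D (MvPolynomial (Fin k) R) ⥤ Dual.D C) (adjθ : DRing.restrictD θ.toRingHom ⊣ Rθ) :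
    (Dual2.shriekVia k Rθ (Dual.inD R R)).IsGE (-(d : ℤ)) := by
  -- ring-theoretic facts
  haveI ftPS : Algebra.FiniteType (MvPolynomial (Fin d) R) S' := inferInstance
  haveI noethP : IsNoetherianRing (MvPolynomial (Fin d) R) := inferInstance
  haveI noethS : IsNoetherianRing S' := Algebra.FiniteType.isNoetherianRing (MvPolynomial (Fin d) R) S'
  haveI intPS : Algebra.IsIntegral (MvPolynomial (Fin d) R) S' := inferInstance
  haveI ftRS : Algebra.FiniteType R S' :=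
    Algebra.FiniteType.trans (inferInstance : Algebra.FiniteType R (MvPolynomial (Fin d) R)) ftPS
  haveI ftRC : Algebra.FiniteType R C :=
    Algebra.FiniteType.iff_quotient_mvPolynomial''.mpr ⟨k, θ, hθ⟩
  haveI ftSC : Algebra.FiniteType S' C := Algebra.FiniteType.of_restrictScalars_finiteType R S' C
  -- presentations
  obtain ⟨m, ψ₁, hψ₁⟩ := Algebra.FiniteType.iff_quotient_mvPolynomial''.mp ftPS
  obtain ⟨k', θ', hθ'⟩ := Algebra.FiniteType.iff_quotient_mvPolynomial''.mp ftRS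
  obtain ⟨m', χ, hχ⟩ := Algebra.FiniteType.iff_quotient_mvPolynomial''.mp ftSC
  haveI lb0 : DRing.HasLBaseChange (algebraMap R (MvPolynomial (Fin d) R)) :=
    Groth.Agent.H35.LT.hasLBaseChange _
  haveI lb1 : DRing.HasLBaseChange (algebraMap (MvPolynomial (Fin d) R)
      (MvPolynomial (Fin m) (MvPolynomial (Fin d) R))) := Groth.Agent.H35.LT.hasLBaseChange _
  haveI lb2 : DRing.HasLBaseChange (algebraMap R (MvPolynomial (Fin k') R)) :=
    Groth.Agent.H35.LT.hasLBaseChange _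
  haveI lb3 : DRing.HasLBaseChange (algebraMap S' (MvPolynomial (Fin m') S')) :=
    Groth.Agent.H35.LT.hasLBaseChange _
  haveI lb4 : DRing.HasLBaseChange (algebraMap S' C) := Groth.Agent.H35.LT.hasLBaseChange _
  let ψ₀ : MvPolynomial (Fin d) R →ₐ[R] MvPolynomial (Fin d) R := AlgHom.id R _
  obtain ⟨Rψ₀, ⟨adj₀⟩⟩ := exists_rightAdjoint ψ₀.toRingHom
  obtain ⟨Rψ₁, ⟨adj₁⟩⟩ := exists_rightAdjoint ψ₁.toRingHom
  obtain ⟨Rθ', ⟨adjθ'⟩⟩ := exists_rightAdjoint θ'.toRingHom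
  obtain ⟨Rχ, ⟨adjχ⟩⟩ := exists_rightAdjoint χ.toRingHom
  have hK0 : ∀ i : ℤ, i < 0 → Subsingleton (Dual.HD R (Dual.inD R R) i) := by
    intro i hi
    have : (Dual.inD R R).IsGE 0 := inferInstance
    have hz := (DerivedCategory.isGE_iff (Dual.inD R R) 0).1 this i hi
    exact ModuleCat.subsingleton_of_isZero hz
  -- compositions
  obtain ⟨e1⟩ := Groth.Agent.H26.CoextBC.nonempty_shriekVia_comp R (MvPolynomial (Fin d) R) S'
    d ψ₀ (fun x => ⟨x, rfl⟩) Rψ₀ adj₀ m ψ₁ hψ₁ Rψ₁ adj₁ k' θ' hθ' Rθ' adjθ' (Dual.inD R R) 0 hK0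
  obtain ⟨e2⟩ := Groth.Agent.H26.CoextBC.nonempty_shriekVia_comp R S' C
    k' θ' hθ' Rθ' adjθ' m' χ hχ Rχ adjχ k θ hθ Rθ adjθ (Dual.inD R R) 0 hK0
  -- the polynomial step
  obtain ⟨e3⟩ := nonempty_shriekVia_mvPolynomial_iso d ψ₀ rfl Rψ₀ adj₀ (Dual.inD R R)
  -- the finite step
  obtain ⟨e4⟩ := Groth.Agent.H28.ShriekFinite.nonempty_shriekVia_iso_rightAdjoint m ψ₁ Rψ₁ adj₁
    (Groth.Agent.H26.CoextBC.RR (MvPolynomial (Fin d) R) S')
    (Groth.Agent.H26.CoextBC.adjRR (MvPolynomial (Fin d) R) S')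
    (Dual2.shriekVia d Rψ₀ (Dual.inD R R))
  -- bounds
  haveI ge0 : ((LB R (MvPolynomial (Fin d) R)).obj (Dual.inD R R)).IsGE 0 :=
    isGE_LB (Dual.inD R R) 0 inferInstance
  haveI ge0' : ((DRing.LBaseChange (algebraMap R (MvPolynomial (Fin d) R))).obj
      (Dual.inD R R)).IsGE 0 :=
    TStructure.t.isGE_of_iso ((lbcIso (A := R) (B := MvPolynomial (Fin d) R)).app _).symm 0
  haveI ge1 : (((DRing.LBaseChange (algebraMap R (MvPolynomial (Fin d) R))).obj
      (Dual.inD R R))⟦(d : ℤ)⟧).IsGE (-(d : ℤ)) := by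
    have := Groth.Agent.H28.ExtFinite.isGE_shift'
      ((DRing.LBaseChange (algebraMap R (MvPolynomial (Fin d) R))).obj (Dual.inD R R)) 0 (d : ℤ)
    simpa using this
  haveI ge2 : (Dual2.shriekVia d Rψ₀ (Dual.inD R R)).IsGE (-(d : ℤ)) :=
    TStructure.t.isGE_of_iso e3.symm _
  haveI ge3 : ((Groth.Agent.H26.CoextBC.RR (MvPolynomial (Fin d) R) S').obj
      (Dual2.shriekVia d Rψ₀ (Dual.inD R R))).IsGE (-(d : ℤ)) :=
    Groth.Agent.H26.CoextBC.isGE_RR _ _
  haveI ge4 : (Dual2.shriekVia k' Rθ' (Dual.inD R R)).IsGE (-(d : ℤ)) :=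
    TStructure.t.isGE_of_iso (e1 ≪≫ e4).symm _
  -- the open immersion step
  obtain ⟨e5⟩ := Groth.Agent.H28.ShriekOpen.nonempty_shriekVia_iso_of_flat_epi m' χ hχ Rχ adjχ
    (Dual2.shriekVia k' Rθ' (Dual.inD R R)) (-(d : ℤ))
  haveI ge5 : ((LB S' C).obj (Dual2.shriekVia k' Rθ' (Dual.inD R R))).IsGE (-(d : ℤ)) :=
    isGE_LB _ _ ge4
  exact TStructure.t.isGE_of_iso
    (e2 ≪≫ e5 ≪≫ (lbcIso (A := S') (B := C)).app _).symm _

end Main

end Groth.Agent.H28.ShriekQF
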