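import Mathlib
import Groth.Agent.H46.FibDimQF
import Groth.Agent.H17.Chev.Chart
import Groth.Agent.H78.SchFin.FlatEpi

/-!
# Ring-theoretic input for the lower bound of `ω_{A/R}` (helper28; for S1785)

* `exists_quasiFinite_away`: local fibre dimension `d` at `q` gives `g ∉ q` and a quasi-finite map
  `R[x_1..x_d] → A_g` of finite type (Stacks 10.125.2, from helper46 / helper17).
* `exists_finite_subalgebra_flat_epi`: Zariski's main theorem in the form: a finite subalgebra `S'`
  and `r ∈ S'`, `r ∉ p` such that `S' → B_r` is a flat epimorphism.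
* `exists_algHom_atPrime`, `subsingleton_localizedModule_of_algHom`: passing from `(A_g)_r` to `A_q`.
-/

set_option autoImplicit false
set_option linter.style.haveILetI false
universe u
open CategoryTheory AlgebraicGeometry TensorProduct

namespace Groth.Agent.H28.ShriekQF

theorem exists_quasiFinite_away (R A : Type u) [CommRing R] [CommRing A] [Algebra R A]
    [Algebra.FiniteType R A] (q : PrimeSpectrum A) (d : ℕ)
    (hd : FlatMor.fibreDimAt (Spec.map (CommRingCat.ofHom (algebraMap R A))) q = d) :
    ∃ g : A, g ∉ q.asIdeal ∧ ∃ φ : MvPolynomial (Fin d) R →ₐ[R] Localization.Away g,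
      φ.toRingHom.FiniteType ∧ φ.toRingHom.QuasiFinite := by
  let p : PrimeSpectrum R := PrimeSpectrum.comap (algebraMap R A) q
  haveI : q.asIdeal.LiesOver p.asIdeal := ⟨rfl⟩
  let Q : PrimeSpectrum (p.asIdeal.Fiber A) :=
    PrimeSpectrum.preimageHomeomorphFiber R A p ⟨q, rfl⟩
  have hQ : Q.asIdeal.comap (Algebra.TensorProduct.includeRight.toRingHom) = q.asIdeal := by
    have h1 : (PrimeSpectrum.preimageHomeomorphFiber R A p).symm Q = ⟨q, rfl⟩ :=
      (PrimeSpectrum.preimageHomeomorphFiber R A p).symm_apply_apply ⟨q, rfl⟩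
    have h0 : ((PrimeSpectrum.preimageHomeomorphFiber R A p).symm Q).1 =
        PrimeSpectrum.comap Algebra.TensorProduct.includeRight.toRingHom Q := rfl
    have h2 : (PrimeSpectrum.comap Algebra.TensorProduct.includeRight.toRingHom Q) = q := by
      rw [← h0, h1]
    exact congrArg PrimeSpectrum.asIdeal h2
  have hdim : FlatMor.localDim (PrimeSpectrum (p.asIdeal.Fiber A)) Q ≤ (d : WithBot ℕ∞) := by
    rw [← Groth.Agent.H17.Chev.fibreDimAt_specMap R A p q rfl q rfl, hd]
  exact Groth.Agent.H46.FibDimQF.main p.asIdeal q.asIdeal Q hQ d hdim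

theorem exists_finite_subalgebra_flat_epi (P B : Type u) [CommRing P] [CommRing B] [Algebra P B]
    [Algebra.FiniteType P B] [Algebra.QuasiFinite P B] (p : Ideal B) [p.IsPrime] :
    ∃ S' : Subalgebra P B, Module.Finite P S' ∧ ∃ r : S', r.1 ∉ p ∧
      Module.Flat S' (Localization.Away r.1) ∧ Algebra.IsEpi S' (Localization.Away r.1) := by
  obtain ⟨S', hfg, r, hr, hbij⟩ :=
    Algebra.QuasiFiniteAt.exists_fg_and_exists_notMem_and_awayMap_bijective (R := P) (S := B) p
  refine ⟨S', ⟨(Submodule.fg_top _).mpr hfg⟩, r, hr, ?_⟩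
  let e₀ : Localization.Away r ≃+* Localization.Away r.1 := RingEquiv.ofBijective _ hbij
  let e : Localization.Away r ≃ₐ[S'] Localization.Away r.1 :=
    { e₀ with
      commutes' := fun s => by
        change Localization.awayMap S'.val.toRingHom r (algebraMap S' _ s) = _
        rw [Localization.awayMap, IsLocalization.Away.map, IsLocalization.map_eq]
        rfl }
  haveI : IsLocalization (Submonoid.powers r) (Localization.Away r.1) :=
    IsLocalization.isLocalization_of_algEquiv (Submonoid.powers r) e
  exact ⟨IsLocalization.flat _ (Submonoid.powers r),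
    (Groth.Agent.H78.SF.IsEpiHom.of_isLocalization (Submonoid.powers r)).isEpi⟩

variable {A : Type u} [CommRing A]

/-- the prime of `A_g` corresponding to a prime `q` not containing `g` -/
theorem isPrime_map_away (q : Ideal A) [q.IsPrime] (g : A) (hg : g ∉ q) :
    (q.map (algebraMap A (Localization.Away g))).IsPrime := by
  have hdisj : Disjoint (Submonoid.powers g : Set A) (q : Set A) := by
    rw [Set.disjoint_left]
    rintro x ⟨m, rfl⟩ hx
    exact hg (Ideal.IsPrime.mem_of_pow_mem inferInstance m hx)
  exact IsLocalization.isPrime_of_isPrime_disjoint (Submonoid.powers g) _ q inferInstance hdisj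

theorem exists_algHom_atPrime (q : Ideal A) [q.IsPrime] (g : A) (hg : g ∉ q)
    (r : Localization.Away g) (hr : r ∉ q.map (algebraMap A (Localization.Away g))) :
    Nonempty (Localization.Away r →ₐ[A] Localization.AtPrime q) := by
  have hgu : IsUnit (algebraMap A (Localization.AtPrime q) g) :=
    IsLocalization.map_units (M := q.primeCompl) (Localization.AtPrime q) ⟨g, hg⟩
  let f₁ : Localization.Away g →ₐ[A] Localization.AtPrime q :=
    IsLocalization.Away.liftAlgHom g (f := Algebra.ofId A (Localization.AtPrime q)) hgu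
  have hru : IsUnit (f₁ r) := by
    by_contra hnu
    have hmem : f₁ r ∈ IsLocalRing.maximalIdeal (Localization.AtPrime q) := hnu
    obtain ⟨a, ⟨s, hs⟩, rfl⟩ := IsLocalization.exists_mk'_eq (Submonoid.powers g) r
    apply hr
    have h1 : f₁ (IsLocalization.mk' (Localization.Away g) a ⟨s, hs⟩) *
        f₁ (algebraMap A (Localization.Away g) s) = algebraMap A (Localization.AtPrime q) a := by
      rw [← map_mul, IsLocalization.mk'_spec, AlgHom.commutes]
    have h2 : algebraMap A (Localization.AtPrime q) a ∈
        IsLocalRing.maximalIdeal (Localization.AtPrime q) := by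
      rw [← h1]
      exact Ideal.mul_mem_right _ _ hmem
    have h3 : a ∈ q := (IsLocalization.AtPrime.to_map_mem_maximal_iff _ q a).mp h2
    have h4 : IsLocalization.mk' (Localization.Away g) a ⟨s, hs⟩ =
        IsLocalization.mk' (Localization.Away g) 1 ⟨s, hs⟩ *
          algebraMap A (Localization.Away g) a := by
      rw [mul_comm, IsLocalization.mul_mk'_eq_mk'_of_mul, mul_one]
    rw [h4]
    exact Ideal.mul_mem_left _ _ (Ideal.mem_map_of_mem _ h3)
  exact ⟨IsLocalization.Away.liftAlgHom r (f := f₁) hru⟩

theorem subsingleton_localizedModule_of_algHom (q : Ideal A) [q.IsPrime] (C : Type u) [CommRing C]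
    [Algebra A C] (f : C →ₐ[A] Localization.AtPrime q) (M : Type u) [AddCommGroup M] [Module A M]
    (h : Subsingleton (C ⊗[A] M)) : Subsingleton (LocalizedModule q.primeCompl M) := by
  letI algC : Algebra C (Localization.AtPrime q) := f.toRingHom.toAlgebra
  haveI tower : IsScalarTower A C (Localization.AtPrime q) :=
    IsScalarTower.of_algebraMap_eq (fun a => (f.commutes a).symm)
  have e1 : (Localization.AtPrime q) ⊗[C] (C ⊗[A] M) ≃ₗ[Localization.AtPrime q]
      (Localization.AtPrime q) ⊗[A] M :=
    TensorProduct.AlgebraTensorModule.cancelBaseChange A C (Localization.AtPrime q)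
      (Localization.AtPrime q) M
  have e2 : (Localization.AtPrime q) ⊗[A] M ≃ₗ[Localization.AtPrime q]
      LocalizedModule q.primeCompl M :=
    (IsLocalizedModule.isBaseChange q.primeCompl (Localization.AtPrime q)
      (LocalizedModule.mkLinearMap q.primeCompl M)).equiv
  haveI : Subsingleton ((Localization.AtPrime q) ⊗[C] (C ⊗[A] M)) := by
    refine ⟨fun x y => ?_⟩
    have hz : ∀ z : (Localization.AtPrime q) ⊗[C] (C ⊗[A] M), z = 0 := by
      intro z
      induction z using TensorProduct.induction_on with
      | zero => rfl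
      | tmul a b => rw [Subsingleton.elim b 0, TensorProduct.tmul_zero]
      | add a b ha hb => rw [ha, hb, add_zero]
    rw [hz x, hz y]
  exact (e1.trans e2).symm.toEquiv.subsingleton

end Groth.Agent.H28.ShriekQF
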