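import Mathlib
import Groth.Agent.H28.ShriekQF1
import Groth.Agent.H28.ShriekQF2

/-!
# `H^i(ω_{A/R})_q ≠ 0 ⇒ -dim_q(fibre) ≤ i` (helper28; S1785)
-/

set_option autoImplicit false
set_option linter.style.haveILetI false
set_option linter.unusedSectionVars false
universe u
open CategoryTheory Limits Pretriangulated DerivedCategory AlgebraicGeometry TensorProduct

namespace Groth.Agent.H28.ShriekQF

open Groth.Agent.H26.FlatBCHom Groth.Agent.H26.FlatBCDual Groth.Agent.H28.ShriekTools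
  Groth.Agent.H28.ShriekIndep

attribute [local instance] HasDerivedCategory.standard

/-- the algebraic upper shriek preserves bounded below objects -/
theorem isGE_shriekVia {R A : Type u} [CommRing R] [CommRing A] [Algebra R A] (n : ℕ)
    (ψ : MvPolynomial (Fin n) R →ₐ[R] A)
    [DRing.HasLBaseChange (algebraMap R (MvPolynomial (Fin n) R))]
    (Rψ : Dual.D (MvPolynomial (Fin n) R) ⥤ Dual.D A) (adj : DRing.restrictD ψ.toRingHom ⊣ Rψ)
    (K : Dual.D R) (c : ℤ) (hK : K.IsGE c) : (Dual2.shriekVia n Rψ K).IsGE (c - n) := by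
  letI algPA : Algebra (MvPolynomial (Fin n) R) A := ψ.toRingHom.toAlgebra
  have eR : Rψ ≅ Groth.Agent.H26.CoextBC.RR (MvPolynomial (Fin n) R) A :=
    adj.rightAdjointUniq (Groth.Agent.H26.CoextBC.adjRR (MvPolynomial (Fin n) R) A)
  haveI ge0 : ((LB R (MvPolynomial (Fin n) R)).obj K).IsGE c := isGE_LB K c hK
  haveI ge0' : ((DRing.LBaseChange (algebraMap R (MvPolynomial (Fin n) R))).obj K).IsGE c :=
    TStructure.t.isGE_of_iso ((lbcIso (A := R) (B := MvPolynomial (Fin n) R)).app _).symm c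
  haveI ge1 : ((Groth.Agent.H26.CoextBC.RR (MvPolynomial (Fin n) R) A).obj
      ((DRing.LBaseChange (algebraMap R (MvPolynomial (Fin n) R))).obj K)).IsGE c :=
    Groth.Agent.H26.CoextBC.isGE_RR _ _
  haveI ge2 : (Rψ.obj ((DRing.LBaseChange (algebraMap R (MvPolynomial (Fin n) R))).obj K)).IsGE c :=
    TStructure.t.isGE_of_iso (eR.app _).symm c
  exact Groth.Agent.H28.ExtFinite.isGE_shift' _ c (n : ℤ)

set_option maxHeartbeats 1600000 in
/-- **Localisation step**: for a flat epimorphism `A → C` of finite type, `ω_{C/R} ≅ ω_{A/R} ⊗_A C`;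
hence vanishing of `H^i(ω_{C/R})` kills `C ⊗_A H^i(ω_{A/R})`. -/
theorem subsingleton_tensor_HD_of_isGE (R A C : Type u) [CommRing R] [CommRing A] [CommRing C]
    [IsNoetherianRing R] [IsNoetherianRing A] [Algebra R A] [Algebra A C] [Algebra R C]
    [IsScalarTower R A C] [Module.Flat A C] [Algebra.IsEpi A C]
    (n : ℕ) (ψ : MvPolynomial (Fin n) R →ₐ[R] A) (hψ : Function.Surjective ψ)
    [DRing.HasLBaseChange (algebraMap R (MvPolynomial (Fin n) R))]
    (Rψ : Dual.D (MvPolynomial (Fin n) R) ⥤ Dual.D A) (adj : DRing.restrictD ψ.toRingHom ⊣ Rψ)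
    (k : ℕ) (θ : MvPolynomial (Fin k) R →ₐ[R] C) (hθ : Function.Surjective θ)
    [DRing.HasLBaseChange (algebraMap R (MvPolynomial (Fin k) R))]
    (Rθ : Dual.D (MvPolynomial (Fin k) R) ⥤ Dual.D C) (adjθ : DRing.restrictD θ.toRingHom ⊣ Rθ)
    (c : ℤ) (hGE : (Dual2.shriekVia k Rθ (Dual.inD R R)).IsGE c) (i : ℤ) (hi : i < c) :
    Subsingleton (C ⊗[A] Dual.HD A (Dual2.shriekVia n Rψ (Dual.inD R R)) i) := by
  haveI ftRC : Algebra.FiniteType R C :=
    Algebra.FiniteType.iff_quotient_mvPolynomial''.mpr ⟨k, θ, hθ⟩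
  haveI ftAC : Algebra.FiniteType A C := Algebra.FiniteType.of_restrictScalars_finiteType R A C
  obtain ⟨m, χ, hχ⟩ := Algebra.FiniteType.iff_quotient_mvPolynomial''.mp ftAC
  haveI lb3 : DRing.HasLBaseChange (algebraMap A (MvPolynomial (Fin m) A)) :=
    Groth.Agent.H35.LT.hasLBaseChange _
  haveI lb4 : DRing.HasLBaseChange (algebraMap A C) := Groth.Agent.H35.LT.hasLBaseChange _
  obtain ⟨Rχ, ⟨adjχ⟩⟩ := exists_rightAdjoint χ.toRingHom
  have hK0 : ∀ j : ℤ, j < 0 → Subsingleton (Dual.HD R (Dual.inD R R) j) := by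
    intro j hj
    have : (Dual.inD R R).IsGE 0 := inferInstance
    have hz := (DerivedCategory.isGE_iff (Dual.inD R R) 0).1 this j hj
    exact ModuleCat.subsingleton_of_isZero hz
  obtain ⟨e1⟩ := Groth.Agent.H26.CoextBC.nonempty_shriekVia_comp R A C
    n ψ hψ Rψ adj m χ hχ Rχ adjχ k θ hθ Rθ adjθ (Dual.inD R R) 0 hK0
  haveI geA : (Dual2.shriekVia n Rψ (Dual.inD R R)).IsGE (0 - n) :=
    isGE_shriekVia n ψ Rψ adj (Dual.inD R R) 0 inferInstance
  obtain ⟨e2⟩ := Groth.Agent.H28.ShriekOpen.nonempty_shriekVia_iso_of_flat_epi m χ hχ Rχ adjχ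
    (Dual2.shriekVia n Rψ (Dual.inD R R)) (0 - n)
  have eTot : Dual2.shriekVia k Rθ (Dual.inD R R) ≅
      (LB A C).obj (Dual2.shriekVia n Rψ (Dual.inD R R)) :=
    e1 ≪≫ e2 ≪≫ (lbcIso (A := A) (B := C)).app _
  have hz : IsZero ((DerivedCategory.homologyFunctor (ModuleCat.{u} C) i).obj
      (Dual2.shriekVia k Rθ (Dual.inD R R))) :=
    (DerivedCategory.isGE_iff _ c).1 hGE i hi
  have hz' : IsZero ((DerivedCategory.homologyFunctor (ModuleCat.{u} C) i).obj
      ((LB A C).obj (Dual2.shriekVia n Rψ (Dual.inD R R)))) :=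
    hz.of_iso ((DerivedCategory.homologyFunctor (ModuleCat.{u} C) i).mapIso eTot).symm
  haveI : Subsingleton (Dual.HD C ((LB A C).obj (Dual2.shriekVia n Rψ (Dual.inD R R))) i) :=
    ModuleCat.subsingleton_of_isZero hz'
  exact (HD_LB_equiv (B := C) (Dual2.shriekVia n Rψ (Dual.inD R R)) i).symm.toEquiv.subsingleton

end Groth.Agent.H28.ShriekQF
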