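import Mathlib
import Groth.Agent.H28.ShriekQF3

/-!
# `H^i(ω_{A/R})_q ≠ 0 ⇒ -dim_q(fibre) ≤ i` (helper28; S1785) — assembly
-/

set_option autoImplicit false
set_option linter.style.haveILetI false
set_option linter.unusedSectionVars false
universe u
open CategoryTheory Limits Pretriangulated DerivedCategory AlgebraicGeometry TensorProduct

namespace Groth.Agent.H28.ShriekQF

attribute [local instance] HasDerivedCategory.standard

set_option maxHeartbeats 1600000 in
theorem neg_fibreDim_le_of_nontrivial (R A : Type u) [CommRing R] [CommRing A] [IsNoetherianRing R]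
    [IsNoetherianRing A] [Algebra R A] (n : ℕ) (ψ : MvPolynomial (Fin n) R →ₐ[R] A)
    (hψ : Function.Surjective ψ) [DRing.HasLBaseChange (algebraMap R (MvPolynomial (Fin n) R))]
    (Rψ : Dual.D (MvPolynomial (Fin n) R) ⥤ Dual.D A) (adj : DRing.restrictD ψ.toRingHom ⊣ Rψ)
    (q : PrimeSpectrum A) (d : ℕ)
    (hd : FlatMor.fibreDimAt (Spec.map (CommRingCat.ofHom (algebraMap R A))) q = d) (i : ℤ)
    (h : Nontrivial (LocalizedModule q.asIdeal.primeCompl
      (Dual.HD A (Dual2.shriekVia n Rψ (Dual.inD R R)) i))) : -(d : ℤ) ≤ i := by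
  by_contra hlt
  rw [not_le] at hlt
  haveI ftRA : Algebra.FiniteType R A :=
    Algebra.FiniteType.iff_quotient_mvPolynomial''.mpr ⟨n, ψ, hψ⟩
  obtain ⟨g, hg, π, hπft, hπqf⟩ := exists_quasiFinite_away R A q d hd
  letI algPAg : Algebra (MvPolynomial (Fin d) R) (Localization.Away g) := π.toRingHom.toAlgebra
  haveI towerRPAg : IsScalarTower R (MvPolynomial (Fin d) R) (Localization.Away g) :=
    IsScalarTower.of_algebraMap_eq (fun r => (π.commutes r).symm)
  haveI ftPAg : Algebra.FiniteType (MvPolynomial (Fin d) R) (Localization.Away g) := hπft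
  haveI qfPAg : Algebra.QuasiFinite (MvPolynomial (Fin d) R) (Localization.Away g) := hπqf
  haveI hp' : (q.asIdeal.map (algebraMap A (Localization.Away g))).IsPrime :=
    isPrime_map_away q.asIdeal g hg
  obtain ⟨S', hfin, r, hr, hflat, hepi⟩ := exists_finite_subalgebra_flat_epi
    (MvPolynomial (Fin d) R) (Localization.Away g) (q.asIdeal.map (algebraMap A (Localization.Away g)))
  obtain ⟨f⟩ := exists_algHom_atPrime q.asIdeal g hg r.1 hr
  -- the ring `C = (A_g)_r`
  haveI t1 : IsScalarTower R (MvPolynomial (Fin d) R) S' := inferInstance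
  haveI t2 : IsScalarTower R S' (Localization.Away r.1) := inferInstance
  haveI t3 : IsScalarTower R A (Localization.Away r.1) := inferInstance
  haveI t4 : IsScalarTower A (Localization.Away g) (Localization.Away r.1) := inferInstance
  haveI ftAAg : Algebra.FiniteType A (Localization.Away g) :=
    IsLocalization.finiteType_of_monoid_fg (Submonoid.powers g) _
  haveI ftAgC : Algebra.FiniteType (Localization.Away g) (Localization.Away r.1) :=
    IsLocalization.finiteType_of_monoid_fg (Submonoid.powers r.1) _
  haveI ftRC : Algebra.FiniteType R (Localization.Away r.1) :=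
    Algebra.FiniteType.trans (Algebra.FiniteType.trans ftRA ftAAg) ftAgC
  haveI flatAC : Module.Flat A (Localization.Away r.1) :=
    Module.Flat.trans A (Localization.Away g) (Localization.Away r.1)
  haveI epiAC : Algebra.IsEpi A (Localization.Away r.1) := by
    have h1 := Groth.Agent.H78.SF.IsEpiHom.of_isLocalization (A := A)
      (B := Localization.Away g) (Submonoid.powers g)
    have h2 := Groth.Agent.H78.SF.IsEpiHom.of_isLocalization (A := Localization.Away g)
      (B := Localization.Away r.1) (Submonoid.powers r.1)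
    have h3 := h1.comp h2
    rw [← IsScalarTower.algebraMap_eq A (Localization.Away g) (Localization.Away r.1)] at h3
    exact h3.isEpi
  obtain ⟨k, θ, hθ⟩ := Algebra.FiniteType.iff_quotient_mvPolynomial''.mp ftRC
  haveI lbk : DRing.HasLBaseChange (algebraMap R (MvPolynomial (Fin k) R)) :=
    Groth.Agent.H35.LT.hasLBaseChange _
  obtain ⟨Rθ, ⟨adjθ⟩⟩ := Groth.Agent.H28.ShriekIndep.exists_rightAdjoint θ.toRingHom
  have hGE := isGE_shriekVia_of_finite_flat_epi R d S' (Localization.Away r.1) k θ hθ Rθ adjθ
  have hsub := subsingleton_tensor_HD_of_isGE R A (Localization.Away r.1) n ψ hψ Rψ adj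
    k θ hθ Rθ adjθ (-(d : ℤ)) hGE i hlt
  have hloc := subsingleton_localizedModule_of_algHom q.asIdeal (Localization.Away r.1) f _ hsub
  exact (not_subsingleton_iff_nontrivial.mpr h) hloc

end Groth.Agent.H28.ShriekQF
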