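import Mathlib
import Groth.Agent.H35.TensorAmp
import Groth.Agent.H35.LTensorCxLib
import Groth.Agent.H35.TorAmp
import Groth.Agent.H35.KFTwoOfThree
import Groth.Agent.H35.KFBounded

/-!
# Tor amplitude in `[a, ∞)` and K-flat flat representatives vanishing below `a` (helper28)
-/

open CategoryTheory Limits MonoidalCategory

universe u

namespace Groth.Agent.H28.TorAmpGE

open HomologicalComplex Groth.Agent.H35.KF Groth.Agent.H35.LT DerivedCategory

attribute [local instance] HasDerivedCategory.standard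

section Trunc

variable {C : Type*} [Category C] [Abelian C]

/-- the canonical map to the truncation is an isomorphism in degrees `> a` -/
lemma isIso_πTruncGE_f (F : CochainComplex C ℤ) (a i : ℤ) (hi : a < i) :
    IsIso ((F.πTruncGE a).f i) := by
  obtain ⟨k, hk⟩ : ∃ k : ℕ, (ComplexShape.embeddingUpIntGE a).f k = i :=
    ⟨(i - a).toNat, by simp [ComplexShape.embeddingUpIntGE]; omega⟩
  have hb : ¬ (ComplexShape.embeddingUpIntGE a).BoundaryGE k := by
    rw [ComplexShape.boundaryGE_embeddingUpIntGE_iff]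
    rintro rfl
    simp [ComplexShape.embeddingUpIntGE] at hk
    omega
  have := F.isIso_restrictionToTruncGE' (ComplexShape.embeddingUpIntGE a) k hb
  dsimp [CochainComplex.πTruncGE, HomologicalComplex.πTruncGE]
  rw [(ComplexShape.embeddingUpIntGE a).liftExtend_f _ _ hk]
  exact IsIso.comp_isIso' inferInstance (IsIso.comp_isIso' this inferInstance)

end Trunc

section FlatKer

variable {R : Type u} [CommRing R]

open TensorProduct

/-- the kernel of a surjection of flat modules is flat -/
theorem flat_of_exact {A B C : Type u} [AddCommGroup A] [Module R A] [AddCommGroup B] [Module R B]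
    [AddCommGroup C] [Module R C] [Module.Flat R B] [Module.Flat R C]
    (ι : A →ₗ[R] B) (π : B →ₗ[R] C) (hι : Function.Injective ι) (hex : Function.Exact ι π)
    (hπ : Function.Surjective π) : Module.Flat R A := by
  rw [Module.Flat.iff_rTensor_preserves_injective_linearMap]
  intro X Y _ _ _ _ f hf
  have h1 : Function.Injective (LinearMap.lTensor X ι) :=
    lTensor_injective_of_flat_coker X ι π hι hex hπ
  have h2 : Function.Injective (LinearMap.rTensor B f) :=
    Module.Flat.rTensor_preserves_injective_linearMap f hf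
  have h3 : (LinearMap.rTensor B f) ∘ₗ (LinearMap.lTensor X ι) =
      (LinearMap.lTensor Y ι) ∘ₗ (LinearMap.rTensor A f) := by
    apply TensorProduct.ext'
    intro x a
    simp
  have h4 : Function.Injective ((LinearMap.lTensor Y ι) ∘ₗ (LinearMap.rTensor A f)) := by
    rw [← h3]
    exact h2.comp h1
  exact Function.Injective.of_comp h4

end FlatKer

section KFlatTrunc

variable {R : Type u} [CommRing R]

/-- the canonical truncation `τ_{≥ a}` of a K-flat complex of flat modules with flat opcycles in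
degree `a` is K-flat with flat terms -/
theorem isKFlat_truncGE (F : CochainComplex (ModuleCat.{u} R) ℤ) (a : ℤ) (hF : IsKFlat F)
    (hfl : ∀ i, Module.Flat R (F.X i)) (hop : Module.Flat R (F.opcycles a)) :
    IsKFlat (F.truncGE a) ∧ ∀ i, Module.Flat R ((F.truncGE a).X i) := by
  have hEfl : ∀ i, Module.Flat R ((F.truncGE a).X i) := by
    intro i
    by_cases h1 : i < a
    · exact isFlat_of_isZero ((F.truncGE a).isZero_of_isStrictlyGE a i h1)
    · by_cases h3 : i = a
      · subst h3
        exact isFlat_of_iso (F.truncGEXIsoOpcycles i).symm hop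
      · exact isFlat_of_iso (F.truncGEXIso a i (by omega)).symm (hfl i)
  refine ⟨?_, hEfl⟩
  let π := F.πTruncGE a
  let S : ShortComplex (CochainComplex (ModuleCat.{u} R) ℤ) :=
    ShortComplex.mk (kernel.ι π) π (kernel.condition π)
  have hS : S.ShortExact :=
    { exact := ShortComplex.exact_of_f_is_kernel _ (kernelIsKernel π)
      mono_f := inferInstanceAs (Mono (kernel.ι π))
      epi_g := inferInstanceAs
        (Epi (HomologicalComplex.πTruncGE F (ComplexShape.embeddingUpIntGE a))) }
  have hSi : ∀ i, (S.map (HomologicalComplex.eval _ _ i)).ShortExact :=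
    fun i => hS.map_of_exact _
  have hS1fl : ∀ i, Module.Flat R ((kernel π).X i) := by
    intro i
    have h := hSi i
    have := hfl i
    have := hEfl i
    exact flat_of_exact ((kernel.ι π).f i).hom (π.f i).hom
      ((ModuleCat.mono_iff_injective _).1 h.mono_f)
      ((ShortComplex.ShortExact.moduleCat_exact_iff_function_exact _).1 h.exact)
      ((ModuleCat.epi_iff_surjective _).1 h.epi_g)
  have hS1z : ∀ i, a < i → IsZero ((kernel π).X i) := by
    intro i hi
    have h := hSi i
    have hiso : IsIso (π.f i) := isIso_πTruncGE_f F a i hi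
    have hm : Mono ((kernel.ι π).f i) := h.mono_f
    rw [IsZero.iff_id_eq_zero]
    apply (cancel_mono ((kernel.ι π).f i)).1
    apply (cancel_mono (π.f i)).1
    rw [zero_comp, zero_comp, Category.assoc]
    have hz : (kernel.ι π).f i ≫ π.f i = 0 := (S.map (HomologicalComplex.eval _ _ i)).zero
    rw [hz, comp_zero]
  have hS1K : IsKFlat (kernel π) := isKFlat_of_bounded_flat _ a hS1z hS1fl
  exact (isKFlat_two_of_three S (shortExact_map_tensorLeft_of_flat S hS hEfl)).1 hS1K hF

end KFlatTrunc

section Derived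

variable {R : Type u} [CommRing R]

/-- for K-flat `G`, exactness of `G ⊗ K` depends only on the class of `K` in `D(R)` -/
lemma exactAt_tensorLeft_iff_of_iso_Q (G K E : CochainComplex (ModuleCat.{u} R) ℤ) (hG : IsKFlat G)
    (e : Q.obj K ≅ Q.obj E) (i : ℤ) : (G ⊗ K).ExactAt i ↔ (G ⊗ E).ExactAt i := by
  let Φ : CochainComplex (ModuleCat.{u} R) ℤ ⥤ DerivedCategory (ModuleCat.{u} R) :=
    tensorLeft G ⋙ Q
  have hΦ : (HomologicalComplex.quasiIso (ModuleCat.{u} R) (ComplexShape.up ℤ)).IsInvertedBy Φ := by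
    intro X Y f hf
    have hf' : QuasiIso f := (HomologicalComplex.mem_quasiIso_iff f).1 hf
    have : QuasiIso (G ◁ f) :=
      quasiIso_whiskerLeft_of_left_flat G (isZero_homology_tensor_left_of_isKFlat hG) f
    exact inferInstanceAs (IsIso (Q.map (G ◁ f)))
  let T := Localization.lift Φ hΦ Q
  let fac : Q ⋙ T ≅ Φ := Localization.fac Φ hΦ Q
  let iso : Q.obj (G ⊗ K) ≅ Q.obj (G ⊗ E) := (fac.app K).symm ≪≫ T.mapIso e ≪≫ fac.app E
  rw [exactAt_iff_isZero_homology, exactAt_iff_isZero_homology]
  have h : ∀ X : CochainComplex (ModuleCat.{u} R) ℤ, IsZero (X.homology i) ↔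
      IsZero ((DerivedCategory.homologyFunctor (ModuleCat.{u} R) i).obj (Q.obj X)) :=
    fun X => ((DerivedCategory.homologyFunctorFactors (ModuleCat.{u} R) i).app X).isZero_iff.symm
  rw [h, h]
  exact ((DerivedCategory.homologyFunctor (ModuleCat.{u} R) i).mapIso iso).isZero_iff

/-- `H^i(X ⊗^L K)` computed on a K-flat resolution of `X` -/
lemma subsingleton_HD_LTensorCx_iff (K : CochainComplex (ModuleCat.{u} R) ℤ)
    [DRing.HasLTensorCx R K] (X G : CochainComplex (ModuleCat.{u} R) ℤ) (hG : IsKFlat G)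
    (g : G ⟶ X) [QuasiIso g] (i : ℤ) :
    Subsingleton (Dual.HD R ((DRing.LTensorCx R K).obj (Q.obj X)) i) ↔ (G ⊗ K).ExactAt i := by
  have : IsIso (Q.map g) := (DerivedCategory.isIso_Q_map_iff_quasiIso (φ := g)).2 inferInstance
  let e₁ : (DRing.LTensorCx R K).obj (Q.obj X) ≅ Q.obj (G ⊗ K) :=
    (DRing.LTensorCx R K).mapIso (asIso (Q.map g)).symm ≪≫ LTensorCxIso K G hG
  rw [exactAt_iff_isZero_homology, ← ModuleCat.isZero_iff_subsingleton]
  exact ((DerivedCategory.homologyFunctor (ModuleCat.{u} R) i).mapIso e₁ ≪≫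
    (DerivedCategory.homologyFunctorFactors (ModuleCat.{u} R) i).app _).isZero_iff

/-- Tor amplitude in `[a, ∞)` is equivalent to the existence of a K-flat representative with flat
terms vanishing below `a`. -/
theorem torAmp_ge_iff (a : ℤ) (K : CochainComplex (ModuleCat.{u} R) ℤ) [DRing.HasLTensorCx R K] :
    (∀ (M : ModuleCat.{u} R) (i : ℤ), i < a →
        Subsingleton (Dual.HD R ((DRing.LTensorCx R K).obj (Q.obj (sgl M))) i)) ↔
      ∃ E : CochainComplex (ModuleCat.{u} R) ℤ, IsKFlat E ∧ (∀ i, Module.Flat R (E.X i)) ∧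
        (∀ i : ℤ, i < a → IsZero (E.X i)) ∧ Nonempty (Q.obj E ≅ Q.obj K) := by
  constructor
  · intro h
    obtain ⟨F, p, hF, hFfl, hp, -⟩ := exists_isKFlat_resolution R K
    have hv : ∀ (M : ModuleCat.{u} R) (i : ℤ), i < a → TensExactAt F M i := by
      intro M i hi
      obtain ⟨G, g, hG, -, hg, -⟩ := exists_isKFlat_resolution R (sgl M)
      have h1 : (G ⊗ K).ExactAt i :=
        (subsingleton_HD_LTensorCx_iff K (sgl M) G hG g i).1 (h M i hi)
      have q1 : QuasiIso (G ◁ p) :=
        quasiIso_whiskerLeft_of_left_flat G (isZero_homology_tensor_left_of_isKFlat hG) p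
      have q2 : QuasiIso (g ▷ F) := quasiIso_whiskerRight_of_isKFlat hF g
      have h2 : (G ⊗ F).ExactAt i := (exactAt_iff_of_quasiIsoAt (G ◁ p) i).2 h1
      have h3 : (sgl M ⊗ F).ExactAt i := (exactAt_iff_of_quasiIsoAt (g ▷ F) i).1 h2
      have h4 : (F ⊗ sgl M).ExactAt i :=
        (exactAt_iff_of_iso' (tensorSwapIso F (sgl M)) i).2 h3
      exact (exactAt_tensor_sgl_iff F M i).1 h4
    have hGE : F.IsGE a := by
      rw [CochainComplex.isGE_iff]
      intro i hi
      exact exactAt_of_tensExactAt_unit F i (hv _ i hi)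
    have hop : Module.Flat R (F.opcycles a) :=
      flat_opcycles F a (hFfl a) (fun N => hv N (a - 1) (by omega))
    obtain ⟨hEK, hEfl⟩ := isKFlat_truncGE F a hF hFfl hop
    have hq : QuasiIso (F.πTruncGE a) := inferInstance
    have i1 : IsIso (Q.map (F.πTruncGE a)) :=
      (DerivedCategory.isIso_Q_map_iff_quasiIso (φ := F.πTruncGE a)).2 hq
    have i2 : IsIso (Q.map p) := (DerivedCategory.isIso_Q_map_iff_quasiIso (φ := p)).2 hp
    exact ⟨F.truncGE a, hEK, hEfl, fun i hi => (F.truncGE a).isZero_of_isStrictlyGE a i hi,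
      ⟨(asIso (Q.map (F.πTruncGE a))).symm ≪≫ asIso (Q.map p)⟩⟩
  · rintro ⟨E, hEK, hEfl, hEz, ⟨e⟩⟩ M i hi
    obtain ⟨G, g, hG, -, hg, -⟩ := exists_isKFlat_resolution R (sgl M)
    rw [subsingleton_HD_LTensorCx_iff K (sgl M) G hG g i,
      exactAt_tensorLeft_iff_of_iso_Q G K E hG e.symm i]
    have q2 : QuasiIso (g ▷ E) := quasiIso_whiskerRight_of_isKFlat hEK g
    rw [exactAt_iff_of_quasiIsoAt (g ▷ E) i]
    refine ExactAt.of_isZero (isZero_tensor_X (sgl M) E i (fun p q hpq => ?_))
    by_cases hp : p = 0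
    · right
      exact hEz q (by omega)
    · left
      exact isZero_single_obj_X (ComplexShape.up ℤ) 0 M p hp

end Derived

end Groth.Agent.H28.TorAmpGE
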