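import Mathlib
import Groth.Agent.H28.ShriekQF6
import Groth.Agent.H28.HasLTensorCx
import Groth.Agent.S1820
import Groth.Agent.H26.CoextBC14
import Groth.Agent.H28.TorAmpGE
import Groth.Agent.H28.FibreGlDim
import Groth.Agent.H35.LTensorAmp
import Groth.Agent.H35.TorNilpMain
import Groth.Agent.H35.RelPerfFibreLib

/-!
# Tor amplitude `[-d, 0]` of `ω_{A/R}` over `R` (helper28; for S1790 (b))

`R → A` flat of finite type, Noetherian, all local fibre dimensions `≤ d`, `H^i(ω) = 0` for `i > 0`
⇒ `ω|_R` has tor amplitude in `[-d, 0]`.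
-/

set_option autoImplicit false
set_option linter.style.haveILetI false
set_option linter.unusedSectionVars false
universe u
open CategoryTheory CategoryTheory.Limits MonoidalCategory TensorProduct AlgebraicGeometry

namespace Groth.Agent.H28.ShriekQF

open HomologicalComplex DerivedCategory Groth.Agent.H35 Groth.Agent.H35.KF Groth.Agent.H35.KFBC
  Groth.Agent.H35.LT Groth.Agent.H28.TorAmpGE Groth.Agent.H28.FibreGlDim
  Groth.Agent.H26.FlatBCHom Groth.Agent.H26.FlatBCDual

attribute [local instance] HasDerivedCategory.standard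

set_option maxHeartbeats 1600000 in
theorem hasTorAmplitudeIn_restrictD_shriekVia_self (R A : Type u) [CommRing R] [CommRing A]
    [IsNoetherianRing R] [IsNoetherianRing A] [Algebra R A] [Module.Flat R A] (n : ℕ)
    (ψ : MvPolynomial (Fin n) R →ₐ[R] A)
    (hψ : Function.Surjective ψ) [DRing.HasLBaseChange (algebraMap R (MvPolynomial (Fin n) R))]
    (Rψ : Dual.D (MvPolynomial (Fin n) R) ⥤ Dual.D A) (adj : DRing.restrictD ψ.toRingHom ⊣ Rψ)
    (d : ℕ)
    (hfib : ∀ q : PrimeSpectrum A,
      FlatMor.fibreDimAt (Spec.map (CommRingCat.ofHom (algebraMap R A))) q ≤ (d : WithBot ℕ∞))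
    (hup : ∀ i : ℤ, 0 < i → Subsingleton (Dual.HD A (Dual2.shriekVia n Rψ (Dual.inD R R)) i)) :
    DRing.HasTorAmplitudeIn R (-(d : ℤ)) 0
      ((DRing.restrictD (algebraMap R A)).obj (Dual2.shriekVia n Rψ (Dual.inD R R))) := by
  obtain ⟨⟨F, c, hc, hff, ⟨e⟩⟩, -⟩ :=
    Groth.Agent.H26.CoextBC.isRelPerfect_shriekVia_self R A n ψ hψ Rψ adj
  have hfl : ∀ i, Module.Flat A (F.X i) := fun i => by
    have := (hff i).2
    infer_instance
  have hFK : IsKFlat F := isKFlat_of_bounded_flat F c hc hfl
  have hGc : ∀ i, c < i → IsZero ((resL (algebraMap R A) F).X i) := fun i hi =>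
    (ModuleCat.restrictScalars (algebraMap R A)).map_isZero (hc i hi)
  have hGfl : ∀ i, Module.Flat R ((resL (algebraMap R A) F).X i) := fun i => by
    have := hfl i
    exact flat_restrictScalars_of_flat (F.X i)
  have hGK : IsKFlat (resL (algebraMap R A) F) := isKFlat_of_bounded_flat _ c hGc hGfl
  let eG : Q.obj (resL (algebraMap R A) F) ≅ (DRing.restrictD (algebraMap R A)).obj
      (Dual2.shriekVia n Rψ (Dual.inD R R)) :=
    ((ModuleCat.restrictScalars (algebraMap R A)).mapDerivedCategoryFactors.app F).symm ≪≫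
      (DRing.restrictD (algebraMap R A)).mapIso e
  haveI : ∀ M : ModuleCat.{u} R, DRing.HasLTensor R M := fun M => hasLTensor M
  rw [hasTorAmplitudeIn_iff_LTensor]
  intro M i hi
  rw [subsingleton_HD_LTensor_iff M _ hGK _ eG i]
  rcases hi with hi | hi
  · rw [tensExactAt_resL_iff]
    haveI lbRA : DRing.HasLBaseChange (algebraMap R A) := hasLBaseChange _
    haveI ltF : DRing.HasLTensorCx A F := Groth.Agent.H28.HasLTensorCx.hasLTensorCx A F
    let K0 : Dual.D R := (DerivedCategory.singleFunctor (ModuleCat.{u} R) 0).obj M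
    obtain ⟨e1⟩ := Groth.Agent.S1820.result R A n ψ hψ Rψ adj F ⟨e⟩ K0
    have h0 : Subsingleton (Dual.HD A (Dual2.shriekVia n Rψ K0) i) :=
      subsingleton_HD_shriekVia_of_fibreDim_le R A n ψ hψ Rψ adj d hfib K0 0 inferInstance i
        (by omega)
    let e2 : (DRing.LBaseChange (algebraMap R A)).obj K0 ≅
        Q.obj (sgl ((ModuleCat.extendScalars.{u, u, u} (algebraMap R A)).obj M)) :=
      (lbcIso (A := R) (B := A)).app K0 ≪≫
        ((F0 R A).mapDerivedCategorySingleFunctor 0).app M ≪≫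
        (DerivedCategory.singleFunctorIsoCompQ (ModuleCat.{u} A) 0).app _
    have h1 : Subsingleton (Dual.HD A ((DRing.LTensorCx A F).obj
        (Q.obj (sgl ((ModuleCat.extendScalars.{u, u, u} (algebraMap R A)).obj M)))) i) :=
      (((DerivedCategory.homologyFunctor (ModuleCat.{u} A) i).mapIso
        (e1 ≪≫ (DRing.LTensorCx A F).mapIso e2)).toLinearEquiv).symm.toEquiv.subsingleton
    obtain ⟨G, g, hG, -, hg, -⟩ := exists_isKFlat_resolution A
      (sgl ((ModuleCat.extendScalars.{u, u, u} (algebraMap R A)).obj M))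
    have h1' : (G ⊗ F).ExactAt i :=
      (subsingleton_HD_LTensorCx_iff F _ G hG g i).1 h1
    have q2 : QuasiIso (g ▷ F) := quasiIso_whiskerRight_of_isKFlat hFK g
    have h3 : (sgl ((ModuleCat.extendScalars.{u, u, u} (algebraMap R A)).obj M) ⊗ F).ExactAt i :=
      (exactAt_iff_of_quasiIsoAt (g ▷ F) i).1 h1'
    have h4 : (F ⊗ sgl ((ModuleCat.extendScalars.{u, u, u} (algebraMap R A)).obj M)).ExactAt i :=
      (exactAt_iff_of_iso' (tensorSwapIso F _) i).2 h3
    exact (exactAt_tensor_sgl_iff F _ i).1 h4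
  · refine tensExactAt_of_isKFlat_of_exactAt_above _ hGK 0 ?_ M i hi
    intro j hj
    rw [Groth.Agent.H35.RelPerfFibreLib.exactAt_resL_iff, exactAt_iff_isZero_homology]
    have := hup j hj
    exact IsZero.of_iso (ModuleCat.isZero_of_subsingleton _)
      (((DerivedCategory.homologyFunctorFactors _ j).app F).symm ≪≫
        (DerivedCategory.homologyFunctor _ j).mapIso e)

end Groth.Agent.H28.ShriekQF
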