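import Groth.Agent.H28.RootLength
import Mathlib.LinearAlgebra.RootSystem.Finite.Nondegenerate
import Mathlib.LinearAlgebra.Matrix.PosDef

set_option autoImplicit false

namespace Groth.Agent.H28

open Set Function RootD RootPairing

variable {ι M N : Type*} [AddCommGroup M] [AddCommGroup N] (P : RootPairing ι ℤ M N) [Fintype ι]
variable {κ : Type*} (f : κ → ι)

/-- The linear combination map along a family of roots. -/
noncomputable def lcG : (κ →₀ ℤ) →ₗ[ℤ] M := Finsupp.linearCombination ℤ (fun a : κ => P.root (f a))

omit [Fintype ι] in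
theorem lcG_apply (c : κ →₀ ℤ) : lcG P f c = c.sum fun a n => n • P.root (f a) := by
  simp [lcG, Finsupp.linearCombination_apply]

omit [Fintype ι] in
theorem lcG_mem_rootSpan (c : κ →₀ ℤ) : lcG P f c ∈ P.rootSpan ℤ := by
  rw [lcG_apply, Finsupp.sum]
  apply Submodule.sum_mem
  intro a _
  apply Submodule.smul_mem
  exact Submodule.subset_span (mem_range_self _)

theorem rootForm_lcG_lcG (x : κ →₀ ℤ) :
    P.RootForm (lcG P f x) (lcG P f x) =
      x.sum fun i xi => x.sum fun j xj => xi * P.RootForm (P.root (f i)) (P.root (f j)) * xj := by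
  rw [lcG_apply]
  simp only [Finsupp.sum, map_sum, LinearMap.sum_apply, map_smul, LinearMap.smul_apply,
    smul_eq_mul]
  apply Finset.sum_congr rfl
  intro i _
  rw [Finset.mul_sum]
  apply Finset.sum_congr rfl
  intro j _
  rw [rootForm_symm P (P.root (f j))]
  ring

/-- The symmetrised Cartan matrix `(ℓ(a) (b, a^v))`. -/
noncomputable def symCartan : Matrix κ κ ℤ :=
  Matrix.of fun a b : κ => P.RootForm (P.root (f a)) (P.root (f a)) * P.pairing (f b) (f a)

theorem symCartan_apply (a b : κ) :
    symCartan P f a b = 2 * P.RootForm (P.root (f a)) (P.root (f b)) := by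
  simp only [symCartan, Matrix.of_apply]
  exact rootForm_self_mul_pairing P (f a) (f b)

theorem symCartan_isSymm : (symCartan P f).IsSymm := by
  ext a b
  rw [Matrix.transpose_apply, symCartan_apply, symCartan_apply, rootForm_symm]

theorem symCartan_quadratic (x : κ →₀ ℤ) :
    (x.sum fun i xi => x.sum fun j xj => star xi * symCartan P f i j * xj) =
      2 * P.RootForm (lcG P f x) (lcG P f x) := by
  rw [rootForm_lcG_lcG]
  simp only [Finsupp.sum, Finset.mul_sum]
  apply Finset.sum_congr rfl
  intro i _
  apply Finset.sum_congr rfl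
  intro j _
  rw [symCartan_apply, star_trivial]
  ring

theorem symCartan_posDef (hli : LinearIndependent ℤ (fun a : κ => P.root (f a))) :
    (symCartan P f).PosDef := by
  refine ⟨?_, ?_⟩
  · rw [Matrix.IsHermitian, Matrix.conjTranspose_eq_transpose_of_trivial]
    exact symCartan_isSymm P f
  · intro x hx
    rw [symCartan_quadratic]
    have hne : lcG P f x ≠ 0 := by
      intro h
      apply hx
      apply hli
      rw [map_zero]
      exact h
    have := P.rootForm_pos_of_ne_zero (lcG_mem_rootSpan P f x) hne
    omega

end Groth.Agent.H28
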