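import Groth.Agent.H28.SimpleSys
import Groth.Agent.H28.RootComponent

set_option autoImplicit false

namespace Groth.Agent.H28

open Set Function RootD

variable {ι M N : Type*} [AddCommGroup M] [AddCommGroup N] {P : RootPairing ι ℤ M N} {Δ : Set ι}
variable (hΔ : IsSimpleSys P Δ)

include hΔ

theorem exists_mem_nOrth (i : ι) : ∃ a ∈ Δ, NOrth P i a := by
  by_contra! hcon
  have h2 : P.pairing i i = 2 := P.pairing_same i
  rw [pairing_eq_coeff_sum hΔ i i] at h2
  have : ((coeff hΔ i).sum fun a n => n * P.pairing a i) = 0 := by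
    apply Finset.sum_eq_zero
    intro a _
    have := hcon a a.2
    simp only [NOrth, not_not] at this
    simp [this.2]
  omega

theorem chain_of_connected
    (hconn : ∀ Δ' : Set ι, Δ' ⊆ Δ → (∀ i ∈ Δ', ∀ j ∈ Δ \ Δ', P.IsOrthogonal i j) → Δ' = ∅ ∨ Δ' = Δ)
    (i j : ι) : Relation.ReflTransGen (fun a b : ι => ¬ P.IsOrthogonal a b) i j := by
  have key : ∀ i : ι, Δ ⊆ {j : ι | Relation.ReflTransGen (NOrth P) i j} := by
    intro i
    set C := {j : ι | Relation.ReflTransGen (NOrth P) i j} with hC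
    have h := hconn (Δ ∩ C) Set.inter_subset_left (by
      rintro a ⟨_, haC⟩ b ⟨hbΔ, hb⟩
      by_contra hab
      exact hb ⟨hbΔ, Relation.ReflTransGen.tail haC hab⟩)
    obtain ⟨a, haΔ, ha⟩ := exists_mem_nOrth hΔ i
    have haC : a ∈ Δ ∩ C := ⟨haΔ, Relation.ReflTransGen.single ha⟩
    rcases h with h | h
    · rw [h] at haC
      exact absurd haC (Set.notMem_empty a)
    · intro b hb
      rw [← h] at hb
      exact hb.2
  obtain ⟨a, haΔ, _⟩ := exists_mem_nOrth hΔ i
  have h1 : Relation.ReflTransGen (NOrth P) i a := key i haΔ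
  have h2 : Relation.ReflTransGen (NOrth P) j a := key j haΔ
  exact h1.trans (nOrth_chain_symm P h2)

end Groth.Agent.H28
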