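import Groth.Agent.H28.SimplePos
import Groth.Agent.H28.RootPartition

set_option autoImplicit false

namespace Groth.Agent.H28

open Set Function RootD RootPairing

variable {ι M N : Type*} [AddCommGroup M] [AddCommGroup N] {P : RootPairing ι ℤ M N} {Δ : Set ι}

theorem exists_lc_of_mem_span {S : Set ι} (hS : S ⊆ Δ) {x : M}
    (hx : x ∈ Submodule.span ℤ (P.root '' S)) :
    ∃ c : Δ →₀ ℤ, (∀ a : Δ, c a ≠ 0 → (a : ι) ∈ S) ∧ lc P Δ c = x := by
  classical
  induction hx using Submodule.span_induction with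
  | mem x hx =>
    obtain ⟨i, hi, rfl⟩ := hx
    refine ⟨Finsupp.single ⟨i, hS hi⟩ 1, ?_, by simp [lc_single]⟩
    intro a ha
    rw [Finsupp.single_apply] at ha
    split_ifs at ha with h
    · rw [← h]; exact hi
    · exact absurd rfl ha
  | zero => exact ⟨0, by simp, by simp⟩
  | add x y _ _ hx hy =>
    obtain ⟨c₁, h₁, rfl⟩ := hx
    obtain ⟨c₂, h₂, rfl⟩ := hy
    refine ⟨c₁ + c₂, ?_, by simp⟩
    intro a ha
    by_cases h : c₁ a = 0
    · apply h₂
      intro h'
      apply ha
      simp [h, h']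
    · exact h₁ a h
  | smul t x _ hx =>
    obtain ⟨c, h, rfl⟩ := hx
    refine ⟨t • c, ?_, by simp⟩
    intro a ha
    apply h
    intro h'
    apply ha
    simp [h']

theorem lc_mem_span {S : Set ι} (c : Δ →₀ ℤ) (hc : ∀ a : Δ, c a ≠ 0 → (a : ι) ∈ S) :
    lc P Δ c ∈ Submodule.span ℤ (P.root '' S) := by
  rw [lc_apply, Finsupp.sum]
  apply Submodule.sum_mem
  intro a ha
  apply Submodule.smul_mem
  apply Submodule.subset_span
  exact ⟨a, hc a (Finsupp.mem_support_iff.mp ha), rfl⟩

theorem lc_mem_natSpan_of_supp {S : Set ι} (c : Δ →₀ ℤ) (hc : ∀ a : Δ, c a ≠ 0 → (a : ι) ∈ S)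
    (hpos : 0 ≤ c) : lc P Δ c ∈ natSpan P S := by
  rw [lc_apply, Finsupp.sum]
  apply AddSubmonoid.sum_mem
  intro a ha
  have h0 : 0 ≤ c a := hpos a
  obtain ⟨n, hn⟩ := Int.eq_ofNat_of_zero_le h0
  rw [hn, natCast_zsmul]
  apply AddSubmonoid.nsmul_mem
  exact AddSubmonoid.subset_closure ⟨a, hc a (Finsupp.mem_support_iff.mp ha), rfl⟩

variable (hΔ : IsSimpleSys P Δ)

include hΔ

theorem mem_inSpan_iff {S : Set ι} (hS : S ⊆ Δ) (k : ι) :
    k ∈ inSpan P S ↔ ∀ a : Δ, coeff hΔ k a ≠ 0 → (a : ι) ∈ S := by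
  constructor
  · intro hk
    obtain ⟨c, hc, hck⟩ := exists_lc_of_mem_span hS hk
    rw [coeff_unique hΔ hck]
    exact hc
  · intro h
    change P.root k ∈ Submodule.span ℤ (P.root '' S)
    rw [← lc_coeff hΔ k]
    exact lc_mem_span _ h

theorem not_mem_inSpan_both {S T : Set ι} (hS : S ⊆ Δ) (hT : T ⊆ Δ) (hST : Disjoint S T) (k : ι) :
    ¬ (k ∈ inSpan P S ∧ k ∈ inSpan P T) := by
  rintro ⟨h1, h2⟩
  rw [mem_inSpan_iff hΔ hS] at h1
  rw [mem_inSpan_iff hΔ hT] at h2
  apply coeff_ne_zero hΔ k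
  ext a
  by_contra h
  exact Set.disjoint_left.mp hST (h1 a h) (h2 a h)

variable [Finite ι]

/-- A positive root not in `Δ` is the sum of a positive root and a simple root. -/
theorem exists_sub_simple_of_pos {k : ι} (hk : 0 ≤ coeff hΔ k) (hkΔ : k ∉ Δ) :
    ∃ (a : Δ) (k' : ι), P.root k = P.root k' + P.root a ∧ 0 ≤ coeff hΔ k' ∧
      coeff hΔ k = coeff hΔ k' + Finsupp.single a 1 := by
  obtain ⟨a, hca, hpos⟩ := exists_pos_pairing_of_pos hΔ hk
  have hpos' : 0 < P.pairing k a := (pairing_pos_iff P _ _).mp hpos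
  have hka : k ≠ a := fun h => hkΔ (h ▸ a.2)
  obtain ⟨k', hk'⟩ := root_sub_root_mem_of_pairing_pos P hpos' hka
  have hc : coeff hΔ k' = coeff hΔ k - Finsupp.single a 1 := by
    rw [coeff_sub hΔ hk', coeff_of_mem]
  refine ⟨a, k', by rw [hk']; abel, ?_, by rw [hc]; abel⟩
  rw [hc]
  intro b
  classical
  simp only [Finsupp.coe_zero, Pi.zero_apply, Finsupp.coe_sub, Pi.sub_apply, Finsupp.single_apply]
  split_ifs with h
  · subst h; omega
  · have : 0 ≤ coeff hΔ k b := hk b
    omega

theorem supp_dichotomy_of_pos {Δ' : Set ι} (hsub : Δ' ⊆ Δ)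
    (horth : ∀ i ∈ Δ', ∀ j ∈ Δ \ Δ', P.IsOrthogonal i j) :
    ∀ (n : ℕ) (k : ι), 0 ≤ coeff hΔ k → (ht hΔ k).toNat = n →
      (∀ a : Δ, coeff hΔ k a ≠ 0 → (a : ι) ∈ Δ') ∨ (∀ a : Δ, coeff hΔ k a ≠ 0 → (a : ι) ∈ Δ \ Δ') := by
  classical
  intro n
  induction n using Nat.strong_induction_on with
  | _ n ih =>
    intro k hk hn
    by_cases hkΔ : k ∈ Δ
    · have hc := coeff_of_mem hΔ ⟨k, hkΔ⟩
      by_cases hk' : k ∈ Δ'
      · left
        intro a ha
        rw [hc, Finsupp.single_apply] at ha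
        split_ifs at ha with h
        · rw [← h]; exact hk'
        · exact absurd rfl ha
      · right
        intro a ha
        rw [hc, Finsupp.single_apply] at ha
        split_ifs at ha with h
        · rw [← h]; exact ⟨hkΔ, hk'⟩
        · exact absurd rfl ha
    obtain ⟨a, k', hroot, hk'pos, hcoeff⟩ := exists_sub_simple_of_pos hΔ hk hkΔ
    have hht : ht hΔ k = ht hΔ k' + 1 := by
      unfold ht
      rw [hcoeff, Finsupp.sum_add_index' (by intros; rfl) (by intros; rfl)]
      simp
    have hht0 := ht_pos_of_pos hΔ hk'pos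
    have hlt : (ht hΔ k').toNat < n := by rw [← hn]; omega
    -- general step: if supp(coeff k') ⊆ S, a ∉ S, and S ⊥ a then contradiction
    have key : ∀ S : Set ι, (∀ b : Δ, coeff hΔ k' b ≠ 0 → (b : ι) ∈ S) → (a : ι) ∉ S →
        (∀ b ∈ S, P.IsOrthogonal b a) → False := by
      intro S hS haS hSa
      have hp : P.pairing k' a = 0 := by
        rw [pairing_eq_coeff_sum hΔ k' a]
        apply Finset.sum_eq_zero
        intro b hb
        have := hSa b (hS b (Finsupp.mem_support_iff.mp hb))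
        simp only [this.1, mul_zero]
      have horth' : P.IsOrthogonal k' a := (isOrthogonal_iff P k' a).mpr hp
      have h1 : P.reflection a (P.root k') = P.root k' := horth'.reflection_apply_left
      have hk'' : P.root (P.reflectionPerm a k) = P.root k' - P.root a := by
        rw [RootPairing.root_reflectionPerm, hroot, map_add, h1, RootPairing.reflection_apply_self,
          sub_eq_add_neg]
      have hc'' : coeff hΔ (P.reflectionPerm a k) = coeff hΔ k' - Finsupp.single a 1 := by
        rw [coeff_sub hΔ hk'', coeff_of_mem]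
      have ha0 : coeff hΔ k' a = 0 := by
        by_contra h
        exact haS (hS a h)
      obtain ⟨b, hb⟩ := Finsupp.support_nonempty_iff.mpr (coeff_ne_zero hΔ k')
      have hb0 : coeff hΔ k' b ≠ 0 := Finsupp.mem_support_iff.mp hb
      have hba : b ≠ a := by
        rintro rfl
        exact hb0 ha0
      rcases coeff_nonneg_or_nonpos hΔ (P.reflectionPerm a k) with h | h
      · have := h a
        rw [hc''] at this
        simp [ha0] at this
      · have := h b
        rw [hc''] at this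
        simp only [Finsupp.coe_sub, Pi.sub_apply, Finsupp.single_apply, Finsupp.coe_zero,
          Pi.zero_apply, if_neg hba.symm] at this
        have h0 : 0 ≤ coeff hΔ k' b := hk'pos b
        omega
    rcases ih _ hlt k' hk'pos rfl with h | h
    · by_cases ha' : (a : ι) ∈ Δ'
      · left
        intro b hb
        by_cases hbk : coeff hΔ k' b = 0
        · rw [hcoeff] at hb
          simp only [Finsupp.coe_add, Pi.add_apply, hbk, zero_add, Finsupp.single_apply] at hb
          split_ifs at hb with hab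
          · rw [← hab]; exact ha'
          · exact absurd rfl hb
        · exact h b hbk
      · exfalso
        exact key Δ' h ha' (fun b hb => horth b hb a ⟨a.2, ha'⟩)
    · by_cases ha' : (a : ι) ∈ Δ'
      · exfalso
        exact key (Δ \ Δ') h (fun h' => h'.2 ha') (fun b hb => (horth a ha' b hb).symm)
      · right
        intro b hb
        by_cases hbk : coeff hΔ k' b = 0
        · rw [hcoeff] at hb
          simp only [Finsupp.coe_add, Pi.add_apply, hbk, zero_add, Finsupp.single_apply] at hb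
          split_ifs at hb with hab
          · rw [← hab]; exact ⟨a.2, ha'⟩
          · exact absurd rfl hb
        · exact h b hbk

theorem inSpan_partition {Δ' : Set ι} (hsub : Δ' ⊆ Δ)
    (horth : ∀ i ∈ Δ', ∀ j ∈ Δ \ Δ', P.IsOrthogonal i j) (k : ι) :
    (k ∈ inSpan P Δ' ∨ k ∈ inSpan P (Δ \ Δ')) ∧
      ¬ (k ∈ inSpan P Δ' ∧ k ∈ inSpan P (Δ \ Δ')) := by
  refine ⟨?_, not_mem_inSpan_both hΔ hsub Set.sdiff_subset Set.disjoint_sdiff_right k⟩
  rw [mem_inSpan_iff hΔ hsub, mem_inSpan_iff hΔ Set.sdiff_subset]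
  rcases coeff_nonneg_or_nonpos hΔ k with h | h
  · exact supp_dichotomy_of_pos hΔ hsub horth _ k h rfl
  · have hneg : 0 ≤ coeff hΔ (P.reflectionPerm k k) := by
      rw [coeff_neg]; simpa using h
    have := supp_dichotomy_of_pos hΔ hsub horth _ _ hneg rfl
    simpa [coeff_neg] using this

end Groth.Agent.H28

namespace Groth.Agent.H28

open Set Function RootD RootPairing

variable {ι M N : Type*} [AddCommGroup M] [AddCommGroup N] {P : RootPairing ι ℤ M N} {Δ : Set ι}
variable (hΔ : IsSimpleSys P Δ) [Finite ι]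

include hΔ

/-- A root in the span of `Δ ∩ R'` lies in `R'`, for `R'` closed and symmetric. -/
theorem mem_of_mem_inSpan_inter {R' : Set ι} (hc : IsClosedSub P R') (hs : IsSymmSub P R')
    {k : ι} (hk : k ∈ inSpan P (Δ ∩ R')) : k ∈ R' := by
  have hmem := (mem_inSpan_iff hΔ Set.inter_subset_left k).mp hk
  rcases coeff_nonneg_or_nonpos hΔ k with h | h
  · have : P.root k ∈ natSpan P (Δ ∩ R') := by
      rw [← lc_coeff hΔ k]
      exact lc_mem_natSpan_of_supp _ hmem h
    have h2 : P.root k ∈ natSpan P R' :=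
      AddSubmonoid.closure_mono (Set.image_mono Set.inter_subset_right) this
    exact (isClosedSub_iff_natSpan P R').mp hc k h2
  · have hneg : 0 ≤ coeff hΔ (P.reflectionPerm k k) := by
      rw [coeff_neg]; simpa using h
    have : P.root (P.reflectionPerm k k) ∈ natSpan P (Δ ∩ R') := by
      rw [← lc_coeff hΔ (P.reflectionPerm k k)]
      apply lc_mem_natSpan_of_supp _ _ hneg
      intro a ha
      apply hmem
      rw [coeff_neg] at ha
      simpa using ha
    have h2 : P.root (P.reflectionPerm k k) ∈ natSpan P R' :=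
      AddSubmonoid.closure_mono (Set.image_mono Set.inter_subset_right) this
    have h3 := (isClosedSub_iff_natSpan P R').mp hc _ h2
    have h4 := hs h3
    rwa [neg_neg_idx] at h4

theorem closedSymm_partition_eq_inSpan (R' : Set ι)
    (hc : IsClosedSub P R') (hs : IsSymmSub P R') (hc' : IsClosedSub P R'ᶜ)
    (hs' : IsSymmSub P R'ᶜ) :
    R' = inSpan P (Δ ∩ R') ∧ R'ᶜ = inSpan P (Δ \ R') ∧
      ∀ i ∈ Δ ∩ R', ∀ j ∈ Δ \ R', P.IsOrthogonal i j := by
  have horth : ∀ i ∈ Δ ∩ R', ∀ j ∈ Δ \ R', P.IsOrthogonal i j := by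
    intro i hi j hj
    by_contra h
    exact hj.2 (partition_mem_of_not_orthogonal P R' hc hs hc' hs' i j hi.2 h)
  have hdiff : Δ \ (Δ ∩ R') = Δ \ R' := by
    ext x; simp only [Set.mem_sdiff, Set.mem_inter_iff]; tauto
  have hpart := fun k => inSpan_partition hΔ (Set.inter_subset_left (s := Δ) (t := R'))
    (by rw [hdiff]; exact horth) k
  have h1 : ∀ k, k ∈ inSpan P (Δ ∩ R') → k ∈ R' := fun k hk =>
    mem_of_mem_inSpan_inter hΔ hc hs hk
  have h2 : ∀ k, k ∈ inSpan P (Δ \ R') → k ∈ R'ᶜ := by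
    intro k hk
    have : Δ \ R' = Δ ∩ R'ᶜ := by ext x; simp
    rw [this] at hk
    exact mem_of_mem_inSpan_inter hΔ hc' hs' hk
  refine ⟨?_, ?_, horth⟩
  · ext k
    constructor
    · intro hk
      rcases (hpart k).1 with h | h
      · exact h
      · rw [hdiff] at h
        exact absurd hk (h2 k h)
    · exact h1 k
  · ext k
    constructor
    · intro hk
      rcases (hpart k).1 with h | h
      · exact absurd (h1 k h) hk
      · rwa [hdiff] at h
    · exact h2 k

end Groth.Agent.H28
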