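import Groth.Agent.H28.CorootIndep
import Groth.Agent.H28.SimpleSpan

set_option autoImplicit false

namespace Groth.Agent.H28

open Set Function RootD RootPairing

variable {ι M N : Type*} [AddCommGroup M] [AddCommGroup N] (P : RootPairing ι ℤ M N) (Δ : Set ι)

/-- The dual simple system `ind(Δ^v)`. -/
def dualSys : Set ι :=
  {j : ι | ∃ i ∈ Δ, (j = i ∧ IsIndiv P.flip i) ∨ (2 : ℤ) • P.coroot j = P.coroot i}

theorem exists_of_not_isIndiv_flip {a : ι} (h : ¬ IsIndiv P.flip a) :
    ∃ j, (2 : ℤ) • P.coroot j = P.coroot a := by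
  unfold IsIndiv at h
  push Not at h
  exact h

open Classical in
/-- The indivisible coroot attached to a simple root. -/
noncomputable def sharp (a : Δ) : ι :=
  if h : IsIndiv P.flip (a : ι) then (a : ι) else (exists_of_not_isIndiv_flip P h).choose

open Classical in
/-- The factor `1` or `2` with `a^v = eps • (sharp a)^v`. -/
noncomputable def eps (a : Δ) : ℤ := if IsIndiv P.flip (a : ι) then 1 else 2

theorem eps_pos (a : Δ) : 0 < eps P Δ a := by
  unfold eps; split_ifs <;> norm_num

theorem eps_eq_one {a : Δ} (h : IsIndiv P.flip (a : ι)) : eps P Δ a = 1 := by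
  unfold eps; rw [if_pos h]

theorem eps_eq_two {a : Δ} (h : ¬ IsIndiv P.flip (a : ι)) : eps P Δ a = 2 := by
  unfold eps; rw [if_neg h]

theorem eps_smul_sharp (a : Δ) : eps P Δ a • P.coroot (sharp P Δ a) = P.coroot a := by
  unfold eps sharp
  split_ifs with h
  · simp
  · exact (exists_of_not_isIndiv_flip P h).choose_spec

theorem sharp_mem_dualSys (a : Δ) : sharp P Δ a ∈ dualSys P Δ := by
  refine ⟨a, a.2, ?_⟩
  by_cases h : IsIndiv P.flip (a : ι)
  · left
    exact ⟨by unfold sharp; rw [dif_pos h], h⟩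
  · right
    have := eps_smul_sharp P Δ a
    rwa [eps_eq_two P Δ h] at this

theorem dualSys_eq_range : dualSys P Δ = range (sharp P Δ) := by
  have hTF := isAddTorsionFree_coweight P
  ext j
  constructor
  · rintro ⟨i, hi, h | h⟩
    · refine ⟨⟨i, hi⟩, ?_⟩
      unfold sharp
      rw [dif_pos h.2, h.1]
    · refine ⟨⟨i, hi⟩, ?_⟩
      have hnot : ¬ IsIndiv P.flip i := fun h' => h' j h
      have := eps_smul_sharp P Δ ⟨i, hi⟩
      rw [eps_eq_two P Δ hnot, ← h] at this
      have h2 : (2 : ℤ) ≠ 0 := by norm_num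
      exact P.coroot.injective (smul_right_injective N h2 this)
  · rintro ⟨a, rfl⟩
    exact sharp_mem_dualSys P Δ a

variable {P Δ}
variable [Finite ι] (hΔ : IsSimpleSys P Δ)

include hΔ

theorem linearIndependent_coroot_sharp :
    LinearIndependent ℤ (fun a : Δ => P.coroot (sharp P Δ a)) := by
  have := Fintype.ofFinite ι
  have hTF := isAddTorsionFree_coweight P
  exact linearIndependent_of_smul_eq_smul (fun a : Δ => P.coroot a)
    (fun a : Δ => P.coroot (sharp P Δ a)) (eps P Δ) (fun _ => 1) (fun a => (eps_pos P Δ a).ne')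
    (fun _ => one_ne_zero) (fun a => by rw [eps_smul_sharp, one_smul])
    (linearIndependent_coroot P (fun a : Δ => (a : ι)) hΔ.linInd)

theorem sharp_injective : Injective (sharp P Δ) := by
  have h := (linearIndependent_coroot_sharp hΔ).injective
  intro a b hab
  apply h
  change P.coroot (sharp P Δ a) = P.coroot (sharp P Δ b)
  rw [hab]

theorem linearIndepOn_coroot_dualSys : LinearIndepOn ℤ P.coroot (dualSys P Δ) := by
  rw [dualSys_eq_range, linearIndepOn_range_iff (sharp_injective hΔ)]
  exact linearIndependent_coroot_sharp hΔ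

/-- The lattice spanned by the dual simple system. -/
noncomputable def Lv (P : RootPairing ι ℤ M N) (Δ : Set ι) : Submodule ℤ N :=
  Submodule.span ℤ (range fun a : Δ => P.coroot (sharp P Δ a))

omit hΔ [Finite ι] in
theorem coroot_sharp_mem_Lv (a : Δ) : P.coroot (sharp P Δ a) ∈ Lv P Δ :=
  Submodule.subset_span (mem_range_self a)

omit hΔ [Finite ι] in
theorem coroot_simple_mem_Lv (a : Δ) : P.coroot a ∈ Lv P Δ := by
  rw [← eps_smul_sharp P Δ a]
  exact Submodule.smul_mem _ _ (coroot_sharp_mem_Lv a)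

omit hΔ [Finite ι] in
theorem coreflection_mem_Lv (a : Δ) {x : N} (hx : x ∈ Lv P Δ) : P.coreflection a x ∈ Lv P Δ := by
  rw [RootPairing.coreflection_apply]
  exact sub_mem hx (Submodule.smul_mem _ _ (coroot_simple_mem_Lv a))

theorem coroot_mem_Lv_of_pos :
    ∀ (n : ℕ) (k : ι), 0 ≤ coeff hΔ k → (ht hΔ k).toNat = n → P.coroot k ∈ Lv P Δ := by
  have hTF := isAddTorsionFree_coweight P
  intro n
  induction n using Nat.strong_induction_on with
  | _ n ih =>
    intro k hk hn
    by_cases hkΔ : k ∈ Δ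
    · exact coroot_simple_mem_Lv ⟨k, hkΔ⟩
    obtain ⟨a, _, hpos⟩ := exists_pos_pairing_of_pos hΔ hk
    have hpos' : 0 < P.pairing k a := (pairing_pos_iff P _ _).mp hpos
    rcases coeff_nonneg_or_nonpos hΔ (P.reflectionPerm a k) with hk' | hk'
    · have hht : ht hΔ (P.reflectionPerm a k) = ht hΔ k - P.pairing k a := ht_reflectionPerm hΔ a k
      have hht0 := ht_pos_of_pos hΔ hk'
      have hlt : (ht hΔ (P.reflectionPerm a k)).toNat < n := by rw [← hn]; omega
      have h1 := ih _ hlt _ hk' rfl
      have h2 := coreflection_mem_Lv a h1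
      rwa [← RootPairing.coroot_reflectionPerm, RootPairing.reflectionPerm_self] at h2
    · rcases eq_smul_of_pos_of_reflection_neg hΔ hk a hk' with h | h
      · exact absurd (P.root.injective h ▸ a.2) hkΔ
      · have hc : P.coroot a = (2 : ℤ) • P.coroot k := coroot_eq_two_smul_of_root_eq P h.symm
        have hnot : ¬ IsIndiv P.flip (a : ι) := fun h' => h' k hc.symm
        have := eps_smul_sharp P Δ a
        rw [eps_eq_two P Δ hnot, hc] at this
        have h2 : (2 : ℤ) ≠ 0 := by norm_num
        rw [← smul_right_injective N h2 this]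
        exact coroot_sharp_mem_Lv a

theorem coroot_mem_Lv (k : ι) : P.coroot k ∈ Lv P Δ := by
  rcases coeff_nonneg_or_nonpos hΔ k with h | h
  · exact coroot_mem_Lv_of_pos hΔ _ k h rfl
  · have hneg : 0 ≤ coeff hΔ (P.reflectionPerm k k) := by
      rw [coeff_neg]; simpa using h
    have := coroot_mem_Lv_of_pos hΔ _ _ hneg rfl
    have e : P.coroot (P.reflectionPerm k k) = -P.coroot k := by simp
    rw [e] at this
    simpa using neg_mem this

end Groth.Agent.H28

namespace Groth.Agent.H28

open Set Function RootD RootPairing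

variable {ι M N : Type*} [AddCommGroup M] [AddCommGroup N] {P : RootPairing ι ℤ M N} {Δ : Set ι}
variable [Fintype ι] (hΔ : IsSimpleSys P Δ)

include hΔ

/-- `ℓ(k) k^v = Σ_a c_a ℓ(a) a^v`. -/
theorem rootForm_smul_coroot_eq_sum (k : ι) :
    P.RootForm (P.root k) (P.root k) • P.coroot k =
      (coeff hΔ k).sum fun a n => (n * P.RootForm (P.root a) (P.root a)) • P.coroot a := by
  rw [P.rootForm_self_smul_coroot k]
  conv_lhs => rw [← lc_coeff hΔ k, lc_apply]
  rw [Finsupp.sum, Finsupp.sum, map_sum, Finset.smul_sum]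
  apply Finset.sum_congr rfl
  intro a _
  rw [map_smul, mul_smul, P.rootForm_self_smul_coroot a, smul_comm]

theorem exists_dual_coeff [Fintype Δ] (k : ι) :
    ∃ d : Δ → ℤ, (∑ a, d a • P.coroot (sharp P Δ a)) = P.coroot k ∧
      ∀ a, P.RootForm (P.root k) (P.root k) * d a =
        coeff hΔ k a * P.RootForm (P.root a) (P.root a) * eps P Δ a := by
  have hmem := coroot_mem_Lv hΔ k
  unfold Lv at hmem
  obtain ⟨d, hd⟩ := (Submodule.mem_span_range_iff_exists_fun ℤ).mp hmem
  refine ⟨d, hd, ?_⟩
  have h1 := rootForm_smul_coroot_eq_sum hΔ k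
  rw [Finsupp.sum_fintype _ _ (by intro a; simp), ← hd, Finset.smul_sum] at h1
  have h2 : ∑ a : Δ, (P.RootForm (P.root k) (P.root k) * d a -
      coeff hΔ k a * P.RootForm (P.root a) (P.root a) * eps P Δ a) • P.coroot (sharp P Δ a) = 0 := by
    simp only [sub_smul, Finset.sum_sub_distrib]
    rw [sub_eq_zero]
    convert h1 using 1
    · apply Finset.sum_congr rfl
      intro a _
      rw [mul_smul]
    · apply Finset.sum_congr rfl
      intro a _
      rw [mul_smul, eps_smul_sharp]
  have h3 := Fintype.linearIndependent_iff.mp (linearIndependent_coroot_sharp hΔ) _ h2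
  intro a
  have := h3 a
  linarith

theorem dualSys_mem_or_neg_mem (k : ι) :
    P.coroot k ∈ AddSubmonoid.closure (P.coroot '' dualSys P Δ) ∨
      -P.coroot k ∈ AddSubmonoid.closure (P.coroot '' dualSys P Δ) := by
  have : Fintype Δ := Fintype.ofFinite Δ
  obtain ⟨d, hd, hcoef⟩ := exists_dual_coeff hΔ k
  have hℓ := rootForm_root_self_pos P k
  rcases coeff_nonneg_or_nonpos hΔ k with h | h
  · left
    rw [← hd]
    apply AddSubmonoid.sum_mem
    intro a _
    have h0 : 0 ≤ d a := by
      have h1 : 0 ≤ coeff hΔ k a * P.RootForm (P.root a) (P.root a) * eps P Δ a :=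
        mul_nonneg (mul_nonneg (h a) (rootForm_root_self_pos P a).le) (eps_pos P Δ a).le
      rw [← hcoef a] at h1
      by_contra hneg
      push Not at hneg
      have := mul_neg_of_pos_of_neg hℓ hneg
      omega
    obtain ⟨n, hn⟩ := Int.eq_ofNat_of_zero_le h0
    rw [hn, natCast_zsmul]
    apply AddSubmonoid.nsmul_mem
    exact AddSubmonoid.subset_closure ⟨_, sharp_mem_dualSys P Δ a, rfl⟩
  · right
    rw [← hd, ← Finset.sum_neg_distrib]
    apply AddSubmonoid.sum_mem
    intro a _
    have h0 : d a ≤ 0 := by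
      have h1 : coeff hΔ k a * P.RootForm (P.root a) (P.root a) * eps P Δ a ≤ 0 :=
        mul_nonpos_of_nonpos_of_nonneg
          (mul_nonpos_of_nonpos_of_nonneg (h a) (rootForm_root_self_pos P a).le) (eps_pos P Δ a).le
      rw [← hcoef a] at h1
      by_contra hpos
      push Not at hpos
      have := mul_pos hℓ hpos
      omega
    obtain ⟨n, hn⟩ := Int.eq_ofNat_of_zero_le (neg_nonneg.mpr h0)
    rw [← neg_smul, hn, natCast_zsmul]
    apply AddSubmonoid.nsmul_mem
    exact AddSubmonoid.subset_closure ⟨_, sharp_mem_dualSys P Δ a, rfl⟩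

theorem isSimpleSys_flip_dualSys : IsSimpleSys P.flip (dualSys P Δ) where
  linInd := linearIndepOn_coroot_dualSys hΔ
  mem_or_neg_mem := dualSys_mem_or_neg_mem hΔ

end Groth.Agent.H28
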