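import Groth.Agent.H28.SimpleSys
import Groth.Agent.H28.RootIndiv

set_option autoImplicit false

namespace Groth.Agent.H28

open Set Function RootD RootPairing

variable {ι M N : Type*} [AddCommGroup M] [AddCommGroup N] {P : RootPairing ι ℤ M N} {Δ : Set ι}
variable (hΔ : IsSimpleSys P Δ)

include hΔ

theorem exists_pos_pairing_of_pos {k : ι} (hk : 0 ≤ coeff hΔ k) :
    ∃ a : Δ, 0 < coeff hΔ k a ∧ 0 < P.pairing a k := by
  by_contra! hcon
  have h2 : P.pairing k k = 2 := P.pairing_same k
  rw [pairing_eq_coeff_sum hΔ k k] at h2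
  have : ((coeff hΔ k).sum fun a n => n * P.pairing a k) ≤ 0 := by
    apply Finset.sum_nonpos
    intro a _
    have h0 : 0 ≤ coeff hΔ k a := hk a
    rcases h0.eq_or_lt with h | h
    · rw [← h]; simp
    · exact mul_nonpos_of_nonneg_of_nonpos h0 (hcon a h)
  omega

theorem isIndiv_of_mem (a : Δ) : IsIndiv P (a : ι) := by
  intro j hj
  have h1 : lc P Δ ((2 : ℤ) • coeff hΔ j) = P.root a := by
    rw [map_smul, lc_coeff, hj]
  have h2 := coeff_unique hΔ h1
  rw [coeff_of_mem] at h2
  have h3 := DFunLike.congr_fun h2 a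
  simp at h3
  omega

theorem root_eq_smul_of_coeff_eq_single {k : ι} {a : Δ} {t : ℤ}
    (h : coeff hΔ k = Finsupp.single a t) : P.root k = t • P.root a := by
  rw [← lc_coeff hΔ k, h, lc_single]

theorem coeff_eq_single_of_forall_ne {k : ι} {a : Δ} (h : ∀ b : Δ, b ≠ a → coeff hΔ k b = 0) :
    coeff hΔ k = Finsupp.single a (coeff hΔ k a) := by
  classical
  ext b
  by_cases hb : b = a
  · subst hb; simp
  · rw [h b hb, Finsupp.single_apply, if_neg (Ne.symm hb)]

variable [Finite ι]

omit hΔ in
theorem smul_root_simple_cases {k : ι} {a : Δ} {t : ℤ} (h : P.root k = t • P.root a) :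
    t = 1 ∨ t = 2 ∨ t = -1 ∨ t = -2 := by
  have h1 : P.pairing k a = 2 * t := by
    have := congrArg (fun x => P.toLinearMap x (P.coroot a)) h
    simp at this
    rw [this]; ring
  have h2 := abs_pairing_le_four P k a
  rw [h1, abs_le] at h2
  have h3 : t ≠ 0 := by
    rintro rfl
    simp at h
    exact P.ne_zero k h
  omega

/-- A positive root whose image under a simple reflection is negative is a positive multiple
(1 or 2) of that simple root. -/
theorem eq_smul_of_pos_of_reflection_neg {k : ι} (hk : 0 ≤ coeff hΔ k) (a : Δ)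
    (hneg : coeff hΔ (P.reflectionPerm a k) ≤ 0) :
    P.root k = P.root a ∨ P.root k = (2 : ℤ) • P.root a := by
  have hall : ∀ b : Δ, b ≠ a → coeff hΔ k b = 0 := by
    intro b hb
    have h1 : coeff hΔ (P.reflectionPerm a k) b = coeff hΔ k b :=
      coeff_reflectionPerm_apply_of_ne hΔ a b hb k
    have h2 : coeff hΔ (P.reflectionPerm a k) b ≤ 0 := hneg b
    have h3 : 0 ≤ coeff hΔ k b := hk b
    omega
  have hs := coeff_eq_single_of_forall_ne hΔ hall
  have hr := root_eq_smul_of_coeff_eq_single hΔ hs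
  have ht : 0 ≤ coeff hΔ k a := hk a
  rcases smul_root_simple_cases hr with h | h | h | h
  · left; rw [hr, h, one_smul]
  · right; rw [hr, h]
  · omega
  · omega

theorem pos_reflectionPerm_of_ne {k : ι} (hk : 0 ≤ coeff hΔ k) (a : Δ)
    (h1 : P.root k ≠ P.root a) (h2 : P.root k ≠ (2 : ℤ) • P.root a) :
    0 ≤ coeff hΔ (P.reflectionPerm a k) := by
  rcases coeff_nonneg_or_nonpos hΔ (P.reflectionPerm a k) with h | h
  · exact h
  · rcases eq_smul_of_pos_of_reflection_neg hΔ hk a h with h' | h'
    · exact absurd h' h1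
    · exact absurd h' h2

theorem pos_reflectionPerm_of_indiv {k : ι} (hk : 0 ≤ coeff hΔ k) (hind : IsIndiv P k) (a : Δ)
    (hka : k ≠ a) : 0 ≤ coeff hΔ (P.reflectionPerm a k) := by
  apply pos_reflectionPerm_of_ne hΔ hk a
  · intro h
    exact hka (P.root.injective h)
  · intro h
    exact hind a h.symm

omit hΔ [Finite ι] in
theorem isIndiv_reflectionPerm {k : ι} (hind : IsIndiv P k) (a : ι) :
    IsIndiv P (P.reflectionPerm a k) := by
  intro j hj
  apply hind (P.reflectionPerm a j)
  rw [RootPairing.root_reflectionPerm, ← map_smul, hj, RootPairing.root_reflectionPerm,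
    RootPairing.reflection_same]

omit hΔ [Finite ι] in
theorem isIndiv_neg {k : ι} (hind : IsIndiv P k) : IsIndiv P (P.reflectionPerm k k) := by
  intro j hj
  apply hind (P.reflectionPerm j j)
  have e1 : P.root (P.reflectionPerm j j) = -P.root j := by simp
  have e2 : P.root (P.reflectionPerm k k) = -P.root k := by simp
  rw [e1, smul_neg, hj, e2, neg_neg]

end Groth.Agent.H28
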