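import Groth.Agent.H28.RootClosed

set_option autoImplicit false

namespace Groth.Agent.H28

open Set Function RootD

variable {ι M N : Type*} [AddCommGroup M] [AddCommGroup N] (P : RootPairing ι ℤ M N) (Δ : Set ι)

/-- The linear combination map along the roots indexed by `Δ`. -/
noncomputable def lc : (Δ →₀ ℤ) →ₗ[ℤ] M := Finsupp.linearCombination ℤ (fun a : Δ => P.root a)

theorem lc_single (a : Δ) (n : ℤ) : lc P Δ (Finsupp.single a n) = n • P.root a := by
  simp [lc]

theorem lc_apply (c : Δ →₀ ℤ) : lc P Δ c = c.sum fun a n => n • P.root a := by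
  simp [lc, Finsupp.linearCombination_apply]

theorem toLinearMap_lc (c : Δ →₀ ℤ) (j : ι) :
    P.toLinearMap (lc P Δ c) (P.coroot j) = c.sum fun a n => n * P.pairing a j := by
  rw [lc_apply, Finsupp.sum, Finsupp.sum, map_sum, LinearMap.sum_apply]
  simp

theorem lc_mem_natSpan {c : Δ →₀ ℤ} (hc : 0 ≤ c) : lc P Δ c ∈ natSpan P Δ := by
  rw [lc_apply, Finsupp.sum]
  apply AddSubmonoid.sum_mem
  intro a _
  have h0 : 0 ≤ c a := hc a
  obtain ⟨n, hn⟩ := Int.eq_ofNat_of_zero_le h0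
  rw [hn, natCast_zsmul]
  apply AddSubmonoid.nsmul_mem
  exact AddSubmonoid.subset_closure ⟨a, a.2, rfl⟩

theorem mem_natSpan_iff (x : M) : x ∈ natSpan P Δ ↔ ∃ c : Δ →₀ ℤ, 0 ≤ c ∧ lc P Δ c = x := by
  constructor
  · intro hx
    unfold natSpan at hx
    induction hx using AddSubmonoid.closure_induction with
    | mem x hx =>
      obtain ⟨i, hi, rfl⟩ := hx
      refine ⟨Finsupp.single ⟨i, hi⟩ 1, ?_, by simp [lc_single]⟩
      exact Finsupp.single_nonneg.mpr zero_le_one
    | zero => exact ⟨0, le_refl _, by simp⟩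
    | add x y _ _ hx hy =>
      obtain ⟨c₁, h₁, rfl⟩ := hx
      obtain ⟨c₂, h₂, rfl⟩ := hy
      exact ⟨c₁ + c₂, add_nonneg h₁ h₂, by simp⟩
  · rintro ⟨c, hc, rfl⟩
    exact lc_mem_natSpan P Δ hc

variable {P Δ}
variable (hΔ : IsSimpleSys P Δ)

include hΔ

theorem lc_injective : Injective (lc P Δ) := hΔ.linInd

theorem exists_coeff (k : ι) : ∃ c : Δ →₀ ℤ, lc P Δ c = P.root k ∧ (0 ≤ c ∨ c ≤ 0) := by
  rcases hΔ.mem_or_neg_mem k with h | h
  · obtain ⟨c, hc, hk⟩ := (mem_natSpan_iff P Δ _).mp h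
    exact ⟨c, hk, Or.inl hc⟩
  · obtain ⟨c, hc, hk⟩ := (mem_natSpan_iff P Δ _).mp h
    refine ⟨-c, by simp [hk], Or.inr ?_⟩
    simpa using hc

/-- The coefficients of a root along the simple system. -/
noncomputable def coeff (k : ι) : Δ →₀ ℤ := (exists_coeff hΔ k).choose

theorem lc_coeff (k : ι) : lc P Δ (coeff hΔ k) = P.root k := (exists_coeff hΔ k).choose_spec.1

theorem coeff_nonneg_or_nonpos (k : ι) : 0 ≤ coeff hΔ k ∨ coeff hΔ k ≤ 0 :=
  (exists_coeff hΔ k).choose_spec.2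

theorem coeff_unique {k : ι} {c : Δ →₀ ℤ} (h : lc P Δ c = P.root k) : coeff hΔ k = c :=
  lc_injective hΔ ((lc_coeff hΔ k).trans h.symm)

theorem coeff_ne_zero (k : ι) : coeff hΔ k ≠ 0 := by
  intro h
  have := lc_coeff hΔ k
  rw [h, map_zero] at this
  exact P.ne_zero k this.symm

theorem isPos_iff (k : ι) : P.root k ∈ natSpan P Δ ↔ 0 ≤ coeff hΔ k := by
  constructor
  · intro h
    obtain ⟨c, hc, hk⟩ := (mem_natSpan_iff P Δ _).mp h
    rwa [coeff_unique hΔ hk]
  · intro h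
    rw [← lc_coeff hΔ k]
    exact lc_mem_natSpan P Δ h

theorem isNeg_iff (k : ι) : -P.root k ∈ natSpan P Δ ↔ coeff hΔ k ≤ 0 := by
  constructor
  · intro h
    obtain ⟨c, hc, hk⟩ := (mem_natSpan_iff P Δ _).mp h
    have : lc P Δ (-c) = P.root k := by simp [hk]
    rw [coeff_unique hΔ this]
    simpa using hc
  · intro h
    have : -P.root k = lc P Δ (-coeff hΔ k) := by simp [lc_coeff]
    rw [this]
    apply lc_mem_natSpan
    simpa using h

theorem not_pos_and_neg (k : ι) : ¬ (0 ≤ coeff hΔ k ∧ coeff hΔ k ≤ 0) := by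
  rintro ⟨h1, h2⟩
  exact coeff_ne_zero hΔ k (le_antisymm h2 h1)

theorem coeff_of_mem (a : Δ) : coeff hΔ (a : ι) = Finsupp.single a 1 := by
  apply coeff_unique
  simp [lc_single]

theorem coeff_neg (k : ι) : coeff hΔ (P.reflectionPerm k k) = -coeff hΔ k := by
  apply coeff_unique
  simp [lc_coeff]

theorem coeff_add {i j k : ι} (h : P.root k = P.root i + P.root j) :
    coeff hΔ k = coeff hΔ i + coeff hΔ j := by
  apply coeff_unique
  simp [lc_coeff, h]

theorem coeff_sub {i j k : ι} (h : P.root k = P.root i - P.root j) :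
    coeff hΔ k = coeff hΔ i - coeff hΔ j := by
  apply coeff_unique
  simp [lc_coeff, h]

theorem coeff_reflectionPerm (a : Δ) (k : ι) :
    coeff hΔ (P.reflectionPerm a k) = coeff hΔ k - Finsupp.single a (P.pairing k a) := by
  apply coeff_unique
  rw [map_sub, lc_coeff, lc_single, RootPairing.root_reflectionPerm,
    RootPairing.reflection_apply_root]

theorem coeff_reflectionPerm_apply_of_ne (a b : Δ) (hab : b ≠ a) (k : ι) :
    coeff hΔ (P.reflectionPerm a k) b = coeff hΔ k b := by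
  rw [coeff_reflectionPerm]
  simp [hab.symm]

theorem pairing_eq_coeff_sum (k j : ι) :
    P.pairing k j = (coeff hΔ k).sum fun a n => n * P.pairing a j := by
  rw [← toLinearMap_lc, lc_coeff]
  rfl

/-- Height of a root relative to the simple system. -/
noncomputable def ht (k : ι) : ℤ := (coeff hΔ k).sum fun _ n => n

theorem ht_of_mem (a : Δ) : ht hΔ (a : ι) = 1 := by
  simp [ht, coeff_of_mem]

theorem ht_pos_of_pos {k : ι} (h : 0 ≤ coeff hΔ k) : 0 < ht hΔ k := by
  unfold ht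
  rw [Finsupp.sum]
  have hne := coeff_ne_zero hΔ k
  obtain ⟨a, ha⟩ := Finsupp.support_nonempty_iff.mpr hne
  apply Finset.sum_pos'
  · intro b _
    exact h b
  · refine ⟨a, ha, ?_⟩
    have h1 : 0 ≤ coeff hΔ k a := h a
    have h2 : coeff hΔ k a ≠ 0 := Finsupp.mem_support_iff.mp ha
    omega

theorem ht_reflectionPerm (a : Δ) (k : ι) :
    ht hΔ (P.reflectionPerm a k) = ht hΔ k - P.pairing k a := by
  unfold ht
  rw [coeff_reflectionPerm, Finsupp.sum_sub_index (by intros; rfl)]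
  simp

end Groth.Agent.H28

namespace Groth.Agent.H28

open Set Function RootD

variable {ι M N : Type*} [AddCommGroup M] [AddCommGroup N] {P : RootPairing ι ℤ M N} {Δ : Set ι}
variable (hΔ : IsSimpleSys P Δ)

include hΔ

theorem sub_not_mem_range_root {i j : ι} (hi : i ∈ Δ) (hj : j ∈ Δ) (hij : i ≠ j) :
    P.root i - P.root j ∉ range P.root := by
  rintro ⟨k, hk⟩
  have hc : coeff hΔ k = Finsupp.single ⟨i, hi⟩ 1 - Finsupp.single ⟨j, hj⟩ 1 := by
    have := coeff_sub hΔ hk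
    rwa [coeff_of_mem hΔ ⟨i, hi⟩, coeff_of_mem hΔ ⟨j, hj⟩] at this
  have hne : (⟨i, hi⟩ : Δ) ≠ ⟨j, hj⟩ := fun h => hij (congrArg Subtype.val h)
  rcases coeff_nonneg_or_nonpos hΔ k with h | h
  · have := h ⟨j, hj⟩
    rw [hc] at this
    simp [hne] at this
  · have := h ⟨i, hi⟩
    rw [hc] at this
    simp [hne.symm] at this

variable [Finite ι]

theorem pairing_le_zero_of_mem {i j : ι} (hi : i ∈ Δ) (hj : j ∈ Δ) (hij : i ≠ j) :
    P.pairing j i ≤ 0 := by
  by_contra! h
  exact sub_not_mem_range_root hΔ hj hi hij.symm (root_sub_root_mem_of_pairing_pos P h hij.symm)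

end Groth.Agent.H28
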