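import Groth.Agent.H28.ToposQS

/-!
# Locally coherent and algebraic topoi (SGA4 VI §2)
-/

set_option autoImplicit false
open CategoryTheory CategoryTheory.Limits Opposite
universe v u w w'
open ToposFin

namespace Groth.Agent.H28

variable {C : Type u} [SmallCategory C] {J : GrothendieckTopology C}

lemma isQC_pullback_of_isPullback_of_eq {X Y Z P : Sh J} {f : X ⟶ Y} {s s' : Z ⟶ Y} (e : s = s')
    {p : P ⟶ X} {q : P ⟶ Z} (h : IsPullback p q f s') (hP : IsQC P) : IsQC (pullback f s) := by
  subst e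
  exact IsQC.of_iso h.isoPullback hP

lemma CoversAll.of_isGenerating {S : Set (Sh J)} (h : IsGenerating S) : CoversAll S :=
  (coversAll_iff_isGenerating S).2 h

lemma coversAll_qc_of_subset {S : Set (Sh J)} (hS : CoversAll S) (hqc : ∀ K ∈ S, IsQC K) :
    CoversAll {K : Sh J | IsQC K} :=
  hS.mono (fun K hK => hqc K hK)

/-- (A1) In a locally coherent topos, the members of the generating class are coherent. -/
lemma isCoherent_of_mem {S : Set (Sh J)} (hqc : ∀ K ∈ S, IsQC K) (hS : CoversAll S)
    (hpb : ClosedUnderPullbacks S) {K : Sh J} (hK : K ∈ S) : IsCoherent K := by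
  refine ⟨hqc K hK, isQS_of_coversAll_pullback hS K ?_⟩
  intro A hA B hB s t
  obtain ⟨P, p, q, hP, h⟩ := hpb s t hA hB hK
  exact IsQC.of_iso h.isoPullback (hqc P hP)

set_option backward.isDefEq.respectTransparency false in
/-- (A2) In a locally coherent topos, a morphism from a quasi-separated object to a member of the
generating class is quasi-separated. -/
lemma isQSHom_of_isQS_of_mem {S : Set (Sh J)} (hqc : ∀ K ∈ S, IsQC K) (hS : CoversAll S)
    (hpb : ClosedUnderPullbacks S) {G K : Sh J} (hG : IsQS G) (hK : K ∈ S) (g : G ⟶ K) :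
    IsQSHom g := by
  refine isQCHom_of_coversAll hS (pullback.diagonal g) ?_
  intro A hA s
  have hw : (s ≫ pullback.fst g g) ≫ g = (s ≫ pullback.snd g g) ≫ g := by
    simp [pullback.condition]
  have hD : IsQS (pullback ((s ≫ pullback.fst g g) ≫ g) ((s ≫ pullback.snd g g) ≫ g)) := by
    obtain ⟨P, p, q, hP, h⟩ := hpb ((s ≫ pullback.fst g g) ≫ g) ((s ≫ pullback.snd g g) ≫ g)
      hA hA hK
    exact IsQS.of_iso h.isoPullback (isCoherent_of_mem hqc hS hpb hP).2
  have h1 := pullback_map_diagonal_isPullback (s ≫ pullback.fst g g) (s ≫ pullback.snd g g) g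
  have hE := hD _ _
    (pullback.map (s ≫ pullback.fst g g) (s ≫ pullback.snd g g) ((s ≫ pullback.fst g g) ≫ g)
      ((s ≫ pullback.snd g g) ≫ g) (𝟙 _) (𝟙 _) g (Category.id_comp _).symm (Category.id_comp _).symm)
    (pullback.lift (𝟙 A) (𝟙 A) (by simpa using hw))
    (hG A A _ _ (hqc A hA) (hqc A hA)) (hqc A hA)
  have h2 := (IsPullback.of_hasPullback
    (pullback.map (s ≫ pullback.fst g g) (s ≫ pullback.snd g g) ((s ≫ pullback.fst g g) ≫ g)
      ((s ≫ pullback.snd g g) ≫ g) (𝟙 _) (𝟙 _) g (Category.id_comp _).symm (Category.id_comp _).symm)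
    (pullback.lift (𝟙 A) (𝟙 A) (by simpa using hw))).paste_horiz h1
  refine isQC_pullback_of_isPullback_of_eq ?_ h2 hE
  apply pullback.hom_ext
  · simp
    try exact (Category.id_comp _).symm
  · simp
    try exact (Category.id_comp _).symm


/-- In a topos with a generating class `S` of quasi-compact objects closed under equalizers, the
equalizer of two maps from a member of `S` to a quasi-separated object is quasi-compact. -/
lemma isQC_equalizer_of_mem {S : Set (Sh J)} (hqc : ∀ K ∈ S, IsQC K) (hS : CoversAll S)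
    (heq : ClosedUnderEqualizers S) {A X E' : Sh J} (hA : A ∈ S) (hX : IsQS X) (a b : A ⟶ X)
    (ε : E' ⟶ A) (w : ε ≫ a = ε ≫ b) (hl : IsLimit (Fork.ofι ε w)) : IsQC E' := by
  have hQ : IsQC (pullback a b) := hX A A _ _ (hqc A hA) (hqc A hA)
  obtain ⟨κ, _, B, β, hB, hβ⟩ := hS.exists_finite_cover hQ
  have h1 : ∀ k, ∃ (E : Sh J) (e : E ⟶ B k)
      (w : e ≫ (β k ≫ pullback.fst a b) = e ≫ (β k ≫ pullback.snd a b)),
      E ∈ S ∧ Nonempty (IsLimit (Fork.ofι e w)) := fun k => heq _ _ (hB k) hA
  choose E e we hE hlim using h1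
  have hu : ∀ k, (e k ≫ β k ≫ pullback.fst a b) ≫ a = (e k ≫ β k ≫ pullback.fst a b) ≫ b := by
    intro k
    have h3 := pullback.condition (f := a) (g := b)
    calc (e k ≫ β k ≫ pullback.fst a b) ≫ a
        = e k ≫ β k ≫ (pullback.fst a b ≫ a) := by simp
      _ = e k ≫ β k ≫ (pullback.snd a b ≫ b) := by rw [h3]
      _ = (e k ≫ β k ≫ pullback.snd a b) ≫ b := by simp
      _ = (e k ≫ β k ≫ pullback.fst a b) ≫ b := by rw [← we k]
  obtain ⟨q', hq1, hq2⟩ : ∃ q' : E' ⟶ pullback a b, q' ≫ pullback.fst a b = ε ∧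
      q' ≫ pullback.snd a b = ε :=
    ⟨pullback.lift ε ε w, pullback.lift_fst _ _ _, pullback.lift_snd _ _ _⟩
  refine IsQC.of_finite_cover (fun k => Fork.IsLimit.lift hl _ (hu k)) ?_ (fun k => hqc _ (hE k))
  refine (hβ.pullback_snd q').of_refines _ (fun k => ⟨k, ?_⟩)
  have hc := pullback.condition (f := β k) (g := q')
  have ht1 : pullback.fst (β k) q' ≫ β k ≫ pullback.fst a b = pullback.snd (β k) q' ≫ ε := by
    rw [← Category.assoc, hc, Category.assoc, hq1]
  have ht2 : pullback.fst (β k) q' ≫ β k ≫ pullback.snd a b = pullback.snd (β k) q' ≫ ε := by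
    rw [← Category.assoc, hc, Category.assoc, hq2]
  refine ⟨Fork.IsLimit.lift (hlim k).some (pullback.fst (β k) q') (ht1.trans ht2.symm), ?_⟩
  have hl1 : Fork.IsLimit.lift (hlim k).some (pullback.fst (β k) q') (ht1.trans ht2.symm) ≫ e k =
      pullback.fst (β k) q' := Fork.IsLimit.lift_ι' (hlim k).some _ _
  have hl2 : Fork.IsLimit.lift hl _ (hu k) ≫ ε = e k ≫ β k ≫ pullback.fst a b :=
    Fork.IsLimit.lift_ι' hl _ _
  apply Fork.IsLimit.hom_ext hl
  change (_ ≫ _) ≫ ε = _ ≫ ε
  rw [Category.assoc, hl2, ← Category.assoc, hl1, ht1]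

/-- (A3) In an algebraic topos, every morphism out of a quasi-separated object is quasi-separated. -/
lemma isQSHom_of_isQS_of_algebraic {S : Set (Sh J)} (hqc : ∀ K ∈ S, IsQC K) (hS : CoversAll S)
    (heq : ClosedUnderEqualizers S) {X Y : Sh J} (hX : IsQS X) (f : X ⟶ Y) : IsQSHom f := by
  refine isQCHom_of_coversAll hS (pullback.diagonal f) ?_
  intro A hA s
  have c := pullback.condition (f := pullback.diagonal f) (g := s)
  have hεa : pullback.snd (pullback.diagonal f) s ≫ s ≫ pullback.fst f f =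
      pullback.fst (pullback.diagonal f) s := by
    rw [← Category.assoc, ← c, Category.assoc, pullback.diagonal_fst, Category.comp_id]
  have hεb : pullback.snd (pullback.diagonal f) s ≫ s ≫ pullback.snd f f =
      pullback.fst (pullback.diagonal f) s := by
    rw [← Category.assoc, ← c, Category.assoc, pullback.diagonal_snd, Category.comp_id]
  refine isQC_equalizer_of_mem hqc hS heq hA hX (s ≫ pullback.fst f f) (s ≫ pullback.snd f f)
    (pullback.snd (pullback.diagonal f) s) (hεa.trans hεb.symm) ?_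
  refine Fork.IsLimit.mk' _ (fun t => ?_)
  have ht : t.ι ≫ s ≫ pullback.fst f f = t.ι ≫ s ≫ pullback.snd f f := t.condition
  have hlift : (t.ι ≫ s ≫ pullback.fst f f) ≫ pullback.diagonal f = t.ι ≫ s := by
    apply pullback.hom_ext
    · rw [Category.assoc, pullback.diagonal_fst, Category.comp_id, Category.assoc]
    · rw [Category.assoc, pullback.diagonal_snd, Category.comp_id, Category.assoc, ht]
  refine ⟨pullback.lift _ _ hlift, pullback.lift_snd _ _ _, ?_⟩
  intro m hm
  have hm' : m ≫ pullback.snd (pullback.diagonal f) s = t.ι := hm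
  apply pullback.hom_ext
  · rw [pullback.lift_fst, ← hεa, ← Category.assoc, hm']
  · rw [pullback.lift_snd, hm']

end Groth.Agent.H28
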