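import Groth.Agent.H28.ToposQS
import Mathlib.CategoryTheory.Extensive
import Mathlib.CategoryTheory.Limits.Shapes.StrictInitial
import Mathlib.CategoryTheory.Limits.MonoCoprod

/-!
# Coproducts in a sheaf topos: injections are mono, pairwise disjoint, and quasi-compact morphisms
-/

set_option autoImplicit false
open CategoryTheory CategoryTheory.Limits Opposite
universe v u w w'
open ToposFin

namespace Groth.Agent.H28

variable {C : Type u} [SmallCategory C] {J : GrothendieckTopology C}

/-- (a) The injections of a (possibly infinite) coproduct are monomorphisms. -/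
lemma mono_cofan_inj {ι : Type w} {X : ι → Sh J} (c : Cofan X) (hc : IsColimit c) (i : ι) :
    Mono (c.inj i) := by
  classical
  let m : ∀ j, X j ⟶ X i ⨿ ⊤_ (Sh J) :=
    Function.update (fun j => terminal.from (X j) ≫ coprod.inr) i coprod.inl
  have h : c.inj i ≫ Cofan.IsColimit.desc hc m = coprod.inl := by
    rw [Cofan.IsColimit.fac]
    exact Function.update_self ..
  exact mono_of_mono_fac h

/-- (b) Distinct injections of a coproduct are disjoint. -/
lemma isInitial_of_cofan_inj_eq {ι : Type w} {X : ι → Sh J} (c : Cofan X) (hc : IsColimit c)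
    {i j : ι} (hij : i ≠ j) {W : Sh J} (a : W ⟶ X i) (b : W ⟶ X j)
    (h : a ≫ c.inj i = b ≫ c.inj j) : Nonempty (IsInitial W) := by
  classical
  let m : ∀ k, X k ⟶ (⊤_ (Sh J)) ⨿ (⊤_ (Sh J)) :=
    Function.update (fun k => terminal.from (X k) ≫ coprod.inr) i (terminal.from (X i) ≫ coprod.inl)
  have h1 : c.inj i ≫ Cofan.IsColimit.desc hc m = terminal.from (X i) ≫ coprod.inl := by
    rw [Cofan.IsColimit.fac]
    exact Function.update_self ..
  have h2 : c.inj j ≫ Cofan.IsColimit.desc hc m = terminal.from (X j) ≫ coprod.inr := by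
    rw [Cofan.IsColimit.fac]
    exact Function.update_of_ne (Ne.symm hij) ..
  have h3 : terminal.from W ≫ (coprod.inl : ⊤_ (Sh J) ⟶ _) = terminal.from W ≫ coprod.inr := by
    have := congrArg (fun k => k ≫ Cofan.IsColimit.desc hc m) h
    simp only [Category.assoc, h1, h2] at this
    rw [← Category.assoc, ← Category.assoc] at this
    convert this using 2 <;> exact Subsingleton.elim _ _
  have hpb := FinitaryExtensive.isPullback_initial_to_binaryCofan
    (coprodIsCoprod (⊤_ (Sh J)) (⊤_ (Sh J)))
  have l : W ⟶ ⊥_ (Sh J) := hpb.lift (terminal.from W) (terminal.from W) h3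
  have : IsIso l := inferInstance
  exact ⟨initialIsInitial.ofIso (asIso l).symm⟩


/-- (c) Members with initial source may be dropped from a cover. -/
lemma IsCover.of_subfamily_of_isInitial {ι : Type w} {X : Sh J} {F : ι → Sh J} {π : ∀ i, F i ⟶ X}
    (hπ : IsCover π) (p : ι → Prop) (h : ∀ i, ¬ p i → Nonempty (IsInitial (F i))) :
    IsCover (fun i : {i // p i} => π i) := by
  rw [isCover_iff_hom_ext]
  intro Z a b hab
  apply hπ.hom_ext
  intro i
  by_cases hi : p i
  · exact hab ⟨i, hi⟩
  · exact (h i hi).some.hom_ext _ _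

/-- An object covered by initial objects is initial. -/
lemma isInitial_of_isCover_of_isInitial {ι : Type w} {X : Sh J} {F : ι → Sh J} {π : ∀ i, F i ⟶ X}
    (hπ : IsCover π) (h : ∀ i, Nonempty (IsInitial (F i))) : Nonempty (IsInitial X) := by
  have h1 : Epi (initial.to X) := by
    constructor
    intro Z a b _
    apply hπ.hom_ext
    intro i
    exact (h i).some.hom_ext _ _
  have h2 : Mono (initial.to X) := inferInstance
  have : IsIso (initial.to X) := isIso_of_mono_of_epi _
  exact ⟨initialIsInitial.ofIso (asIso (initial.to X))⟩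

/-- An initial object is quasi-compact. -/
lemma isQC_of_isInitial {X : Sh J} (hX : IsInitial X) : IsQC X := by
  rw [isQC_iff_isCover]
  intro ι F π _
  refine ⟨∅, ?_⟩
  rw [isCover_iff_hom_ext]
  intro Z a b _
  exact hX.hom_ext _ _

/-- A morphism with initial source is quasi-compact. -/
lemma isQCHom_of_isInitial {W D : Sh J} (hW : IsInitial W) (g : W ⟶ D) : IsQCHom g := by
  intro Z z _
  have : IsIso (pullback.fst g z ≫ hW.to (⊥_ (Sh J))) := inferInstance
  exact isQC_of_isInitial (initialIsInitial.ofIso (asIso (pullback.fst g z ≫ hW.to (⊥_ (Sh J)))).symm)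

/-- (d) The members of a pairwise disjoint cover by subobjects of a quasi-compact object are
quasi-compact. -/
lemma isQC_of_disjoint_cover {Z : Sh J} (hZ : IsQC Z) {κ : Type w} {Zk : κ → Sh J}
    (m : ∀ k, Zk k ⟶ Z) (hm : IsCover m) (hmono : ∀ k, Mono (m k))
    (hdisj : ∀ k l, k ≠ l → ∀ (W : Sh J) (a : W ⟶ Zk k) (b : W ⟶ Zk l), a ≫ m k = b ≫ m l →
      Nonempty (IsInitial W)) (k : κ) : IsQC (Zk k) := by
  classical
  rw [isQC_iff_isCover]
  intro A G ρ hρ
  let n : ∀ x : A ⊕ {l // l ≠ k}, (Sum.elim G (fun l => Zk l.1)) x ⟶ Z := fun x =>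
    match x with
    | .inl a => ρ a ≫ m k
    | .inr l => m l.1
  have hn : IsCover n := by
    rw [isCover_iff_hom_ext]
    intro T a' b' hab
    apply hm.hom_ext
    intro l
    by_cases hl : l = k
    · subst hl
      apply hρ.hom_ext
      intro a
      have := hab (.inl a)
      simpa [n] using this
    · exact hab (.inr ⟨l, hl⟩)
  obtain ⟨t, ht⟩ := IsQC.exists_finset hZ n hn
  refine ⟨t.toLeft, ?_⟩
  rw [isCover_iff_hom_ext]
  intro T a' b' hab
  apply (ht.pullback_snd (m k)).hom_ext
  rintro ⟨x, hx⟩
  match x, hx with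
  | .inl a, hx =>
    have hc := pullback.condition (f := n (.inl a)) (g := m k)
    have h1 : pullback.fst (n (.inl a)) (m k) ≫ ρ a = pullback.snd (n (.inl a)) (m k) := by
      rw [← cancel_mono (m k), Category.assoc]
      exact hc
    have h2 := hab ⟨a, Finset.mem_toLeft.2 hx⟩
    change pullback.snd (n (.inl a)) (m k) ≫ a' = pullback.snd (n (.inl a)) (m k) ≫ b'
    rw [← h1, Category.assoc, Category.assoc]
    exact congrArg _ h2
  | .inr l, hx =>
    have hc := pullback.condition (f := n (.inr l)) (g := m k)
    exact (hdisj l.1 k l.2 _ _ _ hc).some.hom_ext _ _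

/-- The injections of a coproduct are quasi-compact morphisms. -/
lemma isQCHom_cofan_inj {ι : Type w} {X : ι → Sh J} (c : Cofan X) (hc : IsColimit c) (i : ι) :
    IsQCHom (c.inj i) := by
  intro Z z hZ
  have hcov : IsCover c.inj := by
    rw [isCover_iff_hom_ext]
    intro T a b hab
    exact Cofan.IsColimit.hom_ext hc _ _ hab
  have hmono : ∀ l, Mono (c.inj l) := mono_cofan_inj c hc
  refine isQC_of_disjoint_cover hZ (fun l => pullback.snd (c.inj l) z) (hcov.pullback_snd z)
    (fun l => inferInstance) ?_ i
  intro k l hkl W a b hab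
  refine isInitial_of_cofan_inj_eq c hc hkl (a ≫ pullback.fst _ _) (b ≫ pullback.fst _ _) ?_
  rw [Category.assoc, Category.assoc, pullback.condition, pullback.condition, ← Category.assoc,
    ← Category.assoc, hab]

lemma isCover_cofan_inj {ι : Type w} {X : ι → Sh J} (c : Cofan X) (hc : IsColimit c) :
    IsCover c.inj := by
  rw [isCover_iff_hom_ext]
  intro T a b hab
  exact Cofan.IsColimit.hom_ext hc _ _ hab


/-- Quasi-compactness of a morphism is local on the target for pairwise disjoint covers by
subobjects (no generators needed). -/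
lemma isQCHom_of_disjoint_cover_target {P₀ D : Sh J} (g : P₀ ⟶ D) {κ : Type w} {Dk : κ → Sh J}
    (m : ∀ k, Dk k ⟶ D) (hm : IsCover m) (hmono : ∀ k, Mono (m k))
    (hdisj : ∀ k l, k ≠ l → ∀ (W : Sh J) (a : W ⟶ Dk k) (b : W ⟶ Dk l), a ≫ m k = b ≫ m l →
      Nonempty (IsInitial W))
    {P : κ → Sh J} (p : ∀ k, P k ⟶ P₀) (q : ∀ k, P k ⟶ Dk k)
    (hpb : ∀ k, IsPullback (p k) (q k) g (m k)) (h : ∀ k, IsQCHom (q k)) : IsQCHom g := by
  intro Z z hZ
  have hZk : ∀ k, IsQC (pullback (m k) z) := by
    refine isQC_of_disjoint_cover hZ (fun k => pullback.snd (m k) z) (hm.pullback_snd z)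
      (fun k => inferInstance) ?_
    intro k l hkl W a b hab
    refine hdisj k l hkl W (a ≫ pullback.fst _ _) (b ≫ pullback.fst _ _) ?_
    rw [Category.assoc, Category.assoc, pullback.condition, pullback.condition, ← Category.assoc,
      ← Category.assoc, hab]
  obtain ⟨t, ht⟩ := IsQC.exists_finset hZ _ (hm.pullback_snd z)
  refine IsQC.of_finite_cover _ (ht.lift_right (IsPullback.of_hasPullback g z)) ?_
  rintro ⟨k, -⟩
  have sq : IsPullback (hpb k).isoPullback.inv (pullback.snd g (m k)) (q k) (𝟙 _) :=
    IsPullback.of_horiz_isIso ⟨by simp⟩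
  have hk : IsQCHom (pullback.snd g (m k)) := (qcHom (J := J)).of_isPullback sq (h k)
  exact IsQCHom.isQC_pullback_of_fac (m k) hk (pullback.fst (m k) z) (hZk k) _
    pullback.condition.symm

set_option backward.isDefEq.respectTransparency false in
/-- SGA4 VI 1.x: a morphism out of a coproduct is quasi-separated iff its components are. -/
lemma isQSHom_cofan_iff {ι : Type w} {X : ι → Sh J} (c : Cofan X) (hc : IsColimit c) {Y : Sh J}
    (f : c.pt ⟶ Y) : IsQSHom f ↔ ∀ i, IsQSHom (c.inj i ≫ f) := by
  have hmono : ∀ l, Mono (c.inj l) := mono_cofan_inj c hc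
  constructor
  · intro hf i
    exact IsQSHom.comp (isQSHom_of_mono (c.inj i)) hf
  · intro h
    have hcov := isCover_cofan_inj c hc
    refine isQCHom_of_disjoint_cover_target (pullback.diagonal f) _ (hcov.pullback_map f f hcov)
      ?_ ?_ (fun x => pullback.fst (c.inj x.1) (c.inj x.2) ≫ c.inj x.1) _
      (fun x => pullback_map_diagonal_isPullback (c.inj x.1) (c.inj x.2) f) ?_
    · intro x
      constructor
      intro W u v huv
      have h1 := huv =≫ pullback.fst f f
      have h2 := huv =≫ pullback.snd f f
      simp only [Category.assoc, pullback.lift_fst, pullback.lift_snd] at h1 h2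
      apply pullback.hom_ext
      · rw [← cancel_mono (c.inj x.1), Category.assoc, Category.assoc]
        exact h1
      · rw [← cancel_mono (c.inj x.2), Category.assoc, Category.assoc]
        exact h2
    · rintro ⟨i, j⟩ ⟨i', j'⟩ hne W a b hab
      have h1 := hab =≫ pullback.fst f f
      have h2 := hab =≫ pullback.snd f f
      simp only [Category.assoc, pullback.lift_fst, pullback.lift_snd] at h1 h2
      by_cases hi : i = i'
      · have hj : j ≠ j' := fun hj => hne (by rw [hi, hj])
        exact isInitial_of_cofan_inj_eq c hc hj (a ≫ pullback.snd _ _) (b ≫ pullback.snd _ _)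
          (by simpa using h2)
      · exact isInitial_of_cofan_inj_eq c hc hi (a ≫ pullback.fst _ _) (b ≫ pullback.fst _ _)
          (by simpa using h1)
    · rintro ⟨i, j⟩
      by_cases hij : i = j
      · subst hij
        have hiso : IsIso (pullback.diagonal (c.inj i)) := inferInstance
        have e : pullback.diagonal (c.inj i) ≫
            pullback.map (c.inj i) (c.inj i) (c.inj i ≫ f) (c.inj i ≫ f) (𝟙 _) (𝟙 _) f
              (Category.id_comp _).symm (Category.id_comp _).symm =
            pullback.diagonal (c.inj i ≫ f) := by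
          apply pullback.hom_ext <;> simp
        have h3 : IsQCHom (pullback.diagonal (c.inj i) ≫
            pullback.map (c.inj i) (c.inj i) (c.inj i ≫ f) (c.inj i ≫ f) (𝟙 _) (𝟙 _) f
              (Category.id_comp _).symm (Category.id_comp _).symm) := by
          rw [e]
          exact h i
        exact ((qcHom (J := J)).cancel_left_of_respectsIso (pullback.diagonal (c.inj i)) _).1 h3
      · apply isQCHom_of_isInitial
        exact (isInitial_of_cofan_inj_eq c hc hij (pullback.fst (c.inj i) (c.inj j))
          (pullback.snd (c.inj i) (c.inj j)) pullback.condition).some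

end Groth.Agent.H28
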