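import Groth.Prelude.Def_ToposFin2
import Mathlib.CategoryTheory.Sites.LocallySurjective
import Mathlib.CategoryTheory.Sites.LeftExact
import Mathlib.CategoryTheory.Sites.Subsheaf
import Mathlib.CategoryTheory.Limits.Types.Pullbacks

/-!
# Covers (jointly epimorphic families) in the topos of sheaves of sets on a small site

`IsCover π` : the family `π i : F i ⟶ X` is locally jointly surjective.  It is equivalent to being jointly
epimorphic, and (for `ι : Type u`) to `Epi (Sigma.desc π)`.  Covers are stable under pullback and composition.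
-/

set_option autoImplicit false
open CategoryTheory CategoryTheory.Limits Opposite
universe u w w'
open ToposFin

namespace Groth.Agent.H28

variable {C : Type u} [SmallCategory C] {J : GrothendieckTopology C}

/-- The sieve of arrows `f : V ⟶ U` along which the section `s` lifts to some member of the family. -/
def coverSieve {ι : Type w} {X : Sh J} {F : ι → Sh J} (π : ∀ i, F i ⟶ X) {U : C}
    (s : X.obj.obj (op U)) : Sieve U where
  arrows V f := ∃ i, ∃ t : (F i).obj.obj (op V), (π i).hom.app (op V) t = X.obj.map f.op s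
  downward_closed := by
    rintro V W f ⟨i, t, ht⟩ g
    refine ⟨i, (F i).obj.map g.op t, ?_⟩
    rw [NatTrans.naturality_apply, ht, op_comp, Functor.map_comp_apply]

lemma coverSieve_pullback {ι : Type w} {X : Sh J} {F : ι → Sh J} (π : ∀ i, F i ⟶ X) {U V : C}
    (s : X.obj.obj (op U)) (g : V ⟶ U) :
    (coverSieve π s).pullback g = coverSieve π (X.obj.map g.op s) := by
  ext W f
  simp only [Sieve.pullback_apply, coverSieve, op_comp, Functor.map_comp_apply]

/-- The family `π` is locally jointly surjective. -/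
def IsCover {ι : Type w} {X : Sh J} {F : ι → Sh J} (π : ∀ i, F i ⟶ X) : Prop :=
  ∀ (U : C) (s : X.obj.obj (op U)), coverSieve π s ∈ J U


lemma IsCover.hom_ext {ι : Type w} {X : Sh J} {F : ι → Sh J} {π : ∀ i, F i ⟶ X} (h : IsCover π)
    {Z : Sh J} (a b : X ⟶ Z) (hab : ∀ i, π i ≫ a = π i ≫ b) : a = b := by
  ext U s
  induction U using Opposite.rec with | _ U => ?_
  apply (((isSheaf_iff_isSheaf_of_type _ _).1 Z.2).isSeparated _ (h U s)).ext
  rintro V f ⟨i, t, ht⟩
  have h₁ := NatTrans.naturality_apply a.hom f.op s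
  have h₂ := NatTrans.naturality_apply b.hom f.op s
  refine (h₁.symm.trans ?_).trans h₂
  rw [← ht]
  exact ConcreteCategory.congr_hom (congr_app ((sheafToPresheaf J _).congr_map (hab i)) (op V)) t


/-- The subpresheaf of sections of `X` which locally lift to some member of the family. -/
def coverSub {ι : Type w} {X : Sh J} {F : ι → Sh J} (π : ∀ i, F i ⟶ X) : Subfunctor X.obj where
  obj U := {s | coverSieve π s ∈ J U.unop}
  map {U V} f s hs := by
    have := J.pullback_stable f.unop hs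
    rwa [coverSieve_pullback] at this

lemma coverSub_isSheaf {ι : Type w} {X : Sh J} {F : ι → Sh J} (π : ∀ i, F i ⟶ X) :
    Presheaf.IsSheaf J (coverSub π).toFunctor := by
  rw [isSheaf_iff_isSheaf_of_type]
  rw [Subfunctor.isSheaf_iff _ ((isSheaf_iff_isSheaf_of_type _ _).1 X.2)]
  intro U s hs
  induction U using Opposite.rec with | _ U => ?_
  refine J.transitive hs _ ?_
  intro V f hf
  rw [coverSieve_pullback]
  exact hf

/-- The subsheaf of sections of `X` which locally lift to some member of the family. -/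
def coverSheaf {ι : Type w} {X : Sh J} {F : ι → Sh J} (π : ∀ i, F i ⟶ X) : Sh J :=
  ⟨(coverSub π).toFunctor, coverSub_isSheaf π⟩

/-- The inclusion of `coverSheaf π` into `X`. -/
def coverSheafι {ι : Type w} {X : Sh J} {F : ι → Sh J} (π : ∀ i, F i ⟶ X) : coverSheaf π ⟶ X :=
  ⟨(coverSub π).ι⟩

lemma range_le_coverSub {ι : Type w} {X : Sh J} {F : ι → Sh J} (π : ∀ i, F i ⟶ X) (i : ι) :
    Subfunctor.range (π i).hom ≤ coverSub π := by
  rintro U _ ⟨t, rfl⟩
  induction U using Opposite.rec with | _ U => ?_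
  refine J.superset_covering ?_ (J.top_mem U)
  intro V f _
  exact ⟨i, (F i).obj.map f.op t, NatTrans.naturality_apply _ _ _⟩

/-- The factorisation of `π i` through `coverSheaf π`. -/
def coverSheafLift {ι : Type w} {X : Sh J} {F : ι → Sh J} (π : ∀ i, F i ⟶ X) (i : ι) :
    F i ⟶ coverSheaf π :=
  ⟨Subfunctor.lift (π i).hom (range_le_coverSub π i)⟩

lemma coverSheafLift_ι {ι : Type w} {X : Sh J} {F : ι → Sh J} (π : ∀ i, F i ⟶ X) (i : ι) :
    coverSheafLift π i ≫ coverSheafι π = π i := rfl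

/-- A jointly epimorphic family is a cover. -/
lemma isCover_of_hom_ext {ι : Type w} {X : Sh J} {F : ι → Sh J} (π : ∀ i, F i ⟶ X)
    (h : ∀ (Z : Sh J) (a b : X ⟶ Z), (∀ i, π i ≫ a = π i ≫ b) → a = b) : IsCover π := by
  have hepi : Epi (coverSheafι π) := by
    constructor
    intro Z a b hab
    apply h
    intro i
    rw [← coverSheafLift_ι π i, Category.assoc, Category.assoc, hab]
  have hls := (Sheaf.isLocallySurjective_iff_epi (coverSheafι π)).2 hepi
  intro U s
  refine J.transitive (hls.imageSieve_mem s) _ ?_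
  rintro V f ⟨t, ht⟩
  rw [coverSieve_pullback, ← ht]
  exact t.2

lemma isCover_iff_hom_ext {ι : Type w} {X : Sh J} {F : ι → Sh J} (π : ∀ i, F i ⟶ X) :
    IsCover π ↔ ∀ (Z : Sh J) (a b : X ⟶ Z), (∀ i, π i ≫ a = π i ≫ b) → a = b :=
  ⟨fun h _ a b hab => h.hom_ext a b hab, isCover_of_hom_ext π⟩

lemma isCover_iff_epi_sigmaDesc {ι : Type w} {X : Sh J} {F : ι → Sh J} [HasCoproduct F]
    (π : ∀ i, F i ⟶ X) : IsCover π ↔ Epi (Sigma.desc π) := by
  rw [isCover_iff_hom_ext]
  constructor
  · intro h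
    constructor
    intro Z a b hab
    apply h
    intro i
    have := congrArg (fun k => Sigma.ι F i ≫ k) hab
    simpa using this
  · intro h Z a b hab
    rw [← cancel_epi (Sigma.desc π)]
    apply Sigma.hom_ext
    intro i
    simpa using hab i


lemma sections_exists_of_isPullback {P X Y Z : Sh J} {p : P ⟶ X} {q : P ⟶ Y} {f : X ⟶ Z}
    {g : Y ⟶ Z} (h : IsPullback p q f g) (V : C) (x : X.obj.obj (op V)) (y : Y.obj.obj (op V))
    (hxy : f.hom.app _ x = g.hom.app _ y) :
    ∃ z : P.obj.obj (op V), p.hom.app _ z = x ∧ q.hom.app _ z = y := by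
  have h' := h.map (sheafToPresheaf J (Type u) ⋙ (evaluation _ _).obj (op V))
  exact Types.exists_of_isPullback h' x y hxy

lemma sections_ext_of_isPullback {P X Y Z : Sh J} {p : P ⟶ X} {q : P ⟶ Y} {f : X ⟶ Z}
    {g : Y ⟶ Z} (h : IsPullback p q f g) (V : C) (z z' : P.obj.obj (op V))
    (h₁ : p.hom.app _ z = p.hom.app _ z') (h₂ : q.hom.app _ z = q.hom.app _ z') : z = z' := by
  have h' := h.map (sheafToPresheaf J (Type u) ⋙ (evaluation _ _).obj (op V))
  exact Types.ext_of_isPullback h' h₁ h₂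

/-- Covers are stable under base change. -/
lemma IsCover.of_isPullback {ι : Type w} {X X' : Sh J} {F P : ι → Sh J} {π : ∀ i, F i ⟶ X}
    (hπ : IsCover π) (g : X' ⟶ X) (p : ∀ i, P i ⟶ F i) (q : ∀ i, P i ⟶ X')
    (h : ∀ i, IsPullback (p i) (q i) (π i) g) : IsCover q := by
  intro U s'
  refine J.superset_covering ?_ (hπ U (g.hom.app _ s'))
  rintro V f ⟨i, t, ht⟩
  have hxy : (π i).hom.app _ t = g.hom.app _ (X'.obj.map f.op s') := by
    rw [ht, NatTrans.naturality_apply]
  obtain ⟨z, -, hz⟩ := sections_exists_of_isPullback (h i) V t _ hxy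
  exact ⟨i, z, hz⟩

lemma IsCover.pullback_snd {ι : Type w} {X X' : Sh J} {F : ι → Sh J} {π : ∀ i, F i ⟶ X}
    (hπ : IsCover π) (g : X' ⟶ X) : IsCover (fun i => pullback.snd (π i) g) :=
  hπ.of_isPullback g (fun i => pullback.fst (π i) g) _ (fun _ => IsPullback.of_hasPullback _ _)

lemma IsCover.pullback_fst {ι : Type w} {X X' : Sh J} {F : ι → Sh J} {π : ∀ i, F i ⟶ X}
    (hπ : IsCover π) (g : X' ⟶ X) : IsCover (fun i => pullback.fst g (π i)) :=
  hπ.of_isPullback g (fun i => pullback.snd g (π i)) _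
    (fun _ => (IsPullback.of_hasPullback _ _).flip)

/-- If a cover refines a family, the family is a cover. -/
lemma IsCover.of_refines {ι : Type w} {κ : Type w'} {X : Sh J} {F : ι → Sh J} {G : κ → Sh J}
    {π : ∀ i, F i ⟶ X} (hπ : IsCover π) (ρ : ∀ k, G k ⟶ X)
    (h : ∀ i, ∃ k, ∃ φ : F i ⟶ G k, φ ≫ ρ k = π i) : IsCover ρ := by
  intro U s
  refine J.superset_covering ?_ (hπ U s)
  rintro V f ⟨i, t, ht⟩
  obtain ⟨k, φ, hφ⟩ := h i
  refine ⟨k, φ.hom.app _ t, ?_⟩
  rw [← ht, ← hφ]
  rfl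

/-- Composition of covers. -/
lemma IsCover.comp {ι : Type w} {κ : ι → Type w'} {X : Sh J} {F : ι → Sh J} {π : ∀ i, F i ⟶ X}
    (hπ : IsCover π) {G : ∀ i, κ i → Sh J} (ρ : ∀ i k, G i k ⟶ F i) (hρ : ∀ i, IsCover (ρ i)) :
    IsCover (fun x : Σ i, κ i => ρ x.1 x.2 ≫ π x.1) := by
  intro U s
  refine J.transitive (hπ U s) _ ?_
  rintro V f ⟨i, t, ht⟩
  refine J.superset_covering ?_ (hρ i V t)
  rintro W g ⟨k, r, hr⟩
  refine ⟨⟨i, k⟩, r, ?_⟩
  change (π i).hom.app _ ((ρ i k).hom.app _ r) = _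
  rw [hr, NatTrans.naturality_apply, ht, op_comp, Functor.map_comp_apply]

lemma isCover_single_iff_epi {X Y : Sh J} (f : X ⟶ Y) :
    IsCover (fun _ : PUnit.{w+1} => f) ↔ Epi f := by
  rw [isCover_iff_hom_ext]
  constructor
  · intro h
    exact ⟨fun a b hab => h _ a b (fun _ => hab)⟩
  · intro h Z a b hab
    exact (cancel_epi f).1 (hab PUnit.unit)


/-- Flipped version of `IsCover.of_isPullback`. -/
lemma IsCover.of_isPullback' {ι : Type w} {X X' : Sh J} {F P : ι → Sh J} {π : ∀ i, F i ⟶ X}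
    (hπ : IsCover π) (g : X' ⟶ X) (p : ∀ i, P i ⟶ F i) (q : ∀ i, P i ⟶ X')
    (h : ∀ i, IsPullback (q i) (p i) g (π i)) : IsCover q :=
  hπ.of_isPullback g p q (fun i => (h i).flip)

/-- Pulling back a cover of `Y'` to a fibre product `P = X ×_Y Y'`: the members are `X ×_Y F i`. -/
lemma IsCover.lift_right {P X Y Y' : Sh J} {p : P ⟶ X} {q : P ⟶ Y'} {f : X ⟶ Y} {g : Y' ⟶ Y}
    (h : IsPullback p q f g) {ι : Type w} {F : ι → Sh J} {π : ∀ i, F i ⟶ Y'} (hπ : IsCover π) :
    IsCover (fun i => h.lift (pullback.fst f (π i ≫ g)) (pullback.snd f (π i ≫ g) ≫ π i)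
      (by simp [pullback.condition])) := by
  refine hπ.of_isPullback' q (fun i => pullback.snd f (π i ≫ g)) _ (fun i => ?_)
  refine IsPullback.of_right (t := h) ?_ (by simp)
  simpa using (IsPullback.of_hasPullback f (π i ≫ g))

/-- Pulling back a cover of `X` to a fibre product `P = X ×_Y Y'`: the members are `F i ×_Y Y'`. -/
lemma IsCover.lift_left {P X Y Y' : Sh J} {p : P ⟶ X} {q : P ⟶ Y'} {f : X ⟶ Y} {g : Y' ⟶ Y}
    (h : IsPullback p q f g) {ι : Type w} {F : ι → Sh J} {π : ∀ i, F i ⟶ X} (hπ : IsCover π) :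
    IsCover (fun i => h.lift (pullback.fst (π i ≫ f) g ≫ π i) (pullback.snd (π i ≫ f) g)
      (by simp [pullback.condition])) := by
  refine hπ.of_isPullback p (fun i => pullback.fst (π i ≫ f) g) _ (fun i => ?_)
  refine IsPullback.of_bot (t := h) ?_ (by simp)
  simpa using (IsPullback.of_hasPullback (π i ≫ f) g)

end Groth.Agent.H28
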