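import Groth.Agent.H28.ToposCoprod
import Groth.Agent.H28.ToposAlg
import Mathlib.CategoryTheory.Sites.LocallyInjective
import Mathlib.CategoryTheory.Sites.LocallyBijective

/-!
# The sheaves `eps J X` associated to objects of the site (SGA4 VI 1.2, 2.1)
-/

set_option autoImplicit false
open CategoryTheory CategoryTheory.Limits Opposite
universe v u w w'
open ToposFin

namespace Groth.Agent.H28

variable {C : Type u} [SmallCategory C] (J : GrothendieckTopology C)

/-- The canonical section of `eps J X` over `X`. -/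
noncomputable def epsUnit (X : C) : (eps J X).obj.obj (op X) :=
  (toSheafify J (yoneda.obj X)).app (op X) (𝟙 X)

/-- `eps` on morphisms. -/
noncomputable abbrev epsMap {X Y : C} (f : X ⟶ Y) : eps J X ⟶ eps J Y :=
  (presheafToSheaf J (Type u)).map (yoneda.map f)

lemma toSheafify_app_eq {X U : C} (k : U ⟶ X) :
    (toSheafify J (yoneda.obj X)).app (op U) k = (eps J X).obj.map k.op (epsUnit J X) := by
  have h := NatTrans.naturality_apply (toSheafify J (yoneda.obj X)) k.op (𝟙 X)
  rw [epsUnit, ← h]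
  congr 1
  simp

lemma epsMap_app_epsUnit {V X : C} (f : V ⟶ X) :
    (epsMap J f).hom.app (op V) (epsUnit J V) = (eps J X).obj.map f.op (epsUnit J X) := by
  rw [← toSheafify_app_eq]
  have h := congr_app (toSheafify_naturality J (yoneda.map f)) (op V)
  have h2 := ConcreteCategory.congr_hom h (𝟙 V)
  simp only [NatTrans.comp_app, types_comp_apply] at h2
  rw [epsUnit]
  refine h2.symm.trans ?_
  congr 1
  simp

variable {J}

/-- Sections of a sheaf over `X` are the same as morphisms from `eps J X`. -/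
noncomputable def secEquiv (G : Sh J) (X : C) : (eps J X ⟶ G) ≃ G.obj.obj (op X) :=
  ((sheafificationAdjunction J (Type u)).homEquiv (yoneda.obj X) G).trans yonedaEquiv

lemma secEquiv_apply {G : Sh J} {X : C} (φ : eps J X ⟶ G) :
    secEquiv G X φ = φ.hom.app (op X) (epsUnit J X) := by
  change yonedaEquiv (((sheafificationAdjunction J (Type u)).homEquiv (yoneda.obj X) G) φ) = _
  rw [Adjunction.homEquiv_unit, yonedaEquiv_apply]
  rfl

lemma exists_hom_of_section {G : Sh J} {U : C} (s : G.obj.obj (op U)) :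
    ∃ φ : eps J U ⟶ G, φ.hom.app (op U) (epsUnit J U) = s :=
  ⟨(secEquiv G U).symm s, by rw [← secEquiv_apply]; simp⟩

lemma hom_ext_eps {G : Sh J} {U : C} {φ ψ : eps J U ⟶ G}
    (h : φ.hom.app (op U) (epsUnit J U) = ψ.hom.app (op U) (epsUnit J U)) : φ = ψ := by
  apply (secEquiv G U).injective
  rw [secEquiv_apply, secEquiv_apply, h]


/-- (E1) Every object is covered by the `eps J U`. -/
lemma isCover_eps_sections (X : Sh J) :
    IsCover (fun x : Σ U : C, X.obj.obj (op U) => (secEquiv X x.1).symm x.2) := by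
  intro U s
  refine J.superset_covering ?_ (J.top_mem U)
  intro V f _
  refine ⟨⟨V, X.obj.map f.op s⟩, epsUnit J V, ?_⟩
  rw [← secEquiv_apply]
  simp

lemma coversAll_eps : CoversAll (Set.range (eps J)) := fun X =>
  ⟨(Σ U : C, X.obj.obj (op U)), fun x => eps J x.1, fun x => (secEquiv X x.1).symm x.2,
    fun x => ⟨x.1, rfl⟩, isCover_eps_sections X⟩

/-- (E4) Every section of `eps J X` is locally the restriction of the canonical section along a
morphism of the site. -/
lemma eps_section_locally_representable {X U : C} (σ : (eps J X).obj.obj (op U)) :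
    ∃ R ∈ J U, ∀ ⦃U' : C⦄ (h : U' ⟶ U), R h → ∃ k : U' ⟶ X,
      (eps J X).obj.map h.op σ = (eps J X).obj.map k.op (epsUnit J X) := by
  refine ⟨_, Presheaf.imageSieve_mem J (toSheafify J (yoneda.obj X)) σ, ?_⟩
  rintro U' h ⟨t, ht⟩
  exact ⟨t, by rw [← toSheafify_app_eq]; exact ht.symm⟩

/-- (E5) The arrows of a covering sieve induce a cover of `eps J X`. -/
lemma isCover_epsMap_of_sieve {X : C} {S : Sieve X} (hS : S ∈ J X) :
    IsCover (fun x : Σ V : C, {g : V ⟶ X // S g} => epsMap J x.2.1) := by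
  intro U σ
  obtain ⟨R, hR, hloc⟩ := eps_section_locally_representable σ
  refine J.transitive hR _ ?_
  intro U' h hh
  obtain ⟨k, hk⟩ := hloc h hh
  refine J.superset_covering ?_ (J.pullback_stable k hS)
  intro U'' w hw
  have hw' : S (w ≫ k) := hw
  refine ⟨⟨U'', ⟨w ≫ k, hw'⟩⟩, epsUnit J U'', ?_⟩
  rw [epsMap_app_epsUnit]
  calc (eps J X).obj.map (w ≫ k).op (epsUnit J X)
      = (eps J X).obj.map w.op ((eps J X).obj.map k.op (epsUnit J X)) := by
        rw [op_comp, Functor.map_comp_apply]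
    _ = (eps J X).obj.map w.op ((eps J X).obj.map h.op σ) := by rw [hk]
    _ = (eps J X).obj.map (w ≫ h).op σ := by rw [op_comp, Functor.map_comp_apply]

lemma epsMap_comp {X Y Z : C} (f : X ⟶ Y) (g : Y ⟶ Z) :
    epsMap J (f ≫ g) = epsMap J f ≫ epsMap J g := by
  simp [epsMap]

/-- A family of arrows generating a covering sieve induces a cover of `eps J X`. -/
lemma isCover_epsMap_of_ofArrows {X : C} {ι : Type w} (V : ι → C) (g : ∀ i, V i ⟶ X)
    (h : Sieve.ofArrows V g ∈ J X) : IsCover (fun i => epsMap J (g i)) := by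
  refine (isCover_epsMap_of_sieve h).of_refines _ ?_
  rintro ⟨W, ⟨f, hf⟩⟩
  obtain ⟨i, a, rfl⟩ := (Sieve.mem_ofArrows_iff V g f).1 hf
  exact ⟨i, epsMap J a, (epsMap_comp a (g i)).symm⟩

/-- (E2) An object of the site which is quasi-compact gives a quasi-compact sheaf. -/
lemma isQC_eps_of_isQCSite {X : C} (hX : IsQCSite J X) : IsQC (eps J X) := by
  classical
  rw [isQC_iff_isCover]
  intro ι F π hπ
  obtain ⟨n, V, g, hg, hcov⟩ := hX _ (hπ X (epsUnit J X))
  choose i t ht using hg
  refine ⟨Finset.univ.image i, (isCover_epsMap_of_ofArrows V g hcov).of_refines _ ?_⟩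
  intro k
  refine ⟨⟨i k, Finset.mem_image_of_mem i (Finset.mem_univ k)⟩, (secEquiv _ _).symm (t k), ?_⟩
  apply hom_ext_eps
  rw [epsMap_app_epsUnit, ← ht k]
  change (π (i k)).hom.app _ (((secEquiv _ _).symm (t k)).hom.app _ (epsUnit J (V k))) = _
  rw [← secEquiv_apply]
  simp


/-- (F3) `eps` preserves pullback squares. -/
lemma isPullback_epsMap {P U V X : C} {p : P ⟶ U} {q : P ⟶ V} {f : U ⟶ X} {g : V ⟶ X}
    (h : IsPullback p q f g) : IsPullback (epsMap J p) (epsMap J q) (epsMap J f) (epsMap J g) :=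
  h.map (yoneda ⋙ presheafToSheaf J (Type u))

/-- (R) Every morphism `a : A ⟶ eps J X` is, locally on `A`, induced by morphisms of the site. -/
lemma exists_cover_representable {A : Sh J} {X : C} (a : A ⟶ eps J X) :
    ∃ (ι : Type u) (U : ι → C) (α : ∀ i, eps J (U i) ⟶ A) (k : ∀ i, U i ⟶ X),
      IsCover α ∧ ∀ i, α i ≫ a = epsMap J (k i) := by
  have h1 : ∀ x : Σ U : C, A.obj.obj (op U), ∃ R ∈ J x.1, ∀ ⦃U' : C⦄ (h : U' ⟶ x.1), R h →
      ∃ k : U' ⟶ X, epsMap J h ≫ (secEquiv A x.1).symm x.2 ≫ a = epsMap J k := by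
    rintro ⟨U, s⟩
    obtain ⟨R, hR, hloc⟩ := eps_section_locally_representable
      (secEquiv _ _ ((secEquiv A U).symm s ≫ a))
    refine ⟨R, hR, fun U' h hh => ?_⟩
    obtain ⟨k, hk⟩ := hloc h hh
    refine ⟨k, hom_ext_eps ?_⟩
    rw [epsMap_app_epsUnit, ← hk, secEquiv_apply]
    change ((secEquiv A U).symm s ≫ a).hom.app _ ((epsMap J h).hom.app _ (epsUnit J U')) = _
    rw [epsMap_app_epsUnit, NatTrans.naturality_apply]
  choose R hR hk using h1
  have hc := (isCover_eps_sections A).comp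
    (fun x (y : Σ V : C, {g : V ⟶ x.1 // R x g}) => epsMap J y.2.1)
    (fun x => isCover_epsMap_of_sieve (hR x))
  choose k hk' using fun (x : Σ U : C, A.obj.obj (op U)) (y : Σ V : C, {g : V ⟶ x.1 // R x g}) =>
    hk x y.2.1 y.2.2
  exact ⟨(Σ x : (Σ U : C, A.obj.obj (op U)), (Σ V : C, {g : V ⟶ x.1 // R x g})),
    fun z => z.2.1, _, fun z => k z.1 z.2, hc, fun z => by
    rw [Category.assoc]; exact hk' z.1 z.2⟩

lemma isQC_pullback_epsMap [HasPullbacks C] (hC : ∀ X : C, IsQCSite J X) {U V X : C}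
    {A B : Sh J} (a : A ⟶ eps J X) (b : B ⟶ eps J X) (eA : A = eps J U) (eB : B = eps J V)
    (k : U ⟶ X) (l : V ⟶ X) (ea : a = eqToHom eA ≫ epsMap J k) (eb : b = eqToHom eB ≫ epsMap J l) :
    IsQC (pullback a b) := by
  subst eA eB
  simp only [eqToHom_refl, Category.id_comp] at ea eb
  subst ea eb
  exact IsQC.of_iso (isPullback_epsMap (IsPullback.of_hasPullback k l)).isoPullback
    (isQC_eps_of_isQCSite (hC _))

/-- (L1) On a site with fibre products whose objects are quasi-compact, the fibre product of two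
quasi-compact objects over `eps J X` is quasi-compact. -/
lemma isQC_pullback_over_eps [HasPullbacks C] (hC : ∀ X : C, IsQCSite J X) {X : C} {A B : Sh J}
    (a : A ⟶ eps J X) (b : B ⟶ eps J X) (hA : IsQC A) (hB : IsQC B) : IsQC (pullback a b) := by
  obtain ⟨ι, U, α, k, hα, hk⟩ := exists_cover_representable a
  obtain ⟨κ, V, β, l, hβ, hl⟩ := exists_cover_representable b
  obtain ⟨s, hs⟩ := IsQC.exists_finset hA α hα
  obtain ⟨t, ht⟩ := IsQC.exists_finset hB β hβ
  refine IsQC.of_finite_cover _ (hs.pullback_map a b ht) ?_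
  rintro ⟨i, j⟩
  exact isQC_pullback_epsMap hC _ _ rfl rfl (k i) (l j) (by simpa using hk i) (by simpa using hl j)

/-- SGA4 VI 2.1: on a site with fibre products whose objects are quasi-compact, the sheaves
`eps J X` are coherent. -/
lemma isCoherent_eps [HasPullbacks C] (hC : ∀ X : C, IsQCSite J X) (X : C) :
    IsCoherent (eps J X) := by
  refine ⟨isQC_eps_of_isQCSite (hC X), isQS_of_coversAll_pullback coversAll_eps _ ?_⟩
  rintro K ⟨U, rfl⟩ L ⟨V, rfl⟩ s t
  exact isQC_pullback_over_eps hC s t (isQC_eps_of_isQCSite (hC U)) (isQC_eps_of_isQCSite (hC V))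

lemma coversAll_qc_of_site (hC : ∀ X : C, IsQCSite J X) : CoversAll {K : Sh J | IsQC K} :=
  coversAll_eps.mono (by rintro K ⟨U, rfl⟩; exact isQC_eps_of_isQCSite (hC U))

lemma isQS_pullback_epsMap [HasPullbacks C] (hC : ∀ X : C, IsQCSite J X) {U V X : C}
    {A B : Sh J} (a : A ⟶ eps J X) (b : B ⟶ eps J X) (eA : A = eps J U) (eB : B = eps J V)
    (k : U ⟶ X) (l : V ⟶ X) (ea : a = eqToHom eA ≫ epsMap J k) (eb : b = eqToHom eB ≫ epsMap J l) :
    IsQS (pullback a b) := by
  subst eA eB
  simp only [eqToHom_refl, Category.id_comp] at ea eb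
  subst ea eb
  exact IsQS.of_iso (isPullback_epsMap (IsPullback.of_hasPullback k l)).isoPullback
    (isCoherent_eps hC _).2

/-- (L2) The fibre product of two quasi-separated objects over `eps J X` is quasi-separated. -/
lemma isQS_pullback_over_eps [HasPullbacks C] (hC : ∀ X : C, IsQCSite J X) {X : C} {G H : Sh J}
    (g : G ⟶ eps J X) (h : H ⟶ eps J X) (hG : IsQS G) (hH : IsQS H) : IsQS (pullback g h) := by
  obtain ⟨ι, U, α, k, hα, hk⟩ := exists_cover_representable g
  obtain ⟨κ, V, β, l, hβ, hl⟩ := exists_cover_representable h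
  refine isQS_of_cover _ (hα.pullback_map g h hβ) ?_ ?_
  · rintro ⟨i, j⟩
    exact isQS_pullback_epsMap hC _ _ rfl rfl (k i) (l j) (by simpa using hk i)
      (by simpa using hl j)
  · rintro ⟨i, j⟩
    exact (qcHom (J := J)).pullbackMap (f := α i ≫ g) (g := β j ≫ h) (f' := g) (g' := h)
      (i₁ := α i) (i₂ := β j)
      (isQCHom_of_isQC_of_isQS (α i) (isQC_eps_of_isQCSite (hC _)) hG)
      (isQCHom_of_isQC_of_isQS (β j) (isQC_eps_of_isQCSite (hC _)) hH) rfl rfl


/-- SGA4 VI 2.1: fibre products of coherent objects over a coherent object lying over some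
`eps J X` are coherent. -/
lemma isCoherent_pullback_over_eps [HasPullbacks C] (hC : ∀ X : C, IsQCSite J X)
    {G H F : Sh J} (a : G ⟶ F) (b : H ⟶ F) (hG : IsCoherent G) (hH : IsCoherent H)
    (hF : IsCoherent F) (X : C) (w : F ⟶ eps J X) : IsCoherent (pullback a b) := by
  refine ⟨hF.2 G H a b hG.1 hH.1, ?_⟩
  have hm : Mono (pullback.map a b (a ≫ w) (b ≫ w) (𝟙 _) (𝟙 _) w (Category.id_comp _).symm
      (Category.id_comp _).symm) := by
    constructor
    intro W u v huv
    have h1 := huv =≫ pullback.fst _ _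
    have h2 := huv =≫ pullback.snd _ _
    simp only [Category.assoc, pullback.lift_fst, pullback.lift_snd, Category.comp_id] at h1 h2
    exact pullback.hom_ext h1 h2
  exact IsQS.of_mono (pullback.map a b (a ≫ w) (b ≫ w) (𝟙 _) (𝟙 _) w (Category.id_comp _).symm
      (Category.id_comp _).symm) (isQS_pullback_over_eps hC (a ≫ w) (b ≫ w) hG.2 hH.2)

/-- On a site with fibre products whose objects are quasi-compact, every morphism from a
quasi-separated object to `eps J X` is quasi-separated. -/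
lemma isQSHom_to_eps [HasPullbacks C] (hC : ∀ X : C, IsQCSite J X) {X : C} {G : Sh J}
    (g : G ⟶ eps J X) (hG : IsQS G) : IsQSHom g := by
  let S : Set (Sh J) := {K | IsCoherent K ∧ ∃ Y : C, Nonempty (K ⟶ eps J Y)}
  have hqc : ∀ K ∈ S, IsQC K := fun K hK => hK.1.1
  have hS : CoversAll S := coversAll_eps.mono (by
    rintro K ⟨U, rfl⟩
    exact ⟨isCoherent_eps hC U, U, ⟨𝟙 _⟩⟩)
  have hpb : ClosedUnderPullbacks S := by
    intro K L M f g' hK hL hM
    obtain ⟨Y, ⟨w⟩⟩ := hM.2
    exact ⟨pullback f g', pullback.fst f g', pullback.snd f g',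
      ⟨isCoherent_pullback_over_eps hC f g' hK.1 hL.1 hM.1 Y w, Y,
        ⟨pullback.fst f g' ≫ f ≫ w⟩⟩, IsPullback.of_hasPullback f g'⟩
  exact isQSHom_of_isQS_of_mem hqc hS hpb hG ⟨isCoherent_eps hC X, X, ⟨𝟙 _⟩⟩ g


/-- Two morphisms of the site with the same image in `eps J X` agree locally. -/
lemma eps_locally_injective {X W : C} (a b : W ⟶ X)
    (h : (eps J X).obj.map a.op (epsUnit J X) = (eps J X).obj.map b.op (epsUnit J X)) :
    ∃ R ∈ J W, ∀ ⦃W' : C⦄ (w : W' ⟶ W), R w → w ≫ a = w ≫ b := by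
  rw [← toSheafify_app_eq, ← toSheafify_app_eq] at h
  refine ⟨_, Presheaf.equalizerSieve_mem J (toSheafify J (yoneda.obj X)) (X := op W) a b h, ?_⟩
  intro W' w hw
  exact hw

/-- SGA4 VI 1.2: if `eps J X` is quasi-compact then `X` is quasi-compact in the site. -/
lemma isQCSite_of_isQC_eps {X : C} (hX : IsQC (eps J X)) : IsQCSite J X := by
  classical
  intro S hS
  obtain ⟨t, ht⟩ := IsQC.exists_finset hX _ (isCover_epsMap_of_sieve hS)
  let e := t.equivFin
  refine ⟨t.card, fun k => (e.symm k).1.1, fun k => (e.symm k).1.2.1, fun k => (e.symm k).1.2.2, ?_⟩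
  refine J.transitive (ht X (epsUnit J X)) _ ?_
  rintro W f ⟨x, τ, hτ⟩
  obtain ⟨k, rfl⟩ := e.symm.surjective x
  obtain ⟨R', hR', hloc⟩ := eps_section_locally_representable τ
  refine J.transitive hR' _ ?_
  intro W' w hw
  obtain ⟨v, hv⟩ := hloc w hw
  have h1 : (eps J X).obj.map (w ≫ f).op (epsUnit J X) =
      (eps J X).obj.map (v ≫ (e.symm k).1.2.1).op (epsUnit J X) := by
    calc (eps J X).obj.map (w ≫ f).op (epsUnit J X)
        = (eps J X).obj.map w.op ((eps J X).obj.map f.op (epsUnit J X)) := by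
          rw [op_comp, Functor.map_comp_apply]
      _ = (eps J X).obj.map w.op ((epsMap J (e.symm k).1.2.1).hom.app _ τ) := by rw [hτ]
      _ = (epsMap J (e.symm k).1.2.1).hom.app _ ((eps J (e.symm k).1.1).obj.map w.op τ) := by
          rw [NatTrans.naturality_apply]
      _ = (epsMap J (e.symm k).1.2.1).hom.app _ ((eps J (e.symm k).1.1).obj.map v.op (epsUnit J (e.symm k).1.1)) := by
          rw [hv]
      _ = (eps J X).obj.map v.op ((epsMap J (e.symm k).1.2.1).hom.app _ (epsUnit J (e.symm k).1.1)) := by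
          rw [NatTrans.naturality_apply]
      _ = (eps J X).obj.map v.op ((eps J X).obj.map (e.symm k).1.2.1.op (epsUnit J X)) := by
          rw [epsMap_app_epsUnit]
      _ = (eps J X).obj.map (v ≫ (e.symm k).1.2.1).op (epsUnit J X) := by
          rw [op_comp, Functor.map_comp_apply]
  obtain ⟨R'', hR'', heq⟩ := eps_locally_injective _ _ h1
  refine J.superset_covering ?_ hR''
  intro W'' w' hw'
  change Sieve.ofArrows _ _ ((w' ≫ w) ≫ f)
  rw [Category.assoc, heq w' hw', Sieve.mem_ofArrows_iff]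
  exact ⟨k, w' ≫ v, by simp⟩


lemma secEquiv_comp {G H : Sh J} {X : C} (φ : eps J X ⟶ G) (h : G ⟶ H) :
    secEquiv H X (φ ≫ h) = h.hom.app _ (secEquiv G X φ) := by
  rw [secEquiv_apply, secEquiv_apply]
  rfl

lemma secEquiv_symm_comp {G H : Sh J} {X : C} (s : G.obj.obj (op X)) (h : G ⟶ H) :
    (secEquiv G X).symm s ≫ h = (secEquiv H X).symm (h.hom.app _ s) := by
  apply (secEquiv H X).injective
  rw [secEquiv_comp]
  simp

end Groth.Agent.H28
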