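import Groth.Agent.H28.ToposEps
import Groth.Agent.H28.ToposCoprod
import Mathlib.CategoryTheory.Sites.RegularEpi
import Mathlib.CategoryTheory.Limits.Types.Filtered

/-!
# Filtered colimits in the topos of sheaves of sets on a small site (SGA4 VI 1.23)
-/

set_option autoImplicit false
open CategoryTheory CategoryTheory.Limits Opposite
universe u w w'
open ToposFin

namespace Groth.Agent.H28

variable {C : Type u} [SmallCategory C] {J : GrothendieckTopology C}

section Post

variable {I : Type u} [SmallCategory I] [IsFiltered I] (D : I ⥤ Sh J) (X : Sh J)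

/-- Elementwise form of injectivity of `colim Hom(X, D_i) → Hom(X, colim D)`. -/
lemma post_injective_iff :
    Function.Injective (colimit.post D (coyoneda.obj (op X))) ↔
      ∀ (i j : I) (f : X ⟶ D.obj i) (g : X ⟶ D.obj j),
        f ≫ colimit.ι D i = g ≫ colimit.ι D j →
          ∃ (k : I) (a : i ⟶ k) (b : j ⟶ k), f ≫ D.map a = g ≫ D.map b := by
  constructor
  · intro hinj i j f g hfg
    have h1 : colimit.ι (D ⋙ coyoneda.obj (op X)) i f = colimit.ι (D ⋙ coyoneda.obj (op X)) j g := by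
      apply hinj
      have e1 := ConcreteCategory.congr_hom (colimit.ι_post D (coyoneda.obj (op X)) i) f
      have e2 := ConcreteCategory.congr_hom (colimit.ι_post D (coyoneda.obj (op X)) j) g
      simp only [types_comp_apply] at e1 e2
      rw [e1, e2]
      exact hfg
    obtain ⟨k, a, b, hk⟩ := (Types.FilteredColimit.colimit_eq_iff _).1 h1
    exact ⟨k, a, b, hk⟩
  · intro h x y hxy
    obtain ⟨i, f, rfl⟩ := Types.jointly_surjective' x
    obtain ⟨j, g, rfl⟩ := Types.jointly_surjective' y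
    have e1 := ConcreteCategory.congr_hom (colimit.ι_post D (coyoneda.obj (op X)) i) f
    have e2 := ConcreteCategory.congr_hom (colimit.ι_post D (coyoneda.obj (op X)) j) g
    simp only [types_comp_apply] at e1 e2
    rw [e1, e2] at hxy
    obtain ⟨k, a, b, hk⟩ := h i j f g hxy
    exact (Types.FilteredColimit.colimit_eq_iff _).2 ⟨k, a, b, hk⟩

/-- Elementwise form of surjectivity of `colim Hom(X, D_i) → Hom(X, colim D)`. -/
lemma post_surjective_iff :
    Function.Surjective (colimit.post D (coyoneda.obj (op X))) ↔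
      ∀ φ : X ⟶ colimit D, ∃ (i : I) (f : X ⟶ D.obj i), f ≫ colimit.ι D i = φ := by
  constructor
  · intro hs φ
    obtain ⟨x, hx⟩ := hs φ
    obtain ⟨i, f, rfl⟩ := Types.jointly_surjective' x
    have e1 := ConcreteCategory.congr_hom (colimit.ι_post D (coyoneda.obj (op X)) i) f
    simp only [types_comp_apply] at e1
    rw [e1] at hx
    exact ⟨i, f, hx⟩
  · intro h φ
    obtain ⟨i, f, hf⟩ := h φ
    refine ⟨colimit.ι (D ⋙ coyoneda.obj (op X)) i f, ?_⟩
    have e1 := ConcreteCategory.congr_hom (colimit.ι_post D (coyoneda.obj (op X)) i) f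
    simp only [types_comp_apply] at e1
    rw [e1]
    exact hf

end Post

section FC

variable {I : Type u} [SmallCategory I] [IsFiltered I] (D : I ⥤ Sh J)

/-- (FC2), sections: two sections of stages of a filtered diagram of sheaves which agree in the
colimit agree locally at a later stage. -/
lemma exists_sieve_map_eq_of_ι_eq {i j : I} {U : C} (x : (D.obj i).obj.obj (op U))
    (y : (D.obj j).obj.obj (op U))
    (h : (colimit.ι D i).hom.app (op U) x = (colimit.ι D j).hom.app (op U) y) :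
    ∃ S ∈ J U, ∀ ⦃V : C⦄ (f : V ⟶ U), S f → ∃ (k : I) (a : i ⟶ k) (b : j ⟶ k),
      (D.map a).hom.app (op V) ((D.obj i).obj.map f.op x) =
        (D.map b).hom.app (op V) ((D.obj j).obj.map f.op y) := by
  let E := colimit.cocone (D ⋙ sheafToPresheaf J (Type u))
  have hE : IsColimit E := colimit.isColimit _
  let c' := Sheaf.sheafifyCocone E
  have hc' : IsColimit c' := Sheaf.isColimitSheafifyCocone E hE
  let e := (colimit.isColimit D).coconePointUniqueUpToIso hc'
  have he : ∀ k, colimit.ι D k ≫ e.hom = c'.ι.app k := fun k =>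
    IsColimit.comp_coconePointUniqueUpToIso_hom (colimit.isColimit D) hc' k
  have h2 : (c'.ι.app i).hom.app (op U) x = (c'.ι.app j).hom.app (op U) y := by
    rw [← he, ← he]
    change e.hom.hom.app (op U) ((colimit.ι D i).hom.app (op U) x) =
      e.hom.hom.app (op U) ((colimit.ι D j).hom.app (op U) y)
    rw [h]
  have h3 : (toSheafify J E.pt).app (op U) ((E.ι.app i).app (op U) x) =
      (toSheafify J E.pt).app (op U) ((E.ι.app j).app (op U) y) := by
    have e1 := Sheaf.sheafifyCocone_ι_app_val E i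
    have e2 := Sheaf.sheafifyCocone_ι_app_val E j
    have e1' := ConcreteCategory.congr_hom (congr_app e1 (op U)) x
    have e2' := ConcreteCategory.congr_hom (congr_app e2 (op U)) y
    simp only [NatTrans.comp_app] at e1' e2'
    exact (e1'.symm.trans h2).trans e2'
  refine ⟨_, Presheaf.equalizerSieve_mem J (toSheafify J E.pt) (X := op U) _ _ h3, ?_⟩
  intro V f hf
  have h4 : E.pt.map f.op ((E.ι.app i).app (op U) x) = E.pt.map f.op ((E.ι.app j).app (op U) y) :=
    hf
  rw [← NatTrans.naturality_apply, ← NatTrans.naturality_apply] at h4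
  have hV := isColimitOfPreserves ((evaluation Cᵒᵖ (Type u)).obj (op V)) hE
  obtain ⟨k, a, b, hk⟩ := (Types.FilteredColimit.isColimit_eq_iff _ hV).1 h4
  exact ⟨k, a, b, hk⟩

/-- A locally exhaustive family of sections gives a cover by the `eps`. -/
lemma isCover_sections_of_locally {X : Sh J} (p : ∀ U : C, X.obj.obj (op U) → Prop)
    (hp : ∀ (U : C) (x : X.obj.obj (op U)), ∃ S ∈ J U, ∀ ⦃V : C⦄ (f : V ⟶ U), S f →
      p V (X.obj.map f.op x)) :
    IsCover (fun z : {z : Σ U : C, X.obj.obj (op U) // p z.1 z.2} =>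
      (secEquiv X z.1.1).symm z.1.2) := by
  intro U s
  obtain ⟨S, hS, hS'⟩ := hp U s
  refine J.superset_covering ?_ hS
  intro V f hf
  refine ⟨⟨⟨V, X.obj.map f.op s⟩, hS' f hf⟩, epsUnit J V, ?_⟩
  rw [← secEquiv_apply]
  simp

/-- (FC2), morphisms: two morphisms into stages of a filtered diagram of sheaves which agree in the
colimit agree, locally on the source, at a later stage. -/
lemma exists_cover_eq_of_comp_ι_eq {X : Sh J} {i j : I} (f : X ⟶ D.obj i) (g : X ⟶ D.obj j)
    (h : f ≫ colimit.ι D i = g ≫ colimit.ι D j) :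
    ∃ (Λ : Type u) (F : Λ → Sh J) (π : ∀ l, F l ⟶ X), IsCover π ∧
      ∀ l, ∃ (k : I) (a : i ⟶ k) (b : j ⟶ k), π l ≫ f ≫ D.map a = π l ≫ g ≫ D.map b := by
  let p : ∀ U : C, X.obj.obj (op U) → Prop := fun V y => ∃ (k : I) (a : i ⟶ k) (b : j ⟶ k),
    (D.map a).hom.app (op V) (f.hom.app (op V) y) = (D.map b).hom.app (op V) (g.hom.app (op V) y)
  have hp : ∀ (U : C) (x : X.obj.obj (op U)), ∃ S ∈ J U, ∀ ⦃V : C⦄ (f : V ⟶ U), S f →
      p V (X.obj.map f.op x) := by
    intro U x
    have hx : (colimit.ι D i).hom.app (op U) (f.hom.app (op U) x) =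
        (colimit.ι D j).hom.app (op U) (g.hom.app (op U) x) :=
      ConcreteCategory.congr_hom (congr_app ((sheafToPresheaf J _).congr_map h) (op U)) x
    obtain ⟨S, hS, hS'⟩ := exists_sieve_map_eq_of_ι_eq D _ _ hx
    refine ⟨S, hS, fun V t ht => ?_⟩
    obtain ⟨k, a, b, hk⟩ := hS' t ht
    refine ⟨k, a, b, ?_⟩
    rw [NatTrans.naturality_apply f.hom, NatTrans.naturality_apply g.hom]
    exact hk
  refine ⟨_, _, _, isCover_sections_of_locally p hp, ?_⟩
  rintro ⟨⟨V, y⟩, k, a, b, hk⟩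
  refine ⟨k, a, b, ?_⟩
  dsimp only
  rw [secEquiv_symm_comp, secEquiv_symm_comp]
  congr 1

omit [SmallCategory I] [IsFiltered I] in
/-- In a filtered category, finitely many "eventually true" properties of a cospan of arrows out of
`i`, `j` hold simultaneously at some stage. -/
lemma exists_common_stage {I : Type*} [Category I] [IsFiltered I] {i j : I} {Λ : Type*}
    (s : Finset Λ) (P : Λ → ∀ k : I, (i ⟶ k) → (j ⟶ k) → Prop)
    (hmono : ∀ l k (a : i ⟶ k) (b : j ⟶ k) k' (c : k ⟶ k'), P l k a b → P l k' (a ≫ c) (b ≫ c))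
    (hex : ∀ l ∈ s, ∃ k a b, P l k a b) : ∃ k a b, ∀ l ∈ s, P l k a b := by
  classical
  induction s using Finset.induction_on with
  | empty => exact ⟨IsFiltered.max i j, IsFiltered.leftToMax i j, IsFiltered.rightToMax i j, by simp⟩
  | insert l₀ s _ ih =>
    obtain ⟨k, a, b, hk⟩ := ih fun l hl => hex l (Finset.mem_insert_of_mem hl)
    obtain ⟨k₀, a₀, b₀, hk₀⟩ := hex l₀ (Finset.mem_insert_self _ _)
    obtain ⟨k', c, c₀, h1, h2⟩ := IsFiltered.bowtie a a₀ b b₀
    refine ⟨k', a ≫ c, b ≫ c, fun l hl => ?_⟩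
    rcases Finset.mem_insert.1 hl with rfl | hl
    · rw [h1, h2]; exact hmono _ _ _ _ _ _ hk₀
    · exact hmono _ _ _ _ _ _ (hk l hl)

/-- SGA4 VI 1.23 (i): for quasi-compact `X`, `colim Hom(X, D_i) → Hom(X, colim D)` is injective. -/
lemma exists_map_eq_of_isQC {X : Sh J} (hX : IsQC X) {i j : I} (f : X ⟶ D.obj i)
    (g : X ⟶ D.obj j) (h : f ≫ colimit.ι D i = g ≫ colimit.ι D j) :
    ∃ (k : I) (a : i ⟶ k) (b : j ⟶ k), f ≫ D.map a = g ≫ D.map b := by
  obtain ⟨Λ, F, π, hπ, hloc⟩ := exists_cover_eq_of_comp_ι_eq D f g h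
  obtain ⟨s, hs⟩ := IsQC.exists_finset hX π hπ
  obtain ⟨k, a, b, hk⟩ := exists_common_stage s
    (fun l k a b => π l ≫ f ≫ D.map a = π l ≫ g ≫ D.map b)
    (fun l k a b k' c hl => by
      have := congr(($hl) ≫ D.map c)
      simpa only [Functor.map_comp, Category.assoc] using this)
    (fun l _ => hloc l)
  refine ⟨k, a, b, hs.hom_ext _ _ fun l => ?_⟩
  exact hk l.1 l.2

lemma post_injective_of_isQC {X : Sh J} (hX : IsQC X) :
    Function.Injective (colimit.post D (coyoneda.obj (op X))) :=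
  (post_injective_iff D X).2 fun _ _ f g h => exists_map_eq_of_isQC D hX f g h

end FC

section CokernelPair

variable {X : Sh J} {Λ : Type u} {F : Λ → Sh J} (π : ∀ l, F l ⟶ X)

/-- The map from the coproduct of a finite subfamily. -/
noncomputable def finDesc (s : Finset Λ) : (∐ fun l : s => F l) ⟶ X := Sigma.desc fun l => π l

@[reassoc (attr := simp)]
lemma ι_finDesc (s : Finset Λ) (l : s) : Sigma.ι (fun l : s => F l) l ≫ finDesc π s = π l := by
  simp [finDesc]

lemma finDesc_inl_eq_inr {s t : Finset Λ} (hst : s ≤ t) :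
    finDesc π s ≫ pushout.inl (finDesc π t) (finDesc π t) =
      finDesc π s ≫ pushout.inr (finDesc π t) (finDesc π t) := by
  apply Sigma.hom_ext
  intro l
  have h1 : π l = Sigma.ι (fun l : t => F l) ⟨l.1, hst l.2⟩ ≫ finDesc π t := by simp
  rw [ι_finDesc_assoc, ι_finDesc_assoc, h1, Category.assoc, Category.assoc, pushout.condition]

/-- The diagram of cokernel pairs of the finite subfamilies. -/
noncomputable def cokerPairDiagram : Finset Λ ⥤ Sh J where
  obj s := pushout (finDesc π s) (finDesc π s)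
  map {s t} f := pushout.desc (pushout.inl _ _) (pushout.inr _ _) (finDesc_inl_eq_inr π (leOfHom f))
  map_id s := by
    apply pushout.hom_ext
    · rw [pushout.inl_desc, Category.comp_id]
    · rw [pushout.inr_desc, Category.comp_id]
  map_comp f g := by
    apply pushout.hom_ext
    · rw [pushout.inl_desc, pushout.inl_desc_assoc, pushout.inl_desc]
    · rw [pushout.inr_desc, pushout.inr_desc_assoc, pushout.inr_desc]

/-- First inclusion into the cokernel pair. -/
noncomputable def cpInl (s : Finset Λ) : X ⟶ (cokerPairDiagram π).obj s := pushout.inl _ _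

/-- Second inclusion into the cokernel pair. -/
noncomputable def cpInr (s : Finset Λ) : X ⟶ (cokerPairDiagram π).obj s := pushout.inr _ _

@[reassoc]
lemma cpInl_map {s t : Finset Λ} (f : s ⟶ t) :
    cpInl π s ≫ (cokerPairDiagram π).map f = cpInl π t :=
  pushout.inl_desc _ _ _

@[reassoc]
lemma cpInr_map {s t : Finset Λ} (f : s ⟶ t) :
    cpInr π s ≫ (cokerPairDiagram π).map f = cpInr π t :=
  pushout.inr_desc _ _ _

@[reassoc]
lemma finDesc_cpInl (s : Finset Λ) : finDesc π s ≫ cpInl π s = finDesc π s ≫ cpInr π s :=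
  pushout.condition

lemma epi_finDesc_of_cpInl_eq (s : Finset Λ) (e : cpInl π s = cpInr π s) : Epi (finDesc π s) := by
  constructor
  intro Z u v huv
  obtain ⟨d, h1, h2⟩ : ∃ d : (cokerPairDiagram π).obj s ⟶ Z, cpInl π s ≫ d = u ∧ cpInr π s ≫ d = v :=
    ⟨pushout.desc u v huv, pushout.inl_desc _ _ _, pushout.inr_desc _ _ _⟩
  rw [← h1, ← h2, e]

open Classical in
/-- SGA4 VI 1.23 (i), converse: if `colim Hom(X, D_i) → Hom(X, colim D)` is injective for all small
filtered diagrams, then `X` is quasi-compact. -/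
lemma isQC_of_post_injective {X : Sh J}
    (hinj : ∀ (I : Type u) [SmallCategory I] [IsFiltered I] (D : I ⥤ Sh J),
      Function.Injective (colimit.post D (coyoneda.obj (op X)))) : IsQC X := by
  rw [isQC_iff_isCover]
  intro Λ F π hπ
  let Y := cokerPairDiagram π
  have key : cpInl π ∅ ≫ colimit.ι Y ∅ = cpInr π ∅ ≫ colimit.ι Y ∅ := by
    apply hπ.hom_ext
    intro l
    have hle : (∅ : Finset Λ) ≤ {l} := by simp
    rw [← colimit.w Y (homOfLE hle), cpInl_map_assoc, cpInr_map_assoc]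
    have h1 : π l = Sigma.ι (fun l' : ({l} : Finset Λ) => F l') ⟨l, by simp⟩ ≫ finDesc π {l} := by
      simp
    rw [h1, Category.assoc, Category.assoc, finDesc_cpInl_assoc]
  obtain ⟨k, a, b, hk⟩ := (post_injective_iff Y X).1 (hinj _ Y) ∅ ∅ _ _ key
  rw [cpInl_map, cpInr_map] at hk
  refine ⟨k, ?_⟩
  have := epi_finDesc_of_cpInl_eq π k hk
  exact (isCover_iff_epi_sigmaDesc _).2 this

end CokernelPair

section Descent

/-- Descent along an epimorphism of sheaves: a morphism coequalizing the kernel pair factors. -/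
lemma exists_desc_of_epi {X₀ X Z : Sh J} (h : X₀ ⟶ X) [Epi h] (e : X₀ ⟶ Z)
    (he : pullback.fst h h ≫ e = pullback.snd h h ≫ e) : ∃ f : X ⟶ Z, h ≫ f = e := by
  have : EffectiveEpi h := by
    rw [← isRegularEpi_iff_effectiveEpi]
    exact IsRegularEpiCategory.regularEpiOfEpi h
  have key : ∀ {W : Sh J} (g₁ g₂ : W ⟶ X₀), g₁ ≫ h = g₂ ≫ h → g₁ ≫ e = g₂ ≫ e := by
    intro W g₁ g₂ hg
    have h1 : g₁ = pullback.lift g₁ g₂ hg ≫ pullback.fst h h := (pullback.lift_fst _ _ _).symm
    have h2 : g₂ = pullback.lift g₁ g₂ hg ≫ pullback.snd h h := (pullback.lift_snd _ _ _).symm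
    rw [h1, Category.assoc, he, ← Category.assoc, ← h2]
  exact ⟨EffectiveEpi.desc h e key, EffectiveEpi.fac h e key⟩

/-- A finite coproduct of quasi-compact objects is quasi-compact. -/
lemma isQC_sigma_of_finite {ι : Type w} [Finite ι] (F : ι → Sh J) [HasCoproduct F]
    (hF : ∀ i, IsQC (F i)) : IsQC (∐ F) :=
  IsQC.of_finite_cover (Sigma.ι F) (isCover_cofan_inj _ (coproductIsCoproduct F)) hF

end Descent

section Lift

variable {I : Type u} [SmallCategory I] [IsFiltered I] (D : I ⥤ Sh J)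

omit [IsFiltered I] in
/-- (FC1): a morphism to a filtered colimit lifts, locally on quasi-compact generators, to a
stage. -/
lemma exists_cover_lift (hE : CoversAll {K : Sh J | IsQC K}) {X : Sh J} (φ : X ⟶ colimit D) :
    ∃ (Λ : Type u) (G : Λ → Sh J) (π : ∀ l, G l ⟶ X), IsCover π ∧ (∀ l, IsQC (G l)) ∧
      ∀ l, ∃ (i : I) (f : G l ⟶ D.obj i), f ≫ colimit.ι D i = π l ≫ φ := by
  have h1 : IsCover (fun i => colimit.ι D i) :=
    isCover_of_hom_ext _ fun Z a b hab => colimit.hom_ext hab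
  have h2 := h1.pullback_fst φ
  choose κ G γ hG hγ using fun i => hE (pullback φ (colimit.ι D i))
  refine ⟨Σ i, κ i, fun x => G x.1 x.2, _, h2.comp γ hγ, fun x => hG x.1 x.2, ?_⟩
  rintro ⟨i, k⟩
  refine ⟨i, γ i k ≫ pullback.snd _ _, ?_⟩
  simp only [Category.assoc, pullback.condition]

/-- SGA4 VI 1.23 (ii): for coherent `X` (in a topos with quasi-compact generators),
`colim Hom(X, D_i) → Hom(X, colim D)` is surjective. -/
lemma exists_lift_of_isCoherent (hE : CoversAll {K : Sh J | IsQC K}) {X : Sh J}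
    (hX : IsCoherent X) (φ : X ⟶ colimit D) :
    ∃ (i : I) (f : X ⟶ D.obj i), f ≫ colimit.ι D i = φ := by
  classical
  obtain ⟨Λ, G, π, hπ, hG, hlift⟩ := exists_cover_lift D hE φ
  obtain ⟨s, hs⟩ := IsQC.exists_finset hX.1 π hπ
  choose idx fl hfl using hlift
  obtain ⟨k₀, hk₀⟩ := IsFiltered.sup_objs_exists (s.image idx)
  have hc : ∀ l : s, Nonempty (idx l ⟶ k₀) := fun l => hk₀ (Finset.mem_image_of_mem idx l.2)
  let c : ∀ l : s, idx l ⟶ k₀ := fun l => (hc l).some
  let h : (∐ fun l : s => G l) ⟶ X := finDesc π s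
  have hepi : Epi h := (isCover_iff_epi_sigmaDesc _).1 hs
  let f₀ : (∐ fun l : s => G l) ⟶ D.obj k₀ := Sigma.desc fun l => fl l ≫ D.map (c l)
  have hf₀ : f₀ ≫ colimit.ι D k₀ = h ≫ φ := by
    apply Sigma.hom_ext
    intro l
    simp only [f₀, h, colimit.ι_desc_assoc, Cofan.mk_ι_app, Category.assoc, colimit.w, hfl,
      ι_finDesc_assoc]
  have hX₀ : IsQC (∐ fun l : s => G l) := isQC_sigma_of_finite _ fun l => hG l
  have hR : IsQC (pullback h h) := hX.2 _ _ h h hX₀ hX₀
  obtain ⟨k, a, b, hk⟩ := exists_map_eq_of_isQC D hR (pullback.fst h h ≫ f₀)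
    (pullback.snd h h ≫ f₀) (by
      rw [Category.assoc, Category.assoc, hf₀, pullback.condition_assoc])
  let c' : k₀ ⟶ IsFiltered.coeq a b := a ≫ IsFiltered.coeqHom a b
  have hc' : pullback.fst h h ≫ f₀ ≫ D.map c' = pullback.snd h h ≫ f₀ ≫ D.map c' := by
    have h1 : c' = b ≫ IsFiltered.coeqHom a b := IsFiltered.coeq_condition a b
    have := congr(($hk) ≫ D.map (IsFiltered.coeqHom a b))
    simp only [Category.assoc, ← Functor.map_comp] at this
    rw [← h1] at this
    exact this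
  obtain ⟨f, hf⟩ := exists_desc_of_epi h (f₀ ≫ D.map c') hc'
  refine ⟨_, f, ?_⟩
  rw [← cancel_epi h, ← Category.assoc, hf, Category.assoc, colimit.w, hf₀]

/-- SGA4 VI 1.23 (ii): a coherent object of a topos with quasi-compact generators is finitely
presentable. -/
lemma isFP_of_isCoherent (hE : HasQCGenerators J) {X : Sh J} (hX : IsCoherent X) : IsFP X := by
  intro I _ _ D
  exact ⟨post_injective_of_isQC D hX.1,
    (post_surjective_iff D X).2 (exists_lift_of_isCoherent D (coversAll_qc_iff.2 hE) hX)⟩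

end Lift

section Closure

/-- Injectivity half of finite presentability, elementwise. -/
def FPInj (X : Sh J) : Prop :=
  ∀ (I : Type u) [SmallCategory I] [IsFiltered I] (D : I ⥤ Sh J) (i j : I) (f : X ⟶ D.obj i)
    (g : X ⟶ D.obj j), f ≫ colimit.ι D i = g ≫ colimit.ι D j →
      ∃ (k : I) (a : i ⟶ k) (b : j ⟶ k), f ≫ D.map a = g ≫ D.map b

/-- Surjectivity half of finite presentability, elementwise. -/
def FPSurj (X : Sh J) : Prop :=
  ∀ (I : Type u) [SmallCategory I] [IsFiltered I] (D : I ⥤ Sh J) (φ : X ⟶ colimit D),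
    ∃ (i : I) (f : X ⟶ D.obj i), f ≫ colimit.ι D i = φ

lemma isFP_iff (X : Sh J) : IsFP X ↔ FPInj X ∧ FPSurj X := by
  constructor
  · intro h
    exact ⟨fun I _ _ D => (post_injective_iff D X).1 (h I D).1,
      fun I _ _ D => (post_surjective_iff D X).1 (h I D).2⟩
  · rintro ⟨h1, h2⟩ I _ _ D
    exact ⟨(post_injective_iff D X).2 (h1 I D), (post_surjective_iff D X).2 (h2 I D)⟩

lemma isQC_iff_fpInj (X : Sh J) : IsQC X ↔ FPInj X := by
  constructor
  · intro hX I _ _ D i j f g h
    exact exists_map_eq_of_isQC D hX f g h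
  · intro h
    exact isQC_of_post_injective fun I _ _ D => (post_injective_iff D X).2 (h I D)

/-- Same-stage variant of `FPInj`. -/
lemma FPInj.exists_map_eq {X : Sh J} (hX : FPInj X) {I : Type u} [SmallCategory I] [IsFiltered I]
    (D : I ⥤ Sh J) {i : I} (f g : X ⟶ D.obj i) (h : f ≫ colimit.ι D i = g ≫ colimit.ι D i) :
    ∃ (k : I) (c : i ⟶ k), f ≫ D.map c = g ≫ D.map c := by
  obtain ⟨k, a, b, hk⟩ := hX I D i i f g h
  refine ⟨IsFiltered.coeq a b, a ≫ IsFiltered.coeqHom a b, ?_⟩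
  have h1 : a ≫ IsFiltered.coeqHom a b = b ≫ IsFiltered.coeqHom a b := IsFiltered.coeq_condition a b
  have := congr(($hk) ≫ D.map (IsFiltered.coeqHom a b))
  simp only [Category.assoc, ← Functor.map_comp] at this
  rw [← h1] at this
  exact this

lemma FPInj.of_epi {X Y : Sh J} (p : X ⟶ Y) [Epi p] (hX : FPInj X) : FPInj Y := by
  intro I _ _ D i j f g h
  obtain ⟨k, a, b, hk⟩ := hX I D i j (p ≫ f) (p ≫ g) (by simp only [Category.assoc, h])
  refine ⟨k, a, b, ?_⟩
  rw [← cancel_epi p]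
  simpa only [Category.assoc] using hk

/-- A coequalizer of finitely presentable objects is finitely presentable. -/
lemma isFP_coequalizer {X₀ X₁ : Sh J} (a b : X₁ ⟶ X₀) (h₀ : IsFP X₀) (h₁ : FPInj X₁) :
    IsFP (coequalizer a b) := by
  rw [isFP_iff] at h₀ ⊢
  refine ⟨h₀.1.of_epi (coequalizer.π a b), ?_⟩
  intro I _ _ D φ
  obtain ⟨i, f₀, hf₀⟩ := h₀.2 I D (coequalizer.π a b ≫ φ)
  obtain ⟨k, c, hc⟩ := h₁.exists_map_eq D (a ≫ f₀) (b ≫ f₀) (by
    rw [Category.assoc, Category.assoc, hf₀, coequalizer.condition_assoc])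
  refine ⟨k, coequalizer.desc (f₀ ≫ D.map c) (by simpa only [Category.assoc] using hc), ?_⟩
  rw [← cancel_epi (coequalizer.π a b), coequalizer.π_desc_assoc, Category.assoc, colimit.w, hf₀]

/-- A retract of a finitely presentable object is finitely presentable. -/
lemma isFP_of_retract {X Q : Sh J} (i : X ⟶ Q) (p : Q ⟶ X) (hip : i ≫ p = 𝟙 X) (hQ : IsFP Q) :
    IsFP X := by
  rw [isFP_iff] at hQ ⊢
  have : Epi p := ⟨fun u v huv => by
    have := congr(i ≫ $huv)
    simpa only [← Category.assoc, hip, Category.id_comp] using this⟩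
  refine ⟨hQ.1.of_epi p, ?_⟩
  intro I _ _ D φ
  obtain ⟨k, f', hf'⟩ := hQ.2 I D (p ≫ φ)
  exact ⟨k, i ≫ f', by rw [Category.assoc, hf', ← Category.assoc, hip, Category.id_comp]⟩

/-- A retract of a coherent object is coherent. -/
lemma isCoherent_of_retract {X Q : Sh J} (i : X ⟶ Q) (p : Q ⟶ X) (hip : i ≫ p = 𝟙 X)
    (hQ : IsCoherent Q) : IsCoherent X := by
  have : Epi p := ⟨fun u v huv => by
    have := congr(i ≫ $huv)
    simpa only [← Category.assoc, hip, Category.id_comp] using this⟩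
  have : Mono i := ⟨fun u v huv => by
    have := congr($huv ≫ p)
    simpa only [Category.assoc, hip, Category.comp_id] using this⟩
  exact ⟨IsQC.of_epi p hQ.1, IsQS.of_mono i hQ.2⟩

/-- A coproduct of quasi-separated objects is quasi-separated. -/
lemma isQS_sigma {ι : Type w} (F : ι → Sh J) [HasCoproduct F] (hF : ∀ i, IsQS (F i)) :
    IsQS (∐ F) :=
  isQS_of_cover (Sigma.ι F) (isCover_cofan_inj _ (coproductIsCoproduct F)) hF
    (fun i => isQCHom_cofan_inj _ (coproductIsCoproduct F) i)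

/-- A finite coproduct of coherent objects is coherent. -/
lemma isCoherent_sigma_of_finite {ι : Type w} [Finite ι] (F : ι → Sh J) [HasCoproduct F]
    (hF : ∀ i, IsCoherent (F i)) : IsCoherent (∐ F) :=
  ⟨isQC_sigma_of_finite F fun i => (hF i).1, isQS_sigma F fun i => (hF i).2⟩

end Closure

section CoeqDiagram

variable {X₀ : Sh J} {N : Type u} {W : N → Sh J} (l r : ∀ ν, W ν ⟶ X₀)

lemma finDesc_coeqπ_le {B B' : Finset N} (hBB' : B ≤ B') :
    finDesc l B ≫ coequalizer.π (finDesc l B') (finDesc r B') =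
      finDesc r B ≫ coequalizer.π (finDesc l B') (finDesc r B') := by
  apply Sigma.hom_ext
  intro ν
  have h1 : l ν = Sigma.ι (fun ν : B' => W ν) ⟨ν.1, hBB' ν.2⟩ ≫ finDesc l B' := by simp
  have h2 : r ν = Sigma.ι (fun ν : B' => W ν) ⟨ν.1, hBB' ν.2⟩ ≫ finDesc r B' := by simp
  rw [ι_finDesc_assoc, ι_finDesc_assoc, h1, h2, Category.assoc, Category.assoc,
    coequalizer.condition]

/-- The diagram of coequalizers of the finite subfamilies of a family of parallel pairs. -/
noncomputable def coeqDiagram : Finset N ⥤ Sh J where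
  obj B := coequalizer (finDesc l B) (finDesc r B)
  map {B B'} f := coequalizer.desc (coequalizer.π _ _) (finDesc_coeqπ_le l r (leOfHom f))
  map_id B := by
    apply coequalizer.hom_ext
    rw [coequalizer.π_desc, Category.comp_id]
  map_comp f g := by
    apply coequalizer.hom_ext
    rw [coequalizer.π_desc, coequalizer.π_desc_assoc, coequalizer.π_desc]

/-- The projection to the coequalizer. -/
noncomputable def cqπ (B : Finset N) : X₀ ⟶ (coeqDiagram l r).obj B := coequalizer.π _ _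

instance (B : Finset N) : Epi (cqπ l r B) :=
  inferInstanceAs (Epi (coequalizer.π (finDesc l B) (finDesc r B)))

@[reassoc]
lemma cqπ_map {B B' : Finset N} (f : B ⟶ B') :
    cqπ l r B ≫ (coeqDiagram l r).map f = cqπ l r B' :=
  coequalizer.π_desc _ _

lemma l_cqπ {B : Finset N} {ν : N} (hν : ν ∈ B) : l ν ≫ cqπ l r B = r ν ≫ cqπ l r B := by
  have h1 : l ν = Sigma.ι (fun ν : B => W ν) ⟨ν, hν⟩ ≫ finDesc l B := by simp
  have h2 : r ν = Sigma.ι (fun ν : B => W ν) ⟨ν, hν⟩ ≫ finDesc r B := by simp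
  rw [h1, h2, Category.assoc, Category.assoc]
  congr 1
  exact coequalizer.condition _ _

lemma exists_cqDesc (B : Finset N) {Z : Sh J} (e : X₀ ⟶ Z) (he : ∀ ν ∈ B, l ν ≫ e = r ν ≫ e) :
    ∃ d : (coeqDiagram l r).obj B ⟶ Z, cqπ l r B ≫ d = e := by
  have h : finDesc l B ≫ e = finDesc r B ≫ e := by
    apply Sigma.hom_ext
    intro ν
    rw [ι_finDesc_assoc, ι_finDesc_assoc]
    exact he ν ν.2
  exact ⟨coequalizer.desc e h, coequalizer.π_desc _ _⟩

end CoeqDiagram

section Retract

open Classical in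
/-- SGA4 VI 1.24: a finitely presentable object is a retract of a coequalizer of a pair of arrows
between coherent objects. -/
lemma exists_retract_coequalizer_of_isFP (hE : CoversAll {K : Sh J | IsCoherent K}) {X : Sh J}
    (hX : IsFP X) :
    ∃ (X₀ X₁ : Sh J) (a b : X₁ ⟶ X₀) (i : X ⟶ coequalizer a b) (p : coequalizer a b ⟶ X),
      IsCoherent X₀ ∧ IsCoherent X₁ ∧ i ≫ p = 𝟙 X := by
  rw [isFP_iff] at hX
  have hqc : IsQC X := (isQC_iff_fpInj X).2 hX.1
  obtain ⟨Λ, _, G, π, hG, hπ⟩ := hE.exists_finite_cover hqc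
  let h : (∐ G) ⟶ X := Sigma.desc π
  have hepi : Epi h := (isCover_iff_epi_sigmaDesc π).1 hπ
  obtain ⟨N, W, ρ, hW, hρ⟩ := hE (pullback h h)
  let l : ∀ ν, W ν ⟶ ∐ G := fun ν => ρ ν ≫ pullback.fst h h
  let r : ∀ ν, W ν ⟶ ∐ G := fun ν => ρ ν ≫ pullback.snd h h
  have hlr : ∀ ν, l ν ≫ h = r ν ≫ h := fun ν => by
    simp only [l, r, Category.assoc, pullback.condition]
  let Q := coeqDiagram l r
  choose p hp using fun B : Finset N => exists_cqDesc l r B h (fun ν _ => hlr ν)
  obtain ⟨φ, hφ⟩ := exists_desc_of_epi h (cqπ l r ∅ ≫ colimit.ι Q ∅) (by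
    apply hρ.hom_ext
    intro ν
    have hle : (∅ : Finset N) ≤ {ν} := by simp
    rw [← colimit.w Q (homOfLE hle), cqπ_map_assoc]
    have h3 : l ν ≫ cqπ l r {ν} = r ν ≫ cqπ l r {ν} := l_cqπ l r (B := {ν}) (ν := ν) (by simp)
    have h4 : ρ ν ≫ pullback.fst h h ≫ cqπ l r {ν} ≫ colimit.ι Q {ν} =
        (l ν ≫ cqπ l r {ν}) ≫ colimit.ι Q {ν} := by simp only [l, Category.assoc]
    have h5 : ρ ν ≫ pullback.snd h h ≫ cqπ l r {ν} ≫ colimit.ι Q {ν} =
        (r ν ≫ cqπ l r {ν}) ≫ colimit.ι Q {ν} := by simp only [r, Category.assoc]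
    rw [h4, h5, h3])
  obtain ⟨B, i, hi⟩ := hX.2 _ Q φ
  have hnat : ∀ (B₁ B₂ : Finset N) (f : B₁ ⟶ B₂), Q.map f ≫ p B₂ = p B₁ := by
    intro B₁ B₂ f
    rw [← cancel_epi (cqπ l r B₁), cqπ_map_assoc, hp, hp]
  let cc : Cocone Q :=
    { pt := X
      ι := { app := p
             naturality := fun B₁ B₂ f => (hnat B₁ B₂ f).trans (Category.comp_id _).symm } }
  let ψ : colimit Q ⟶ X := colimit.desc Q cc
  have hψ : φ ≫ ψ = 𝟙 X := by
    rw [← cancel_epi h, ← Category.assoc, hφ, Category.assoc, colimit.ι_desc, Category.comp_id]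
    exact hp ∅
  have hfinal : i ≫ p B = 𝟙 X := by
    have : p B = colimit.ι Q B ≫ ψ := (colimit.ι_desc cc B).symm
    rw [this, ← Category.assoc, hi, hψ]
  exact ⟨∐ G, ∐ fun ν : B => W ν, finDesc l B, finDesc r B, i, p B,
    isCoherent_sigma_of_finite G hG, isCoherent_sigma_of_finite _ fun ν => hW ν, hfinal⟩

/-- SGA4 VI 1.24: characterization of finitely presentable objects of a topos with coherent
generators. -/
lemma isFP_iff_retract_coequalizer (hE : HasCoherentGenerators J) (X : Sh J) :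
    IsFP X ↔ ∃ (X₀ X₁ : Sh J) (a b : X₁ ⟶ X₀) (i : X ⟶ coequalizer a b)
      (p : coequalizer a b ⟶ X), IsCoherent X₀ ∧ IsCoherent X₁ ∧ i ≫ p = 𝟙 X := by
  have hE' := coversAll_coherent_iff.2 hE
  have hqcgen : HasQCGenerators J :=
    coversAll_qc_iff.1 (hE'.mono fun K hK => hK.1)
  constructor
  · exact exists_retract_coequalizer_of_isFP hE'
  · rintro ⟨X₀, X₁, a, b, i, p, h₀, h₁, hip⟩
    exact isFP_of_retract i p hip (isFP_coequalizer a b (isFP_of_isCoherent hqcgen h₀)
      ((isQC_iff_fpInj X₁).1 h₁.1))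

end Retract

end Groth.Agent.H28
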