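import Groth.Agent.H28.ToposAlg
import Groth.Agent.H28.ToposEps
import Mathlib.CategoryTheory.Sites.Pullback

/-!
# Inverse image functors of morphisms of topoi and finiteness conditions (SGA4 VI §3)
-/

set_option autoImplicit false
open CategoryTheory CategoryTheory.Limits Opposite
universe v u w w'
open ToposFin

namespace Groth.Agent.H28

variable {C D : Type u} [SmallCategory C] [SmallCategory D]
  {J : GrothendieckTopology C} {K : GrothendieckTopology D}

/-- A left adjoint preserves covers. -/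
lemma IsCover.map_of_adjunction {F : Sh K ⥤ Sh J} {R : Sh J ⥤ Sh K} (adj : F ⊣ R)
    {ι : Type w} {X : Sh K} {G : ι → Sh K} {π : ∀ i, G i ⟶ X} (hπ : IsCover π) :
    IsCover (fun i => F.map (π i)) := by
  rw [isCover_iff_hom_ext]
  intro Z a b hab
  apply (adj.homEquiv X Z).injective
  apply hπ.hom_ext
  intro i
  rw [← adj.homEquiv_naturality_left, ← adj.homEquiv_naturality_left, hab i]

/-- If `F` sends members of a generating class of quasi-compact objects to quasi-compact objects, it
preserves quasi-compact objects. -/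
lemma isQC_map_of_coversAll {F : Sh K ⥤ Sh J} {R : Sh J ⥤ Sh K} (adj : F ⊣ R)
    {S : Set (Sh K)} (hS : CoversAll S) (h : ∀ X ∈ S, IsQC (F.obj X)) {X : Sh K} (hX : IsQC X) :
    IsQC (F.obj X) := by
  obtain ⟨ι, _, G, π, hG, hπ⟩ := hS.exists_finite_cover hX
  exact IsQC.of_finite_cover _ (hπ.map_of_adjunction adj) (fun i => h _ (hG i))


/-- The inverse image of the sheaf associated to `X` along a continuous functor `G` is the sheaf
associated to `G X`. -/
lemma nonempty_iso_map_eps (G : C ⥤ D) [Functor.IsContinuous G J K] (F : Sh J ⥤ Sh K)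
    (adj : F ⊣ G.sheafPushforwardContinuous (Type u) J K) (X : C) :
    Nonempty (F.obj (eps J X) ≅ eps K (G.obj X)) := by
  let Θ : ∀ H : Sh K, (F.obj (eps J X) ⟶ H) ≃ (eps K (G.obj X) ⟶ H) := fun H =>
    (adj.homEquiv _ _).trans
      ((secEquiv ((G.sheafPushforwardContinuous (Type u) J K).obj H) X).trans
        (secEquiv H (G.obj X)).symm)
  have hΘ : ∀ {H H' : Sh K} (f : F.obj (eps J X) ⟶ H) (h : H ⟶ H'),
      Θ H' (f ≫ h) = Θ H f ≫ h := by
    intro H H' f h
    change (secEquiv H' (G.obj X)).symm (secEquiv _ X (adj.homEquiv _ _ (f ≫ h))) =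
      (secEquiv H (G.obj X)).symm (secEquiv _ X (adj.homEquiv _ _ f)) ≫ h
    rw [secEquiv_symm_comp, adj.homEquiv_naturality_right, secEquiv_comp]
    rfl
  refine ⟨⟨(Θ _).symm (𝟙 _), Θ _ (𝟙 _), ?_, ?_⟩⟩
  · apply (Θ _).injective
    rw [hΘ, Equiv.apply_symm_apply, Category.id_comp]
  · rw [← hΘ, Category.id_comp, Equiv.apply_symm_apply]

end Groth.Agent.H28
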