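import Groth.Agent.H28.ToposFilt
import Mathlib.CategoryTheory.Presentable.StrongGenerator
import Mathlib.CategoryTheory.Presentable.Finite

/-!
# Finite presentability in sheaf toposes and Mathlib's locally presentable categories
-/

set_option autoImplicit false
open CategoryTheory CategoryTheory.Limits Opposite Cardinal
universe u w w'
open ToposFin

namespace Groth.Agent.H28

attribute [local instance] fact_isRegular_aleph0

variable {C : Type u} [SmallCategory C] {J : GrothendieckTopology C}

lemma isFinitelyPresentable_of_isFP {X : Sh J} (h : IsFP X) : IsFinitelyPresentable.{u} X := by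
  rw [isFinitelyPresentable_iff_preservesFilteredColimitsOfSize]
  refine ⟨fun I _ _ => ⟨fun {D} => ?_⟩⟩
  have : IsIso (colimit.post D (coyoneda.obj (op X))) := (isIso_iff_bijective _).2 (h I D)
  exact preservesColimit_of_isIso_post _ _

lemma isFP_of_isFinitelyPresentable {X : Sh J} (h : IsFinitelyPresentable.{u} X) : IsFP X := by
  rw [isFP_iff]
  refine ⟨fun I _ _ D i j f g hfg => ?_, fun I _ _ D φ => ?_⟩
  · exact IsFinitelyPresentable.exists_eq_of_isColimit (colimit.isColimit D) f g hfg
  · exact IsFinitelyPresentable.exists_hom_of_isColimit (colimit.isColimit D) φ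

lemma isFP_iff_isFinitelyPresentable (X : Sh J) : IsFP X ↔ IsFinitelyPresentable.{u} X :=
  ⟨isFinitelyPresentable_of_isFP, isFP_of_isFinitelyPresentable⟩

/-- Every epimorphism of sheaves of sets is extremal. -/
lemma extremalEpi_of_epi {X Y : Sh J} (p : X ⟶ Y) [Epi p] : ExtremalEpi p where
  isIso {Z} q i fac _ := by
    have : Epi i := epi_of_epi_fac fac
    exact isIso_of_mono_of_epi i

/-- A topos with coherent generators and quasi-compact generators has a small strong generator
consisting of coherent objects. -/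
lemma exists_small_strongGenerator (hE : CoversAll {K : Sh J | IsCoherent K}) :
    ∃ (P : ObjectProperty (Sh J)) (_ : ObjectProperty.Small.{u} P), P.IsStrongGenerator ∧
      ∀ K, P K → IsCoherent K := by
  choose Λ G π hG hπ using fun U : C => hE (eps J U)
  refine ⟨ObjectProperty.ofObj (fun x : Σ U : C, Λ U => G x.1 x.2), inferInstance, ?_, ?_⟩
  · apply ObjectProperty.IsStrongGenerator.mk_of_exists_extremalEpi.{u}
    intro X
    have hcov := (isCover_eps_sections X).comp (fun x : Σ U : C, X.obj.obj (op U) => π x.1)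
      (fun x => hπ x.1)
    let s : (Σ x : Σ U : C, X.obj.obj (op U), Λ x.1) → Sh J := fun y => G y.1.1 y.2
    have : Epi (Sigma.desc (f := s) fun y => π y.1.1 y.2 ≫ (secEquiv X y.1.1).symm y.1.2) :=
      (isCover_iff_epi_sigmaDesc _).1 hcov
    exact ⟨_, s, fun y => ObjectProperty.ofObj_apply (fun x : Σ U : C, Λ U => G x.1 x.2)
      (⟨y.1.1, y.2⟩ : Σ U : C, Λ U), _, coproductIsCoproduct s,
      Sigma.desc fun y => π y.1.1 y.2 ≫ (secEquiv X y.1.1).symm y.1.2, extremalEpi_of_epi _⟩
  · rintro K ⟨x⟩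
    exact hG x.1 x.2

/-- In a topos with coherent generators, every object is a small filtered colimit of finitely
presentable objects. -/
lemma exists_filtered_colimit_isFP (hE : CoversAll {K : Sh J | IsCoherent K}) (X : Sh J) :
    ∃ (I : Type u) (_ : SmallCategory I) (_ : IsFiltered I) (D : I ⥤ Sh J),
      (∀ i, IsFP (D.obj i)) ∧ Nonempty (X ≅ colimit D) := by
  obtain ⟨P, _, hS₁, hcoh⟩ := exists_small_strongGenerator hE
  have hqcgen : HasQCGenerators J := coversAll_qc_iff.1 (hE.mono fun K hK => hK.1)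
  have hS₂ : P ≤ isCardinalPresentable (Sh J) (ℵ₀ : Cardinal.{u}) := fun K hK =>
    isFinitelyPresentable_of_isFP (isFP_of_isCoherent hqcgen (hcoh K hK))
  have hdense := hS₁.isDense_colimitsCardinalClosure_ι hS₂
  have hgen := IsCardinalFilteredGenerator.of_isDense_ι (P.colimitsCardinalClosure ℵ₀) ℵ₀
    (P.colimitsCardinalClosure_le_isCardinalPresentable hS₂)
  obtain ⟨I, _, hI, ⟨p⟩⟩ := hgen.exists_colimitsOfShape X
  have : IsFiltered I := (isCardinalFiltered_aleph0_iff I).1 hI
  refine ⟨I, inferInstance, inferInstance, p.diag, fun i => ?_,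
    ⟨p.isColimit.coconePointUniqueUpToIso (colimit.isColimit p.diag)⟩⟩
  exact isFP_of_isFinitelyPresentable (hgen.le_isCardinalPresentable _ (p.prop_diag_obj i))

/-- Reindexing a cover along an equivalence. -/
lemma IsCover.comp_equiv {ι : Type w} {κ : Type w'} {X : Sh J} {F : ι → Sh J} {π : ∀ i, F i ⟶ X}
    (hπ : IsCover π) (e : κ ≃ ι) : IsCover (fun k : κ => π (e k)) := by
  rw [isCover_iff_hom_ext]
  intro Z a b hab
  apply hπ.hom_ext
  intro i
  have := hab (e.symm i)
  rwa [e.apply_symm_apply] at this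

/-- A quasi-compact object has a cover indexed by `Fin n` by members of a generating class. -/
lemma CoversAll.exists_fin_cover {S : Set (Sh J)} (hS : CoversAll S) {X : Sh J} (hX : IsQC X) :
    ∃ (n : ℕ) (F : Fin n → Sh J) (π : ∀ i, F i ⟶ X), (∀ i, F i ∈ S) ∧ IsCover π := by
  obtain ⟨Λ, _, G, π, hG, hπ⟩ := hS.exists_finite_cover hX
  obtain ⟨n, ⟨e⟩⟩ := Finite.exists_equiv_fin Λ
  exact ⟨n, fun k => G (e.symm k), fun k => π (e.symm k), fun k => hG _, hπ.comp_equiv e.symm⟩

/-- SGA4 VI 2.1-type statement: if a generating class of quasi-compact objects is closed under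
isomorphisms and finite colimits, then it contains every coherent object. -/
lemma mem_of_isCoherent {S : Set (Sh J)} (hqc : ∀ K ∈ S, IsQC K)
    (hiso : ∀ ⦃K L : Sh J⦄, K ∈ S → Nonempty (K ≅ L) → L ∈ S) (hS : CoversAll S)
    (hcolim : ∀ (K : Type) [SmallCategory K] [FinCategory K] (D : K ⥤ Sh J),
      (∀ k, D.obj k ∈ S) → colimit D ∈ S) {X : Sh J} (hX : IsCoherent X) : X ∈ S := by
  obtain ⟨n, G, π, hG, hπ⟩ := hS.exists_fin_cover hX.1
  have hX₀ : (∐ G) ∈ S := hcolim (Discrete (Fin n)) (Discrete.functor G) (fun k => hG k.as)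
  let h : (∐ G) ⟶ X := Sigma.desc π
  have hepi : Epi h := (isCover_iff_epi_sigmaDesc π).1 hπ
  have hR : IsQC (pullback h h) := hX.2 _ _ h h (hqc _ hX₀) (hqc _ hX₀)
  obtain ⟨m, W, ρ, hW, hρ⟩ := hS.exists_fin_cover hR
  have hX₁ : (∐ W) ∈ S := hcolim (Discrete (Fin m)) (Discrete.functor W) (fun k => hW k.as)
  let a : (∐ W) ⟶ ∐ G := Sigma.desc fun k => ρ k ≫ pullback.fst h h
  let b : (∐ W) ⟶ ∐ G := Sigma.desc fun k => ρ k ≫ pullback.snd h h
  have hab : a ≫ h = b ≫ h := by
    apply Sigma.hom_ext
    intro k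
    simp only [a, b, colimit.ι_desc_assoc, Cofan.mk_ι_app, Category.assoc, pullback.condition]
  have hQ : coequalizer a b ∈ S := hcolim WalkingParallelPair (parallelPair a b) (by
    rintro (_ | _)
    · exact hX₁
    · exact hX₀)
  obtain ⟨g, hg⟩ := exists_desc_of_epi h (coequalizer.π a b) (by
    apply hρ.hom_ext
    intro k
    have h1 : ρ k ≫ pullback.fst h h = Sigma.ι W k ≫ a := by simp [a]
    have h2 : ρ k ≫ pullback.snd h h = Sigma.ι W k ≫ b := by simp [b]
    rw [← Category.assoc, ← Category.assoc, h1, h2, Category.assoc, Category.assoc,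
      coequalizer.condition])
  refine hiso hQ ⟨⟨coequalizer.desc h hab, g, ?_, ?_⟩⟩
  · rw [← cancel_epi (coequalizer.π a b), coequalizer.π_desc_assoc, hg, Category.comp_id]
  · rw [← cancel_epi h, ← Category.assoc, hg, coequalizer.π_desc, Category.comp_id]

end Groth.Agent.H28
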