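import Groth.Agent.H28.ToposCover
import Mathlib.CategoryTheory.MorphismProperty.Limits

/-!
# Quasi-compact objects and morphisms in a sheaf topos (SGA4 VI §1)
-/

set_option autoImplicit false
open CategoryTheory CategoryTheory.Limits Opposite
universe u w w'
open ToposFin

namespace Groth.Agent.H28

variable {C : Type u} [SmallCategory C] {J : GrothendieckTopology C}

lemma isQC_iff_isCover (X : Sh J) : IsQC X ↔ ∀ (ι : Type u) (F : ι → Sh J) (π : ∀ i, F i ⟶ X),
    IsCover π → ∃ s : Finset ι, IsCover (fun i : s => π i) := by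
  unfold IsQC
  simp only [isCover_iff_epi_sigmaDesc]

/-- A cover of a quasi-compact object (indexed by a type in any universe) has a finite subcover. -/
lemma IsQC.exists_finset {X : Sh J} (hX : IsQC X) {ι : Type w} {F : ι → Sh J} (π : ∀ i, F i ⟶ X)
    (hπ : IsCover π) : ∃ s : Finset ι, IsCover (fun i : s => π i) := by
  classical
  let κ : Type u := Σ (U : C) (s : X.obj.obj (op U)) (V : C), {f : V ⟶ U // coverSieve π s f}
  have hc : ∀ k : κ, ∃ i, ∃ t : (F i).obj.obj (op k.2.2.1),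
      (π i).hom.app (op k.2.2.1) t = X.obj.map k.2.2.2.1.op k.2.1 := fun k => k.2.2.2.2
  choose idx hidx using hc
  have hcov : IsCover (fun k : κ => π (idx k)) := by
    intro U s
    refine J.superset_covering ?_ (hπ U s)
    intro V f hf
    exact ⟨⟨U, s, V, f, hf⟩, hidx ⟨U, s, V, f, hf⟩⟩
  obtain ⟨t, ht⟩ := (isQC_iff_isCover X).1 hX κ _ _ hcov
  refine ⟨t.image idx, ht.of_refines _ ?_⟩
  intro k
  exact ⟨⟨idx k, Finset.mem_image_of_mem idx k.2⟩, 𝟙 _, Category.id_comp _⟩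

/-- A finite cover by quasi-compact objects has quasi-compact target. -/
lemma IsQC.of_finite_cover {X : Sh J} {ι : Type w} [Finite ι] {F : ι → Sh J} (π : ∀ i, F i ⟶ X)
    (hπ : IsCover π) (hF : ∀ i, IsQC (F i)) : IsQC X := by
  classical
  rw [isQC_iff_isCover]
  intro κ G ρ hρ
  have := Fintype.ofFinite ι
  have h1 : ∀ i, ∃ s : Finset κ, IsCover (fun k : s => pullback.snd (ρ k) (π i)) :=
    fun i => IsQC.exists_finset (hF i) _ (hρ.pullback_snd (π i))
  choose s hs using h1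
  refine ⟨Finset.univ.biUnion s, ?_⟩
  have h2 := hπ.comp (fun i (k : s i) => pullback.snd (ρ k) (π i)) hs
  refine h2.of_refines _ ?_
  rintro ⟨i, k⟩
  refine ⟨⟨k.1, Finset.mem_biUnion.2 ⟨i, Finset.mem_univ _, k.2⟩⟩, pullback.fst (ρ k) (π i), ?_⟩
  exact pullback.condition

lemma IsQC.of_epi {X Y : Sh J} (f : X ⟶ Y) [Epi f] (hX : IsQC X) : IsQC Y :=
  IsQC.of_finite_cover (ι := PUnit.{1}) (fun _ => f) ((isCover_single_iff_epi f).2 inferInstance)
    (fun _ => hX)

lemma IsQC.of_iso {X Y : Sh J} (e : X ≅ Y) (hX : IsQC X) : IsQC Y :=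
  IsQC.of_epi e.hom hX

lemma isQC_iff_of_iso {X Y : Sh J} (e : X ≅ Y) : IsQC X ↔ IsQC Y :=
  ⟨IsQC.of_iso e, IsQC.of_iso e.symm⟩

/-- Quasi-compact morphisms, with an arbitrary pullback square. -/
lemma IsQCHom.of_isPullback {X Y : Sh J} {f : X ⟶ Y} (hf : IsQCHom f) {P Y' : Sh J} {p : P ⟶ X}
    {q : P ⟶ Y'} {g : Y' ⟶ Y} (h : IsPullback p q f g) (hY' : IsQC Y') : IsQC P :=
  IsQC.of_iso h.isoPullback.symm (hf Y' g hY')

lemma IsQCHom.of_isPullback' {X Y : Sh J} {f : X ⟶ Y} (hf : IsQCHom f) {P Y' : Sh J} {p : P ⟶ X}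
    {q : P ⟶ Y'} {g : Y' ⟶ Y} (h : IsPullback q p g f) (hY' : IsQC Y') : IsQC P :=
  IsQCHom.of_isPullback hf h.flip hY'

/-- The class of quasi-compact morphisms. -/
def qcHom : MorphismProperty (Sh J) := fun _ _ f => IsQCHom f

lemma qcHom_iff {X Y : Sh J} (f : X ⟶ Y) : qcHom f ↔ IsQCHom f := Iff.rfl

instance : (qcHom (J := J)).IsStableUnderBaseChange where
  of_isPullback {X Y Y' S f g f' g'} sq hg := by
    intro Z z hZ
    have h2 := (IsPullback.of_hasPullback g' z).paste_horiz sq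
    exact IsQCHom.of_isPullback hg h2 hZ

instance : (qcHom (J := J)).IsMultiplicative where
  id_mem X := by
    intro Z z hZ
    exact IsQC.of_iso (asIso (pullback.snd (𝟙 X) z)).symm hZ
  comp_mem {X Y Z} f g hf hg := by
    intro W w hW
    have h1 : IsQC (pullback g w) := hg W w hW
    have h2 : IsQC (pullback f (pullback.fst g w)) := hf _ _ h1
    have h3 := (IsPullback.of_hasPullback f (pullback.fst g w)).paste_vert
      (IsPullback.of_hasPullback g w)
    exact IsQC.of_iso h3.isoPullback h2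

/-- The class of quasi-separated morphisms. -/
def qsHom : MorphismProperty (Sh J) := fun _ _ f => IsQSHom f

lemma qsHom_iff {X Y : Sh J} (f : X ⟶ Y) : qsHom f ↔ IsQSHom f := Iff.rfl

lemma qsHom_eq_diagonal : qsHom (J := J) = (qcHom (J := J)).diagonal := rfl


instance : (qsHom (J := J)).IsStableUnderBaseChange :=
  inferInstanceAs ((qcHom (J := J)).diagonal.IsStableUnderBaseChange)

instance : (qsHom (J := J)).IsMultiplicative :=
  inferInstanceAs ((qcHom (J := J)).diagonal.IsMultiplicative)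

instance : (qcHom (J := J)).HasOfPostcompProperty (qsHom (J := J)) :=
  MorphismProperty.hasOfPostcompProperty_iff_le_diagonal.2 le_rfl

lemma isQCHom_of_isIso {X Y : Sh J} (f : X ⟶ Y) [IsIso f] : IsQCHom f :=
  (qcHom (J := J)).of_isIso f

lemma isQSHom_of_mono {X Y : Sh J} (f : X ⟶ Y) [Mono f] : IsQSHom f :=
  isQCHom_of_isIso (pullback.diagonal f)

instance : (qsHom (J := J)).HasOfPostcompProperty (⊤ : MorphismProperty (Sh J)) :=
  MorphismProperty.hasOfPostcompProperty_iff_le_diagonal.2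
    (fun _ _ f _ => isQSHom_of_mono (pullback.diagonal f))

/-- If `f ≫ g` is quasi-separated then so is `f`. -/
lemma isQSHom_of_comp {X Y Z : Sh J} (f : X ⟶ Y) (g : Y ⟶ Z) (h : IsQSHom (f ≫ g)) : IsQSHom f :=
  (qsHom (J := J)).of_postcomp (W' := ⊤) f g trivial h

/-- If `g` is quasi-separated and `f ≫ g` quasi-compact then `f` is quasi-compact. -/
lemma isQCHom_of_comp {X Y Z : Sh J} (f : X ⟶ Y) (g : Y ⟶ Z) (hg : IsQSHom g)
    (h : IsQCHom (f ≫ g)) : IsQCHom f :=
  (qcHom (J := J)).of_postcomp (W' := qsHom) f g hg h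

lemma IsQCHom.comp {X Y Z : Sh J} {f : X ⟶ Y} {g : Y ⟶ Z} (hf : IsQCHom f) (hg : IsQCHom g) :
    IsQCHom (f ≫ g) :=
  (qcHom (J := J)).comp_mem f g hf hg

lemma IsQSHom.comp {X Y Z : Sh J} {f : X ⟶ Y} {g : Y ⟶ Z} (hf : IsQSHom f) (hg : IsQSHom g) :
    IsQSHom (f ≫ g) :=
  (qsHom (J := J)).comp_mem f g hf hg

lemma IsQCHom.of_isPullback_snd {P X Y Y' : Sh J} {f : X ⟶ Y} {g : Y' ⟶ Y} {p : P ⟶ X}
    {q : P ⟶ Y'} (hf : IsQCHom f) (h : IsPullback p q f g) : IsQCHom q :=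
  (qcHom (J := J)).of_isPullback h hf

lemma IsQCHom.of_isPullback_fst {P X Y Y' : Sh J} {f : X ⟶ Y} {g : Y' ⟶ Y} {p : P ⟶ X}
    {q : P ⟶ Y'} (hg : IsQCHom g) (h : IsPullback p q f g) : IsQCHom p :=
  (qcHom (J := J)).of_isPullback h.flip hg

lemma IsQSHom.of_isPullback_snd {P X Y Y' : Sh J} {f : X ⟶ Y} {g : Y' ⟶ Y} {p : P ⟶ X}
    {q : P ⟶ Y'} (hf : IsQSHom f) (h : IsPullback p q f g) : IsQSHom q :=
  (qsHom (J := J)).of_isPullback h hf

lemma IsQSHom.of_isPullback_fst {P X Y Y' : Sh J} {f : X ⟶ Y} {g : Y' ⟶ Y} {p : P ⟶ X}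
    {q : P ⟶ Y'} (hg : IsQSHom g) (h : IsPullback p q f g) : IsQSHom p :=
  (qsHom (J := J)).of_isPullback h.flip hg


/-! ### Generating classes -/

/-- Every object is covered by a small family of members of `S`. -/
def CoversAll (S : Set (Sh J)) : Prop :=
  ∀ X : Sh J, ∃ (ι : Type u) (F : ι → Sh J) (π : ∀ i, F i ⟶ X), (∀ i, F i ∈ S) ∧ IsCover π

lemma coversAll_iff_isGenerating (S : Set (Sh J)) : CoversAll S ↔ IsGenerating S := by
  unfold CoversAll IsGenerating
  simp only [isCover_iff_hom_ext]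

lemma coversAll_qc_iff : CoversAll {K : Sh J | IsQC K} ↔ HasQCGenerators J := by
  unfold CoversAll HasQCGenerators
  simp only [isCover_iff_epi_sigmaDesc, Set.mem_ofPred_eq]

lemma coversAll_coherent_iff : CoversAll {K : Sh J | IsCoherent K} ↔ HasCoherentGenerators J := by
  unfold CoversAll HasCoherentGenerators
  simp only [isCover_iff_epi_sigmaDesc, Set.mem_ofPred_eq]

lemma CoversAll.mono {S T : Set (Sh J)} (h : S ⊆ T) (hS : CoversAll S) : CoversAll T := by
  intro X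
  obtain ⟨ι, F, π, hF, hπ⟩ := hS X
  exact ⟨ι, F, π, fun i => h (hF i), hπ⟩

/-- A quasi-compact object has a finite cover by members of a generating class. -/
lemma CoversAll.exists_finite_cover {S : Set (Sh J)} (hS : CoversAll S) {X : Sh J} (hX : IsQC X) :
    ∃ (ι : Type u) (_ : Finite ι) (F : ι → Sh J) (π : ∀ i, F i ⟶ X), (∀ i, F i ∈ S) ∧ IsCover π := by
  obtain ⟨ι, F, π, hF, hπ⟩ := hS X
  obtain ⟨s, hs⟩ := IsQC.exists_finset hX π hπ
  exact ⟨s, inferInstance, fun i => F i, fun i => π i, fun i => hF i, hs⟩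

/-- Generator criterion for quasi-compact morphisms (SGA4 VI 1.10). -/
lemma isQCHom_of_coversAll {S : Set (Sh J)} (hS : CoversAll S) {X Y : Sh J} (f : X ⟶ Y)
    (h : ∀ K ∈ S, ∀ s : K ⟶ Y, IsQC (pullback f s)) : IsQCHom f := by
  intro Y' g hY'
  obtain ⟨ι, _, F, π, hF, hπ⟩ := hS.exists_finite_cover hY'
  exact IsQC.of_finite_cover _ (hπ.lift_right (IsPullback.of_hasPullback f g))
    (fun i => h _ (hF i) _)

lemma IsQCHom.isQC_pullback_comp {X Y Yi L : Sh J} {f : X ⟶ Y} (gi : Yi ⟶ Y)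
    (h : IsQCHom (pullback.snd f gi)) (m : L ⟶ Yi) (hL : IsQC L) : IsQC (pullback f (m ≫ gi)) :=
  IsQCHom.of_isPullback h
    (IsPullback.of_right' (IsPullback.of_hasPullback f (m ≫ gi)) (IsPullback.of_hasPullback f gi)) hL

lemma IsQCHom.isQC_pullback_of_fac {X Y Yi L : Sh J} {f : X ⟶ Y} (gi : Yi ⟶ Y)
    (h : IsQCHom (pullback.snd f gi)) (m : L ⟶ Yi) (hL : IsQC L) (s : L ⟶ Y) (e : s = m ≫ gi) :
    IsQC (pullback f s) := by
  subst e
  exact IsQCHom.isQC_pullback_comp gi h m hL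

/-- Quasi-compactness of a morphism is local on the target (SGA4 VI 1.10 (ii)). -/
lemma isQCHom_of_cover_target (hE : CoversAll {K : Sh J | IsQC K}) {X Y : Sh J} (f : X ⟶ Y)
    {ι : Type w} {Yi : ι → Sh J} (g : ∀ i, Yi i ⟶ Y) (hg : IsCover g)
    (h : ∀ i, IsQCHom (pullback.snd f (g i))) : IsQCHom f := by
  refine isQCHom_of_coversAll hE f ?_
  intro K hK s
  have h1 : ∀ i, ∃ (κ : Type u) (L : κ → Sh J) (l : ∀ k, L k ⟶ pullback (g i) s),
      (∀ k, IsQC (L k)) ∧ IsCover l := fun i => hE _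
  choose κ L l hL hl using h1
  have h2 := (hg.pullback_snd s).comp l hl
  obtain ⟨t, ht⟩ := IsQC.exists_finset hK _ h2
  refine IsQC.of_finite_cover _ (ht.lift_right (IsPullback.of_hasPullback f s)) ?_
  rintro ⟨⟨i, k⟩, -⟩
  have e : (l i k ≫ pullback.snd (g i) s) ≫ s = (l i k ≫ pullback.fst (g i) s) ≫ g i := by
    simp [pullback.condition]
  exact IsQCHom.isQC_pullback_of_fac (g i) (h i) _ (hL i k) _ e

/-- A morphism is quasi-compact if its composites with a finite cover of the source are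
(SGA4 VI 1.10 (iii)). -/
lemma isQCHom_of_finite_cover_source {Y Z : Sh J} (g : Y ⟶ Z) {ι : Type w} [Finite ι]
    {X : ι → Sh J} (f : ∀ k, X k ⟶ Y) (hf : IsCover f) (h : ∀ k, IsQCHom (f k ≫ g)) :
    IsQCHom g := by
  intro W w hW
  exact IsQC.of_finite_cover _ (hf.lift_left (IsPullback.of_hasPullback g w))
    (fun k => h k W w hW)

end Groth.Agent.H28
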