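import Groth.Agent.H28.ToposQC
import Mathlib.CategoryTheory.Limits.Shapes.Diagonal

/-!
# Quasi-separated objects and morphisms in a sheaf topos (SGA4 VI §1)
-/

set_option autoImplicit false
open CategoryTheory CategoryTheory.Limits Opposite
universe v u w w'
open ToposFin

namespace Groth.Agent.H28

section General

variable {D : Type u} [Category.{v} D] [HasPullbacks D]

set_option backward.isDefEq.respectTransparency false in
/-- The diagonal of a base change is the base change of the diagonal. -/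
lemma isPullback_diagonal {P X Y Y' : D} {p : P ⟶ X} {q : P ⟶ Y'} {f : X ⟶ Y} {g : Y' ⟶ Y}
    (h : IsPullback p q f g) :
    IsPullback p (pullback.diagonal q) (pullback.diagonal f)
      (pullback.map q q f f p p g h.w.symm h.w.symm) := by
  have hw : p ≫ pullback.diagonal f =
      pullback.diagonal q ≫ pullback.map q q f f p p g h.w.symm h.w.symm := by
    ext <;> simp
  refine ⟨⟨hw⟩, ⟨PullbackCone.IsLimit.mk _ (fun s => s.snd ≫ pullback.fst _ _) ?_ ?_ ?_⟩⟩
  · intro s
    have := s.condition =≫ pullback.fst _ _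
    simpa using this.symm
  · intro s
    have h1 := s.condition =≫ pullback.fst _ _
    have h2 := s.condition =≫ pullback.snd _ _
    simp at h1 h2
    have h3 : s.snd ≫ pullback.fst q q = s.snd ≫ pullback.snd q q := by
      apply h.hom_ext
      · rw [Category.assoc, Category.assoc, ← h1, ← h2]
      · rw [Category.assoc, Category.assoc, pullback.condition]
    ext
    · simp
    · simp [h3]
  · intro s m hm1 hm2
    have := hm2 =≫ pullback.fst _ _
    simpa using this

set_option backward.isDefEq.respectTransparency false in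
/-- The base change of `g` to `X ×_Y X` factors through `X' ×_{Y'} X' ⟶ X ×_Y X`,
where `X' = X ×_Y Y'`. -/
lemma exists_fac_diagonal_cover {X Y Y' : D} (f : X ⟶ Y) (g : Y' ⟶ Y)
    (hw : pullback.snd f g ≫ g = pullback.fst f g ≫ f) :
    ∃ φ : pullback (pullback.fst f f ≫ f) g ⟶ pullback (pullback.snd f g) (pullback.snd f g),
      φ ≫ pullback.map (pullback.snd f g) (pullback.snd f g) f f (pullback.fst f g)
        (pullback.fst f g) g hw hw = pullback.fst (pullback.fst f f ≫ f) g := by
  have e1 : (pullback.fst (pullback.fst f f ≫ f) g ≫ pullback.fst f f) ≫ f =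
      pullback.snd (pullback.fst f f ≫ f) g ≫ g :=
    (Category.assoc _ _ _).trans pullback.condition
  have c : pullback.snd f f ≫ f = pullback.fst f f ≫ f := pullback.condition.symm
  have e2 : (pullback.fst (pullback.fst f f ≫ f) g ≫ pullback.snd f f) ≫ f =
      pullback.snd (pullback.fst f f ≫ f) g ≫ g :=
    ((Category.assoc _ _ _).trans (congrArg (pullback.fst (pullback.fst f f ≫ f) g ≫ ·) c)).trans
      pullback.condition
  refine ⟨pullback.lift (pullback.lift _ _ e1) (pullback.lift _ _ e2) ?_, ?_⟩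
  · simp
  · apply pullback.hom_ext <;> simp

end General

variable {C : Type u} [SmallCategory C] {J : GrothendieckTopology C}

/-- Sectionwise criterion for pullback squares of sheaves. -/
lemma isPullback_iff_sections {P X Y Z : Sh J} {p : P ⟶ X} {q : P ⟶ Y} {f : X ⟶ Z} {g : Y ⟶ Z} :
    IsPullback p q f g ↔
      ∀ U : Cᵒᵖ, IsPullback (p.hom.app U) (q.hom.app U) (f.hom.app U) (g.hom.app U) := by
  constructor
  · intro h U
    exact h.map (sheafToPresheaf J (Type u) ⋙ (evaluation _ _).obj U)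
  · intro h
    exact IsPullback.of_map_of_faithful (sheafToPresheaf J (Type u))
      (IsPullback.of_forall_isPullback_app h)

/-- A morphism from a quasi-compact object to a quasi-separated object is quasi-compact. -/
lemma isQCHom_of_isQC_of_isQS {A B : Sh J} (f : A ⟶ B) (hA : IsQC A) (hB : IsQS B) : IsQCHom f :=
  fun Z g hZ => hB A Z f g hA hZ

/-- If `f : X ⟶ Y` is quasi-separated and `Y` is quasi-separated, so is `X` (SGA4 VI 1.15). -/
lemma IsQS.of_isQSHom {X Y : Sh J} (f : X ⟶ Y) (hf : IsQSHom f) (hY : IsQS Y) : IsQS X := by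
  intro A B a b hA hB
  exact IsQCHom.of_isPullback hf (pullback_map_diagonal_isPullback a b f)
    (hY A B (a ≫ f) (b ≫ f) hA hB)

lemma IsQS.of_mono {X Y : Sh J} (i : X ⟶ Y) [Mono i] (hY : IsQS Y) : IsQS X :=
  IsQS.of_isQSHom i (isQSHom_of_mono i) hY

lemma IsQS.of_iso {X Y : Sh J} (e : X ≅ Y) (hX : IsQS X) : IsQS Y :=
  IsQS.of_mono e.inv hX

lemma IsCoherent.of_iso {X Y : Sh J} (e : X ≅ Y) (hX : IsCoherent X) : IsCoherent Y :=
  ⟨IsQC.of_iso e hX.1, IsQS.of_iso e hX.2⟩

lemma isQC_pullback_of_fac {Y Yi A' B : Sh J} (gi : Yi ⟶ Y) (hgi : IsQCHom gi) (hYi : IsQS Yi)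
    (m : A' ⟶ Yi) (hA' : IsQC A') (b : B ⟶ Y) (hB : IsQC B) (s : A' ⟶ Y) (e : s = m ≫ gi) :
    IsQC (pullback s b) := by
  subst e
  have h1 : IsQC (pullback gi b) := hgi B b hB
  have h2 : IsQC (pullback m (pullback.fst gi b)) := hYi _ _ _ _ hA' h1
  have h3 := (IsPullback.of_hasPullback m (pullback.fst gi b)).paste_vert
    (IsPullback.of_hasPullback gi b)
  exact IsQC.of_iso h3.isoPullback h2

/-- An object covered by quasi-separated objects via quasi-compact morphisms is quasi-separated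
(SGA4 VI 1.17). -/
lemma isQS_of_cover {Y : Sh J} {ι : Type w} {Yi : ι → Sh J} (g : ∀ i, Yi i ⟶ Y) (hg : IsCover g)
    (hqs : ∀ i, IsQS (Yi i)) (hqc : ∀ i, IsQCHom (g i)) : IsQS Y := by
  intro A B a b hA hB
  obtain ⟨t, ht⟩ := IsQC.exists_finset hA _ (hg.pullback_snd a)
  refine IsQC.of_finite_cover _ (ht.lift_left (IsPullback.of_hasPullback a b)) ?_
  rintro ⟨i, -⟩
  exact isQC_pullback_of_fac (g i) (hqc i) (hqs i) (pullback.fst (g i) a) (hqc i A a hA) b hB _
    pullback.condition.symm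

/-- Generator criterion for quasi-separated objects (SGA4 VI 1.16?). -/
lemma isQS_iff_of_coversAll {S : Set (Sh J)} (hS : CoversAll S) (hqc : ∀ K ∈ S, IsQC K)
    (Y : Sh J) : IsQS Y ↔ ∀ K ∈ S, ∀ s : K ⟶ Y, IsQCHom s := by
  constructor
  · intro hY K hK s
    exact isQCHom_of_isQC_of_isQS s (hqc K hK) hY
  · intro h A B a b hA hB
    obtain ⟨ι, _, F, π, hF, hπ⟩ := hS.exists_finite_cover hA
    refine IsQC.of_finite_cover _ (hπ.lift_left (IsPullback.of_hasPullback a b)) ?_
    intro i
    exact h _ (hF i) (π i ≫ a) B b hB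

/-- Generator criterion for quasi-separated objects, tested on pairs of generators. -/
lemma isQS_of_coversAll_pullback {S : Set (Sh J)} (hS : CoversAll S) (Y : Sh J)
    (h : ∀ K ∈ S, ∀ L ∈ S, ∀ (s : K ⟶ Y) (t : L ⟶ Y), IsQC (pullback s t)) : IsQS Y := by
  intro A B a b hA hB
  obtain ⟨ι, _, F, π, hF, hπ⟩ := hS.exists_finite_cover hA
  refine IsQC.of_finite_cover _ (hπ.lift_left (IsPullback.of_hasPullback a b)) ?_
  intro i
  obtain ⟨κ, _, G, ρ, hG, hρ⟩ := hS.exists_finite_cover hB
  refine IsQC.of_finite_cover _ (hρ.lift_right (IsPullback.of_hasPullback (π i ≫ a) b)) ?_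
  intro k
  exact h _ (hF i) _ (hG k) _ _

/-- Version of `isQCHom_of_cover_target` with arbitrary pullback squares. -/
lemma isQCHom_of_cover_target' (hE : CoversAll {K : Sh J | IsQC K}) {X Y : Sh J} (f : X ⟶ Y)
    {ι : Type w} {Yi : ι → Sh J} (g : ∀ i, Yi i ⟶ Y) (hg : IsCover g) {P : ι → Sh J}
    (p : ∀ i, P i ⟶ X) (q : ∀ i, P i ⟶ Yi i) (hpb : ∀ i, IsPullback (p i) (q i) f (g i))
    (h : ∀ i, IsQCHom (q i)) : IsQCHom f := by
  refine isQCHom_of_cover_target hE f g hg (fun i => ?_)
  have sq : IsPullback (hpb i).isoPullback.inv (pullback.snd f (g i)) (q i) (𝟙 _) :=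
    IsPullback.of_horiz_isIso ⟨by simp⟩
  exact (qcHom (J := J)).of_isPullback sq (h i)

/-- Quasi-separatedness of a morphism is local on the target (SGA4 VI 1.10). -/
lemma isQSHom_of_cover_target (hE : CoversAll {K : Sh J | IsQC K}) {X Y : Sh J} (f : X ⟶ Y)
    {ι : Type w} {Yi : ι → Sh J} (g : ∀ i, Yi i ⟶ Y) (hg : IsCover g)
    (h : ∀ i, IsQSHom (pullback.snd f (g i))) : IsQSHom f := by
  have hw : ∀ i, pullback.snd f (g i) ≫ g i = pullback.fst f (g i) ≫ f :=
    fun i => pullback.condition.symm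
  refine isQCHom_of_cover_target' hE (pullback.diagonal f)
    (fun i => pullback.map (pullback.snd f (g i)) (pullback.snd f (g i)) f f
      (pullback.fst f (g i)) (pullback.fst f (g i)) (g i) (hw i) (hw i)) ?_
    (fun i => pullback.fst f (g i)) (fun i => pullback.diagonal (pullback.snd f (g i)))
    (fun i => isPullback_diagonal (IsPullback.of_hasPullback f (g i))) h
  exact (hg.pullback_fst (pullback.fst f f ≫ f)).of_refines _
    (fun i => ⟨i, exists_fac_diagonal_cover f (g i) (hw i)⟩)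


set_option backward.isDefEq.respectTransparency false in
/-- The fibre product of two covers is a cover of the fibre product. -/
lemma IsCover.pullback_map {X Y Z : Sh J} (a : X ⟶ Z) (b : Y ⟶ Z) {ι : Type w} {κ : Type w'}
    {F : ι → Sh J} {G : κ → Sh J} {π : ∀ i, F i ⟶ X} {ρ : ∀ k, G k ⟶ Y} (hπ : IsCover π)
    (hρ : IsCover ρ) :
    IsCover (fun x : ι × κ => pullback.map (π x.1 ≫ a) (ρ x.2 ≫ b) a b (π x.1) (ρ x.2) (𝟙 Z)
      (by simp) (by simp)) := by
  have c1 := hπ.lift_left (IsPullback.of_hasPullback a b)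
  have c2 := fun i => hρ.lift_right (IsPullback.of_hasPullback (π i ≫ a) b)
  refine (c1.comp _ c2).of_refines _ ?_
  rintro ⟨i, k⟩
  refine ⟨(i, k), 𝟙 _, ?_⟩
  apply pullback.hom_ext <;> simp

/-- SGA4 VI 1.x: if `X` is quasi-separated and covered by quasi-compact `X_i` with all
`X_i ×_Y X_j` quasi-separated, then `f : X ⟶ Y` is quasi-separated. -/
lemma isQSHom_of_cover_source_qs (hE : CoversAll {K : Sh J | IsQC K}) {X Y : Sh J} (f : X ⟶ Y)
    {ι : Type w} {Xi : ι → Sh J} (g : ∀ i, Xi i ⟶ X) (hg : IsCover g) (hqc : ∀ i, IsQC (Xi i))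
    (hqs : ∀ i j, IsQS (pullback (g i ≫ f) (g j ≫ f))) (hX : IsQS X) : IsQSHom f := by
  refine isQCHom_of_cover_target' hE (pullback.diagonal f) _ (hg.pullback_map f f hg)
    (fun x => pullback.fst (g x.1) (g x.2) ≫ g x.1) _
    (fun x => pullback_map_diagonal_isPullback (g x.1) (g x.2) f) (fun x => ?_)
  exact isQCHom_of_isQC_of_isQS _ (hX _ _ (g x.1) (g x.2) (hqc _) (hqc _)) (hqs x.1 x.2)

set_option backward.isDefEq.respectTransparency false in
/-- SGA4 VI 1.x: if `(f_i : X_i ⟶ Y)` is a cover by quasi-compact morphisms and all `f_i ≫ g` are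
quasi-separated, then `g` is quasi-separated. -/
lemma isQSHom_of_cover_source (hE : CoversAll {K : Sh J | IsQC K}) {Y Z : Sh J} (g : Y ⟶ Z)
    {ι : Type w} {X : ι → Sh J} (f : ∀ i, X i ⟶ Y) (hf : IsCover f) (hqc : ∀ i, IsQCHom (f i))
    (hqs : ∀ i, IsQSHom (f i ≫ g)) : IsQSHom g := by
  refine isQCHom_of_cover_target' hE (pullback.diagonal g) _ (hf.pullback_map g g hf)
    (fun x => pullback.fst (f x.1) (f x.2) ≫ f x.1) _
    (fun x => pullback_map_diagonal_isPullback (f x.1) (f x.2) g) (fun x => ?_)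
  refine isQCHom_of_comp _ (pullback.fst (f x.1 ≫ g) (f x.2 ≫ g)) ?_ ?_
  · exact IsQSHom.of_isPullback_fst (hqs x.2) (IsPullback.of_hasPullback _ _)
  · have : pullback.map (f x.1) (f x.2) (f x.1 ≫ g) (f x.2 ≫ g) (𝟙 _) (𝟙 _) g
        (Category.id_comp _).symm (Category.id_comp _).symm ≫ pullback.fst (f x.1 ≫ g) (f x.2 ≫ g) =
        pullback.fst (f x.1) (f x.2) := by simp
    rw [this]
    exact IsQCHom.of_isPullback_fst (hqc x.2) (IsPullback.of_hasPullback _ _)

/-- SGA4 VI 1.17: for a cover by coherent objects with quasi-compact pairwise fibre products, the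
covering maps are quasi-compact. -/
lemma isQCHom_of_coherent_cover_pullback (hE : CoversAll {K : Sh J | IsQC K}) {Y : Sh J}
    {ι : Type w} {Yi : ι → Sh J} (g : ∀ i, Yi i ⟶ Y) (hg : IsCover g)
    (hY : ∀ i, IsCoherent (Yi i)) (h : ∀ i j, IsQC (pullback (g i) (g j))) (i : ι) :
    IsQCHom (g i) :=
  isQCHom_of_cover_target hE (g i) g hg
    (fun j => isQCHom_of_isQC_of_isQS _ (h i j) (hY j).2)

/-- SGA4 VI 1.17: an object with a cover by coherent objects whose pairwise fibre products are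
quasi-compact is quasi-separated. -/
lemma isQS_of_coherent_cover_pullback (hE : CoversAll {K : Sh J | IsQC K}) {Y : Sh J}
    {ι : Type w} {Yi : ι → Sh J} (g : ∀ i, Yi i ⟶ Y) (hg : IsCover g)
    (hY : ∀ i, IsCoherent (Yi i)) (h : ∀ i j, IsQC (pullback (g i) (g j))) : IsQS Y :=
  isQS_of_cover g hg (fun i => (hY i).2)
    (fun i => isQCHom_of_coherent_cover_pullback hE g hg hY h i)

end Groth.Agent.H28
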