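import Mathlib
import Groth.Agent.H35.RestrictFlat
import Groth.Agent.H35.TorAmpD
import Groth.Agent.H35.TorAmpCone
import Groth.Agent.H35.KFBaseChange
import Groth.Agent.H36.FlatTwist

/-!
# Tor amplitude along weakly étale ring maps (helper28)

For `A → B` weakly étale and `K ∈ D(B)`: `K` has tor amplitude in `[a, b]` over `B` iff its
restriction to `A` has tor amplitude in `[a, b]` over `A`.
-/

open CategoryTheory Limits MonoidalCategory

universe u

namespace Groth.Agent.H28.TorAmpWE

open HomologicalComplex Groth.Agent.H35.KF Groth.Agent.H35.KFBC DerivedCategory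

attribute [local instance] HasDerivedCategory.standard

variable {A B : Type u} [CommRing A] [CommRing B] [Algebra A B]

/-- opcycles commute with restriction of scalars -/
noncomputable def opcyclesRestrictIso (P : CochainComplex (ModuleCat.{u} B) ℤ) (a : ℤ) :
    (resL (algebraMap A B) P).opcycles a ≅
      (ModuleCat.restrictScalars (algebraMap A B)).obj (P.opcycles a) :=
  ShortComplex.mapOpcyclesIso (P.sc a) (ModuleCat.restrictScalars (algebraMap A B))

theorem hasTorAmplitudeIn_of_restrict [Algebra.WeaklyEtale A B] (K : Dual.D B) (a b : ℤ)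
    (hK : DRing.HasTorAmplitudeIn A a b ((DRing.restrictD (algebraMap A B)).obj K)) :
    DRing.HasTorAmplitudeIn B a b K := by
  obtain ⟨K', ⟨e₀⟩⟩ : ∃ K' : CochainComplex (ModuleCat.{u} B) ℤ, Nonempty (Q.obj K' ≅ K) :=
    ⟨_, ⟨Q.objObjPreimageIso K⟩⟩
  -- the cohomology of `K` vanishes outside `[a, b]`
  have hhom : ∀ n : ℤ, (n < a ∨ b < n) →
      IsZero ((DerivedCategory.homologyFunctor (ModuleCat.{u} B) n).obj K) := by
    intro n hn
    have h1 := isZero_homology_of_hasTorAmplitudeIn _ a b hK n hn
    let iso : (DRing.restrictD (algebraMap A B)).obj K ≅ Q.obj (resL (algebraMap A B) K') :=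
      (DRing.restrictD (algebraMap A B)).mapIso e₀.symm ≪≫
        (ModuleCat.restrictScalars (algebraMap A B)).mapDerivedCategoryFactors.app K'
    have h2 : IsZero ((DerivedCategory.homologyFunctor (ModuleCat.{u} A) n).obj
        (Q.obj (resL (algebraMap A B) K'))) :=
      h1.of_iso ((DerivedCategory.homologyFunctor (ModuleCat.{u} A) n).mapIso iso.symm)
    have h3 : (resL (algebraMap A B) K').ExactAt n := by
      rw [exactAt_iff_isZero_homology]
      exact h2.of_iso ((DerivedCategory.homologyFunctorFactors (ModuleCat.{u} A) n).app _).symm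
    have h4 : K'.ExactAt n := (exactAt_map_restrictScalars_iff (algebraMap A B) K' n).1 h3
    exact (isZero_homology_of_exactAt K' n h4).of_iso
      ((DerivedCategory.homologyFunctor (ModuleCat.{u} B) n).mapIso e₀.symm)
  obtain ⟨P, hPb, hPproj, ⟨e'⟩⟩ :=
    Groth.Agent.H35.exists_projective_rep K b (fun n hn => hhom n (Or.inr hn))
  have hPflB : ∀ i, Module.Flat B (P.X i) := fun i => by
    have := hPproj i
    infer_instance
  -- over `A`
  have hPAfl : ∀ i, Module.Flat A ((resL (algebraMap A B) P).X i) := fun i => by
    have := hPflB i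
    exact flat_restrictScalars_of_flat (P.X i)
  let eA : Q.obj (resL (algebraMap A B) P) ≅ (DRing.restrictD (algebraMap A B)).obj K :=
    ((ModuleCat.restrictScalars (algebraMap A B)).mapDerivedCategoryFactors.app P).symm ≪≫
      (DRing.restrictD (algebraMap A B)).mapIso e'
  have hv : TorVanishing (resL (algebraMap A B) P) a b :=
    torVanishing_of_hasTorAmplitudeIn _ a b hK (resL (algebraMap A B) P) b
      (fun i hi => (ModuleCat.restrictScalars (algebraMap A B)).map_isZero (hPb i hi)) hPAfl eA
  -- `P` is exact below `a`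
  have hGE : P.IsGE a := by
    rw [CochainComplex.isGE_iff]
    intro i hi
    rw [exactAt_iff_isZero_homology]
    exact ((hhom i (Or.inl hi)).of_iso
      ((DerivedCategory.homologyFunctor (ModuleCat.{u} B) i).mapIso e')).of_iso
        ((DerivedCategory.homologyFunctorFactors (ModuleCat.{u} B) i).app P).symm
  -- the opcycles in degree `a` are flat over `B`
  have hop : Module.Flat B (P.opcycles a) := by
    have hopA : Module.Flat A ((resL (algebraMap A B) P).opcycles a) :=
      flat_opcycles _ a (hPAfl a) (fun N => hv N (a - 1) (Or.inl (by omega)))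
    have hopA' : Module.Flat A
        ((ModuleCat.restrictScalars (algebraMap A B)).obj (P.opcycles a)) :=
      isFlat_of_iso (opcyclesRestrictIso P a) hopA
    letI : Module A (P.opcycles a) := Module.compHom _ (algebraMap A B)
    haveI : IsScalarTower A B (P.opcycles a) :=
      IsScalarTower.of_algebraMap_smul (fun _ _ => rfl)
    haveI : Module.Flat A (P.opcycles a) := hopA'
    exact Groth.Agent.H36.flat_of_flat_lmul' A B (P.opcycles a)
      (Algebra.WeaklyEtale.flat_lmul' A B)
  have hq : QuasiIso (P.πTruncGE a) := inferInstance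
  have hiso : IsIso (Q.map (P.πTruncGE a)) :=
    (DerivedCategory.isIso_Q_map_iff_quasiIso (φ := P.πTruncGE a)).2 hq
  refine ⟨P.truncGE a, ?_, ?_, ⟨(asIso (Q.map (P.πTruncGE a))).symm ≪≫ e'⟩⟩
  · intro i hi
    by_cases h1 : i < a
    · exact (P.truncGE a).isZero_of_isStrictlyGE a i h1
    · have h2 : b < i := by omega
      by_cases h3 : i = a
      · subst h3
        refine IsZero.of_iso ?_ (P.truncGEXIsoOpcycles i)
        have hepi : Epi (P.pOpcycles i) := inferInstance
        exact @IsZero.of_epi _ _ _ _ _ (P.pOpcycles i) hepi (hPb i h2)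
      · exact IsZero.of_iso (hPb i h2) (P.truncGEXIso a i (by omega))
  · intro i
    by_cases h1 : i < a
    · exact isFlat_of_isZero ((P.truncGE a).isZero_of_isStrictlyGE a i h1)
    · by_cases h3 : i = a
      · subst h3
        exact isFlat_of_iso (P.truncGEXIsoOpcycles i).symm hop
      · exact isFlat_of_iso (P.truncGEXIso a i (by omega)).symm (hPflB i)

end Groth.Agent.H28.TorAmpWE
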