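import Mathlib
import Groth.Agent.H28.TorAmpWE
import Groth.Agent.H3.HensUnion
import Groth.Agent.H3.UnionEtaleWeakly

/-!
# Tor amplitude over a local ring, its henselization and its strict henselization (helper28)
-/

open CategoryTheory Limits TensorProduct

universe u

namespace Groth.Agent.H28.TorAmpHens

open Groth.Agent.H3 Groth.Agent.H3.UnionEtale Groth.Agent.H35.KF

attribute [local instance] HasDerivedCategory.standard

/-- unions of étale images pass to the top of a tower -/
theorem isUnion_tower {R S T : Type u} [CommRing R] [CommRing S] [CommRing T] [Algebra R S]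
    [Algebra R T] [Algebra S T] [IsScalarTower R S T] (h : IsUnion R T) : IsUnion S T := by
  intro x
  obtain ⟨E, _, _, hE, φ, hφ⟩ := h x
  obtain ⟨e, he⟩ := hφ (Set.mem_singleton x)
  refine ⟨S ⊗[R] E, inferInstance, inferInstance, inferInstance,
    Algebra.TensorProduct.productLeftAlgHom (Algebra.ofId S T) φ, ?_⟩
  rintro _ rfl
  exact ⟨1 ⊗ₜ e, by simp [he]⟩

variable (R : Type u) [CommRing R] [IsLocalRing R]
  (Sh Ssh : Type u) [CommRing Sh] [IsLocalRing Sh] [CommRing Ssh] [IsLocalRing Ssh]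
  [Algebra R Sh] [IsLocalHom (algebraMap R Sh)] [Hensel.IsHenselization R Sh]
  [Algebra R Ssh] [IsLocalHom (algebraMap R Ssh)] [Hensel.IsStrictHenselization R Ssh]
  [Algebra Sh Ssh] [IsScalarTower R Sh Ssh]

theorem tfae_torAmplitude (a b : ℤ) (K : Dual.D Ssh) (L : Dual.D Sh) :
    [DRing.HasTorAmplitudeIn R a b ((DRing.restrictD (algebraMap R Ssh)).obj K),
     DRing.HasTorAmplitudeIn Sh a b ((DRing.restrictD (algebraMap Sh Ssh)).obj K),
     DRing.HasTorAmplitudeIn Ssh a b K].TFAE ∧
    (DRing.HasTorAmplitudeIn R a b ((DRing.restrictD (algebraMap R Sh)).obj L) ↔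
      DRing.HasTorAmplitudeIn Sh a b L) := by
  obtain ⟨hU1, hff1⟩ := HensUnion.package (R := R) (S := Sh)
    (Or.inl (inferInstance : Hensel.IsHenselization R Sh))
  obtain ⟨hU2, hff2⟩ := HensUnion.package (R := R) (S := Ssh)
    (Or.inr (inferInstance : Hensel.IsStrictHenselization R Ssh))
  have hfl1 : Module.Flat R Sh := inferInstance
  have hfl2 : Module.Flat R Ssh := inferInstance
  have WE1 : Algebra.WeaklyEtale R Sh := hU1.weaklyEtale
  have WE2 : Algebra.WeaklyEtale R Ssh := hU2.weaklyEtale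
  have hfl3 : Module.Flat Sh Ssh := hU1.flat_of_flat Ssh
  have hU3 : IsUnion Sh Ssh := isUnion_tower hU2
  have WE3 : Algebra.WeaklyEtale Sh Ssh := hU3.weaklyEtale
  refine ⟨?_, ?_⟩
  · tfae_have 1 → 3 := fun h => Groth.Agent.H28.TorAmpWE.hasTorAmplitudeIn_of_restrict K a b h
    tfae_have 3 → 1 := fun h => hasTorAmplitudeIn_restrictD_of_flat K a b h
    tfae_have 2 → 3 := fun h => Groth.Agent.H28.TorAmpWE.hasTorAmplitudeIn_of_restrict K a b h
    tfae_have 3 → 2 := fun h => hasTorAmplitudeIn_restrictD_of_flat K a b h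
    tfae_finish
  · exact ⟨fun h => Groth.Agent.H28.TorAmpWE.hasTorAmplitudeIn_of_restrict L a b h,
      fun h => hasTorAmplitudeIn_restrictD_of_flat L a b h⟩

end Groth.Agent.H28.TorAmpHens
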