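import Mathlib.RingTheory.Binomial
import Mathlib.Algebra.BigOperators.Fin
import Mathlib.Tactic.Ring
import Mathlib.Tactic.Abel
import Mathlib.Tactic.LinearCombination

set_option autoImplicit false

namespace Groth.Agent.H28

open Finset

variable {A : Type*} [CommRing A]

/-- Truncated binomial series. -/
noncomputable def binomSeries (m : ℕ) (t : A) (n : ℤ) : A :=
  ∑ j ∈ range (m + 1), Ring.choose n j • t ^ j

theorem binomSeries_zero (m : ℕ) (t : A) : binomSeries m t 0 = 1 := by
  unfold binomSeries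
  rw [sum_range_succ', sum_eq_zero]
  · simp [Ring.choose_zero_right]
  · intro j _
    rw [Ring.choose_zero_succ, zero_smul]

theorem binomSeries_succ (m : ℕ) (t : A) (ht : t ^ (m + 1) = 0) (n : ℤ) :
    binomSeries m t (n + 1) = (1 + t) * binomSeries m t n := by
  unfold binomSeries
  have h1 : ∑ j ∈ range (m + 1), Ring.choose (n + 1) j • t ^ j =
      1 + ∑ j ∈ range m, (Ring.choose n j + Ring.choose n (j + 1)) • t ^ (j + 1) := by
    rw [sum_range_succ', add_comm]
    congr 1
    · simp [Ring.choose_zero_right]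
    · refine sum_congr rfl fun j _ => ?_
      rw [Ring.choose_succ_succ]
  have h2 : ∑ j ∈ range (m + 1), Ring.choose n j • t ^ j =
      1 + ∑ j ∈ range m, Ring.choose n (j + 1) • t ^ (j + 1) := by
    rw [sum_range_succ', add_comm]
    congr 1
    simp [Ring.choose_zero_right]
  have h3 : t * ∑ j ∈ range (m + 1), Ring.choose n j • t ^ j =
      ∑ j ∈ range m, Ring.choose n j • t ^ (j + 1) := by
    rw [mul_sum, sum_range_succ]
    have : t * Ring.choose n m • t ^ m = 0 := by
      rw [mul_smul_comm, ← pow_succ', ht, smul_zero]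
    rw [this, add_zero]
    refine sum_congr rfl fun j _ => ?_
    rw [mul_smul_comm, ← pow_succ']
  rw [h1, add_mul, one_mul, h3, h2]
  simp only [add_smul, sum_add_distrib]
  abel

theorem unit_zpow_eq_binomSeries (m : ℕ) (u : Aˣ) (ht : ((u : A) - 1) ^ (m + 1) = 0) (n : ℤ) :
    ((u ^ n : Aˣ) : A) = binomSeries m ((u : A) - 1) n := by
  have hu : (1 + ((u : A) - 1)) = (u : A) := by ring
  induction n using Int.induction_on with
  | zero => simp [binomSeries_zero]
  | succ i ih =>
    rw [binomSeries_succ m _ ht, hu, ← ih, zpow_add_one, Units.val_mul, mul_comm]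
  | pred i ih =>
    have h := binomSeries_succ m ((u : A) - 1) ht (-(i : ℤ) - 1)
    rw [sub_add_cancel, hu, ← ih] at h
    rw [zpow_sub_one, Units.val_mul]
    have h2 : ((u⁻¹ : Aˣ) : A) * (u : A) = 1 := by rw [← Units.val_mul, inv_mul_cancel, Units.val_one]
    calc ((u ^ (-(i : ℤ)) : Aˣ) : A) * ((u⁻¹ : Aˣ) : A)
        = ((u⁻¹ : Aˣ) : A) * ((u : A) * binomSeries m ((u : A) - 1) (-(i : ℤ) - 1)) := by
          rw [h, mul_comm]
      _ = binomSeries m ((u : A) - 1) (-(i : ℤ) - 1) := by rw [← mul_assoc, h2, one_mul]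

end Groth.Agent.H28
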